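import Mathlib
import Cfsg.Prelude.Def_Amalgam
import Cfsg.Agent.Lib.Thompson.Cores
import Cfsg.Agent.OddLocal43.Coprime

/-!
# Groups of characteristic `p` and Thompson's `P × Q` lemma

`CharPOf p L` says that the subgroup `L` has characteristic `p`, in the intrinsic form used by the statements:
`C_L(O_p(L)) ≤ O_p(L)`.
-/

set_option autoImplicit false

namespace Cfsg.Agent.LocalEven64

open Subgroup
open scoped commutatorElement

variable {G : Type*} [Group G] {p : ℕ}

/-- `L` has characteristic `p`, stated inside `L`. -/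
def CharPOf (p : ℕ) (L : Subgroup G) : Prop :=
  Subgroup.centralizer (Cfsg.pCore p ↥L : Set ↥L) ≤ Cfsg.pCore p ↥L

theorem pCoreOf_le (L : Subgroup G) : Cfsg.pCoreOf p L ≤ L := Subgroup.map_subtype_le _

theorem isPGroup_pCoreOf (L : Subgroup G) : IsPGroup p (Cfsg.pCoreOf p L) :=
  (Thompson.isPGroup_pCore).map _

theorem le_normalizer_pCoreOf (L : Subgroup G) : L ≤ normalizer (Cfsg.pCoreOf p L : Set G) := by
  intro g hg
  rw [mem_normalizer_iff]
  intro x
  constructor
  · rintro ⟨y, hy, rfl⟩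
    exact ⟨⟨g, hg⟩ * y * ⟨g, hg⟩⁻¹, (inferInstance : (Cfsg.pCore p ↥L).Normal).conj_mem y hy _, rfl⟩
  · rintro ⟨y, hy, hxy⟩
    refine ⟨⟨g, hg⟩⁻¹ * y * ⟨g, hg⟩⁻¹⁻¹, (inferInstance : (Cfsg.pCore p ↥L).Normal).conj_mem y hy _, ?_⟩
    change (g⁻¹ * (y : G) * g⁻¹⁻¹) = x
    rw [show (y : G) = g * x * g⁻¹ from hxy]; group

theorem le_pCoreOf {N L : Subgroup G} (hNL : N ≤ L) (hnorm : L ≤ normalizer (N : Set G))
    (hN : IsPGroup p N) : N ≤ Cfsg.pCoreOf p L := by
  have hn : (N.subgroupOf L).Normal := by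
    rw [normal_subgroupOf_iff_le_normalizer hNL]; exact hnorm
  intro x hx
  refine ⟨⟨x, hNL hx⟩, Thompson.le_pCore hn hN.comap_subtype ?_, rfl⟩
  exact hx

theorem pCoreOf_top : Cfsg.pCoreOf p (⊤ : Subgroup G) = Cfsg.pCore p G :=
  Thompson.map_pCore_equiv (p := p) (Subgroup.topEquiv (G := G))

theorem normalizer_le_normalizer_centralizer (H : Subgroup G) :
    normalizer (H : Set G) ≤ normalizer ((centralizer (H : Set G) : Subgroup G) : Set G) := by
  intro g hg
  rw [mem_normalizer_iff]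
  have hgi : g⁻¹ ∈ normalizer (H : Set G) := (normalizer (H : Set G)).inv_mem hg
  intro x
  simp only [mem_centralizer_iff]
  constructor
  · intro h y hy
    have h1 : g⁻¹ * y * g ∈ H := by simpa using (mem_normalizer_iff.mp hgi y).mp hy
    calc y * (g * x * g⁻¹) = g * ((g⁻¹ * y * g) * x) * g⁻¹ := by group
      _ = g * (x * (g⁻¹ * y * g)) * g⁻¹ := by rw [h _ h1]
      _ = g * x * g⁻¹ * y := by group
  · intro h y hy
    have h1 : g * y * g⁻¹ ∈ H := (mem_normalizer_iff.mp hg y).mp hy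
    calc y * x = g⁻¹ * ((g * y * g⁻¹) * (g * x * g⁻¹)) * g := by group
      _ = g⁻¹ * ((g * x * g⁻¹) * (g * y * g⁻¹)) * g := by rw [h _ h1]
      _ = x * y := by group

theorem le_normalizer_centralizer {M H : Subgroup G} (h : M ≤ normalizer (H : Set G)) :
    M ≤ normalizer ((centralizer (H : Set G) : Subgroup G) : Set G) :=
  h.trans (normalizer_le_normalizer_centralizer H)

theorem le_normalizer_inf {M H K : Subgroup G} (hH : M ≤ normalizer (H : Set G))
    (hK : M ≤ normalizer (K : Set G)) : M ≤ normalizer ((H ⊓ K : Subgroup G) : Set G) :=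
  (le_inf hH hK).trans inf_normalizer_le_normalizer_inf

section Coprime

variable [Finite G] [hp : Fact p.Prime]

theorem coprime_orderOf_of_mem {P : Subgroup G} (hP : IsPGroup p P) {c : G} (hc : c ∈ P) {a : G}
    (ha : (orderOf a).Coprime p) : (orderOf a).Coprime (orderOf c) := by
  obtain ⟨k, hk⟩ := IsPGroup.iff_orderOf.mp hP ⟨c, hc⟩
  rw [← Subgroup.orderOf_coe] at hk
  rw [hk]
  exact ha.pow_right k

theorem eq_one_of_mem_pGroup {P : Subgroup G} (hP : IsPGroup p P) {x : G} (hx : x ∈ P)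
    (hxp : (orderOf x).Coprime p) : x = 1 := by
  have h := coprime_orderOf_of_mem hP hx hxp
  rwa [Nat.coprime_self, orderOf_eq_one_iff] at h

/-- A subgroup without nontrivial `p'`-elements is a `p`-group. -/
theorem isPGroup_of_forall_coprime {C : Subgroup G}
    (h : ∀ x ∈ C, (orderOf x).Coprime p → x = 1) : IsPGroup p C := by
  intro x
  obtain ⟨k, m, hm, hkm⟩ := Nat.exists_eq_pow_mul_and_not_dvd (orderOf_pos (x : G)).ne' p hp.out.ne_one
  refine ⟨k, Subtype.ext ?_⟩
  refine h _ (x ^ p ^ k).2 ?_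
  rw [SubmonoidClass.coe_pow, orderOf_pow' _ (pow_pos hp.out.pos k).ne', hkm,
    Nat.gcd_eq_right (dvd_mul_right _ _), Nat.mul_div_cancel_left _ (pow_pos hp.out.pos k)]
  exact ((hp.out.coprime_iff_not_dvd).mpr hm).symm

/-- A `p'`-element that centralizes a `p`-group `R` modulo a subgroup it centralizes is trivial on it. -/
theorem commute_of_commutator_commute {P : Subgroup G} (hP : IsPGroup p P) {a x : G}
    (hc : ⁅a, x⁆ ∈ P) (hca : Commute a ⁅a, x⁆) (ha : (orderOf a).Coprime p) : Commute a x :=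
  OddLocal43.commute_of_stab hca (by rw [commutatorElement_def]; group) (coprime_orderOf_of_mem hP hc ha)

/-- **Thompson's `P × Q` lemma**, for an element: if the `p'`-element `a` normalizes the `p`-group `P`,
commutes with the `p`-group `Q ≤ N(P)` and centralizes `C_P(Q)`, then it centralizes `P`. -/
theorem pq_lemma {P Q : Subgroup G} (hP : IsPGroup p P) (hQ : IsPGroup p Q)
    (hQP : Q ≤ normalizer (P : Set G)) {a : G} (ha : (orderOf a).Coprime p)
    (haP : a ∈ normalizer (P : Set G)) (haQ : a ∈ centralizer (Q : Set G))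
    (hfix : ∀ x ∈ P, x ∈ centralizer (Q : Set G) → Commute a x) :
    a ∈ centralizer (P : Set G) := by
  set H := P ⊔ Q with hH
  have hHp : IsPGroup p H := hP.to_sup_of_normal_left' hQ hQP
  haveI : Group.IsNilpotent H := hHp.isNilpotent
  have haH : zpowers a ≤ normalizer (H : Set G) := by
    rw [zpowers_le, mem_normalizer_iff_map_conj_eq, Subgroup.map_sup,
      mem_normalizer_iff_map_conj_eq.mp haP,
      mem_normalizer_iff_map_conj_eq.mp (centralizer_le_normalizer (s := (Q : Set G)) haQ)]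
  have hcop : (Nat.card (zpowers a)).Coprime (Nat.card H) := by
    obtain ⟨k, hk⟩ := IsPGroup.iff_card.mp hHp
    rw [Nat.card_zpowers, hk]
    exact ha.pow_right k
  have key : H ≤ centralizer (zpowers a : Set G) := by
    refine OddLocal43.le_centralizer_of_self_centralizing inferInstance haH hcop ?_
    rintro h ⟨hhH, hhC⟩
    refine ⟨hhH, ?_⟩
    have hQC : Q ≤ H ⊓ centralizer (zpowers a : Set G) :=
      le_inf le_sup_right (fun q hq => mem_centralizer_iff.mpr fun b hb => by
        obtain ⟨i, rfl⟩ := Subgroup.mem_zpowers_iff.mp hb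
        exact (Commute.zpow_left ((mem_centralizer_iff.mp haQ q hq).symm) i).eq)
    have hhQ : h ∈ centralizer (Q : Set G) := mem_centralizer_iff.mpr fun q hq =>
      mem_centralizer_iff.mp hhC q (hQC hq)
    have hcQ : ⁅a, h⁆ ∈ centralizer (Q : Set G) := by
      rw [commutatorElement_def]
      exact mul_mem (mul_mem (mul_mem haQ hhQ) (inv_mem haQ)) (inv_mem hhQ)
    have hcP : ⁅a, h⁆ ∈ P := by
      have hmem : h ∈ (↑(P ⊔ Q) : Set G) := hhH
      rw [coe_mul_of_right_le_normalizer_left P Q hQP] at hmem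
      obtain ⟨x, hx, q, hq, rfl⟩ := hmem
      have hqa : q * a⁻¹ = a⁻¹ * q := (Commute.inv_right (mem_centralizer_iff.mp haQ q hq)).eq
      have e : ⁅a, x * q⁆ = (a * x * a⁻¹) * x⁻¹ := by
        rw [commutatorElement_def]
        calc a * (x * q) * a⁻¹ * (x * q)⁻¹ = a * x * (q * a⁻¹) * q⁻¹ * x⁻¹ := by group
          _ = a * x * (a⁻¹ * q) * q⁻¹ * x⁻¹ := by rw [hqa]
          _ = _ := by group
      rw [e]
      exact mul_mem ((mem_normalizer_iff.mp haP x).mp hx) (inv_mem hx)
    have hah : Commute a h := commute_of_commutator_commute hP hcP (hfix _ hcP hcQ) ha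
    refine mem_centralizer_iff.mpr fun b hb => ?_
    obtain ⟨i, rfl⟩ := Subgroup.mem_zpowers_iff.mp hb
    exact (hah.zpow_left i).eq
  rw [mem_centralizer_iff]
  intro x hx
  exact (mem_centralizer_iff.mp (key (mem_sup_left hx)) a (mem_zpowers a)).symm

/-- Criterion for characteristic `p`. -/
theorem charPOf_iff {L : Subgroup G} :
    CharPOf p L ↔ ∀ x ∈ L, (orderOf x).Coprime p → x ∈ centralizer (Cfsg.pCoreOf p L : Set G) → x = 1 := by
  constructor
  · intro hL x hx hxp hxc
    refine eq_one_of_mem_pGroup (isPGroup_pCoreOf L) ⟨⟨x, hx⟩, hL ?_, rfl⟩ hxp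
    rw [mem_centralizer_iff]
    intro y hy
    exact Subtype.ext (mem_centralizer_iff.mp hxc _ ⟨y, hy, rfl⟩)
  · intro h
    refine Thompson.le_pCore inferInstance (isPGroup_of_forall_coprime fun x hx hxp => ?_)
    apply Subtype.ext
    refine h _ x.2 (by rwa [Subgroup.orderOf_coe]) ?_
    rw [mem_centralizer_iff]
    rintro _ ⟨y, hy, rfl⟩
    exact congrArg Subtype.val (mem_centralizer_iff.mp hx y hy)

theorem charPOf_top :
    CharPOf p (⊤ : Subgroup G) ↔
      Subgroup.centralizer (Cfsg.pCore p G : Set G) ≤ Cfsg.pCore p G := by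
  rw [charPOf_iff, pCoreOf_top]
  constructor
  · intro h
    exact Thompson.le_pCore inferInstance
      (isPGroup_of_forall_coprime fun x hx hxp => h x (mem_top x) hxp hx)
  · intro h x _ hxp hxc
    exact eq_one_of_mem_pGroup Thompson.isPGroup_pCore (h hxc) hxp

theorem CharPOf.eq_one {L : Subgroup G} (hL : CharPOf p L) {x : G} (hx : x ∈ L)
    (hxp : (orderOf x).Coprime p) (hxc : x ∈ centralizer (Cfsg.pCoreOf p L : Set G)) : x = 1 :=
  charPOf_iff.mp hL x hx hxp hxc

/-- In a group of characteristic `p` every `p`-subgroup-normalized piece has characteristic `p`: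
a subgroup `L` of `K` normalized by `O_p(K)` has characteristic `p`. -/
theorem CharPOf.of_pCoreOf_le_normalizer {K L : Subgroup G} (hK : CharPOf p K) (hLK : L ≤ K)
    (hn : Cfsg.pCoreOf p K ≤ normalizer (L : Set G)) : CharPOf p L := by
  refine charPOf_iff.mpr fun x hx hxp hxc => hK.eq_one (hLK hx) hxp ?_
  rw [mem_centralizer_iff]
  intro y hy
  have hI : Cfsg.pCoreOf p K ⊓ L ≤ Cfsg.pCoreOf p L :=
    le_pCoreOf inf_le_right
      (le_normalizer_inf (hLK.trans (le_normalizer_pCoreOf K)) le_normalizer)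
      ((isPGroup_pCoreOf K).to_le inf_le_left)
  have hc : ⁅x, y⁆ ∈ Cfsg.pCoreOf p K ⊓ L := by
    rw [commutatorElement_def]
    refine ⟨(Cfsg.pCoreOf p K).mul_mem ((mem_normalizer_iff.mp (le_normalizer_pCoreOf K (hLK hx)) y).mp hy)
      ((Cfsg.pCoreOf p K).inv_mem hy), ?_⟩
    have := (mem_normalizer_iff.mp (hn hy) x⁻¹).mp (inv_mem hx)
    simpa [mul_assoc] using mul_mem hx this
  exact (commute_of_commutator_commute (isPGroup_pCoreOf L) (hI hc)
    ((mem_centralizer_iff.mp hxc _ (hI hc)).symm) hxp).symm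

theorem CharPOf.of_normal {K L : Subgroup G} (hK : CharPOf p K) (hLK : L ≤ K)
    (hn : K ≤ normalizer (L : Set G)) : CharPOf p L :=
  hK.of_pCoreOf_le_normalizer hLK ((pCoreOf_le K).trans hn)

/-- Subgroups between `B` and `N_L(B)` containing `C_{O_p(L)}(B)` have characteristic `p`. -/
theorem CharPOf.of_le_normalizer {L M B : Subgroup G} (hL : CharPOf p L) (hB : IsPGroup p B)
    (hBM : B ≤ M) (hML : M ≤ L) (hMB : M ≤ normalizer (B : Set G))
    (hC : Cfsg.pCoreOf p L ⊓ centralizer (B : Set G) ≤ M) : CharPOf p M := by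
  refine charPOf_iff.mpr fun x hx hxp hxc => hL.eq_one (hML hx) hxp ?_
  have h1 : B ≤ Cfsg.pCoreOf p M := le_pCoreOf hBM hMB hB
  have h2 : Cfsg.pCoreOf p L ⊓ centralizer (B : Set G) ≤ Cfsg.pCoreOf p M :=
    le_pCoreOf hC (le_normalizer_inf (hML.trans (le_normalizer_pCoreOf L)) (le_normalizer_centralizer hMB))
      ((isPGroup_pCoreOf L).to_le inf_le_left)
  refine pq_lemma (isPGroup_pCoreOf L) hB ((hBM.trans hML).trans (le_normalizer_pCoreOf L)) hxp
    (le_normalizer_pCoreOf L (hML hx)) ?_ ?_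
  · exact centralizer_le (fun b hb => h1 hb) hxc
  · intro y hy hyB
    exact (mem_centralizer_iff.mp hxc y (h2 ⟨hy, hyB⟩)).symm

/-- In a group of characteristic `p`, a normal subgroup `Q` of a Sylow subgroup containing its own
centralizer there contains its centralizer in the whole group. -/
theorem centralizer_le_of_sylow (hG : CharPOf p (⊤ : Subgroup G)) (T : Sylow p G) {Q : Subgroup G}
    (hQT : Q ≤ (T : Subgroup G)) (hQn : (T : Subgroup G) ≤ normalizer (Q : Set G))
    (hC : (T : Subgroup G) ⊓ centralizer (Q : Set G) ≤ Q) : centralizer (Q : Set G) ≤ Q := by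
  have hQp : IsPGroup p Q := T.isPGroup'.to_le hQT
  have hPT : Cfsg.pCoreOf p (⊤ : Subgroup G) ≤ (T : Subgroup G) := by
    rw [pCoreOf_top]; exact Thompson.pCore_le_sylow T
  have hCp : IsPGroup p (centralizer (Q : Set G)) := by
    refine isPGroup_of_forall_coprime fun x hx hxp => hG.eq_one (mem_top x) hxp ?_
    refine pq_lemma (isPGroup_pCoreOf _) hQp (le_top.trans (le_normalizer_pCoreOf _)) hxp
      (le_normalizer_pCoreOf _ (mem_top x)) hx ?_
    intro y hy hyQ
    exact (mem_centralizer_iff.mp hx y (hC ⟨hPT hy, hyQ⟩)).symm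
  have hsup : IsPGroup p ↥(centralizer (Q : Set G) ⊔ (T : Subgroup G)) :=
    hCp.to_sup_of_normal_left' T.isPGroup' (le_normalizer_centralizer hQn)
  have hle : centralizer (Q : Set G) ≤ (T : Subgroup G) := by
    rw [← T.is_maximal' hsup le_sup_right]; exact le_sup_left
  exact (le_inf hle le_rfl).trans hC

/-- In a group of characteristic `p`, every overgroup of such a `Q` has characteristic `p`. -/
theorem charPOf_of_sylow_centric (hG : CharPOf p (⊤ : Subgroup G)) (T : Sylow p G) {Q L : Subgroup G}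
    (hQT : Q ≤ (T : Subgroup G)) (hQn : (T : Subgroup G) ≤ normalizer (Q : Set G))
    (hC : (T : Subgroup G) ⊓ centralizer (Q : Set G) ≤ Q) (hQL : Q ≤ L) : CharPOf p L := by
  have hQp : IsPGroup p Q := T.isPGroup'.to_le hQT
  have hPT : Cfsg.pCoreOf p (⊤ : Subgroup G) ≤ (T : Subgroup G) := by
    rw [pCoreOf_top]; exact Thompson.pCore_le_sylow T
  have hCQ := centralizer_le_of_sylow hG T hQT hQn hC
  set L₁ : Subgroup G := ⨆ l : L, Q.map (MulAut.conj (l : G)).toMonoidHom with hL₁
  have hL₁L : L₁ ≤ L := by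
    refine iSup_le fun l => ?_
    rintro _ ⟨q, hq, rfl⟩
    exact mul_mem (mul_mem l.2 (hQL hq)) (inv_mem l.2)
  have hQL₁ : Q ≤ L₁ := by
    refine le_trans ?_ (le_iSup _ (1 : L))
    intro q hq
    exact ⟨q, hq, by simp⟩
  have hLn : L ≤ normalizer (L₁ : Set G) := by
    have key : ∀ g ∈ L, L₁.map (MulAut.conj g).toMonoidHom ≤ L₁ := by
      intro g hg
      rw [hL₁, Subgroup.map_iSup]
      refine iSup_le fun l => le_trans ?_ (le_iSup _ (⟨g, hg⟩ * l : L))
      rw [Subgroup.map_map]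
      rintro _ ⟨q, hq, rfl⟩
      exact ⟨q, hq, by simp [mul_assoc]⟩
    intro g hg
    rw [mem_normalizer_iff]
    intro y
    constructor
    · intro hy; exact key g hg ⟨y, hy, rfl⟩
    · intro hy
      have := key g⁻¹ (inv_mem hg) ⟨_, hy, rfl⟩
      simpa [mul_assoc] using this
  have hPn : Cfsg.pCoreOf p (⊤ : Subgroup G) ≤ normalizer (L₁ : Set G) := by
    intro y hy
    rw [mem_normalizer_iff_map_conj_eq, hL₁, Subgroup.map_iSup]
    refine iSup_congr fun l => ?_
    have hmem : (l : G)⁻¹ * y * (l : G) ∈ normalizer (Q : Set G) := by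
      apply hQn; apply hPT
      have := (mem_normalizer_iff.mp (le_normalizer_pCoreOf (⊤ : Subgroup G) (mem_top (l : G)⁻¹)) y).mp hy
      simpa using this
    calc (Q.map (MulAut.conj (l : G)).toMonoidHom).map (MulAut.conj y).toMonoidHom
        = (Q.map (MulAut.conj ((l : G)⁻¹ * y * (l : G))).toMonoidHom).map
            (MulAut.conj (l : G)).toMonoidHom := by
          rw [Subgroup.map_map, Subgroup.map_map]; congr 1; ext q; simp [mul_assoc]
      _ = _ := congrArg (fun H : Subgroup G => H.map (MulAut.conj (l : G)).toMonoidHom)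
          (mem_normalizer_iff_map_conj_eq.mp hmem)
  have hL₁c : CharPOf p L₁ := hG.of_pCoreOf_le_normalizer le_top hPn
  refine charPOf_iff.mpr fun x hx hxp hxc => ?_
  refine eq_one_of_mem_pGroup hQp (hCQ ?_) hxp
  rw [mem_centralizer_iff]
  intro y hy
  have hR1 : Cfsg.pCoreOf p L₁ ≤ Cfsg.pCoreOf p L := by
    refine le_pCoreOf ((pCoreOf_le L₁).trans hL₁L) ?_ (isPGroup_pCoreOf L₁)
    intro g hg
    rw [mem_normalizer_iff_map_conj_eq]
    have e : L₁.map (MulAut.conj g).toMonoidHom = L₁ := mem_normalizer_iff_map_conj_eq.mp (hLn hg)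
    have key : ∀ h : G, L₁.map (MulAut.conj h).toMonoidHom = L₁ →
        (Cfsg.pCoreOf p L₁).map (MulAut.conj h).toMonoidHom ≤ Cfsg.pCoreOf p L₁ := by
      intro h he
      refine le_pCoreOf ((Subgroup.map_mono (pCoreOf_le L₁)).trans he.le) ?_ ((isPGroup_pCoreOf L₁).map _)
      intro z hz
      rw [← he] at hz
      obtain ⟨w, hw, rfl⟩ := hz
      rw [mem_normalizer_iff_map_conj_eq, Subgroup.map_map]
      have hw' := mem_normalizer_iff_map_conj_eq.mp (le_normalizer_pCoreOf (p := p) L₁ hw)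
      conv_rhs => rw [← hw', Subgroup.map_map]
      congr 1; ext q; simp [mul_assoc]
    exact Subgroup.eq_of_le_of_card_ge (key g e)
      (by rw [Subgroup.card_map_of_injective (MulAut.conj g).injective])
  have hxn : x ∈ normalizer ((L₁ ⊓ centralizer (Cfsg.pCoreOf p L : Set G) : Subgroup G) : Set G) :=
    le_normalizer_inf hLn (le_normalizer_centralizer (le_normalizer_pCoreOf L)) hx
  have hc1 : ⁅x, y⁆ ∈ L₁ := by
    rw [commutatorElement_def]
    exact mul_mem ((mem_normalizer_iff.mp (hLn hx) y).mp (hQL₁ hy)) (inv_mem (hQL₁ hy))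
  have hc2 : ⁅x, y⁆ ∈ centralizer (Cfsg.pCoreOf p L : Set G) := by
    rw [commutatorElement_def]
    have h1 : y * x⁻¹ * y⁻¹ ∈ centralizer (Cfsg.pCoreOf p L : Set G) :=
      (mem_normalizer_iff.mp (le_normalizer_centralizer (le_normalizer_pCoreOf L) (hQL hy)) x⁻¹).mp
        (inv_mem hxc)
    simpa [mul_assoc] using mul_mem hxc h1
  have hcR : ⁅x, y⁆ ∈ Cfsg.pCoreOf p L := by
    apply hR1
    refine ⟨⟨_, hc1⟩, hL₁c ?_, rfl⟩
    rw [mem_centralizer_iff]
    intro z hz
    exact Subtype.ext (mem_centralizer_iff.mp hc2 _ (hR1 ⟨z, hz, rfl⟩))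
  exact (commute_of_commutator_commute (isPGroup_pCoreOf L) hcR
    ((mem_centralizer_iff.mp hxc _ hcR).symm) hxp).symm

end Coprime

end Cfsg.Agent.LocalEven64
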