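import Mathlib
import Cfsg.Agent.OddLocal43.Coprime

/-!
# Commutators modulo a normalized subgroup; `[P, B] ≤ [P, A]` forces `[P, B] = 1`
-/

set_option autoImplicit false

namespace Cfsg.Agent.LocalEven64

open Subgroup
open scoped commutatorElement

variable {G : Type*} [Group G]

/-- The three subgroup lemma modulo a subgroup normalized by the three subgroups. -/
theorem three_subgroup_le {V H₁ H₂ H₃ : Subgroup G} (hV : V ≤ normalizer (V : Set G))
    (h1n : H₁ ≤ normalizer (V : Set G)) (h2n : H₂ ≤ normalizer (V : Set G))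
    (h3n : H₃ ≤ normalizer (V : Set G)) (h1 : ⁅⁅H₂, H₃⁆, H₁⁆ ≤ V) (h2 : ⁅⁅H₃, H₁⁆, H₂⁆ ≤ V) :
    ⁅⁅H₁, H₂⁆, H₃⁆ ≤ V := by
  let M : Subgroup G := normalizer (V : Set G)
  have e : ∀ {H : Subgroup G}, H ≤ M → (H.subgroupOf M).map M.subtype = H := fun h =>
    Subgroup.map_subgroupOf_eq_of_le h
  have key : ∀ {A B C : Subgroup G}, A ≤ M → B ≤ M → C ≤ M →
      (⁅⁅A.subgroupOf M, B.subgroupOf M⁆, C.subgroupOf M⁆ ≤ V.subgroupOf M ↔ ⁅⁅A, B⁆, C⁆ ≤ V) := by
    intro A B C hA hB hC
    rw [← Subgroup.map_le_map_iff_of_injective M.subtype_injective, map_commutator, map_commutator,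
      e hA, e hB, e hC, e hV]
  rw [← key h1n h2n h3n]
  rw [← key h2n h3n h1n] at h1
  rw [← key h3n h1n h2n] at h2
  haveI : (V.subgroupOf M).Normal := by
    rw [normal_subgroupOf_iff_le_normalizer hV]
  let π := QuotientGroup.mk' (V.subgroupOf M)
  have k : ∀ X : Subgroup M, X ≤ V.subgroupOf M ↔ X.map π = ⊥ := fun X => by
    rw [Subgroup.map_eq_bot_iff, QuotientGroup.ker_mk']
  rw [k, map_commutator, map_commutator] at h1 h2 ⊢
  exact commutator_commutator_eq_bot_of_rotate h1 h2

/-- Coprime action modulo a normalized subgroup: `[P,B,B] ≤ V` forces `[P,B] ≤ V`. -/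
theorem commutator_le_of_double_commutator_le [Finite G] {P B V : Subgroup G}
    (hVP : V ≤ normalizer (V : Set G)) (hP : P ≤ normalizer (V : Set G))
    (hB : B ≤ normalizer (V : Set G)) (hBP : B ≤ normalizer (P : Set G))
    (hcop : (Nat.card B).Coprime (Nat.card P)) (h : ⁅⁅P, B⁆, B⁆ ≤ V) : ⁅P, B⁆ ≤ V := by
  let M : Subgroup G := normalizer (V : Set G)
  have e : ∀ {H : Subgroup G}, H ≤ M → (H.subgroupOf M).map M.subtype = H := fun h =>
    Subgroup.map_subgroupOf_eq_of_le h
  have hh : ⁅⁅P.subgroupOf M, B.subgroupOf M⁆, B.subgroupOf M⁆ ≤ V.subgroupOf M := by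
    rw [← Subgroup.map_le_map_iff_of_injective M.subtype_injective, map_commutator, map_commutator,
      e hP, e hB, e hVP]
    exact h
  suffices ⁅P.subgroupOf M, B.subgroupOf M⁆ ≤ V.subgroupOf M by
    rw [← Subgroup.map_le_map_iff_of_injective M.subtype_injective, map_commutator, e hP, e hB,
      e hVP] at this
    exact this
  haveI : (V.subgroupOf M).Normal := by
    rw [normal_subgroupOf_iff_le_normalizer hVP]
  let π := QuotientGroup.mk' (V.subgroupOf M)
  have k : ∀ X : Subgroup M, X ≤ V.subgroupOf M ↔ X.map π = ⊥ := fun X => by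
    rw [Subgroup.map_eq_bot_iff, QuotientGroup.ker_mk']
  rw [k, map_commutator, map_commutator] at hh
  rw [k, map_commutator, commutator_eq_bot_iff_le_centralizer]
  refine OddLocal43.le_centralizer_of_double_commutator ?_ ?_
    (commutator_eq_bot_iff_le_centralizer.mp hh)
  · refine le_trans (Subgroup.map_mono ?_) (Subgroup.le_normalizer_map π)
    exact (Subgroup.comap_mono hBP).trans (Subgroup.le_normalizer_comap M.subtype)
  · refine Nat.Coprime.coprime_dvd_left ?_ (Nat.Coprime.coprime_dvd_right ?_ hcop)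
    · exact (Subgroup.card_map_dvd _ π).trans (Subgroup.card_comap_dvd_of_injective _ _ M.subtype_injective)
    · exact (Subgroup.card_map_dvd _ π).trans (Subgroup.card_comap_dvd_of_injective _ _ M.subtype_injective)

/-- If `A` is a `p`-group and `B` a `p'`-group commuting with it, both acting on the `p`-group `P`, then
`[P, B] ≤ [P, A]` forces `[P, B] = 1`. -/
theorem commutator_eq_bot_of_le_commutator [Finite G] {p : ℕ} [Fact p.Prime] {P A B : Subgroup G}
    (hP : IsPGroup p ↥P) (hA : IsPGroup p ↥A) (hB : ¬ p ∣ Nat.card ↥B)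
    (hnA : A ≤ normalizer (P : Set G)) (hnB : B ≤ normalizer (P : Set G))
    (hAB : ⁅A, B⁆ = ⊥) (hcomm : ⁅P, B⁆ ≤ ⁅P, A⁆) : ⁅P, B⁆ = ⊥ := by
  by_contra hne
  set K := P ⊔ A with hK
  have hKp : IsPGroup p K := hP.to_sup_of_normal_left' hA hnA
  haveI : Group.IsNilpotent K := hKp.isNilpotent
  set W := ⁅P, B⁆ with hW
  have hWP : W ≤ P := le_normalizer_iff_commutator_le_left.mp hnB
  have hBA : B ≤ normalizer (A : Set G) :=
    (le_centralizer_iff.mp (commutator_eq_bot_iff_le_centralizer.mp hAB)).trans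
      (centralizer_le_normalizer (s := (A : Set G)))
  have hAB' : A ≤ normalizer (B : Set G) :=
    (commutator_eq_bot_iff_le_centralizer.mp hAB).trans (centralizer_le_normalizer (s := (B : Set G)))
  have hPW : P ≤ normalizer (W : Set G) := normalizer_commutator_ge_left P B
  have hAW : A ≤ normalizer (W : Set G) := OddLocal43.normalizes_commutator hnA hAB'
  have hKW : K ≤ normalizer (W : Set G) := sup_le hPW hAW
  have hBW : B ≤ normalizer (W : Set G) := OddLocal43.normalizes_commutator hnB le_normalizer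
  have hBK : B ≤ normalizer (K : Set G) := by
    intro b hb
    rw [mem_normalizer_iff_map_conj_eq, hK, Subgroup.map_sup,
      mem_normalizer_iff_map_conj_eq.mp (hnB hb), mem_normalizer_iff_map_conj_eq.mp (hBA hb)]
  set V := ⁅W, K⁆ with hV
  have hVW : V ≤ W := le_normalizer_iff_commutator_le_left.mp hKW
  have hKV : K ≤ normalizer (V : Set G) := OddLocal43.normalizes_commutator hKW le_normalizer
  have hBV : B ≤ normalizer (V : Set G) := OddLocal43.normalizes_commutator hBW hBK
  have hWK : W ≤ K := hWP.trans le_sup_left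
  have hlt : ¬ W ≤ V := by
    intro hle
    let W' : Subgroup K := W.subgroupOf K
    have h1 : ⁅W', (⊤ : Subgroup K)⁆ = W' := by
      apply Subgroup.map_injective K.subtype_injective
      rw [map_commutator, Subgroup.map_subgroupOf_eq_of_le hWK, ← MonoidHom.range_eq_map,
        Subgroup.range_subtype]
      exact le_antisymm hVW hle
    have h2 : ∀ i, W' ≤ (⊤ : Subgroup K).lowerCentralSeries i := by
      intro i
      induction i with
      | zero => exact le_top
      | succ i ih =>
        rw [← h1]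
        exact commutator_mono ih le_rfl
    obtain ⟨m, hm⟩ := Subgroup.nilpotent_iff_lowerCentralSeries.mp (inferInstance : Group.IsNilpotent K)
    have h3 : W' = ⊥ := le_bot_iff.mp (hm ▸ h2 m)
    apply hne
    rw [← Subgroup.map_subgroupOf_eq_of_le hWK]
    change W'.map K.subtype = ⊥
    rw [h3, Subgroup.map_bot]
  apply hlt
  have h3 : ⁅⁅P, A⁆, B⁆ ≤ V := by
    refine three_subgroup_le le_normalizer (le_sup_left.trans hKV) (le_sup_right.trans hKV) hBV ?_ ?_
    · rw [hAB, commutator_bot_left]; exact bot_le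
    · rw [show ⁅B, P⁆ = W from commutator_comm B P]
      exact commutator_mono le_rfl le_sup_right
  refine commutator_le_of_double_commutator_le le_normalizer (le_sup_left.trans hKV) hBV hnB ?_ ?_
  · obtain ⟨k, hk⟩ := IsPGroup.iff_card.mp hP
    rw [hk]
    exact ((Fact.out : p.Prime).coprime_iff_not_dvd.mpr hB).symm.pow_right k
  · exact (commutator_mono hcomm le_rfl).trans h3

end Cfsg.Agent.LocalEven64
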