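import Mathlib
import Cfsg.Prelude.Def_Transfer
import Cfsg.Agent.Lib.Thompson.Basic
import Cfsg.Agent.Lib.Thompson.Replacement
import Cfsg.Agent.Lib.Coprime.Generation

/-!
# Elementary abelian 2-groups: fixed points, transvections and the offender bound

`V` is a finite group of exponent two, written as a commutative group, and all the groups acting are
subgroups of `MulAut V`.
-/

set_option autoImplicit false
set_option linter.unusedSectionVars false
set_option linter.style.haveILetI false

namespace Cfsg.Agent.LocalEven64.FF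

open Subgroup

variable {V : Type*} [CommGroup V]

/-- The fixed points of one automorphism. -/
def fix1 (x : MulAut V) : Subgroup V where
  carrier := {v | x v = v}
  one_mem' := map_one x
  mul_mem' {a b} (ha : x a = a) (hb : x b = b) := show x (a * b) = a * b by rw [map_mul, ha, hb]
  inv_mem' {a} (ha : x a = a) := show x a⁻¹ = a⁻¹ by rw [map_inv, ha]

@[simp] theorem mem_fix1 {x : MulAut V} {v : V} : v ∈ fix1 x ↔ x v = v := Iff.rfl

/-- The common fixed points of a group of automorphisms. -/
def fixedBy (A : Subgroup (MulAut V)) : Subgroup V where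
  carrier := {v | ∀ a ∈ A, a v = v}
  one_mem' a _ := map_one a
  mul_mem' {u w} hu hw a ha := show a (u * w) = u * w by rw [map_mul, hu a ha, hw a ha]
  inv_mem' {u} hu a ha := show a u⁻¹ = u⁻¹ by rw [map_inv, hu a ha]

@[simp] theorem mem_fixedBy {A : Subgroup (MulAut V)} {v : V} :
    v ∈ fixedBy A ↔ ∀ a ∈ A, a v = v := Iff.rfl

theorem mul_apply (f g : MulAut V) (v : V) : (f * g) v = f (g v) := rfl

theorem one_apply (v : V) : (1 : MulAut V) v = v := rfl

theorem inv_apply_self (f : MulAut V) (v : V) : f⁻¹ (f v) = v := f.symm_apply_apply v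

theorem apply_inv_self (f : MulAut V) (v : V) : f (f⁻¹ v) = v := f.apply_symm_apply v

theorem apply_comm {f g : MulAut V} (h : Commute f g) (v : V) : f (g v) = g (f v) := by
  rw [← mul_apply, h.eq, mul_apply]

theorem zpowers_apply_eq {x : MulAut V} {v : V} (h : x v = v) {g : MulAut V}
    (hg : g ∈ zpowers x) : g v = v := by
  have : zpowers x ≤ ({ carrier := {f : MulAut V | f v = v}
                        one_mem' := rfl
                        mul_mem' := fun {a b} (ha : a v = v) (hb : b v = v) =>
                          show (a * b) v = v by rw [mul_apply, hb, ha]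
                        inv_mem' := fun {a} (ha : a v = v) =>
                          show a⁻¹ v = v by
                            have := inv_apply_self a v
                            rwa [ha] at this } : Subgroup (MulAut V)) := by
    rw [zpowers_le]; exact h
  exact this hg

theorem fixedBy_zpowers (x : MulAut V) : fixedBy (zpowers x) = fix1 x := by
  ext v
  exact ⟨fun h => h x (mem_zpowers x), fun h g hg => zpowers_apply_eq h hg⟩

theorem fixedBy_anti {A B : Subgroup (MulAut V)} (h : A ≤ B) : fixedBy B ≤ fixedBy A :=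
  fun _ hv a ha => hv a (h ha)

theorem fixedBy_bot : fixedBy (⊥ : Subgroup (MulAut V)) = ⊤ := by
  ext v
  simp

theorem eq_one_of_fix1_eq_top {x : MulAut V} (h : fix1 x = ⊤) : x = 1 :=
  MulEquiv.ext fun v => show v ∈ fix1 x by rw [h]; trivial

section ExpTwo

variable (hV : ∀ v : V, v * v = 1)
include hV

theorem inv_eq_self (v : V) : v⁻¹ = v := inv_eq_of_mul_eq_one_right (hV v)

theorem pow_odd_eq_self {n : ℕ} (hn : Odd n) (v : V) : v ^ n = v := by
  obtain ⟨k, rfl⟩ := hn
  rw [pow_succ, pow_mul, sq, hV, one_pow, one_mul]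

theorem mul_mul_cancel_self (u v : V) : u * (u * v) = v := by rw [← mul_assoc, hV, one_mul]

theorem eq_of_mul_eq_one {u v : V} (h : u * v = 1) : u = v := by
  rw [eq_inv_of_mul_eq_one_left h, inv_eq_self hV]

theorem isPGroup_two : IsPGroup 2 V := fun v => ⟨1, by rw [pow_one, sq, hV]⟩

theorem card_eq_two_pow [Finite V] (S : Subgroup V) : ∃ k, Nat.card S = 2 ^ k :=
  haveI : Fact (Nat.Prime 2) := ⟨Nat.prime_two⟩
  IsPGroup.iff_card.mp ((isPGroup_two hV).to_subgroup S)

theorem two_mul_card_le [Finite V] {S T : Subgroup V} (h : S < T) :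
    2 * Nat.card S ≤ Nat.card T := by
  obtain ⟨k, hk⟩ := Subgroup.card_dvd_of_le h.le
  have hne : Nat.card T ≠ Nat.card S := fun he =>
    h.ne (Subgroup.eq_of_le_of_card_ge h.le he.le)
  have hpos : 0 < Nat.card T := Nat.card_pos
  rcases k with _ | _ | k
  · simp at hk; omega
  · simp at hk; omega
  · rw [hk]; nlinarith [Nat.zero_le k]

end ExpTwo

/-! ### Automorphisms of odd order -/

/-- The norm `v ↦ v · x v · … · x^(n-1) v`, `n` the order of `x`. -/
noncomputable def normMap (x : MulAut V) : V →* V where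
  toFun v := ∏ i ∈ Finset.range (orderOf x), (x ^ i) v
  map_one' := by simp
  map_mul' u v := by simp [Finset.prod_mul_distrib]

/-- The kernel of the norm; for `x` of odd order this is `[V, x]`. -/
noncomputable def wSub (x : MulAut V) : Subgroup V := (normMap x).ker

theorem mem_wSub {x : MulAut V} {v : V} : v ∈ wSub x ↔ normMap x v = 1 := Iff.rfl

theorem normMap_apply (x : MulAut V) (v : V) :
    normMap x v = ∏ i ∈ Finset.range (orderOf x), (x ^ i) v := rfl

theorem normMap_apply_self (x : MulAut V) (v : V) : normMap x (x v) = normMap x v := by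
  have h1 := Finset.prod_range_succ (fun i => (x ^ i) v) (orderOf x)
  have h2 := Finset.prod_range_succ' (fun i => (x ^ i) v) (orderOf x)
  rw [h1] at h2
  simp only [pow_orderOf_eq_one, pow_zero, pow_succ, mul_apply] at h2
  exact (mul_right_cancel h2).symm

theorem apply_normMap (x : MulAut V) (v : V) : x (normMap x v) = normMap x v := by
  conv_rhs => rw [← normMap_apply_self]
  rw [normMap_apply, normMap_apply, map_prod]
  refine Finset.prod_congr rfl fun i _ => ?_
  exact apply_comm (Commute.self_pow x i) v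

theorem normMap_comm {x g : MulAut V} (h : Commute g x) (v : V) :
    normMap x (g v) = g (normMap x v) := by
  rw [normMap_apply, normMap_apply, map_prod]
  exact Finset.prod_congr rfl fun i _ => apply_comm (h.symm.pow_left i) v

theorem normMap_of_fix {x : MulAut V} {v : V} (h : x v = v) :
    normMap x v = v ^ orderOf x := by
  rw [normMap_apply, Finset.prod_eq_pow_card (b := v) fun i _ =>
    zpowers_apply_eq h (pow_mem (mem_zpowers x) i), Finset.card_range]

section Odd

variable (hV : ∀ v : V, v * v = 1) {x : MulAut V} (hx : Odd (orderOf x))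
include hV hx

theorem normMap_of_fix' {v : V} (h : x v = v) : normMap x v = v := by
  rw [normMap_of_fix h, pow_odd_eq_self hV hx]

theorem range_normMap : (normMap x).range = fix1 x := by
  ext v
  constructor
  · rintro ⟨u, rfl⟩; exact apply_normMap x u
  · exact fun h => ⟨v, normMap_of_fix' hV hx h⟩

theorem wSub_inf_fix1 : wSub x ⊓ fix1 x = ⊥ := by
  rw [eq_bot_iff]
  intro v hv
  rw [mem_bot, ← normMap_of_fix' hV hx hv.2]
  exact hv.1

theorem eq_one_of_mem_wSub {v : V} (h1 : v ∈ wSub x) (h2 : x v = v) : v = 1 :=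
  mem_bot.mp (wSub_inf_fix1 hV hx ▸ (⟨h1, h2⟩ : v ∈ wSub x ⊓ fix1 x))

theorem apply_mul_self_mem_wSub (v : V) : x v * v ∈ wSub x := by
  rw [mem_wSub, map_mul, normMap_apply_self, hV]

theorem normMap_mul_self_mem_wSub (v : V) : normMap x v * v ∈ wSub x := by
  rw [mem_wSub, map_mul, normMap_of_fix' hV hx (apply_normMap x v), hV]

theorem apply_mem_wSub {v : V} (h : v ∈ wSub x) : x v ∈ wSub x := by
  rw [mem_wSub, normMap_apply_self]; exact h

theorem exists_fix_mul_wSub (v : V) : ∃ u ∈ fix1 x, ∃ w ∈ wSub x, v = u * w :=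
  ⟨normMap x v, apply_normMap x v, normMap x v * v, normMap_mul_self_mem_wSub hV hx v,
    (mul_mul_cancel_self hV _ _).symm⟩

/-- An automorphism is determined by its values on `C_V(x)` and on `[V, x]`. -/
theorem eq_of_eq_on {f g : MulAut V} (h1 : ∀ v ∈ fix1 x, f v = g v) (h2 : ∀ v ∈ wSub x, f v = g v) :
    f = g := by
  refine MulEquiv.ext fun v => ?_
  obtain ⟨u, hu, w, hw, rfl⟩ := exists_fix_mul_wSub hV hx v
  rw [map_mul, map_mul, h1 u hu, h2 w hw]

theorem card_fix1_mul_card_wSub [Finite V] :
    Nat.card (fix1 x) * Nat.card (wSub x) = Nat.card V := by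
  rw [← range_normMap hV hx, ← Subgroup.index_ker, mul_comm]
  exact Subgroup.card_mul_index _

/-- Thompson's `P × Q` argument: an odd-order automorphism commuting with a 2-group `B` and fixing
`C_V(B)` pointwise is trivial. -/
theorem eq_one_of_fixedBy_le [Finite V] {B : Subgroup (MulAut V)} (hB : IsPGroup 2 B)
    (hcomm : ∀ b ∈ B, Commute b x) (h : fixedBy B ≤ fix1 x) : x = 1 := by
  haveI : Fact (Nat.Prime 2) := ⟨Nat.prime_two⟩
  have hw : wSub x = ⊥ := by
    by_contra hne
    have hinv : ∀ b ∈ B, ∀ v ∈ wSub x, b v ∈ wSub x := fun b hb v hv => by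
      rw [mem_wSub, normMap_comm (hcomm b hb), mem_wSub.mp hv, map_one]
    letI : MulAction B (wSub x) :=
      { smul := fun b v => ⟨(b : MulAut V) v, hinv b b.2 v v.2⟩
        one_smul := fun v => Subtype.ext rfl
        mul_smul := fun b c v => Subtype.ext rfl }
    obtain ⟨k, hk⟩ := card_eq_two_pow hV (wSub x)
    have hk0 : k ≠ 0 := by
      rintro rfl
      exact hne (Subgroup.card_eq_one.mp (by simpa using hk))
    have h2 : 2 ∣ Nat.card (wSub x) := hk ▸ dvd_pow_self 2 hk0
    have h1 : (1 : wSub x) ∈ MulAction.fixedPoints B (wSub x) := fun b =>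
      Subtype.ext (map_one (b : MulAut V))
    obtain ⟨w, hw, hw1⟩ := hB.exists_fixed_point_of_prime_dvd_card_of_fixed_point (wSub x) h2 h1
    have hwfix : (w : V) ∈ fixedBy B := fun b hb => congrArg Subtype.val (hw ⟨b, hb⟩)
    exact hw1 (Subtype.ext (eq_one_of_mem_wSub hV hx w.2 (h hwfix)).symm)
  refine MulEquiv.ext fun v => ?_
  have := apply_mul_self_mem_wSub hV hx v
  rw [hw, mem_bot] at this
  exact eq_of_mul_eq_one hV this

end Odd

/-! ### Transvections -/

/-- A transvection: an automorphism whose fixed points have index two. -/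
def IsTransvection (t : MulAut V) : Prop := 2 * Nat.card (fix1 t) = Nat.card V

section Transvection

variable [Finite V] (hV : ∀ v : V, v * v = 1) {t : MulAut V} (ht : IsTransvection t)

include ht in
theorem IsTransvection.index_fix1 : (fix1 t).index = 2 := by
  have h := Subgroup.card_mul_index (fix1 t)
  rw [← (show 2 * Nat.card (fix1 t) = Nat.card V from ht), mul_comm 2] at h
  exact Nat.eq_of_mul_eq_mul_left Nat.card_pos h

include ht in
theorem IsTransvection.ne_one : t ≠ 1 := by
  rintro rfl
  have h := ht.index_fix1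
  have : fix1 (1 : MulAut V) = ⊤ := by ext v; simp
  rw [this, Subgroup.index_top] at h
  exact absurd h (by norm_num)

include hV ht in
theorem IsTransvection.disp_mem_fix (v : V) : v * t v ∈ fix1 t := by
  by_cases hv : v ∈ fix1 t
  · rw [mem_fix1.mp hv, hV]; exact one_mem _
  · rw [Subgroup.mul_mem_iff_of_index_two ht.index_fix1]
    refine iff_of_false hv fun h => hv ?_
    exact t.injective h

include hV ht in
theorem IsTransvection.apply_apply (v : V) : t (t v) = v := by
  have h : t (v * t v) = v * t v := ht.disp_mem_fix hV v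
  rw [map_mul] at h
  exact mul_left_cancel (h.trans (mul_comm v (t v)))

include hV ht in
theorem IsTransvection.mul_self : t * t = 1 :=
  MulEquiv.ext (ht.apply_apply hV)

include hV ht in
theorem IsTransvection.disp_eq {u v : V} (hu : t u ≠ u) (hv : t v ≠ v) : u * t u = v * t v := by
  have h : u * v ∈ fix1 t :=
    (Subgroup.mul_mem_iff_of_index_two ht.index_fix1).mpr (iff_of_false hu hv)
  rw [mem_fix1, map_mul] at h
  calc u * t u = (u * v) * v * t u := by rw [mul_assoc u v v, hV, mul_one]
    _ = (t u * t v) * v * t u := by rw [h]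
    _ = v * t v * (t u * t u) := by ac_rfl
    _ = v * t v := by rw [hV, mul_one]

end Transvection

/-! ### The offender bound -/

section Offender

variable [Finite V] (hV : ∀ v : V, v * v = 1)

omit [Finite V] in
theorem commute_of_elemAb {A : Subgroup (MulAut V)} (hA : IsElementaryAbelian 2 A) {a b : MulAut V}
    (ha : a ∈ A) (hb : b ∈ A) : Commute a b :=
  Thompson.elemAb_comm hA.1 ha hb

/-- If the elementary abelian 2-group `A` does not centralize the odd-order group `Q`, some subgroup
of index two of `A` has fixed points on `Q` not centralized by `A`. -/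
theorem exists_hyperplane {M : Type*} [Group M] [Finite M] {A Q : Subgroup M}
    (hA : IsElementaryAbelian 2 A) (hQ : Odd (Nat.card Q))
    (hAQ : A ≤ normalizer (Q : Set M)) {H : Subgroup M} (hHA : H ≤ A)
    (hne : ¬ Q ≤ centralizer (H : Set M)) :
    ∃ B : Subgroup M, B ≤ A ∧ ¬ (Q ⊓ centralizer (B : Set M) ≤ centralizer (H : Set M)) ∧
      ∀ a ∈ A, a ∉ B → B ⊔ zpowers a = A := by
  classical
  have hc : ∀ a ∈ A, ∀ b ∈ A, Commute a b := fun a ha b hb => Thompson.elemAb_comm hA.1 ha hb
  obtain ⟨B, ⟨hBA, hB⟩, hBmax⟩ :=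
    (Set.toFinite {B : Subgroup M | B ≤ A ∧
      ¬ (Q ⊓ centralizer (B : Set M) ≤ centralizer (H : Set M))}).exists_maximal
      ⟨⊥, bot_le, fun h => hne fun q hq => h ⟨hq, mem_centralizer_iff.mpr fun y hy => by
        rw [SetLike.mem_coe, mem_bot] at hy; subst hy; simp⟩⟩
  refine ⟨B, hBA, hB, fun a ha haB => le_antisymm (sup_le hBA (zpowers_le.mpr ha)) ?_⟩
  intro c hcA
  by_contra hc'
  -- the four-group `⟨a, c⟩` meets `B` trivially
  set A' := closure ({a, c} : Set M) with hA'def
  have hA'A : A' ≤ A := by
    rw [hA'def, closure_le]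
    rintro z (rfl | rfl)
    · exact ha
    · exact hcA
  have hA'c : IsMulCommutative A' := Thompson.isMulCommutative_of_le hA.1 hA'A
  have hnc : ¬ IsCyclic A' := by
    intro hcy
    obtain ⟨⟨g, hg⟩, hgen⟩ := hcy
    have hg2 : g ^ 2 = 1 := hA.2 g (hA'A hg)
    have hmem : ∀ z : M, z ∈ A' → z = 1 ∨ z = g := by
      intro z hz
      obtain ⟨i, hi⟩ := hgen ⟨z, hz⟩
      have hi' : g ^ i = z := congrArg Subtype.val hi
      rcases Int.even_or_odd i with ⟨j, rfl⟩ | ⟨j, rfl⟩
      · left
        rw [← hi', ← two_mul, zpow_mul, zpow_ofNat, hg2, one_zpow]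
      · right
        rw [← hi', zpow_add, zpow_mul, zpow_ofNat, hg2, one_zpow, one_mul, zpow_one]
    have ha1 : a ≠ 1 := fun h => haB (h ▸ B.one_mem)
    have hc1 : c ≠ 1 := fun h => hc' (h ▸ (B ⊔ zpowers a).one_mem)
    have hag := (hmem a (subset_closure (by simp))).resolve_left ha1
    have hcg := (hmem c (subset_closure (by simp))).resolve_left hc1
    exact hc' (hcg ▸ hag ▸ mem_sup_right (mem_zpowers a))
  have hdis : ∀ e ∈ A', e ≠ 1 → e ∉ B := by
    intro e he he1 heB
    have hij : ∀ i j : ℤ, Commute (c ^ i) (a ^ j) := fun i j =>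
      ((hc c hcA a ha).zpow_left i).zpow_right j
    have hform : ∃ i j : ℤ, a ^ i * c ^ j = e := by
      clear he1 heB
      induction he using closure_induction with
      | mem z hz =>
        rcases hz with rfl | rfl
        · exact ⟨1, 0, by simp⟩
        · exact ⟨0, 1, by simp⟩
      | one => exact ⟨0, 0, by simp⟩
      | mul u v _ _ hu hv =>
        obtain ⟨i, j, rfl⟩ := hu
        obtain ⟨k, l, rfl⟩ := hv
        refine ⟨i + k, j + l, ?_⟩
        rw [zpow_add, zpow_add]
        simp only [mul_assoc]
        rw [← mul_assoc (c ^ j) (a ^ k), (hij j k).eq, mul_assoc]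
      | inv u _ hu =>
        obtain ⟨i, j, rfl⟩ := hu
        refine ⟨-i, -j, ?_⟩
        rw [mul_inv_rev, ← zpow_neg, ← zpow_neg, (hij (-j) (-i)).eq]
    obtain ⟨i, j, rfl⟩ := hform
    rcases Int.even_or_odd j with ⟨l, rfl⟩ | ⟨l, rfl⟩
    · rw [← two_mul, zpow_mul, zpow_ofNat, hA.2 c hcA, one_zpow, mul_one] at heB he1
      rcases Int.even_or_odd i with ⟨k, rfl⟩ | ⟨k, rfl⟩
      · rw [← two_mul, zpow_mul, zpow_ofNat, hA.2 a ha, one_zpow] at he1
        exact he1 rfl
      · rw [zpow_add, zpow_mul, zpow_ofNat, hA.2 a ha, one_zpow, one_mul, zpow_one] at heB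
        exact haB heB
    · rw [zpow_add c, zpow_mul, zpow_ofNat, hA.2 c hcA, one_zpow, one_mul, zpow_one] at heB
      apply hc'
      have h1 : (a ^ i)⁻¹ * (a ^ i * c) ∈ B ⊔ zpowers a :=
        mul_mem (inv_mem (mem_sup_right (zpow_mem (mem_zpowers a) i))) (mem_sup_left heB)
      rwa [inv_mul_cancel_left] at h1
  have hA'Q : A' ≤ normalizer ((Q ⊓ centralizer (B : Set M) : Subgroup M) : Set M) :=
    Coprime.le_normalizer_inf (hA'A.trans hAQ) (Coprime.le_normalizer_centralizer
      ((hA'A.trans (Thompson.le_centralizer_self hA.1)).trans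
        ((centralizer_le hBA).trans (centralizer_le_normalizer _))))
  have hcop : (Nat.card A').Coprime (Nat.card ↥(Q ⊓ centralizer (B : Set M))) := by
    haveI : Fact (Nat.Prime 2) := ⟨Nat.prime_two⟩
    obtain ⟨k, hk⟩ := IsPGroup.iff_card.mp
      (Thompson.isPGroup_of_isElementaryAbelian (Thompson.isElementaryAbelian_of_le hA hA'A))
    rw [hk]
    exact ((Nat.coprime_two_left.mpr hQ).pow_left k).coprime_dvd_right
      (card_dvd_of_le inf_le_left)
  refine hB (Coprime.le_of_centralizer_le A' _ _ hnc hA'Q hcop fun e he he1 => ?_)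
  intro q hq
  by_contra hqH
  have hlt : B < B ⊔ zpowers e := lt_of_le_of_ne le_sup_left fun h =>
    hdis e he he1 (h ▸ mem_sup_right (mem_zpowers e))
  refine hlt.not_ge (hBmax ⟨sup_le hBA (zpowers_le.mpr (hA'A he)), fun h => hqH (h ?_)⟩ hlt.le)
  refine ⟨hq.1.1, ?_⟩
  show q ∈ centralizer ((B ⊔ zpowers e : Subgroup M) : Set M)
  rw [← zpowers_le, le_centralizer_iff, sup_le_iff]
  refine ⟨le_centralizer_iff.mp (zpowers_le.mpr hq.1.2), ?_⟩
  rw [zpowers_le, mem_centralizer_iff]
  intro y hy
  obtain ⟨i, rfl⟩ := hy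
  have hqe : Commute q e := mem_centralizer_singleton_iff.mp hq.2
  exact hqe.zpow_left i

include hV in
/-- **The offender bound**: an elementary abelian 2-group `A` acting faithfully on `V` and on a group
`Q` of odd order has `|A| · |C_V(A)| ≤ |V|`, with equality only if `A` is generated by transvections. -/
theorem offender_bound (Q : Subgroup (MulAut V)) (hQ : Odd (Nat.card Q)) :
    ∀ (n : ℕ) (A : Subgroup (MulAut V)), Nat.card A = n → IsElementaryAbelian 2 A →
      A ≤ normalizer (Q : Set (MulAut V)) →
      (∀ a ∈ A, a ∈ centralizer (Q : Set (MulAut V)) → a = 1) →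
      Nat.card A * Nat.card (fixedBy A) ≤ Nat.card V ∧
      (Nat.card A * Nat.card (fixedBy A) = Nat.card V →
        A ≤ closure {t | t ∈ A ∧ IsTransvection t}) := by
  intro n
  induction n using Nat.strong_induction_on with
  | _ n ih =>
    intro A hn hA hAQ hf
    by_cases hAb : A = ⊥
    · subst hAb
      refine ⟨?_, fun _ => bot_le⟩
      rw [fixedBy_bot, Subgroup.card_top, Subgroup.card_bot, one_mul]
    haveI : Fact (Nat.Prime 2) := ⟨Nat.prime_two⟩
    have hAp : IsPGroup 2 A := Thompson.isPGroup_of_isElementaryAbelian hA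
    -- the step at a hyperplane
    have key : ∀ B : Subgroup (MulAut V), B ≤ A →
        ¬ (Q ⊓ centralizer (B : Set (MulAut V)) ≤ centralizer (A : Set (MulAut V))) →
        (∀ a ∈ A, a ∉ B → B ⊔ zpowers a = A) →
        Nat.card A = 2 * Nat.card B ∧ 2 * Nat.card (fixedBy A) ≤ Nat.card (fixedBy B) ∧
          Nat.card B * Nat.card (fixedBy B) ≤ Nat.card V ∧
          (Nat.card B * Nat.card (fixedBy B) = Nat.card V →
            B ≤ closure {t | t ∈ B ∧ IsTransvection t}) := by
      intro B hBA hB hgen
      obtain ⟨y, hy, hyA⟩ := SetLike.not_le_iff_exists.mp hB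
      have hBlt : B ≠ A := fun h => hyA (h ▸ hy.2)
      obtain ⟨a, ha, haB⟩ := SetLike.exists_of_lt (lt_of_le_of_ne hBA hBlt)
      have hBA' := hgen a ha haB
      have hay : ¬ Commute a y := fun h => hyA (by
        have h1 : A ≤ centralizer ({y} : Set (MulAut V)) := hBA' ▸ sup_le
          (fun b hb => mem_centralizer_singleton_iff.mpr (mem_centralizer_iff.mp hy.2 b hb))
          (zpowers_le.mpr (mem_centralizer_singleton_iff.mpr h.eq))
        exact mem_centralizer_iff.mpr fun b hb => mem_centralizer_singleton_iff.mp (h1 hb))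
      have ha2 : a * a = 1 := by rw [← sq]; exact hA.2 a ha
      have hainv : a⁻¹ = a := inv_eq_of_mul_eq_one_right ha2
      -- `|A| = 2 |B|`
      have hcardA : Nat.card A = 2 * Nat.card B := by
        have h1 : a ∈ normalizer (B : Set (MulAut V)) := centralizer_le_normalizer _
          (centralizer_le hBA (Thompson.le_centralizer_self hA.1 ha))
        have h2 := Thompson.card_sup_mul_card_inf (zpowers_le.mpr h1)
        have h3 : B ⊓ zpowers a = ⊥ := by
          rw [eq_bot_iff]
          rintro z ⟨hz, i, rfl⟩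
          rcases Int.even_or_odd i with ⟨k, rfl⟩ | ⟨k, rfl⟩
          · simp only [mem_bot]
            rw [← two_mul, zpow_mul, zpow_ofNat, hA.2 a ha, one_zpow]
          · have e' : a ^ (2 * k + 1) = a := by
              rw [zpow_add, zpow_mul, zpow_ofNat, hA.2 a ha, one_zpow, one_mul, zpow_one]
            exact absurd (show a ^ (2 * k + 1) ∈ B from hz) (by rw [e']; exact haB)
        rw [hBA', h3, card_bot, mul_one, Nat.card_zpowers,
          orderOf_eq_prime (hA.2 a ha) (fun h => haB (h ▸ B.one_mem))] at h2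
        rw [h2, mul_comm]
      -- an odd element inverted by `a`
      set x := y * a * y⁻¹ * a⁻¹ with hxdef
      have hxQ : x ∈ Q := by
        have h1 := (mem_normalizer_iff.mp (hAQ ha) y⁻¹).mp (inv_mem hy.1)
        have := mul_mem hy.1 h1
        simpa [hxdef, mul_assoc] using this
      have hxodd : Odd (orderOf x) := hQ.of_dvd_nat (orderOf_dvd_natCard Q hxQ)
      have hxinv : a * x * a⁻¹ = x⁻¹ := by
        rw [hxdef, hainv]
        simp only [mul_inv_rev, inv_inv, hainv, mul_assoc, ha2, mul_one]
      have hx1 : x ≠ 1 := fun h => hay (by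
        have : y * a * y⁻¹ * a⁻¹ = 1 := h
        rw [mul_inv_eq_one, mul_inv_eq_iff_eq_mul] at this
        exact this.symm)
      have hxB : ∀ b ∈ B, Commute b x := fun b hb => by
        have h1 : Commute b y := mem_centralizer_iff.mp hy.2 b hb
        have h2 : Commute b a := commute_of_elemAb hA (hBA hb) ha
        exact (((h1.mul_right h2).mul_right h1.inv_right).mul_right h2.inv_right)
      have hlt : fixedBy A < fixedBy B := by
        refine lt_of_le_of_ne (fixedBy_anti hBA) fun he => hx1 ?_
        refine eq_one_of_fixedBy_le hV hxodd (hAp.to_le hBA) hxB fun v hv => ?_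
        have hav : ∀ w ∈ fixedBy B, a w = w := fun w hw => (he.symm ▸ hw : w ∈ fixedBy A) a ha
        have hxv : x v ∈ fixedBy B := fun b hb => by rw [apply_comm (hxB b hb), hv b hb]
        have hxv' : x⁻¹ v = x v := by
          rw [← hxinv, hainv, mul_apply, mul_apply, hav v hv, hav _ hxv]
        have hx2 : (x * x) v = v := by
          rw [mul_apply, ← hxv', apply_inv_self]
        have : x ∈ zpowers (x * x) := by
          obtain ⟨k, hk⟩ := hxodd
          refine ⟨(k + 1 : ℕ), ?_⟩
          have : x ^ (2 * (k + 1)) = x := by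
            rw [show 2 * (k + 1) = (2 * k + 1) + 1 by ring, pow_succ, ← hk, pow_orderOf_eq_one,
              one_mul]
          simp only [zpow_natCast]
          rw [← sq, ← pow_mul, this]
        exact zpowers_apply_eq hx2 this
      have hfB : ∀ b ∈ B, b ∈ centralizer (Q : Set (MulAut V)) → b = 1 := fun b hb => hf b (hBA hb)
      have hlt' : Nat.card B < n := by
        rw [← hn, hcardA]
        have : 0 < Nat.card B := Nat.card_pos
        omega
      obtain ⟨hle, heq⟩ := ih (Nat.card B) hlt' B rfl (Thompson.isElementaryAbelian_of_le hA hBA)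
        (hBA.trans hAQ) hfB
      exact ⟨hcardA, two_mul_card_le hV hlt, hle, heq⟩
    have hQA : ¬ Q ≤ centralizer (A : Set (MulAut V)) := fun h =>
      hAb ((Subgroup.eq_bot_iff_forall _).mpr fun a ha => hf a ha (le_centralizer_iff.mp h ha))
    obtain ⟨B, hBA, hB, hgen⟩ := exists_hyperplane hA hQ hAQ le_rfl hQA
    obtain ⟨hcard, hfix, hle, heq⟩ := key B hBA hB hgen
    refine ⟨?_, fun he => ?_⟩
    · calc Nat.card A * Nat.card (fixedBy A) = Nat.card B * (2 * Nat.card (fixedBy A)) := by
            rw [hcard]; ring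
        _ ≤ Nat.card B * Nat.card (fixedBy B) := Nat.mul_le_mul_left _ hfix
        _ ≤ Nat.card V := hle
    · have hexact : ∀ B : Subgroup (MulAut V), Nat.card A = 2 * Nat.card B →
          2 * Nat.card (fixedBy A) ≤ Nat.card (fixedBy B) →
          Nat.card B * Nat.card (fixedBy B) ≤ Nat.card V →
          Nat.card B * Nat.card (fixedBy B) = Nat.card V ∧
            2 * Nat.card (fixedBy A) = Nat.card (fixedBy B) := by
        intro B hc h1 h2
        have h3 : Nat.card V = Nat.card B * (2 * Nat.card (fixedBy A)) := by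
          rw [← he, hc]; ring
        have h4 : Nat.card B * (2 * Nat.card (fixedBy A)) ≤ Nat.card B * Nat.card (fixedBy B) :=
          Nat.mul_le_mul_left _ h1
        have h5 : Nat.card B * Nat.card (fixedBy B) = Nat.card V := by omega
        exact ⟨h5, le_antisymm h1 (Nat.le_of_mul_le_mul_left (h2.trans h3.le) Nat.card_pos)⟩
      obtain ⟨e1, e2⟩ := hexact B hcard hfix hle
      by_cases hB1 : B = ⊥
      · subst hB1
        obtain ⟨a, ha, ha1⟩ := (Subgroup.bot_or_exists_ne_one A).resolve_left hAb
        have hA' : zpowers a = A := by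
          have := hgen a ha (fun h => ha1 (mem_bot.mp h))
          rwa [bot_sup_eq] at this
        have ht : IsTransvection a := by
          rw [fixedBy_bot, Subgroup.card_top, ← hA', fixedBy_zpowers] at e2
          exact e2
        intro z hz
        have : zpowers a ≤ closure {t | t ∈ A ∧ IsTransvection t} :=
          zpowers_le.mpr (subset_closure ⟨ha, ht⟩)
        exact this (hA'.symm ▸ hz)
      · have hBQ : ¬ Q ≤ centralizer (B : Set (MulAut V)) := fun h =>
          hB1 ((Subgroup.eq_bot_iff_forall _).mpr fun b hb =>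
            hf b (hBA hb) (le_centralizer_iff.mp h hb))
        obtain ⟨D, hDA, hD, hgenD⟩ := exists_hyperplane hA hQ hAQ hBA hBQ
        have hD' : ¬ (Q ⊓ centralizer (D : Set (MulAut V)) ≤ centralizer (A : Set (MulAut V))) :=
          fun h => hD (h.trans (centralizer_le hBA))
        obtain ⟨hcardD, hfixD, hleD, heqD⟩ := key D hDA hD' hgenD
        obtain ⟨e1', -⟩ := hexact D hcardD hfixD hleD
        have hDB : ¬ D ≤ B := fun h => by
          have : D = B := Subgroup.eq_of_le_of_card_ge h (by omega)
          exact hD (this ▸ inf_le_right)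
        obtain ⟨d, hd, hdB⟩ := SetLike.not_le_iff_exists.mp hDB
        rw [← hgen d (hDA hd) hdB]
        refine sup_le ((heq e1).trans (closure_mono fun t ht => ⟨mem_sup_left ht.1, ht.2⟩))
          (zpowers_le.mpr ?_)
        have h6 := heqD e1' hd
        refine closure_mono (fun t ht => ?_) h6
        exact ⟨(hgen d (hDA hd) hdB).symm ▸ hDA ht.1, ht.2⟩

end Offender

end Cfsg.Agent.LocalEven64.FF
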