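import Mathlib
import Cfsg.Prelude.Def_Amalgam
import Cfsg.Agent.LocalEven64.CharP
import Cfsg.Agent.LocalEven64.FFAction
import Cfsg.Agent.Lib.Fitting.Minimal
import Cfsg.Agent.S4208

/-!
# Elements of order three with four-group commutator space, and transvections

For a solvable group `X` of automorphisms of an elementary abelian 2-group `V` with `O₂(X) = 1`: every transvection
of `X` inverts an element `x ∈ O₃(X)` of order three with `|[V, x]| = 4`, these elements commute pairwise, and
transvections normalize each `⟨x⟩`.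
-/

set_option autoImplicit false
set_option linter.unusedSectionVars false
set_option linter.style.haveILetI false

namespace Cfsg.Agent.LocalEven64.FF

open Subgroup

variable {V : Type*} [CommGroup V]

/-- An element of order three whose fixed points have index four. -/
def IsSmall (x : MulAut V) : Prop := orderOf x = 3 ∧ 4 * Nat.card (fix1 x) = Nat.card V

theorem IsSmall.odd {x : MulAut V} (h : IsSmall x) : Odd (orderOf x) := by rw [h.1]; decide

theorem IsSmall.pow_three {x : MulAut V} (h : IsSmall x) : x ^ 3 = 1 := by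
  rw [← h.1]; exact pow_orderOf_eq_one x

theorem IsSmall.ne_one {x : MulAut V} (h : IsSmall x) : x ≠ 1 := fun hx => by
  have := h.1
  rw [hx, orderOf_one] at this
  exact absurd this (by norm_num)

theorem fix1_inv (x : MulAut V) : fix1 x⁻¹ = fix1 x := by
  ext v
  exact ⟨fun h => zpowers_apply_eq (x := x⁻¹) h (by simp),
    fun h => zpowers_apply_eq h (inv_mem (mem_zpowers x))⟩

theorem fix1_conj (g x : MulAut V) : fix1 (g * x * g⁻¹) = (fix1 x).map g.toMonoidHom := by
  ext v
  constructor
  · intro h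
    refine ⟨g⁻¹ v, ?_, apply_inv_self g v⟩
    have h' : g (x (g⁻¹ v)) = v := h
    exact g.injective (h'.trans (apply_inv_self g v).symm)
  · rintro ⟨u, hu, rfl⟩
    show g (x (g⁻¹ (g u))) = g u
    rw [inv_apply_self, show x u = u from hu]

theorem card_fix1_conj (g x : MulAut V) :
    Nat.card (fix1 (g * x * g⁻¹)) = Nat.card (fix1 x) := by
  rw [fix1_conj]
  exact Subgroup.card_map_of_injective g.injective

theorem IsSmall.conj {x : MulAut V} (h : IsSmall x) (g : MulAut V) : IsSmall (g * x * g⁻¹) :=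
  ⟨(orderOf_injective (MulAut.conj g).toMonoidHom (MulAut.conj g).injective x).trans h.1,
    by rw [card_fix1_conj, h.2]⟩

theorem IsSmall.inv {x : MulAut V} (h : IsSmall x) : IsSmall x⁻¹ :=
  ⟨by rw [orderOf_inv, h.1], by rw [fix1_inv, h.2]⟩

theorem IsTransvection.conj {t : MulAut V} (h : IsTransvection t) (g : MulAut V) :
    IsTransvection (g * t * g⁻¹) := by
  rw [IsTransvection, card_fix1_conj]; exact h

variable [Finite V] (hV : ∀ v : V, v * v = 1)

include hV

theorem IsSmall.card_wSub {x : MulAut V} (h : IsSmall x) : Nat.card (wSub x) = 4 := by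
  have h1 := card_fix1_mul_card_wSub hV h.odd
  rw [← h.2, mul_comm 4] at h1
  exact Nat.eq_of_mul_eq_mul_left Nat.card_pos h1

theorem IsSmall.apply_ne {x : MulAut V} (h : IsSmall x) {w : V} (hw : w ∈ wSub x) (hw1 : w ≠ 1) :
    x w ≠ w := fun he => hw1 (eq_one_of_mem_wSub hV h.odd hw he)

/-- The elements of a four group. -/
theorem four_cases {W : Subgroup V} (hW : Nat.card W = 4) {a b : V} (ha : a ∈ W) (hb : b ∈ W)
    (ha1 : a ≠ 1) (hb1 : b ≠ 1) (hab : a ≠ b) {z : V} (hz : z ∈ W) :
    z = 1 ∨ z = a ∨ z = b ∨ z = a * b := by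
  classical
  haveI := Fintype.ofFinite V
  by_contra h
  push Not at h
  obtain ⟨k0, k1, k2, k3⟩ := h
  have n1 : a * b ≠ 1 := fun he => hab (eq_of_mul_eq_one hV he)
  have n2 : a * b ≠ a := fun he => hb1 (mul_eq_left.mp he)
  have n3 : a * b ≠ b := fun he => ha1 (mul_eq_right.mp he)
  have hsub : ({1, a, b, a * b, z} : Finset V) ⊆ Finset.univ.filter (· ∈ W) := by
    intro u hu
    simp only [Finset.mem_insert, Finset.mem_singleton] at hu
    rw [Finset.mem_filter]
    refine ⟨Finset.mem_univ u, ?_⟩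
    rcases hu with rfl | rfl | rfl | rfl | rfl
    · exact one_mem _
    · exact ha
    · exact hb
    · exact mul_mem ha hb
    · exact hz
  have hcard : (Finset.univ.filter (· ∈ W)).card = 4 := by
    rw [← hW, Nat.card_eq_fintype_card, Fintype.card_subtype]
  have h5 : ({1, a, b, a * b, z} : Finset V).card = 5 := by
    rw [Finset.card_insert_of_notMem, Finset.card_insert_of_notMem, Finset.card_insert_of_notMem,
      Finset.card_insert_of_notMem, Finset.card_singleton]
    all_goals simp only [Finset.mem_insert, Finset.mem_singleton, not_or]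
    exacts [Ne.symm k3, ⟨Ne.symm n3, Ne.symm k2⟩, ⟨hab, Ne.symm n2, Ne.symm k1⟩,
      ⟨Ne.symm ha1, Ne.symm hb1, Ne.symm n1, Ne.symm k0⟩]
  have := Finset.card_le_card hsub
  omega

/-- An odd-order automorphism without fixed points on a four group cycles its three involutions. -/
theorem four_cycle {x : MulAut V} (hx : Odd (orderOf x)) (hW : Nat.card (wSub x) = 4) {w : V}
    (hw : w ∈ wSub x) (hw1 : w ≠ 1) :
    (x * x) w = w * x w ∧ (x ^ 3) w = w ∧ w ≠ x w ∧ x w ≠ 1 := by
  have hxw := apply_mem_wSub hV hx hw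
  have hxxw : (x * x) w ∈ wSub x := apply_mem_wSub hV hx hxw
  have n1 : w ≠ x w := fun he => hw1 (eq_one_of_mem_wSub hV hx hw he.symm)
  have n2 : x w ≠ 1 := fun he => hw1 (x.injective (he.trans (map_one x).symm))
  have h2 : (x * x) w = w * x w := by
    rcases four_cases hV hW hw hxw hw1 n2 n1 hxxw with h | h | h | h
    · exact absurd (x.injective (h.trans (map_one x).symm)) n2
    · refine absurd (zpowers_apply_eq h ?_) (Ne.symm n1)
      obtain ⟨k, hk⟩ := hx
      refine ⟨(k + 1 : ℕ), ?_⟩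
      simp only [zpow_natCast]
      rw [← sq, ← pow_mul, show 2 * (k + 1) = (2 * k + 1) + 1 by ring, pow_succ, ← hk,
        pow_orderOf_eq_one, one_mul]
    · exact absurd (x.injective h) (Ne.symm n1)
    · exact h
  refine ⟨h2, ?_, n1, n2⟩
  rw [pow_succ', sq, mul_apply, h2, map_mul, ← mul_apply x x w, h2, mul_left_comm, hV, mul_one]

theorem IsSmall.wSub_eq {x : MulAut V} (h : IsSmall x) {w : V} (hw : w ∈ wSub x) (hw1 : w ≠ 1) :
    ∀ z ∈ wSub x, z = 1 ∨ z = w ∨ z = x w ∨ z = (x * x) w := by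
  intro z hz
  obtain ⟨h2, -, n1, n2⟩ := four_cycle hV h.odd (h.card_wSub hV) hw hw1
  rw [h2]
  exact four_cases hV (h.card_wSub hV) hw (apply_mem_wSub hV h.odd hw) hw1 n2 n1 hz

/-- An odd-order element inverted by a transvection is small. -/
theorem isSmall_of_inverted {t x : MulAut V} (ht : IsTransvection t) (hx : Odd (orderOf x))
    (hx1 : x ≠ 1) (hinv : t * x * t⁻¹ = x⁻¹) : IsSmall x := by
  have hx2 : x * x = (x * t * x⁻¹) * t⁻¹ := by
    have h0 : t * x⁻¹ * t⁻¹ = x := by
      have := congrArg (·⁻¹) hinv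
      simpa only [mul_inv_rev, inv_inv, mul_assoc] using this
    calc x * x = x * (t * x⁻¹ * t⁻¹) := by rw [h0]
      _ = (x * t * x⁻¹) * t⁻¹ := by group
  have hle : fix1 (x * t * x⁻¹) ⊓ fix1 t ≤ fix1 x := by
    intro v hv
    have h2 : (x * x) v = v := by
      rw [hx2, mul_apply, show t⁻¹ v = v by
        have h3 : v ∈ fix1 t⁻¹ := by rw [fix1_inv]; exact hv.2
        exact h3]
      exact hv.1
    have : x ∈ zpowers (x * x) := by
      obtain ⟨k, hk⟩ := hx
      refine ⟨(k + 1 : ℕ), ?_⟩
      simp only [zpow_natCast]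
      rw [← sq, ← pow_mul, show 2 * (k + 1) = (2 * k + 1) + 1 by ring, pow_succ, ← hk,
        pow_orderOf_eq_one, one_mul]
    exact zpowers_apply_eq h2 this
  have hidx : (fix1 x).index ≤ 4 := by
    refine le_trans (Nat.le_of_dvd ?_ (Subgroup.index_dvd_of_le hle)) ?_
    · exact Nat.pos_of_ne_zero Subgroup.index_ne_zero_of_finite
    · refine Subgroup.index_inf_le.trans ?_
      rw [(ht.conj x).index_fix1, ht.index_fix1]
  have hW : Nat.card (wSub x) = (fix1 x).index := by
    have h1 := card_fix1_mul_card_wSub hV hx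
    rw [← Subgroup.card_mul_index (fix1 x)] at h1
    exact Nat.eq_of_mul_eq_mul_left Nat.card_pos h1
  obtain ⟨k, hk⟩ := card_eq_two_pow hV (wSub x)
  have hne : wSub x ≠ ⊥ := fun hb => hx1 (MulEquiv.ext fun v => by
    have := apply_mul_self_mem_wSub hV hx v
    rw [hb, mem_bot] at this
    exact eq_of_mul_eq_one hV this)
  have hk1 : k ≠ 0 := by
    rintro rfl
    exact hne (Subgroup.card_eq_one.mp (by simpa using hk))
  have hk2 : k ≠ 1 := by
    rintro rfl
    obtain ⟨w, hw, hw1⟩ := (Subgroup.bot_or_exists_ne_one (wSub x)).resolve_left hne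
    have hxw := apply_mem_wSub hV hx hw
    have hxw1 : x w ≠ 1 := fun he => hw1 (x.injective (he.trans (map_one x).symm))
    have hne' : (⟨w, hw⟩ : wSub x) ≠ 1 := fun h => hw1 (congrArg Subtype.val h)
    have hne'' : (⟨x w, hxw⟩ : wSub x) ≠ 1 := fun h => hxw1 (congrArg Subtype.val h)
    have huniq : ∀ a b : wSub x, a ≠ 1 → b ≠ 1 → a = b := fun a b ha hb => by
      obtain ⟨y, -, hy⟩ := (Nat.card_eq_two_iff' (1 : wSub x)).mp (by simpa using hk)
      exact (hy a ha).trans (hy b hb).symm
    exact hw1 (eq_one_of_mem_wSub hV hx hw (congrArg Subtype.val (huniq _ _ hne'' hne')))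
  have hk4 : k = 2 := by
    have h4 : 2 ^ k ≤ 2 ^ 2 := by rw [← hk, hW]; exact hidx
    have := (Nat.pow_le_pow_iff_right (by norm_num : 1 < 2)).mp h4
    omega
  subst hk4
  have hcard4 : 4 * Nat.card (fix1 x) = Nat.card V := by
    rw [← card_fix1_mul_card_wSub hV hx, hk]; ring
  refine ⟨?_, hcard4⟩
  -- `x` acts on the four group `[V, x]` without fixed points, so has order three
  haveI : Fact (Nat.Prime 3) := ⟨Nat.prime_three⟩
  refine orderOf_eq_prime ?_ hx1
  refine eq_of_eq_on hV hx (fun v hv => ?_) (fun w hw => ?_)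
  · exact zpowers_apply_eq (show x v = v from hv) (pow_mem (mem_zpowers x) 3)
  · rw [one_apply]
    by_cases hw1 : w = 1
    · subst hw1; exact map_one _
    exact (four_cycle hV hx hk hw hw1).2.1

/-- An automorphism centralizing `x`, fixing `C_V(x)` pointwise and stabilizing `[V, x]` is a power of `x`. -/
theorem mem_zpowers_of_commute {x g : MulAut V} (hx : IsSmall x) (hc : Commute g x)
    (hfix : ∀ v ∈ fix1 x, g v = v) : g ∈ zpowers x := by
  by_cases hb : wSub x = ⊥
  · have := hx.card_wSub hV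
    rw [hb, Subgroup.card_bot] at this
    exact absurd this (by norm_num)
  obtain ⟨w, hw, hw1⟩ := (Subgroup.bot_or_exists_ne_one (wSub x)).resolve_left hb
  have hgw : g w ∈ wSub x := by rw [mem_wSub, normMap_comm hc, mem_wSub.mp hw, map_one]
  have key : ∀ f : MulAut V, f ∈ zpowers x → f w = g w → g = f := by
    intro f hf hfw
    refine eq_of_eq_on hV hx.odd (fun v hv => ?_) (fun z hz => ?_)
    · rw [hfix v hv, zpowers_apply_eq (show x v = v from hv) hf]
    · obtain ⟨i, rfl⟩ := hf
      have hfc : Commute (x ^ i) x := (Commute.refl x).zpow_left i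
      rcases hx.wSub_eq hV hw hw1 z hz with rfl | rfl | rfl | rfl
      · simp
      · exact hfw.symm
      · rw [apply_comm hc, apply_comm hfc]; exact congrArg x hfw.symm
      · rw [mul_apply, apply_comm hc, apply_comm hc, apply_comm hfc, apply_comm hfc]
        exact congrArg x (congrArg x hfw.symm)
  rcases hx.wSub_eq hV hw hw1 _ hgw with h | h | h | h
  · exact absurd (g.injective (h.trans (map_one g).symm)) hw1
  · rw [key 1 (one_mem _) (by rw [one_apply, h])]; exact one_mem _
  · rw [key x (mem_zpowers x) h.symm]; exact mem_zpowers x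
  · rw [key (x * x) (mul_mem (mem_zpowers x) (mem_zpowers x)) h.symm]
    exact mul_mem (mem_zpowers x) (mem_zpowers x)

/-- Two commuting small elements generate the same group, or act on independent four groups. -/
theorem small_cases {x y : MulAut V} (hx : IsSmall x) (hy : IsSmall y) (hc : Commute y x) :
    y ∈ zpowers x ∨ ((∀ w ∈ wSub x, y w = w) ∧ wSub x ⊓ wSub y = ⊥) := by
  by_cases hfix : ∀ w ∈ wSub x, y w = w
  · refine Or.inr ⟨hfix, ?_⟩
    rw [eq_bot_iff]
    rintro v ⟨hvx, hvy⟩
    exact mem_bot.mpr (eq_one_of_mem_wSub hV hy.odd hvy (hfix v hvx))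
  push Not at hfix
  obtain ⟨w, hw, hyw⟩ := hfix
  left
  -- `[V, x] = [V, y]`
  have hu : y w * w ∈ wSub x ⊓ wSub y := by
    refine ⟨mul_mem ?_ hw, apply_mul_self_mem_wSub hV hy.odd w⟩
    show y w ∈ wSub x
    rw [mem_wSub, normMap_comm hc, mem_wSub.mp hw, map_one]
  have hu1 : y w * w ≠ 1 := fun he => hyw (eq_of_mul_eq_one hV he)
  have hyx : wSub y ≤ wSub x := by
    intro z hz
    rcases hy.wSub_eq hV hu.2 hu1 z hz with rfl | rfl | rfl | rfl
    · exact one_mem _
    · exact hu.1
    · rw [mem_wSub, normMap_comm hc, mem_wSub.mp hu.1, map_one]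
    · rw [mul_apply, mem_wSub, normMap_comm hc, normMap_comm hc, mem_wSub.mp hu.1, map_one, map_one]
  have heq : wSub y = wSub x :=
    Subgroup.eq_of_le_of_card_ge hyx (by rw [hx.card_wSub hV, hy.card_wSub hV])
  refine mem_zpowers_of_commute hV hx hc fun v hv => eq_of_mul_eq_one hV ?_
  -- `x v = v` gives `y v * v ∈ C(x) ∩ [V, y]`
  refine eq_one_of_mem_wSub hV hx.odd (heq ▸ apply_mul_self_mem_wSub hV hy.odd v) ?_
  rw [map_mul, ← apply_comm hc, show x v = v from hv]

omit [Finite V] hV in
/-- The stabilizer of a subgroup in the automorphism group. -/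
def stab (U : Subgroup V) : Subgroup (MulAut V) where
  carrier := {g | ∀ v, g v ∈ U ↔ v ∈ U}
  one_mem' _ := Iff.rfl
  mul_mem' {f g} hf hg v := by rw [mul_apply]; exact (hf (g v)).trans (hg v)
  inv_mem' {f} hf v := by
    have := hf (f⁻¹ v)
    rw [apply_inv_self] at this
    exact this.symm

omit hV in
theorem mem_stab_of_mapsTo {U : Subgroup V} {g : MulAut V} (h : ∀ v ∈ U, g v ∈ U) : g ∈ stab U := by
  intro v
  refine ⟨fun hv => ?_, h v⟩
  have hsurj : Function.Surjective (fun u : U => (⟨g u, h u u.2⟩ : U)) := by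
    refine Finite.injective_iff_surjective.mp fun a b hab => Subtype.ext (g.injective ?_)
    exact congrArg Subtype.val hab
  obtain ⟨u, hu⟩ := hsurj ⟨g v, hv⟩
  exact g.injective (congrArg Subtype.val hu) ▸ u.2

omit [Finite V] hV in
/-- Restriction to a stabilized subgroup. -/
def restrictHom (U : Subgroup V) : stab U →* MulAut U where
  toFun g :=
    { toFun := fun u => ⟨(g : MulAut V) u, (g.2 u).mpr u.2⟩
      invFun := fun u => ⟨(g : MulAut V)⁻¹ u, (((stab U).inv_mem g.2) u).mpr u.2⟩
      left_inv := fun u => Subtype.ext (inv_apply_self _ _)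
      right_inv := fun u => Subtype.ext (apply_inv_self _ _)
      map_mul' := fun u v => Subtype.ext (map_mul (g : MulAut V) (u : V) (v : V)) }
  map_one' := rfl
  map_mul' _ _ := rfl

/-- Two small elements of a 3-group commute. -/
theorem small_commute {P : Subgroup (MulAut V)} (hP : IsPGroup 3 P) {x y : MulAut V} (hxP : x ∈ P)
    (hyP : y ∈ P) (hx : IsSmall x) (hy : IsSmall y) : Commute x y := by
  haveI : Fact (Nat.Prime 3) := ⟨Nat.prime_three⟩
  haveI : Fact (Nat.Prime 2) := ⟨Nat.prime_two⟩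
  set U := wSub x ⊔ wSub y with hUdef
  have hxU : ∀ v, x v * v ∈ U := fun v => mem_sup_left (apply_mul_self_mem_wSub hV hx.odd v)
  have hyU : ∀ v, y v * v ∈ U := fun v => mem_sup_right (apply_mul_self_mem_wSub hV hy.odd v)
  have hstab : ∀ g : MulAut V, (∀ v, g v * v ∈ U) → g ∈ stab U := fun g hg =>
    mem_stab_of_mapsTo fun v hv => by
      have := mul_mem (hg v) hv
      rwa [mul_assoc, hV, mul_one] at this
  have hxS := hstab x hxU
  have hyS := hstab y hyU
  set c := x * y * x⁻¹ * y⁻¹ with hcdef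
  -- the image in `Aut U` is a 3-group, of order at most nine
  let Q : Subgroup (MulAut U) := (P.subgroupOf (stab U)).map (restrictHom U)
  have hQ : IsPGroup 3 Q := (hP.comap_subtype).map _
  have hU : Nat.card U ∣ 16 := by
    have h1 := Thompson.card_sup_mul_card_inf (H := wSub x) (K := wSub y)
      (fun v _ => mem_normalizer_iff.mpr fun u => by rw [mul_comm v, mul_inv_cancel_right])
    rw [hx.card_wSub hV, hy.card_wSub hV, ← hUdef] at h1
    exact ⟨_, h1.symm⟩
  obtain ⟨r, hr4, hr⟩ := (Nat.dvd_prime_pow Nat.prime_two).mp (show Nat.card U ∣ 2 ^ 4 by simpa using hU)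
  have hQc : IsMulCommutative Q := by
    have hd : Nat.card Q ∣ ∏ i ∈ Finset.range r, (2 ^ r - 2 ^ i) :=
      (Subgroup.card_subgroup_dvd_card Q).trans (Cfsg.Agent.S4208.card_mulAut_elementary_dvd
        (fun a b : U => mul_comm a b) (fun a => Subtype.ext (by rw [SubmonoidClass.coe_pow, sq]; exact hV a)) hr)
    obtain ⟨n, hn⟩ := IsPGroup.iff_card.mp hQ
    rw [hn] at hd
    have hn2 : n ≤ 2 := by
      by_contra hlt
      push Not at hlt
      have h27 : 3 ^ 3 ∣ ∏ i ∈ Finset.range r, (2 ^ r - 2 ^ i) := (Nat.pow_dvd_pow 3 hlt).trans hd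
      interval_cases r <;> simp [Finset.prod_range_succ] at h27
    interval_cases n
    · haveI : Subsingleton Q := (Nat.card_eq_one_iff_unique.mp (by simpa using hn)).1
      exact ⟨⟨fun a b => Subsingleton.elim _ _⟩⟩
    · haveI := isCyclic_of_prime_card (p := 3) (by simpa using hn : Nat.card Q = 3)
      exact IsCyclic.isMulCommutative
    · exact IsPGroup.isMulCommutative_of_card_eq_prime_sq hn
  have hcS : c ∈ stab U := mul_mem (mul_mem (mul_mem hxS hyS) (inv_mem hxS)) (inv_mem hyS)
  have hcU : ∀ u ∈ U, c u = u := by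
    intro u hu
    have hxQ : restrictHom U ⟨x, hxS⟩ ∈ Q := mem_map_of_mem _ (mem_subgroupOf.mpr hxP)
    have hyQ : restrictHom U ⟨y, hyS⟩ ∈ Q := mem_map_of_mem _ (mem_subgroupOf.mpr hyP)
    have h := congrArg Subtype.val (hQc.is_comm.comm (⟨_, hxQ⟩ : Q) ⟨_, hyQ⟩)
    simp only [Subgroup.coe_mul] at h
    have h1 : restrictHom U ⟨c, hcS⟩ = 1 := by
      rw [show (⟨c, hcS⟩ : stab U) = ⟨x, hxS⟩ * ⟨y, hyS⟩ * ⟨x, hxS⟩⁻¹ * ⟨y, hyS⟩⁻¹ from rfl,
        map_mul, map_mul, map_mul, map_inv, map_inv, h]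
      group
    exact congrArg Subtype.val (DFunLike.congr_fun h1 ⟨u, hu⟩)
  -- all of `⟨x, y⟩` moves `v` inside `vU`
  let M : Subgroup (MulAut V) :=
    { carrier := {g | ∀ v, g v * v ∈ U}
      one_mem' := fun v => by rw [one_apply, hV]; exact one_mem _
      mul_mem' := fun {f g} (hf : ∀ v, f v * v ∈ U) (hg : ∀ v, g v * v ∈ U) v => by
        have := mul_mem (hf (g v)) (hg v)
        rwa [mul_assoc, ← mul_assoc (g v), hV, one_mul] at this
      inv_mem' := fun {f} (hf : ∀ v, f v * v ∈ U) v => by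
        have := hf (f⁻¹ v)
        rwa [apply_inv_self, mul_comm] at this }
  have hcM : c ∈ M := mul_mem (mul_mem (mul_mem (show x ∈ M from hxU) (show y ∈ M from hyU))
    (inv_mem (show x ∈ M from hxU))) (inv_mem (show y ∈ M from hyU))
  have hc2 : c * c = 1 := MulEquiv.ext fun v => by
    rw [mul_apply, one_apply]
    have h1 : c (c v * v) = c v * v := hcU _ (hcM v)
    rw [map_mul] at h1
    exact mul_left_cancel (((mul_comm (c v) (c (c v))).trans h1))
  have hcP : c ∈ P := mul_mem (mul_mem (mul_mem hxP hyP) (inv_mem hxP)) (inv_mem hyP)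
  have hc1 : c = 1 := by
    obtain ⟨k, hk⟩ := IsPGroup.iff_orderOf.mp hP ⟨c, hcP⟩
    rw [Subgroup.orderOf_mk] at hk
    have h2 : orderOf c ∣ 2 := orderOf_dvd_of_pow_eq_one (by rw [sq]; exact hc2)
    rw [← orderOf_eq_one_iff]
    rcases (Nat.dvd_prime Nat.prime_two).mp h2 with h | h
    · exact h
    · rw [h] at hk
      have h3 : 2 ∣ 3 ^ k := hk ▸ dvd_refl 2
      exact absurd (Nat.prime_two.dvd_of_dvd_pow h3) (by decide)
  rw [hcdef, mul_inv_eq_one, mul_inv_eq_iff_eq_mul] at hc1
  exact hc1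

/-- A transvection normalizes the group generated by a small element, if the conjugate commutes. -/
theorem transvection_conj_mem_zpowers {t x : MulAut V} (ht : IsTransvection t) (hx : IsSmall x)
    (hc : Commute (t * x * t⁻¹) x) : t * x * t⁻¹ ∈ zpowers x := by
  rcases small_cases hV hx (hx.conj t) hc with h | ⟨-, hdis⟩
  · exact h
  exfalso
  have himg : ∀ u ∈ wSub x, t u ∈ wSub (t * x * t⁻¹) := by
    intro u hu
    rw [mem_wSub, normMap_apply] at hu ⊢
    have ho : orderOf (t * x * t⁻¹) = orderOf x := by rw [(hx.conj t).1, hx.1]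
    rw [ho]
    have := congrArg t hu
    rw [map_prod, map_one] at this
    refine (Finset.prod_congr rfl fun i _ => ?_).trans this
    rw [conj_pow, mul_apply, mul_apply, inv_apply_self]
  have hmove : ∀ u ∈ wSub x, u ≠ 1 → t u ≠ u := by
    intro u hu hu1 he
    have : u ∈ wSub x ⊓ wSub (t * x * t⁻¹) := ⟨hu, he ▸ himg u hu⟩
    rw [hdis, mem_bot] at this
    exact hu1 this
  obtain ⟨w, hw, hw1⟩ := (Subgroup.bot_or_exists_ne_one (wSub x)).resolve_left fun hb => by
    have := hx.card_wSub hV
    rw [hb, Subgroup.card_bot] at this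
    exact absurd this (by norm_num)
  have hxw := apply_mem_wSub hV hx.odd hw
  have hxw1 : x w ≠ 1 := fun he => hw1 (x.injective (he.trans (map_one x).symm))
  have he := ht.disp_eq hV (hmove w hw hw1) (hmove _ hxw hxw1)
  have hfix : t (w * x w) = w * x w := by
    rw [map_mul]
    calc t w * t (x w) = (w * x w) * ((w * t w) * (x w * t (x w))) := by
          calc t w * t (x w) = (w * w) * (x w * x w) * (t w * t (x w)) := by
                rw [hV, hV, one_mul, one_mul]
            _ = _ := by ac_rfl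
      _ = w * x w := by rw [← he, hV, mul_one]
  exact hmove _ (mul_mem hw hxw)
    (fun h => hx.apply_ne hV hw hw1 (eq_of_mul_eq_one hV h).symm) hfix

/-- A transvection normalizing `⟨x⟩` inverts or centralizes `x`. -/
theorem conj_eq_or {t x : MulAut V} (hx : IsSmall x) (h : t * x * t⁻¹ ∈ zpowers x) :
    t * x * t⁻¹ = x ∨ t * x * t⁻¹ = x⁻¹ := by
  obtain ⟨i, hi⟩ := h
  have hi' : x ^ i = t * x * t⁻¹ := hi
  rw [← zpow_mod_orderOf, hx.1] at hi'
  have h0 : 0 ≤ i % (3 : ℤ) := Int.emod_nonneg _ (by norm_num)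
  have h3 : i % (3 : ℤ) < 3 := Int.emod_lt_of_pos _ (by norm_num)
  have hcases : i % (3 : ℤ) = 0 ∨ i % (3 : ℤ) = 1 ∨ i % (3 : ℤ) = 2 := by omega
  rcases hcases with h | h | h <;> rw [show ((3 : ℕ) : ℤ) = 3 from rfl, h] at hi'
  · exfalso
    refine hx.ne_one ?_
    rw [zpow_zero] at hi'
    exact conj_eq_one_iff.mp hi'.symm
  · exact Or.inl (by rw [← hi', zpow_one])
  · refine Or.inr ?_
    rw [← hi', show (2 : ℤ) = ((2 : ℕ) : ℤ) from rfl, zpow_natCast, eq_inv_iff_mul_eq_one, ← pow_succ]
    exact hx.pow_three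

/-- A transvection inverting `x` fixes `C_V(x)` pointwise and moves only inside `[V, x]`. -/
theorem transvection_inverts {t x : MulAut V} (ht : IsTransvection t) (hx : IsSmall x)
    (hinv : t * x * t⁻¹ = x⁻¹) :
    (∀ v ∈ fix1 x, t v = v) ∧ (∀ v, v * t v ∈ wSub x) ∧ (∀ w ∈ wSub x, t w ∈ wSub x) ∧
      ∃ w ∈ wSub x, t w ≠ w := by
  have htx : ∀ v, t (x v) = x⁻¹ (t v) := fun v => by
    rw [← hinv, mul_apply, mul_apply, inv_apply_self]
  have hW : ∀ w ∈ wSub x, t w ∈ wSub x := by
    intro w hw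
    rw [mem_wSub, normMap_apply] at hw ⊢
    have h1 : ∀ i, (x ^ i) (t w) = t ((x⁻¹ ^ i) w) := by
      intro i
      have : t * x⁻¹ * t⁻¹ = x := by
        have := congrArg (·⁻¹) hinv
        simpa only [mul_inv_rev, inv_inv, mul_assoc] using this
      conv_lhs => rw [← this, conj_pow]
      rw [mul_apply, mul_apply, inv_apply_self]
    rw [Finset.prod_congr rfl fun i _ => h1 i, ← map_prod]
    have h2 : ∏ i ∈ Finset.range (orderOf x), (x⁻¹ ^ i) w = 1 := by
      rw [hx.1]
      rw [hx.1] at hw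
      simp only [Finset.prod_range_succ, Finset.prod_range_zero, one_mul, pow_zero, pow_one] at hw ⊢
      have e1 : x⁻¹ = x ^ 2 := by rw [inv_eq_iff_mul_eq_one, ← pow_succ']; exact hx.pow_three
      have e2 : x⁻¹ ^ 2 = x := by
        rw [e1, ← pow_mul, show 2 * 2 = 3 + 1 from rfl, pow_succ, hx.pow_three, one_mul]
      rw [e2, e1, mul_right_comm]
      exact hw
    rw [h2, map_one]
  have hF : ∀ v ∈ fix1 x, t v ∈ fix1 x := fun v hv => by
    have : x⁻¹ (t v) = t v := by rw [← htx, show x v = v from hv]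
    rw [← fix1_inv]; exact this
  have hmove : ∃ w ∈ wSub x, t w ≠ w := by
    by_contra hall
    push Not at hall
    obtain ⟨w, hw, hw1⟩ := (Subgroup.bot_or_exists_ne_one (wSub x)).resolve_left fun hb => by
      have := hx.card_wSub hV
      rw [hb, Subgroup.card_bot] at this
      exact absurd this (by norm_num)
    have h1 := htx w
    rw [hall w hw, hall _ (apply_mem_wSub hV hx.odd hw)] at h1
    have h2 : x (x w) = w := by rw [h1, apply_inv_self]
    have h3 : (x ^ 3) w = w := by rw [hx.pow_three, one_apply]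
    rw [pow_succ', sq, mul_apply, mul_apply, h2] at h3
    exact hx.apply_ne hV hw hw1 h3
  obtain ⟨w, hw, htw⟩ := hmove
  have hfixall : ∀ v ∈ fix1 x, t v = v := by
    intro v hv
    by_contra hne
    have h1 : v * t v = w * t w := ht.disp_eq hV hne htw
    have h2 : v * t v ∈ wSub x ⊓ fix1 x :=
      ⟨h1 ▸ mul_mem hw (hW w hw), mul_mem hv (hF v hv)⟩
    rw [wSub_inf_fix1 hV hx.odd, mem_bot] at h2
    exact hne (eq_of_mul_eq_one hV h2).symm
  refine ⟨hfixall, fun v => ?_, hW, w, hw, htw⟩
  by_cases hv : t v = v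
  · rw [hv, hV]; exact one_mem _
  · rw [ht.disp_eq hV hv htw]; exact mul_mem hw (hW w hw)

/-- Two transvections inverting the same small element lie in the same symmetric group of degree three. -/
theorem transvection_mul_mem_zpowers {t s x : MulAut V} (ht : IsTransvection t)
    (hs : IsTransvection s) (hx : IsSmall x) (hti : t * x * t⁻¹ = x⁻¹) (hsi : s * x * s⁻¹ = x⁻¹) :
    s * t ∈ zpowers x := by
  refine mem_zpowers_of_commute hV hx ?_ fun v hv => ?_
  · show s * t * x = x * (s * t)
    have e1 : t * x = x⁻¹ * t := by rw [← hti]; group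
    have e2 : s * x⁻¹ = x * s := by
      have := congrArg (fun z => z⁻¹ * s) hsi
      simpa only [mul_inv_rev, inv_inv, mul_assoc, inv_mul_cancel, mul_one] using this
    rw [mul_assoc, e1, ← mul_assoc, e2, mul_assoc]
  · rw [mul_apply, (transvection_inverts hV ht hx hti).1 v hv,
      (transvection_inverts hV hs hx hsi).1 v hv]

end Cfsg.Agent.LocalEven64.FF
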