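import Mathlib
import Cfsg.Agent.LocalEven64.FFSmall

/-!
# Solvable automorphism groups generated by transvections

`X` is a solvable group of automorphisms of an elementary abelian 2-group with `O₂(X) = 1`.
-/

set_option autoImplicit false
set_option linter.unusedSectionVars false
set_option linter.style.haveILetI false

namespace Cfsg.Agent.LocalEven64.FF

open Subgroup
open scoped commutatorElement

variable {V : Type*} [CommGroup V]

/-- The Fitting subgroup of `X`, inside the automorphism group. -/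
def fitOf (X : Subgroup (MulAut V)) : Subgroup (MulAut V) :=
  (Cfsg.fittingSubgroup ↥X).map X.subtype

/-- The small elements of `O₃(X)`. -/
def smallSet (X : Subgroup (MulAut V)) : Set (MulAut V) :=
  {x | x ∈ Cfsg.pCoreOf 3 X ∧ IsSmall x}

/-- The subgroup generated by the transvections of `X`. -/
def transGen (X : Subgroup (MulAut V)) : Subgroup (MulAut V) :=
  closure {t | t ∈ X ∧ IsTransvection t}

/-- `K` normalizes a subgroup generated by a `K`-invariant set. -/
theorem le_normalizer_closure {M : Type*} [Group M] {K : Subgroup M} {S : Set M}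
    (h : ∀ k ∈ K, ∀ s ∈ S, k * s * k⁻¹ ∈ S) : K ≤ normalizer (closure S : Set M) := by
  refine Coprime.le_normalizer_of_conj_mem fun k hk x hx => ?_
  have : closure S ≤ (closure S).comap (MulAut.conj k).toMonoidHom := by
    rw [closure_le]
    exact fun s hs => subset_closure (h k hk s hs)
  exact this hx

theorem le_normalizer_transGen (X : Subgroup (MulAut V)) :
    X ≤ normalizer (transGen X : Set (MulAut V)) :=
  le_normalizer_closure fun _ hk _ hs => ⟨mul_mem (mul_mem hk hs.1) (inv_mem hk), hs.2.conj _⟩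

theorem le_normalizer_closure_smallSet (X : Subgroup (MulAut V)) :
    X ≤ normalizer (closure (smallSet X) : Set (MulAut V)) :=
  le_normalizer_closure fun k hk s hs =>
    ⟨(mem_normalizer_iff.mp (le_normalizer_pCoreOf X hk) s).mp hs.1, hs.2.conj k⟩

theorem transGen_le (X : Subgroup (MulAut V)) : transGen X ≤ X := by
  rw [transGen, closure_le]
  exact fun t ht => ht.1

variable [Finite V] {X : Subgroup (MulAut V)}

theorem fitOf_le : fitOf X ≤ X := map_subtype_le _

theorem le_normalizer_fitOf : X ≤ normalizer (fitOf X : Set (MulAut V)) := by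
  refine Coprime.le_normalizer_of_conj_mem fun g hg x hx => ?_
  obtain ⟨⟨y, hyX⟩, hy, rfl⟩ := hx
  exact ⟨_, (Fitting.fitting_normal (G := ↥X)).conj_mem _ hy ⟨g, hg⟩, rfl⟩

theorem isNilpotent_fitOf : Group.IsNilpotent (fitOf X) :=
  Fitting.isNilpotent_map _ Fitting.fitting_isNilpotent

/-- A `p`-element of the Fitting subgroup lies in `O_p`. -/
theorem mem_pCoreOf_of_mem_fitOf {p : ℕ} [hp : Fact p.Prime] {x : MulAut V} (hx : x ∈ fitOf X)
    {k : ℕ} (hk : x ^ (p ^ k) = 1) : x ∈ Cfsg.pCoreOf p X := by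
  haveI : Group.IsNilpotent (Cfsg.fittingSubgroup ↥X) := Fitting.fitting_isNilpotent
  obtain ⟨⟨y, hyX⟩, hy, rfl⟩ := hx
  refine mem_map_of_mem _ ?_
  have hpg : IsPGroup p (zpowers (⟨⟨y, hyX⟩, hy⟩ : Cfsg.fittingSubgroup ↥X)) := by
    refine IsPGroup.iff_orderOf.mpr fun g => ?_
    obtain ⟨i, hi⟩ := g.2
    have h1 : g ^ (p ^ k) = 1 := by
      apply Subtype.ext
      rw [SubmonoidClass.coe_pow, OneMemClass.coe_one, ← hi]
      show ((⟨⟨y, hyX⟩, hy⟩ : Cfsg.fittingSubgroup ↥X) ^ i) ^ (p ^ k) = 1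
      rw [← zpow_natCast, ← zpow_mul, mul_comm, zpow_mul, zpow_natCast]
      have h2 : (⟨⟨y, hyX⟩, hy⟩ : Cfsg.fittingSubgroup ↥X) ^ (p ^ k) = 1 :=
        Subtype.ext (Subtype.ext (by simpa using hk))
      rw [h2, one_zpow]
    obtain ⟨j, -, hj⟩ := (Nat.dvd_prime_pow hp.out).mp (orderOf_dvd_of_pow_eq_one h1)
    exact ⟨j, hj⟩
  obtain ⟨P, hP⟩ := hpg.exists_le_sylow
  have : (P : Subgroup (Cfsg.fittingSubgroup ↥X)).Normal := inferInstance
  have := Sylow.characteristic_of_normal P this
  exact Fitting.le_pCore inferInstance (P.isPGroup'.map _)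
    (mem_map_of_mem (Cfsg.fittingSubgroup ↥X).subtype (hP (mem_zpowers _)))

variable (hO : Cfsg.pCoreOf 2 X = ⊥)
include hO

theorem odd_card_fitOf : Odd (Nat.card (fitOf X)) := by
  haveI : Fact (Nat.Prime 2) := ⟨Nat.prime_two⟩
  by_contra h
  rw [Nat.not_odd_iff_even, even_iff_two_dvd] at h
  obtain ⟨⟨x, hx⟩, hx2⟩ := exists_prime_orderOf_dvd_card' 2 h
  rw [Subgroup.orderOf_mk] at hx2
  have h1 := mem_pCoreOf_of_mem_fitOf (p := 2) hx (k := 1)
    (by rw [pow_one, ← hx2, pow_orderOf_eq_one])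
  rw [hO, mem_bot] at h1
  rw [h1, orderOf_one] at hx2
  exact absurd hx2 (by norm_num)

variable (hsol : Group.IsSolvable ↥X)
include hsol

theorem eq_one_of_centralizes_fit {A : Subgroup (MulAut V)} (hA : IsPGroup 2 A) (hAX : A ≤ X)
    {a : MulAut V} (ha : a ∈ A) (hc : a ∈ centralizer (fitOf X : Set (MulAut V))) : a = 1 := by
  haveI := hsol
  have h1 : (⟨a, hAX ha⟩ : ↥X) ∈ Cfsg.fittingSubgroup ↥X := by
    refine Fitting.centralizer_fitting_le (mem_centralizer_iff.mpr fun y hy => Subtype.ext ?_)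
    exact mem_centralizer_iff.mp hc _ (mem_map_of_mem _ hy)
  obtain ⟨k, hk⟩ := hA ⟨a, ha⟩
  have h2 := mem_pCoreOf_of_mem_fitOf (p := 2) (mem_map_of_mem X.subtype h1) (k := k)
    (congrArg Subtype.val hk)
  rw [hO, mem_bot] at h2
  exact h2

variable (hV : ∀ v : V, v * v = 1)
include hV

theorem offender_bound_of_solvable {A : Subgroup (MulAut V)} (hA : IsElementaryAbelian 2 A)
    (hAX : A ≤ X) :
    Nat.card A * Nat.card (fixedBy A) ≤ Nat.card V ∧
      (Nat.card A * Nat.card (fixedBy A) = Nat.card V →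
        A ≤ closure {t | t ∈ A ∧ IsTransvection t}) := by
  haveI : Fact (Nat.Prime 2) := ⟨Nat.prime_two⟩
  exact offender_bound hV (fitOf X) (odd_card_fitOf hO) _ A rfl hA (hAX.trans le_normalizer_fitOf)
    fun a ha hc =>
      eq_one_of_centralizes_fit hO hsol (Thompson.isPGroup_of_isElementaryAbelian hA) hAX ha hc

/-- Every transvection inverts a small element of `O₃(X)`. -/
theorem exists_inverted {t : MulAut V} (htX : t ∈ X) (ht : IsTransvection t) :
    ∃ x ∈ smallSet X, t * x * t⁻¹ = x⁻¹ := by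
  haveI : Fact (Nat.Prime 2) := ⟨Nat.prime_two⟩
  haveI : Fact (Nat.Prime 3) := ⟨Nat.prime_three⟩
  have ht2 : t * t = 1 := ht.mul_self hV
  have htinv : t⁻¹ = t := inv_eq_of_mul_eq_one_right ht2
  have hnc : ¬ t ∈ centralizer (fitOf X : Set (MulAut V)) := fun h => ht.ne_one (by
    have hzp : IsPGroup 2 (zpowers t) := IsPGroup.of_card (n := 1) (by
      rw [Nat.card_zpowers, orderOf_eq_prime (by rw [sq, ht2]) ht.ne_one]; norm_num)
    exact eq_one_of_centralizes_fit hO hsol hzp (zpowers_le.mpr htX) (mem_zpowers t) h)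
  rw [mem_centralizer_iff] at hnc
  push Not at hnc
  obtain ⟨y, hy, hyt⟩ := hnc
  set x := y * t * y⁻¹ * t⁻¹ with hx
  have hxF : x ∈ fitOf X := by
    have h1 := (mem_normalizer_iff.mp (le_normalizer_fitOf htX) y⁻¹).mp (inv_mem hy)
    have := mul_mem hy h1
    simpa [hx, mul_assoc] using this
  have hxinv : t * x * t⁻¹ = x⁻¹ := by
    rw [hx, htinv]
    simp only [mul_inv_rev, inv_inv, htinv, mul_assoc, ht2, mul_one]
  have hx1 : x ≠ 1 := fun h => hyt (by
    have h' : y * t * y⁻¹ * t⁻¹ = 1 := h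
    rw [mul_inv_eq_one, mul_inv_eq_iff_eq_mul] at h'
    exact h')
  have hxodd : Odd (orderOf x) := (odd_card_fitOf hO).of_dvd_nat (orderOf_dvd_natCard _ hxF)
  have hs := isSmall_of_inverted hV ht hxodd hx1 hxinv
  exact ⟨x, ⟨mem_pCoreOf_of_mem_fitOf (k := 1) hxF (by rw [pow_one]; exact hs.pow_three), hs⟩, hxinv⟩

omit hO hsol in
theorem smallSet_commute {x y : MulAut V} (hx : x ∈ smallSet X) (hy : y ∈ smallSet X) :
    Commute x y :=
  small_commute hV (isPGroup_pCoreOf (p := 3) X) hx.1 hy.1 hx.2 hy.2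

omit hO hsol in
theorem smallSet_conj {g x : MulAut V} (hg : g ∈ X) (hx : x ∈ smallSet X) :
    g * x * g⁻¹ ∈ smallSet X :=
  ⟨(mem_normalizer_iff.mp (le_normalizer_pCoreOf X hg) x).mp hx.1, hx.2.conj g⟩

omit hO hsol in
theorem trans_conj_small {t x : MulAut V} (htX : t ∈ X) (ht : IsTransvection t)
    (hx : x ∈ smallSet X) : t * x * t⁻¹ = x ∨ t * x * t⁻¹ = x⁻¹ :=
  conj_eq_or hV hx.2 (transvection_conj_mem_zpowers hV ht hx.2
    (smallSet_commute hV (smallSet_conj hV htX hx) hx))

omit hO hsol in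
/-- A transvection inverts only one of the groups generated by small elements. -/
theorem inverted_unique {t x y : MulAut V} (ht : IsTransvection t) (hx : x ∈ smallSet X)
    (hy : y ∈ smallSet X) (htx : t * x * t⁻¹ = x⁻¹) (hty : t * y * t⁻¹ = y⁻¹) : y ∈ zpowers x := by
  rcases small_cases hV hx.2 hy.2 (smallSet_commute hV hy hx) with h | ⟨-, hdis⟩
  · exact h
  obtain ⟨-, -, hWx, w, hw, htw⟩ := transvection_inverts hV ht hx.2 htx
  obtain ⟨-, -, hWy, u, hu, htu⟩ := transvection_inverts hV ht hy.2 hty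
  have h1 : w * t w ∈ wSub x ⊓ wSub y :=
    ⟨mul_mem hw (hWx w hw), ht.disp_eq hV htu htw ▸ mul_mem hu (hWy u hu)⟩
  rw [hdis, mem_bot] at h1
  exact absurd (eq_of_mul_eq_one hV h1).symm htw

omit hO hsol in
/-- The commutator of two transvections lies in the group of each small element the second inverts. -/
theorem trans_commutator {t s x : MulAut V} (htX : t ∈ X) (ht : IsTransvection t) (hsX : s ∈ X)
    (hs : IsTransvection s) (hx : x ∈ smallSet X) (htx : t * x * t⁻¹ = x⁻¹)
    (hsy : ∃ y ∈ smallSet X, s * y * s⁻¹ = y⁻¹) : ⁅s, t⁆ ∈ zpowers x := by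
  have hs2 : s⁻¹ = s := inv_eq_of_mul_eq_one_right (hs.mul_self hV)
  have ht2 : t⁻¹ = t := inv_eq_of_mul_eq_one_right (ht.mul_self hV)
  rcases trans_conj_small hV hsX hs hx with hsx | hsx
  · -- `s` centralizes `x`, so the two transvections commute
    obtain ⟨y, hy, hsy⟩ := hsy
    have hdis : wSub x ⊓ wSub y = ⊥ ∧ (∀ w ∈ wSub x, y w = w) := by
      rcases small_cases hV hx.2 hy.2 (smallSet_commute hV hy hx) with h | ⟨h1, h2⟩
      · exfalso
        obtain ⟨i, rfl⟩ := h
        have h3 : s * x ^ i * s⁻¹ = x ^ i := by rw [← conj_zpow, hsx]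
        have h4 : (x ^ i)⁻¹ = x ^ i := hsy.symm.trans h3
        have h5 : (x ^ i) ^ 2 = 1 := by
          rw [sq]; nth_rw 1 [← h4]; exact inv_mul_cancel _
        have h6 := hy.2.pow_three
        rw [pow_succ, h5, one_mul] at h6
        exact hy.2.ne_one h6
      · exact ⟨h2, h1⟩
    obtain ⟨-, htd, htW, w₀, hw₀, htw₀⟩ := transvection_inverts hV ht hx.2 htx
    obtain ⟨hsf, hsd, hsW, u₀, hu₀, hsu₀⟩ := transvection_inverts hV hs hy.2 hsy
    have hty : t * y * t⁻¹ = y := by
      refine (trans_conj_small hV htX ht hy).resolve_right fun h => ?_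
      have h2 : y ∈ zpowers x := inverted_unique hV ht hx hy htx h
      obtain ⟨i, rfl⟩ := h2
      obtain ⟨z, hz, hz1⟩ := (Subgroup.bot_or_exists_ne_one (wSub x)).resolve_left fun hb => by
        have := hx.2.card_wSub hV
        rw [hb, Subgroup.card_bot] at this
        exact absurd this (by norm_num)
      exact hy.2.ne_one (eq_of_eq_on hV hx.2.odd
        (fun v hv => zpowers_apply_eq (show x v = v from hv) (zpow_mem (mem_zpowers x) i))
        (fun v hv => hdis.2 v hv))
    have hs1 : s (w₀ * t w₀) = w₀ * t w₀ := by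
      refine hsf _ ?_
      exact hdis.2 _ (mul_mem hw₀ (htW w₀ hw₀))
    have ht1 : t (u₀ * s u₀) = u₀ * s u₀ := by
      by_contra hne
      have h2 : u₀ * s u₀ ∈ wSub y := mul_mem hu₀ (hsW u₀ hu₀)
      have h3 := ht.disp_eq hV hne htw₀
      have h4 : u₀ * s u₀ * t (u₀ * s u₀) ∈ wSub x ⊓ wSub y := by
        refine ⟨h3 ▸ mul_mem hw₀ (htW w₀ hw₀), mul_mem h2 ?_⟩
        show t (u₀ * s u₀) ∈ wSub y
        have hcomm : Commute t y := by
          show t * y = y * t
          have := congrArg (· * t) hty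
          simpa [mul_assoc] using this
        rw [mem_wSub, normMap_comm hcomm, mem_wSub.mp h2, map_one]
      rw [hdis.1, mem_bot] at h4
      exact hne (eq_of_mul_eq_one hV h4).symm
    have hcomm : s * t = t * s := by
      refine MulEquiv.ext fun v => ?_
      rw [mul_apply, mul_apply]
      by_cases htv : t v = v
      · rw [htv]
        by_cases hsv : s v = v
        · rw [hsv, htv]
        · have e := hs.disp_eq hV hsv hsu₀
          have e' : s v = v * (u₀ * s u₀) := by rw [← e, mul_mul_cancel_self hV]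
          rw [e', map_mul, htv, ht1]
      · have et := ht.disp_eq hV htv htw₀
        have et' : t v = v * (w₀ * t w₀) := by rw [← et, mul_mul_cancel_self hV]
        by_cases hsv : s v = v
        · rw [hsv, et', map_mul, hsv, hs1]
        · have e := hs.disp_eq hV hsv hsu₀
          have e' : s v = v * (u₀ * s u₀) := by rw [← e, mul_mul_cancel_self hV]
          rw [et', map_mul, hs1, e', map_mul, ht1, et', mul_right_comm]
    rw [commutatorElement_eq_one_iff_mul_comm.mpr hcomm]
    exact one_mem _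
  · have h1 := transvection_mul_mem_zpowers hV ht hs hx.2 htx hsx
    rw [commutatorElement_def, hs2, ht2, mul_assoc]
    exact mul_mem h1 h1

/-- Squares of elements of the transvection group lie in the abelian group generated by the small
elements. -/
theorem sq_mem_closure_smallSet {g : MulAut V} (hg : g ∈ transGen X) :
    g * g ∈ closure (smallSet X) := by
  set N := closure (smallSet X) with hN
  haveI hn : (N.subgroupOf X).Normal := by
    have hNX : N ≤ X := by
      rw [hN, closure_le]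
      exact fun x hx => pCoreOf_le X hx.1
    rw [normal_subgroupOf_iff_le_normalizer hNX]
    exact le_normalizer_closure_smallSet X
  set π := QuotientGroup.mk' (N.subgroupOf X)
  let S : Set (↥X ⧸ N.subgroupOf X) := π '' {t | IsTransvection (t : MulAut V)}
  have hS : ∀ a ∈ S, ∀ b ∈ S, a * b = b * a := by
    rintro _ ⟨⟨s, hsX⟩, hs, rfl⟩ _ ⟨⟨t, htX⟩, ht, rfl⟩
    obtain ⟨x, hx, htx⟩ := exists_inverted hO hsol hV htX ht
    have hmem : π ⁅(⟨s, hsX⟩ : X), ⟨t, htX⟩⁆ = 1 := by
      rw [QuotientGroup.mk'_apply, QuotientGroup.eq_one_iff, mem_subgroupOf]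
      have := trans_commutator hV htX ht hsX hs hx htx (exists_inverted hO hsol hV hsX hs)
      exact (zpowers_le.mpr (subset_closure hx)) this
    rw [map_commutatorElement, commutatorElement_eq_one_iff_mul_comm] at hmem
    exact hmem
  have hS2 : ∀ a ∈ S, a ^ 2 = 1 := by
    rintro _ ⟨⟨s, hsX⟩, hs, rfl⟩
    rw [← map_pow, show (⟨s, hsX⟩ : X) ^ 2 = 1 from
      Subtype.ext (by rw [SubmonoidClass.coe_pow, sq]; exact hs.mul_self hV), map_one]
  have hE := Thompson.isElementaryAbelian_closure (p := 2) hS hS2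
  have hle : transGen X ≤ (Subgroup.comap π (closure S)).map X.subtype := by
    rw [transGen, closure_le]
    rintro t ⟨htX, ht⟩
    exact ⟨⟨t, htX⟩, subset_closure ⟨⟨t, htX⟩, ht, rfl⟩, rfl⟩
  obtain ⟨⟨g', hgX⟩, hgS, rfl⟩ := hle hg
  have h1 := hE.2 _ hgS
  rw [← map_pow, QuotientGroup.mk'_apply, QuotientGroup.eq_one_iff, mem_subgroupOf,
    SubmonoidClass.coe_pow, sq] at h1
  exact h1

omit hO hsol in
theorem closure_smallSet_pow_three {g : MulAut V} (hg : g ∈ closure (smallSet X)) : g ^ 3 = 1 :=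
  (Thompson.isElementaryAbelian_closure (p := 3) (fun _ hx _ hy => (smallSet_commute hV hx hy).eq)
    (fun _ hx => hx.2.pow_three)).2 g hg

/-- An element of odd order of the transvection group lies in the group generated by the small elements. -/
theorem mem_closure_smallSet_of_odd {g : MulAut V} (hg : g ∈ transGen X) (ho : Odd (orderOf g)) :
    g ∈ closure (smallSet X) := by
  have h2 : g * g ∈ closure (smallSet X) := sq_mem_closure_smallSet hO hsol hV hg
  obtain ⟨k, hk⟩ := ho
  have : g = (g * g) ^ (k + 1) := by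
    rw [← sq, ← pow_mul, show 2 * (k + 1) = (2 * k + 1) + 1 by ring, pow_succ, ← hk,
      pow_orderOf_eq_one, one_mul]
  exact this ▸ pow_mem h2 (k + 1)

end Cfsg.Agent.LocalEven64.FF
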