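import Cfsg.Agent.LocalEven64.SylowControl
import Cfsg.Prelude.Def_SylowChains

/-!
# Families induced by a normalizer-respecting assignment
-/

set_option autoImplicit false

namespace Cfsg.Agent.LocalEven64

open Subgroup

variable {G : Type*} [Group G] {p : ℕ}

/-- `c` is a Sylow `p`-subgroup of `M`, both subgroups of `G`. -/
def IsSylowIn (p : ℕ) (c M : Subgroup G) : Prop :=
  ∃ Q : Sylow p ↥M, (Q : Subgroup ↥M).map M.subtype = c

theorem IsSylowIn.le {c M : Subgroup G} (h : IsSylowIn p c M) : c ≤ M := by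
  obtain ⟨Q, rfl⟩ := h; exact map_subtype_le _

theorem IsSylowIn.isPGroup {c M : Subgroup G} (h : IsSylowIn p c M) : IsPGroup p c := by
  obtain ⟨Q, rfl⟩ := h; exact Q.isPGroup'.map _

theorem IsSylowIn.eq_of_le {c M P : Subgroup G} (h : IsSylowIn p c M) (hP : IsPGroup p P)
    (hPM : P ≤ M) (hcP : c ≤ P) : P = c := by
  obtain ⟨Q, rfl⟩ := h
  have h1 : P.subgroupOf M = (Q : Subgroup ↥M) :=
    Q.is_maximal' hP.comap_subtype fun x hx => hcP ⟨x, hx, rfl⟩
  rw [← h1, map_subgroupOf_eq_of_le hPM]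

theorem exists_isSylowIn_ge {H M : Subgroup G} (hH : IsPGroup p H) (hHM : H ≤ M) :
    ∃ c, IsSylowIn p c M ∧ H ≤ c := by
  obtain ⟨Q, hQ⟩ := (hH.comap_subtype (K := M)).exists_le_sylow
  exact ⟨_, ⟨Q, rfl⟩, fun x hx => ⟨⟨x, hHM hx⟩, hQ hx, rfl⟩⟩

theorem IsSylowIn.inf_eq {c M : Subgroup G} (h : IsSylowIn p c M) {T : Sylow p G}
    (hT : c ≤ (T : Subgroup G)) : (T : Subgroup G) ⊓ M = c :=
  h.eq_of_le (T.isPGroup'.to_le inf_le_left) inf_le_right (le_inf hT h.le)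

section Finite

variable [Finite G] [Fact p.Prime]

theorem IsSylowIn.card_eq {c c' M : Subgroup G} (h : IsSylowIn p c M) (h' : IsSylowIn p c' M) :
    Nat.card c = Nat.card c' := by
  obtain ⟨Q, rfl⟩ := h
  obtain ⟨Q', rfl⟩ := h'
  rw [card_map_of_injective M.subtype_injective, card_map_of_injective M.subtype_injective,
    Q.card_eq_multiplicity, Q'.card_eq_multiplicity]

theorem IsSylowIn.card_le {c M P : Subgroup G} (h : IsSylowIn p c M) (hP : IsPGroup p P)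
    (hPM : P ≤ M) : Nat.card P ≤ Nat.card c := by
  obtain ⟨d, hd, hle⟩ := exists_isSylowIn_ge hP hPM
  exact (card_le_of_le hle).trans (h.card_eq hd).ge

theorem IsSylowIn.exists_conjR_eq {c c' M : Subgroup G} (h : IsSylowIn p c M)
    (h' : IsSylowIn p c' M) : ∃ m ∈ M, Cfsg.subgroupConjRight m c = c' := by
  obtain ⟨Q, rfl⟩ := h
  obtain ⟨Q', rfl⟩ := h'
  obtain ⟨m, hm⟩ := LocalEven64.exists_conjR_eq Q Q'
  refine ⟨m, m.2, ?_⟩
  rw [← hm, coe_sylowConjR]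
  ext x
  rw [mem_conjR]
  constructor
  · rintro ⟨y, hy, hxy⟩
    have hx : x ∈ M := by
      have hxy' : (m : G) * x * (m : G)⁻¹ = (y : G) := hxy.symm
      rw [show x = (m : G)⁻¹ * ((m : G) * x * (m : G)⁻¹) * (m : G) by group, hxy']
      exact mul_mem (mul_mem (inv_mem m.2) y.2) m.2
    refine ⟨⟨x, hx⟩, mem_conjR.mpr ?_, rfl⟩
    have e : m * ⟨x, hx⟩ * m⁻¹ = y := Subtype.ext hxy.symm
    rw [e]; exact hy
  · rintro ⟨z, hz, rfl⟩
    exact ⟨m * z * m⁻¹, mem_conjR.mp hz, rfl⟩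

/-- A `p`-subgroup as large as a Sylow subgroup is one. -/
theorem exists_sylow_eq_of_card {c : Subgroup G} (hc : IsPGroup p c) (S : Sylow p G)
    (h : Nat.card (S : Subgroup G) ≤ Nat.card c) : ∃ T : Sylow p G, (T : Subgroup G) = c := by
  obtain ⟨T, hT⟩ := hc.exists_le_sylow
  refine ⟨T, (Subgroup.eq_of_le_of_card_ge hT ?_).symm⟩
  rw [T.card_eq_multiplicity, ← S.card_eq_multiplicity]; exact h

theorem mem_sylowMembers_of_isSylowIn {𝓕 : Set (Subgroup G)} {X : Subgroup G} (hX : X ∈ 𝓕)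
    {c : Subgroup G} (h : IsSylowIn p c X) {T : Sylow p G} (hT : c ≤ (T : Subgroup G)) :
    X ∈ Cfsg.sylowMembers p 𝓕 (T : Subgroup G) := by
  refine ⟨hX, ?_⟩
  rw [h.inf_eq hT]
  exact h

theorem mem_sylowMembers_of_sylow_le {𝓕 : Set (Subgroup G)} {X : Subgroup G} (hX : X ∈ 𝓕)
    {T : Sylow p G} (hT : (T : Subgroup G) ≤ X) : X ∈ Cfsg.sylowMembers p 𝓕 (T : Subgroup G) :=
  mem_sylowMembers_of_isSylowIn hX ⟨T.subtype hT, by
    rw [Sylow.coe_subtype, map_subgroupOf_eq_of_le hT]⟩ le_rfl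

theorem normalizer_mem_functorFamily_top (f : Subgroup G → Set (Subgroup G)) (R : Sylow p G)
    {F : Subgroup G} (hF : F ∈ f (R : Subgroup G)) :
    normalizer (F : Set G) ∈ Cfsg.functorFamily p f ⊤ := by
  refine ⟨R.subtype le_top, F, ?_, (top_inf_eq _).symm⟩
  rw [Sylow.coe_subtype, map_subgroupOf_eq_of_le le_top]
  exact hF

/-- The links of a regular subgroup `M`, seen in `G`. -/
theorem exists_links_of_regular {f : Subgroup G → Set (Subgroup G)} (hf : Cfsg.IsNormalizerFunctor p f)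
    {M : Subgroup G} (hM : Cfsg.IsFunctorRegular p f M) {c c' D : Subgroup G}
    (hc : IsSylowIn p c M) (hc' : IsSylowIn p c' M) (hD : D ≤ c ⊓ c') (hD1 : D ≠ ⊥)
    {P : Subgroup G → Prop} (h0 : P c)
    (hstep : ∀ b d F R : Subgroup G, P b → IsSylowIn p b M → IsSylowIn p d M → IsSylowIn p R M →
      F ∈ f R → b ≤ normalizer (F : Set G) → d ≤ normalizer (F : Set G) →
      ∀ x ∈ M ⊓ normalizer (F : Set G), Cfsg.subgroupConjRight x d = b → D ≤ b → D ≤ d → P d) :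
    P c' := by
  obtain ⟨Q, rfl⟩ := hc
  obtain ⟨Q', rfl⟩ := hc'
  have hne : (Q : Subgroup ↥M) ⊓ (Q' : Subgroup ↥M) ≠ ⊥ := by
    intro hb
    apply hD1
    rw [eq_bot_iff]
    refine hD.trans ?_
    rw [← Subgroup.map_inf _ _ _ M.subtype_injective, hb, Subgroup.map_bot]
  have hl := controls_linked hM Q Q' hne
  have hD' : D ≤ ((Q : Subgroup ↥M) ⊓ (Q' : Subgroup ↥M)).map M.subtype := by
    rw [Subgroup.map_inf _ _ _ M.subtype_injective]; exact hD
  suffices P ((Q' : Subgroup ↥M).map M.subtype) ∧ D ≤ (Q' : Subgroup ↥M).map M.subtype from this.1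
  have hDQ : D ≤ (Q : Subgroup ↥M).map M.subtype := hD.trans inf_le_left
  generalize (Q : Subgroup ↥M) ⊓ (Q' : Subgroup ↥M) = I at hl hD'
  clear hne hD
  induction hl with
  | refl => exact ⟨h0, hDQ⟩
  | @tail b d _ hbd ih =>
    obtain ⟨X', x, hx, h1, h2, h3, h4⟩ := hbd
    obtain ⟨⟨X, ⟨R, F, hF, rfl⟩, rfl⟩, hP1⟩ := h1
    obtain ⟨-, hP2⟩ := h2
    have hDd : D ≤ (d : Subgroup ↥M).map M.subtype := by
      exact hD'.trans (Subgroup.map_mono (h4.trans inf_le_left))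
    refine ⟨?_, hDd⟩
    have hRX : (R : Subgroup ↥M) ≤ (M ⊓ normalizer (F : Set G)).subgroupOf M := fun r hr =>
      ⟨r.2, ((hf _ (R.isPGroup'.map _)).1 F hF).2 (le_normalizer ⟨r, hr, rfl⟩)⟩
    have hle : ∀ e : Sylow p ↥M,
        (∃ P : Sylow p ↥((M ⊓ normalizer (F : Set G)).subgroupOf M),
          (P : Subgroup _).map ((M ⊓ normalizer (F : Set G)).subgroupOf M).subtype =
            (e : Subgroup ↥M) ⊓ (M ⊓ normalizer (F : Set G)).subgroupOf M) →
        (e : Subgroup ↥M) ≤ (M ⊓ normalizer (F : Set G)).subgroupOf M := by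
      rintro e he
      obtain ⟨U, hU⟩ := he
      have h5 : Nat.card R ≤ Nat.card ↥((e : Subgroup ↥M) ⊓ (M ⊓ normalizer (F : Set G)).subgroupOf M) :=
        IsSylowIn.card_le (p := p) ⟨U, hU⟩ R.isPGroup' hRX
      have h6 := Subgroup.eq_of_le_of_card_ge
        (inf_le_left : (e : Subgroup ↥M) ⊓ (M ⊓ normalizer (F : Set G)).subgroupOf M ≤ e)
        (by rw [e.card_eq_multiplicity, ← R.card_eq_multiplicity]; exact h5)
      exact inf_eq_left.mp h6
    have hlb : (b : Subgroup ↥M).map M.subtype ≤ normalizer (F : Set G) := by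
      rintro _ ⟨r, hr, rfl⟩; exact (hle b hP1 hr).2
    have hld : (d : Subgroup ↥M).map M.subtype ≤ normalizer (F : Set G) := by
      rintro _ ⟨r, hr, rfl⟩; exact (hle d hP2 hr).2
    refine hstep _ _ F _ ih.1 ⟨b, rfl⟩ ⟨d, rfl⟩ ⟨R, rfl⟩ hF hlb hld x ⟨x.2, hx.2⟩ ?_ ih.2 hDd
    rw [← h3, coe_sylowConjR]
    ext z
    rw [mem_conjR]
    constructor
    · rintro ⟨w, hw, hwz⟩
      refine ⟨x⁻¹ * w * x, mem_conjR.mpr ?_, ?_⟩
      · rw [show x * (x⁻¹ * w * x) * x⁻¹ = w by group]; exact hw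
      calc ((x⁻¹ * w * x : ↥M) : G) = (x : G)⁻¹ * (w : G) * (x : G) := rfl
        _ = z := by rw [show (w : G) = (x : G) * z * (x : G)⁻¹ from hwz]; group
    · rintro ⟨w, hw, rfl⟩
      exact ⟨x * w * x⁻¹, mem_conjR.mp hw, rfl⟩

end Finite

end Cfsg.Agent.LocalEven64
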