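import Mathlib
import Cfsg.Prelude.Def_JComponents
import Cfsg.Agent.LocalEven64.CharP
import Cfsg.Agent.LocalEven64.FunctorRegular
import Cfsg.Agent.Lib.Thompson.Replacement
import Cfsg.Agent.Lib.Thompson.JSubgroup
import Cfsg.Agent.Lib.Coprime.Action

/-!
# Basic facts about the Thompson subgroup and `J(T)`-components
-/

set_option autoImplicit false
set_option linter.unusedSectionVars false
set_option linter.style.haveILetI false

namespace Cfsg.Agent.LocalEven64

open Subgroup Cfsg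
open scoped commutatorElement Pointwise

variable {G : Type*} [Group G]

/-- Conjugation by `g`, as a homomorphism. -/
abbrev cj (g : G) : G →* G := (MulAut.conj g).toMonoidHom

theorem cj_injective (g : G) : Function.Injective (cj g) := (MulAut.conj g).injective

theorem cj_apply (g x : G) : cj g x = g * x * g⁻¹ := rfl

theorem map_cj_map_cj (g h : G) (H : Subgroup G) :
    (H.map (cj h)).map (cj g) = H.map (cj (g * h)) := by
  rw [Subgroup.map_map]
  congr 1
  refine MonoidHom.ext fun x => ?_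
  simp [cj, mul_assoc]

theorem map_cj_one (H : Subgroup G) : H.map (cj 1) = H := by
  ext x; simp [cj]

theorem map_cj_inv_cancel (g : G) (H : Subgroup G) : (H.map (cj g)).map (cj g⁻¹) = H := by
  rw [map_cj_map_cj, inv_mul_cancel, map_cj_one]

theorem map_cj_cancel_inv (g : G) (H : Subgroup G) : (H.map (cj g⁻¹)).map (cj g) = H := by
  rw [map_cj_map_cj, mul_inv_cancel, map_cj_one]

theorem map_cj_eq_self_iff {g : G} {H : Subgroup G} :
    H.map (cj g) = H ↔ g ∈ normalizer (H : Set G) := by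
  rw [mem_normalizer_iff]
  constructor
  · intro h x
    constructor
    · intro hx; rw [← h]; exact ⟨x, hx, rfl⟩
    · intro hx
      rw [← h] at hx
      obtain ⟨y, hy, hxy⟩ := hx
      exact cj_injective g hxy ▸ hy
  · intro h
    ext x
    constructor
    · rintro ⟨y, hy, rfl⟩; exact (h y).mp hy
    · intro hx
      exact ⟨g⁻¹ * x * g, (h _).mpr (by simpa [mul_assoc] using hx), by simp [cj, mul_assoc]⟩

theorem map_cj_eq_self_of_mem {g : G} {H : Subgroup G} (hg : g ∈ H) : H.map (cj g) = H :=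
  map_cj_eq_self_iff.mpr (le_normalizer hg)

/-! ### Equivariance -/

section Map

variable {G' : Type*} [Group G'] {f : G →* G'} (hf : Function.Injective f)
include hf

theorem map_self_centralizer (H : Subgroup G) :
    (H ⊓ centralizer (H : Set G)).map f = H.map f ⊓ centralizer (H.map f : Set G') := by
  ext y
  constructor
  · rintro ⟨x, ⟨hx, hxc⟩, rfl⟩
    refine ⟨mem_map_of_mem f hx, mem_centralizer_iff.mpr ?_⟩
    rintro _ ⟨z, hz, rfl⟩
    rw [← map_mul, ← map_mul, mem_centralizer_iff.mp hxc z hz]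
  · rintro ⟨⟨x, hx, rfl⟩, hc⟩
    refine ⟨x, ⟨hx, mem_centralizer_iff.mpr fun z hz => hf ?_⟩, rfl⟩
    rw [map_mul, map_mul]
    exact mem_centralizer_iff.mp hc _ (mem_map_of_mem f hz)

theorem omegaCenterOf_map (H : Subgroup G) :
    (omegaCenterOf H).map f = omegaCenterOf (H.map f) := by
  rw [omegaCenterOf, omegaCenterOf, Thompson.map_omegaOne f _ hf.injOn, map_self_centralizer hf]

theorem pCoreOf_map (p : ℕ) (H : Subgroup G) : (pCoreOf p H).map f = pCoreOf p (H.map f) := by
  rw [pCoreOf, pCoreOf, ← Thompson.map_pCore_equiv (H.equivMapOfInjective f hf), Subgroup.map_map,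
    Subgroup.map_map]
  rfl

theorem wOf_map (H : Subgroup G) : (wOf H).map f = wOf (H.map f) := by
  rw [wOf, wOf, map_commutator, omegaCenterOf_map hf, pCoreOf_map hf]

theorem isSylowTwoIn_map {T L : Subgroup G} (h : IsSylowTwoIn T L) :
    IsSylowTwoIn (T.map f) (L.map f) :=
  ⟨Subgroup.map_mono h.1, h.2.1.map f, by rw [relIndex_map_map_of_injective _ _ hf]; exact h.2.2⟩

end Map

theorem normalizer_le_normalizer_wOf (H : Subgroup G) :
    normalizer (H : Set G) ≤ normalizer (wOf H : Set G) := fun g hg => by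
  rw [← map_cj_eq_self_iff, wOf_map (cj_injective g), map_cj_eq_self_iff.mpr hg]

theorem normalizer_le_normalizer_omegaCenterOf (H : Subgroup G) :
    normalizer (H : Set G) ≤ normalizer (omegaCenterOf H : Set G) := fun g hg => by
  rw [← map_cj_eq_self_iff, omegaCenterOf_map (cj_injective g), map_cj_eq_self_iff.mpr hg]

theorem omegaCenterOf_le (H : Subgroup G) : omegaCenterOf H ≤ H :=
  (Thompson.omegaOne_le _ _).trans inf_le_left

theorem omegaCenterOf_le_centralizer (H : Subgroup G) : omegaCenterOf H ≤ centralizer (H : Set G) :=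
  (Thompson.omegaOne_le _ _).trans inf_le_right

theorem mem_omegaCenterOf {H : Subgroup G} {x : G} (hx : x ∈ H)
    (hc : x ∈ centralizer (H : Set G)) (h2 : x * x = 1) : x ∈ omegaCenterOf H :=
  Thompson.mem_omegaOne ⟨hx, hc⟩ (by rw [sq, h2])

theorem isElementaryAbelian_omegaCenterOf (H : Subgroup G) :
    IsElementaryAbelian 2 (omegaCenterOf H) :=
  Thompson.isElementaryAbelian_omegaOne
    ⟨⟨fun a b => Subtype.ext (mem_centralizer_iff.mp b.2.2 a a.2.1)⟩⟩

theorem mul_self_of_mem_omegaCenterOf {H : Subgroup G} {x : G} (hx : x ∈ omegaCenterOf H) :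
    x * x = 1 := by rw [← sq]; exact (isElementaryAbelian_omegaCenterOf H).2 x hx

theorem wOf_le_omegaCenterOf (K : Subgroup G) : wOf K ≤ omegaCenterOf (pCoreOf 2 K) :=
  commutator_le_left_of_le_normalizer ((le_normalizer_pCoreOf K).trans
    (normalizer_le_normalizer_omegaCenterOf _))
where
  /-- `[A, B] ≤ A` when `B` normalizes `A`. -/
  commutator_le_left_of_le_normalizer {A B : Subgroup G} (h : B ≤ normalizer (A : Set G)) :
      ⁅A, B⁆ ≤ A := Subgroup.le_normalizer_iff_commutator_le_left.mp h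

/-! ### Sylow 2-subgroups of a subgroup -/

variable [Finite G]

theorem isSylowTwoIn_iff {T L : Subgroup G} : IsSylowTwoIn T L ↔ IsSylowIn 2 T L := by
  haveI : Fact (Nat.Prime 2) := ⟨Nat.prime_two⟩
  rw [IsSylowTwoIn, IsSylowIn, exists_sylow_map_iff, ← Nat.not_even_iff_odd, even_iff_two_dvd]

theorem exists_isSylowTwoIn_ge {H L : Subgroup G} (hH : IsPGroup 2 H) (hHL : H ≤ L) :
    ∃ T, IsSylowTwoIn T L ∧ H ≤ T := by
  obtain ⟨c, hc, hle⟩ := exists_isSylowIn_ge hH hHL
  exact ⟨c, isSylowTwoIn_iff.mpr hc, hle⟩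

theorem sylowTwoIn_eq_of_le {T P L : Subgroup G} (h : IsSylowTwoIn T L) (hP : IsPGroup 2 P)
    (hPL : P ≤ L) (hTP : T ≤ P) : P = T :=
  (isSylowTwoIn_iff.mp h).eq_of_le hP hPL hTP

theorem sylowTwoIn_card_eq {T T' L : Subgroup G} (h : IsSylowTwoIn T L) (h' : IsSylowTwoIn T' L) :
    Nat.card T = Nat.card T' := by
  haveI : Fact (Nat.Prime 2) := ⟨Nat.prime_two⟩
  exact (isSylowTwoIn_iff.mp h).card_eq (isSylowTwoIn_iff.mp h')

theorem sylowTwoIn_conj {T T' L : Subgroup G} (h : IsSylowTwoIn T L) (h' : IsSylowTwoIn T' L) :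
    ∃ g ∈ L, T.map (cj g) = T' := by
  haveI : Fact (Nat.Prime 2) := ⟨Nat.prime_two⟩
  obtain ⟨m, hm, hmT⟩ := (isSylowTwoIn_iff.mp h).exists_conjR_eq (isSylowTwoIn_iff.mp h')
  exact ⟨m⁻¹, inv_mem hm, hmT⟩

theorem sylowTwoIn_conj_of_mem {T L : Subgroup G} (h : IsSylowTwoIn T L) {g : G} (hg : g ∈ L) :
    IsSylowTwoIn (T.map (cj g)) L := by
  have := isSylowTwoIn_map (cj_injective g) h
  rwa [map_cj_eq_self_of_mem hg] at this

theorem isSylowTwoIn_sylow (S : Sylow 2 G) {M : Subgroup G} (h : (S : Subgroup G) ≤ M) :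
    IsSylowTwoIn (S : Subgroup G) M :=
  isSylowTwoIn_iff.mpr ⟨S.subtype h, by rw [Sylow.coe_subtype, map_subgroupOf_eq_of_le h]⟩

theorem pCoreOf_le_sylowTwoIn {T L : Subgroup G} (h : IsSylowTwoIn T L) : pCoreOf 2 L ≤ T := by
  obtain ⟨Q, hQ⟩ := isSylowTwoIn_iff.mp h
  rw [← hQ]
  exact Subgroup.map_mono (Thompson.pCore_le_sylow Q)

/-! ### The Thompson subgroup -/

theorem maxElemAbelianOrder_eq {A T : Subgroup G} (hA : Thompson.IsMaxEAIn 2 A T) :
    maxElemAbelianOrder T = Nat.card A := by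
  have h : ((fun B : Subgroup ↥T => Nat.card ↥B) '' maxElementaryAbelianSubgroups 2 ↥T) =
      {Nat.card A} := by
    ext n
    constructor
    · rintro ⟨B, hB, rfl⟩
      show Nat.card B = Nat.card A
      rw [Thompson.maxElementaryAbelian_card_eq hB hA.subgroupOf_mem, Thompson.card_subgroupOf_of_le hA.1]
    · rintro rfl
      exact ⟨_, hA.subgroupOf_mem, Thompson.card_subgroupOf_of_le hA.1⟩
  rw [maxElemAbelianOrder, h, csSup_singleton]

theorem maxElemAbelianOrder_map {G' : Type*} [Group G'] [Finite G'] (T : Subgroup G) (g : G) :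
    maxElemAbelianOrder (T.map (cj g)) = maxElemAbelianOrder T := by
  obtain ⟨A, hA⟩ := Thompson.exists_isMaxEAIn 2 T
  rw [maxElemAbelianOrder_eq (Thompson.isMaxEAIn_smul hA g), maxElemAbelianOrder_eq hA,
    Subgroup.card_map_of_injective (cj_injective g)]

theorem card_le_maxElemAbelianOrder {B T : Subgroup G} (hB : B ≤ T)
    (hBe : IsElementaryAbelian 2 B) : Nat.card B ≤ maxElemAbelianOrder T := by
  obtain ⟨A, hA⟩ := Thompson.exists_isMaxEAIn 2 T
  rw [maxElemAbelianOrder_eq hA]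
  exact hA.2.2 B hB hBe

theorem maxElemAbelianOrder_le_of_le {T S : Subgroup G} (h : thompsonSubgroupOf 2 T ≤ S) :
    maxElemAbelianOrder T ≤ maxElemAbelianOrder S := by
  obtain ⟨A, hA⟩ := Thompson.exists_isMaxEAIn 2 T
  rw [maxElemAbelianOrder_eq hA]
  exact card_le_maxElemAbelianOrder ((Thompson.le_thompsonSubgroupOf hA).trans h) hA.2.1

theorem thompson_le_of_order_eq {T S : Subgroup G} (h : thompsonSubgroupOf 2 T ≤ S)
    (he : maxElemAbelianOrder T = maxElemAbelianOrder S) :
    thompsonSubgroupOf 2 T ≤ thompsonSubgroupOf 2 S := by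
  rw [Thompson.thompsonSubgroupOf_eq T]
  refine sSup_le fun A hA => Thompson.le_thompsonSubgroupOf
    ⟨(Thompson.le_thompsonSubgroupOf hA).trans h, hA.2.1, fun B hB hBe => ?_⟩
  rw [← maxElemAbelianOrder_eq hA, he]
  exact card_le_maxElemAbelianOrder hB hBe

theorem maxElemAbelianOrder_of_thompson_eq {T S : Subgroup G}
    (h : thompsonSubgroupOf 2 S = thompsonSubgroupOf 2 T) :
    maxElemAbelianOrder S = maxElemAbelianOrder T :=
  le_antisymm (maxElemAbelianOrder_le_of_le (h ▸ Thompson.thompsonSubgroupOf_le T))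
    (maxElemAbelianOrder_le_of_le (h ▸ Thompson.thompsonSubgroupOf_le S))

theorem card_thompson_map (T : Subgroup G) (g : G) :
    Nat.card (thompsonSubgroupOf 2 (T.map (cj g))) = Nat.card (thompsonSubgroupOf 2 T) := by
  rw [← Thompson.thompsonSubgroupOf_conj]
  exact Subgroup.card_map_of_injective (cj_injective g)

/-- If a conjugate of `J(T)` lies in `S` and `J(S)` is conjugate to it, it is `J(S)`. -/
theorem thompson_eq_of_le_of_conj {T S : Subgroup G} {g : G}
    (h : thompsonSubgroupOf 2 T ≤ S)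
    (hS : thompsonSubgroupOf 2 S = thompsonSubgroupOf 2 (T.map (cj g))) :
    thompsonSubgroupOf 2 S = thompsonSubgroupOf 2 T := by
  have h1 : maxElemAbelianOrder T = maxElemAbelianOrder S := by
    rw [maxElemAbelianOrder_of_thompson_eq hS, maxElemAbelianOrder_map (G' := G)]
  have h2 := thompson_le_of_order_eq h h1
  exact (Subgroup.eq_of_le_of_card_ge h2 (by rw [hS, card_thompson_map])).symm

theorem isPGroup_thompsonSubgroupOf {T : Subgroup G} (hT : IsPGroup 2 T) :
    IsPGroup 2 (thompsonSubgroupOf 2 T) := hT.to_le (Thompson.thompsonSubgroupOf_le T)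

/-! ### Components -/

theorem IsJComponent.congr {T T' K : Subgroup G}
    (h : thompsonSubgroupOf 2 T' = thompsonSubgroupOf 2 T) (hK : IsJComponent T K) :
    IsJComponent T' K := by
  rw [IsJComponent] at hK ⊢
  rwa [h]

theorem isJComponent_map {T K : Subgroup G} (hK : IsJComponent T K) (g : G) :
    IsJComponent (T.map (cj g)) (K.map (cj g)) := by
  obtain ⟨h1, h2, h3, h4, h5, h6⟩ := hK
  have hinj := cj_injective g
  refine ⟨?_, ?_, ?_, ?_, ?_, ?_⟩
  · refine le_antisymm ((closure_le _).mpr fun x hx => hx.1) ?_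
    rw [Subgroup.map_le_iff_le_comap]
    conv_lhs => rw [← h1]
    rw [closure_le]
    intro x hx
    refine subset_closure ⟨mem_map_of_mem _ hx.1, ?_⟩
    rw [orderOf_injective (cj g) hinj]; exact hx.2
  · rw [← Thompson.thompsonSubgroupOf_conj, ← map_commutator, h2]
  · rw [← pCoreOf_map hinj, relIndex_map_map_of_injective _ _ hinj, h3]
  · intro S hS hJS
    rw [← Thompson.thompsonSubgroupOf_conj, ← Subgroup.map_sup] at hS
    rw [← Thompson.thompsonSubgroupOf_conj] at hJS ⊢
    have hS' := isSylowTwoIn_map (cj_injective g⁻¹) hS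
    rw [map_cj_inv_cancel] at hS'
    have hJS' : thompsonSubgroupOf 2 T ≤ S.map (cj g⁻¹) := by
      have := Subgroup.map_mono (f := cj g⁻¹) hJS
      rwa [map_cj_inv_cancel] at this
    rw [← h4 _ hS' hJS', ← Thompson.thompsonSubgroupOf_conj, map_cj_cancel_inv]
  · rw [← wOf_map hinj, Subgroup.card_map_of_injective hinj, h5]
  · rw [← wOf_map hinj]
    rintro _ ⟨w, hw, rfl⟩
    rw [← map_mul, h6 w hw, map_one]

theorem thompson_le_normalizer {T K : Subgroup G} (hK : IsJComponent T K) :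
    thompsonSubgroupOf 2 T ≤ normalizer (K : Set G) :=
  Subgroup.le_normalizer_iff_commutator_le_left.mpr hK.2.1.le

theorem not_isPGroup_component {T K : Subgroup G} (hK : IsJComponent T K) : ¬ IsPGroup 2 K := by
  intro h
  have h1 : pCoreOf 2 K = K := le_antisymm (pCoreOf_le K) (le_pCoreOf le_rfl le_normalizer h)
  have := hK.2.2.1
  rw [h1, relIndex_self] at this
  exact absurd this (by norm_num)

/-- A subgroup generated by elements of odd order lies in every subgroup `N` of it with 2-power index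
containing 2-power powers of all its elements. -/
theorem le_of_odd_generated {K N : Subgroup G}
    (hgen : closure {g : G | g ∈ K ∧ Odd (orderOf g)} = K)
    (hidx : ∀ x ∈ K, ∃ k, x ^ 2 ^ k ∈ N) : K ≤ N := by
  rw [← hgen, closure_le]
  rintro x ⟨hxK, hxo⟩
  obtain ⟨k, hk⟩ := hidx x hxK
  obtain ⟨m, hm⟩ := exists_pow_eq_self_of_coprime (x := x) (n := 2 ^ k)
    ((Nat.coprime_two_left.mpr hxo).pow_left k)
  exact hm ▸ pow_mem hk m

/-- `⟨K, J⟩` and its odd part. -/
theorem mem_component_of_odd {T K : Subgroup G} (hT : IsPGroup 2 T) (hK : IsJComponent T K) {x : G}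
    (hx : x ∈ K ⊔ thompsonSubgroupOf 2 T) (ho : Odd (orderOf x)) : x ∈ K := by
  set J := thompsonSubgroupOf 2 T
  have hJK := thompson_le_normalizer hK
  haveI : (K.subgroupOf (K ⊔ J)).Normal :=
    normal_subgroupOf_of_le_normalizer (sup_le le_normalizer hJK)
  have hq : IsPGroup 2 ((K ⊔ J : Subgroup G) ⧸ K.subgroupOf (K ⊔ J)) := by
    intro q
    obtain ⟨⟨y, hy⟩, rfl⟩ := QuotientGroup.mk'_surjective _ q
    have hy' : y ∈ ((K : Set G) * (J : Set G)) := by
      rw [← Subgroup.coe_mul_of_right_le_normalizer_left K J hJK]; exact hy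
    obtain ⟨k, hk, j, hj, rfl⟩ := hy'
    obtain ⟨n, hn⟩ := (isPGroup_thompsonSubgroupOf hT) ⟨j, hj⟩
    refine ⟨n, ?_⟩
    have e : QuotientGroup.mk' (K.subgroupOf (K ⊔ J)) ⟨k * j, hy⟩ =
        QuotientGroup.mk' (K.subgroupOf (K ⊔ J)) ⟨j, mem_sup_right hj⟩ := by
      have h1 : QuotientGroup.mk' (K.subgroupOf (K ⊔ J)) ⟨k, mem_sup_left hk⟩ = 1 :=
        (QuotientGroup.eq_one_iff _).mpr (mem_subgroupOf.mpr hk)
      rw [show (⟨k * j, hy⟩ : (K ⊔ J : Subgroup G)) = ⟨k, mem_sup_left hk⟩ * ⟨j, mem_sup_right hj⟩ from rfl,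
        map_mul, h1, one_mul]
    rw [e, ← map_pow, show (⟨j, mem_sup_right hj⟩ : (K ⊔ J : Subgroup G)) ^ 2 ^ n = 1 from
      Subtype.ext (by rw [SubmonoidClass.coe_pow]; exact congrArg Subtype.val hn), map_one]
  obtain ⟨n, hn⟩ := hq (QuotientGroup.mk' _ ⟨x, hx⟩)
  rw [← map_pow, QuotientGroup.mk'_apply, QuotientGroup.eq_one_iff, mem_subgroupOf,
    SubmonoidClass.coe_pow] at hn
  obtain ⟨m, hm⟩ := exists_pow_eq_self_of_coprime (x := x) (n := 2 ^ n)
    ((Nat.coprime_two_left.mpr ho).pow_left n)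
  exact hm ▸ pow_mem hn m

/-- A subgroup normalized by `⟨K, J(T)⟩` and normalizing `J(T)` normalizes `K`. -/
theorem le_normalizer_component {T K Q : Subgroup G} (hT : IsPGroup 2 T) (hK : IsJComponent T K)
    (hQ1 : K ⊔ thompsonSubgroupOf 2 T ≤ normalizer (Q : Set G))
    (hQ2 : Q ≤ normalizer (thompsonSubgroupOf 2 T : Set G)) : Q ≤ normalizer (K : Set G) := by
  set J := thompsonSubgroupOf 2 T
  set S : Set G := {y | ∃ k ∈ K, ∃ j ∈ J, y = k * j * k⁻¹}
  have hH : closure S = K ⊔ J := by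
    refine le_antisymm ?_ ?_
    · rw [closure_le]
      rintro _ ⟨k, hk, j, hj, rfl⟩
      exact mul_mem (mul_mem (mem_sup_left hk) (mem_sup_right hj)) (inv_mem (mem_sup_left hk))
    · have hJS : J ≤ closure S := fun j hj => subset_closure ⟨1, one_mem _, j, hj, by simp⟩
      refine sup_le (hK.2.1.symm.le.trans ?_) hJS
      rw [commutator_le]
      intro k hk j hj
      rw [commutatorElement_def]
      exact mul_mem (subset_closure ⟨k, hk, j, hj, rfl⟩) (inv_mem (hJS hj))
  have hconj : ∀ q ∈ Q, ∀ y ∈ S, q * y * q⁻¹ ∈ closure S := by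
    rintro q hq _ ⟨k, hk, j, hj, rfl⟩
    have h1 : k⁻¹ * q * k ∈ Q := by
      have := (mem_normalizer_iff.mp (hQ1 (mem_sup_left (inv_mem hk))) q).mp hq
      simpa using this
    refine subset_closure ⟨k, hk, (k⁻¹ * q * k) * j * (k⁻¹ * q * k)⁻¹,
      (mem_normalizer_iff.mp (hQ2 h1) j).mp hj, ?_⟩
    group
  refine Coprime.le_normalizer_of_conj_mem fun q hq x hx => ?_
  have hQH : closure S ≤ (closure S).comap (cj q) := by
    rw [closure_le]; exact fun y hy => hconj q hq y hy
  have : K ≤ K.comap (cj q) := by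
    conv_lhs => rw [← hK.1]
    rw [closure_le]
    rintro y ⟨hy, hyo⟩
    refine mem_component_of_odd hT hK ?_ ?_
    · rw [← hH]; exact hQH (hH.symm ▸ mem_sup_left hy)
    · rw [orderOf_injective (cj q) (cj_injective q)]; exact hyo
  exact this hx

end Cfsg.Agent.LocalEven64
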