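import Mathlib
import Cfsg.Agent.LocalEven64.JBasic
import Cfsg.Agent.Lib.Thompson.Replacement

/-!
# Offenders and automorphisms of order three

A maximal elementary abelian subgroup that inverts a fixed point free element of order three of a group `W`
forces `W` to have order at most four.
-/

set_option autoImplicit false
set_option linter.unusedSectionVars false
set_option linter.style.haveILetI false

namespace Cfsg.Agent.LocalEven64

open Subgroup Cfsg
open scoped commutatorElement Pointwise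

variable {G : Type*} [Group G]

theorem cj_mul (a b x : G) : cj (a * b) x = cj a (cj b x) := by
  simp [cj, mul_assoc]

theorem cj_inv_cj (k x : G) : cj k⁻¹ (cj k x) = x := by simp [cj, mul_assoc]

theorem cj_cj_inv (k x : G) : cj k (cj k⁻¹ x) = x := by simp [cj, mul_assoc]

theorem cj_eq_self_iff {g x : G} : cj g x = x ↔ g * x = x * g := by
  simp [cj, mul_inv_eq_iff_eq_mul]

theorem cj_mem_of_le_normalizer {g x : G} {W : Subgroup G} (h : g ∈ normalizer (W : Set G))
    (hx : x ∈ W) : cj g x ∈ W := (mem_normalizer_iff.mp h x).mp hx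

/-- A maximal elementary abelian subgroup of a 2-group is a best offender on each normalized
elementary abelian subgroup. -/
theorem measureOn_le_of_isMaxEAIn [Finite G] {U A S : Subgroup G} (hA : Thompson.IsMaxEAIn 2 A S)
    (hU : IsElementaryAbelian 2 U) (hUS : U ≤ S) :
    ∀ B, B ≤ A → Thompson.measureOn U B ≤ Thompson.measureOn U A := by
  intro B hBA
  set C := U ⊓ centralizer (B : Set G) with hC
  have hE : IsElementaryAbelian 2 (B ⊔ C : Subgroup G) :=
    Thompson.isElementaryAbelian_sup (Thompson.isElementaryAbelian_of_le hA.2.1 hBA)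
      (Thompson.isElementaryAbelian_of_le hU inf_le_left)
      (le_centralizer_iff.mp inf_le_right)
  have h1 : Nat.card (B ⊔ C : Subgroup G) ≤ Nat.card A :=
    hA.2.2 _ (sup_le (hBA.trans hA.1) (inf_le_left.trans hUS)) hE
  have h2 := Thompson.card_sup_mul_card_inf (H := B) (K := C)
    (inf_le_right.trans (centralizer_le_normalizer _))
  have h3 : Nat.card (B ⊓ C : Subgroup G) ≤ Nat.card (U ⊓ centralizer (A : Set G) : Subgroup G) :=
    card_le_of_le (le_inf (inf_le_right.trans inf_le_left)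
      ((inf_le_left.trans hBA).trans (Thompson.le_centralizer_self hA.2.1.1)))
  rw [Thompson.measureOn_eq, Thompson.measureOn_eq, ← hC, ← h2]
  exact Nat.mul_le_mul h1 h3

section Four

variable {U A W : Subgroup G} {k : G}

/-- `a` commutes with `k` on `W`. -/
def CommOn (W : Subgroup G) (k a : G) : Prop := ∀ w ∈ W, cj a (cj k w) = cj k (cj a w)

/-- `a` inverts `k` on `W`. -/
def InvOn (W : Subgroup G) (k a : G) : Prop := ∀ w ∈ W, cj a (cj k w) = cj k⁻¹ (cj a w)

variable (hkW : k ∈ normalizer (W : Set G))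
include hkW

theorem InvOn.inv_apply {a : G} (ha : InvOn W k a) {w : G} (hw : w ∈ W) :
    cj a (cj k⁻¹ w) = cj k (cj a w) := by
  have h := ha (cj k⁻¹ w) (cj_mem_of_le_normalizer (inv_mem hkW) hw)
  rw [cj_cj_inv] at h
  rw [h, cj_cj_inv]

theorem InvOn.mul {a b : G} (ha : InvOn W k a) (hb : InvOn W k b)
    (hbW : b ∈ normalizer (W : Set G)) : CommOn W k (a * b) := fun w hw => by
  rw [cj_mul, cj_mul, hb w hw, ha.inv_apply hkW (cj_mem_of_le_normalizer hbW hw)]

variable (hk3 : ∀ w ∈ W, cj k (cj k (cj k w)) = w) (hfpf : ∀ w ∈ W, cj k w = w → w = 1)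
  (hW : IsElementaryAbelian 2 W)
include hk3 hfpf hW

theorem cj_inv_eq_sq {w : G} (hw : w ∈ W) : cj k⁻¹ w = cj k (cj k w) := by
  conv_lhs => rw [← hk3 w hw]
  rw [cj_inv_cj]

theorem eq_one_of_cj_eq_cj_inv {w : G} (hw : w ∈ W) (h : cj k w = cj k⁻¹ w) : w = 1 := by
  refine hfpf w hw ?_
  rw [cj_inv_eq_sq hkW hk3 hfpf hW hw] at h
  exact (cj_injective k h).symm

/-- If `a` inverts `k`, and `b` commutes with `k` and fixes `[W, a]`, then `b` fixes `W`. -/
theorem cj_eq_self_of_fix_commutators [Finite G] {a b : G} (ha : InvOn W k a)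
    (haW : a ∈ normalizer (W : Set G)) (hb : CommOn W k b) (hbW : b ∈ normalizer (W : Set G))
    (hfix : ∀ w ∈ W, cj b (w * cj a w) = w * cj a w) : ∀ w ∈ W, cj b w = w := by
  have hkm : ∀ {u : G}, u ∈ W → cj k u ∈ W := fun hu => cj_mem_of_le_normalizer hkW hu
  have ham : ∀ {u : G}, u ∈ W → cj a u ∈ W := fun hu => cj_mem_of_le_normalizer haW hu
  have hcomm : ∀ {u v : G}, u ∈ W → v ∈ W → u * v = v * u := fun hu hv =>
    Thompson.elemAb_comm hW.1 hu hv
  have h2 : ∀ {u : G}, u ∈ W → u * u = 1 := fun hu => by rw [← sq]; exact hW.2 _ hu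
  -- `b` fixes every `y * k y`
  have key : ∀ y ∈ W, cj b (y * cj k y) = y * cj k y := by
    intro y hy
    obtain ⟨w, hw, rfl⟩ : ∃ w ∈ W, cj a w = y :=
      ⟨cj a⁻¹ y, cj_mem_of_le_normalizer (inv_mem haW) hy, cj_cj_inv a y⟩
    have hkw := hkm hw
    have hb' : ∀ u ∈ W, cj b u = u → cj b (cj k⁻¹ u) = cj k⁻¹ u := by
      intro u hu he
      have h1 := hb (cj k⁻¹ u) (cj_mem_of_le_normalizer (inv_mem hkW) hu)
      rw [cj_cj_inv, he] at h1
      conv_rhs => rw [h1, cj_inv_cj]
    have e1 : cj k⁻¹ (cj k w * cj a (cj k w)) = w * cj k (cj a w) := by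
      rw [ha w hw, map_mul, cj_inv_cj, cj_inv_eq_sq hkW hk3 hfpf hW (ham hw),
        cj_inv_eq_sq hkW hk3 hfpf hW (hkm (hkm (ham hw))), hk3 _ (ham hw)]
    have e2 : cj b (w * cj k (cj a w)) = w * cj k (cj a w) := by
      rw [← e1]; exact hb' _ (mul_mem hkw (ham hkw)) (hfix _ hkw)
    have e3 : cj a w * cj k (cj a w) = (w * cj a w) * (w * cj k (cj a w)) := by
      rw [hcomm hw (ham hw), mul_assoc, ← mul_assoc w w, h2 hw, one_mul]
    rw [e3, map_mul, hfix w hw, e2]
  have hinj : Function.Injective (fun y : W => (⟨y.1 * cj k y.1, mul_mem y.2 (hkm y.2)⟩ : W)) := by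
    intro y z hyz
    have h0 : y.1 * cj k y.1 = z.1 * cj k z.1 := congrArg Subtype.val hyz
    have h1 : cj k (y.1 * z.1) = y.1 * z.1 := by
      rw [map_mul]
      calc cj k y.1 * cj k z.1 = (y.1 * y.1) * cj k y.1 * cj k z.1 := by rw [h2 y.2, one_mul]
        _ = y.1 * (z.1 * cj k z.1) * cj k z.1 := by rw [← h0]; simp only [mul_assoc]
        _ = y.1 * z.1 := by simp only [mul_assoc, h2 (hkm z.2), mul_one]
    have h3 := hfpf _ (mul_mem y.2 z.2) h1
    exact Subtype.ext (by rw [eq_inv_of_mul_eq_one_left h3, inv_eq_of_mul_eq_one_right (h2 z.2)])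
  intro w hw
  obtain ⟨y, hy⟩ := Finite.injective_iff_surjective.mp hinj ⟨w, hw⟩
  have hy' : y.1 * cj k y.1 = w := congrArg Subtype.val hy
  rw [← hy']
  exact key _ y.2

/-- **The four-group lemma.** -/
theorem card_le_four [Finite G] (hWU : W ≤ U) (hU : IsElementaryAbelian 2 U)
    (hA : IsElementaryAbelian 2 A) (hAU : A ≤ normalizer (U : Set G))
    (hAW : A ≤ normalizer (W : Set G))
    (hmax : ∀ B, B ≤ A → Thompson.measureOn U B ≤ Thompson.measureOn U A)
    (hsplit : ∀ a ∈ A, CommOn W k a ∨ InvOn W k a) {a₀ : G} (ha₀ : a₀ ∈ A) (ha₀i : InvOn W k a₀) :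
    Nat.card W ≤ 4 := by
  classical
  haveI : Fact (Nat.Prime 2) := ⟨Nat.prime_two⟩
  have hab : ⁅A, A⁆ ≤ centralizer (U : Set G) := by
    rw [commutator_le]
    intro x hx y hy
    rw [commutatorElement_eq_one_iff_mul_comm.mpr (Thompson.elemAb_comm hA.1 hx hy)]
    exact one_mem _
  obtain ⟨hm, hfix⟩ := Thompson.replProp_commutator hU.1 hAU hab hmax hWU
  set X := ⁅W, A⁆ with hX
  set B1 := A ⊓ centralizer (X : Set G) with hB1
  have hXW : X ≤ W := Thompson.commutator_le_of_le_normalizer hAW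
  have hcomm : ∀ {u v : G}, u ∈ W → v ∈ W → u * v = v * u := fun hu hv =>
    Thompson.elemAb_comm hW.1 hu hv
  have hinv : ∀ {u : G}, u ∈ W → u⁻¹ = u := fun hu =>
    inv_eq_of_mul_eq_one_right (by rw [← sq]; exact hW.2 _ hu)
  have hdX : ∀ a ∈ A, ∀ w ∈ W, w * cj a w ∈ X := by
    intro a ha w hw
    have h1 : ⁅w, a⁆ = w * cj a w := by
      have : cj a w⁻¹ = cj a w := by rw [hinv hw]
      rw [← this]
      simp [cj, commutatorElement_def, mul_assoc]
    exact h1 ▸ commutator_mem_commutator hw ha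
  have hfixX : ∀ b ∈ B1, ∀ a ∈ A, ∀ w ∈ W, cj b (w * cj a w) = w * cj a w := fun b hb a ha w hw =>
    cj_eq_self_iff.mpr (mem_centralizer_iff.mp hb.2 _ (hdX a ha w hw)).symm
  have hcentW : ∀ a' ∈ A, InvOn W k a' → ∀ b ∈ B1, CommOn W k b → b ∈ centralizer (W : Set G) := by
    intro a' ha' hi b hb hc
    rw [mem_centralizer_iff]
    intro w hw
    exact (cj_eq_self_iff.mp (cj_eq_self_of_fix_commutators hkW hk3 hfpf hW hi (hAW ha') hc
      (hAW hb.1) (hfixX b hb a' ha') w hw)).symm
  by_cases hex : ∃ a' ∈ B1, ¬ CommOn W k a'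
  · obtain ⟨a', ha', hnc⟩ := hex
    have hai : InvOn W k a' := (hsplit a' ha'.1).resolve_left hnc
    set B0 := B1 ⊓ centralizer (W : Set G) with hB0
    have hcard1 : Nat.card B1 ≤ 2 * Nat.card B0 := by
      have hsurj : Function.Surjective (fun q : Fin 2 × B0 =>
          (⟨a' ^ (q.1 : ℕ) * q.2, mul_mem (pow_mem ha' _) q.2.2.1⟩ : B1)) := by
        rintro ⟨b, hb⟩
        rcases hsplit b hb.1 with hc | hi
        · exact ⟨(0, ⟨b, hb, hcentW a' ha'.1 hai b hb hc⟩), by simp⟩
        · have hm1 : a' * b ∈ B1 := mul_mem ha' hb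
          refine ⟨(1, ⟨a' * b, hm1, hcentW a' ha'.1 hai _ hm1 (hai.mul hkW hi (hAW hb.1))⟩), ?_⟩
          refine Subtype.ext ?_
          show a' ^ (1 : ℕ) * (a' * b) = b
          rw [pow_one, ← mul_assoc, ← sq, hA.2 a' ha'.1, one_mul]
      have := Nat.card_le_card_of_surjective _ hsurj
      simpa [Nat.card_prod] using this
    set C0 := U ⊓ centralizer (B0 : Set G) with hC0
    set C1 := U ⊓ centralizer (B1 : Set G) with hC1
    have h2 : Nat.card C0 ≤ 2 * Nat.card C1 := by
      have h := (hmax B0 (inf_le_left.trans inf_le_left)).trans hm.ge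
      rw [Thompson.measureOn_eq, Thompson.measureOn_eq, ← hC0, ← hC1] at h
      refine Nat.le_of_mul_le_mul_left ?_ (Nat.card_pos (α := B0))
      calc Nat.card B0 * Nat.card C0 ≤ Nat.card B1 * Nat.card C1 := h
        _ ≤ 2 * Nat.card B0 * Nat.card C1 := Nat.mul_le_mul_right _ hcard1
        _ = Nat.card B0 * (2 * Nat.card C1) := by ring
    have h3 : W ⊔ C1 ≤ C0 :=
      sup_le (le_inf hWU (le_centralizer_iff.mp inf_le_right))
        (inf_le_inf_left _ (centralizer_le inf_le_left))
    have h4 := Thompson.card_sup_mul_card_inf (H := W) (K := C1)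
      (((inf_le_left : C1 ≤ U).trans (Thompson.le_centralizer_self hU.1)).trans
        ((centralizer_le hWU).trans (centralizer_le_normalizer _)))
    set U0 := W ⊓ centralizer ({a'} : Set G) with hU0
    have h5 : Nat.card (W ⊓ C1 : Subgroup G) ≤ Nat.card U0 :=
      card_le_of_le (le_inf inf_le_left ((inf_le_right.trans inf_le_right).trans
        (centralizer_le (Set.singleton_subset_iff.mpr ha'))))
    have h6 : Nat.card W ≤ 2 * Nat.card U0 := by
      refine Nat.le_of_mul_le_mul_right ?_ (Nat.card_pos (α := C1))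
      calc Nat.card W * Nat.card C1 = Nat.card (W ⊔ C1 : Subgroup G) * Nat.card (W ⊓ C1 : Subgroup G) :=
            h4.symm
        _ ≤ (2 * Nat.card C1) * Nat.card U0 :=
            Nat.mul_le_mul ((card_le_of_le h3).trans h2) h5
        _ = 2 * Nat.card U0 * Nat.card C1 := by ring
    have h7 : Nat.card U0 * Nat.card U0 ≤ Nat.card W := by
      rw [← Nat.card_prod]
      have hU0fix : ∀ {u : G}, u ∈ U0 → cj a' u = u := fun hu =>
        cj_eq_self_iff.mpr ((mem_centralizer_iff.mp hu.2 a' rfl))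
      refine Nat.card_le_card_of_injective (fun q : U0 × U0 =>
        (⟨q.1.1 * cj k q.2.1, mul_mem q.1.2.1 (cj_mem_of_le_normalizer hkW q.2.2.1)⟩ : W)) ?_
      intro p q hpq
      have h0 : p.1.1 * cj k p.2.1 = q.1.1 * cj k q.2.1 := congrArg Subtype.val hpq
      set u := q.1.1⁻¹ * p.1.1 with hu
      set v := q.2.1 * p.2.1⁻¹ with hv
      have hu' : u ∈ U0 := mul_mem (inv_mem q.1.2) p.1.2
      have hv' : v ∈ U0 := mul_mem q.2.2 (inv_mem p.2.2)
      have huv : u = cj k v := by
        rw [hu, hv, map_mul, map_inv, eq_mul_inv_iff_mul_eq, mul_assoc, inv_mul_eq_iff_eq_mul]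
        exact h0
      have h8 : cj k v = cj k⁻¹ v := by
        have := hai v hv'.1
        rw [← huv, hU0fix hu', hU0fix hv', huv] at this
        exact this
      have hv1 : v = 1 := eq_one_of_cj_eq_cj_inv hkW hk3 hfpf hW hv'.1 h8
      rw [hv1, map_one] at huv
      refine Prod.ext (Subtype.ext ?_) (Subtype.ext ?_)
      · rw [hu] at huv; exact (inv_mul_eq_one.mp huv).symm
      · rw [hv] at hv1; exact (mul_inv_eq_one.mp hv1).symm
    have h8 : Nat.card U0 ≤ 2 := Nat.le_of_mul_le_mul_left (by linarith) (Nat.card_pos (α := U0))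
    linarith
  · push Not at hex
    have hB1W : B1 ≤ centralizer (W : Set G) := fun b hb => hcentW a₀ ha₀ ha₀i b hb (hex b hb)
    have hWle : W ≤ X ⊔ (U ⊓ centralizer (A : Set G)) := by
      rw [← hfix]
      exact le_inf hWU (le_centralizer_iff.mp hB1W)
    have hstep : X ≤ ⁅X, A⁆ := by
      rw [hX, commutator_le]
      intro w hw a ha
      have hn : U ⊓ centralizer (A : Set G) ≤ normalizer (X : Set G) :=
        (inf_le_left.trans (Thompson.le_centralizer_self hU.1)).trans
          ((centralizer_le (hXW.trans hWU)).trans (centralizer_le_normalizer _))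
      have hw' : w ∈ ((X : Set G) * ((U ⊓ centralizer (A : Set G) : Subgroup G) : Set G)) := by
        rw [← Subgroup.coe_mul_of_right_le_normalizer_left _ _ hn]; exact hWle hw
      obtain ⟨x, hx, y, hy, rfl⟩ := hw'
      have hya : ⁅y, a⁆ = 1 :=
        commutatorElement_eq_one_iff_mul_comm.mpr (mem_centralizer_iff.mp hy.2 a ha).symm
      rw [commutatorElement_mul_left_eq_conj_mul, hya, mul_one, mul_inv_cancel, one_mul]
      exact commutator_mem_commutator hx ha
    have hX1 : X = ⊥ := by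
      refine Thompson.eq_bot_of_commutator_eq_self (p := 2) (P := X ⊔ A) ?_ le_sup_left
        (hstep.trans (commutator_mono le_rfl le_sup_right))
      exact IsPGroup.to_sup_of_normal_left'
        ((Thompson.isPGroup_of_isElementaryAbelian hW).to_le hXW)
        (Thompson.isPGroup_of_isElementaryAbelian hA)
        (Coprime.le_normalizer_commutator_right A W)
    have hWbot : W = ⊥ := by
      rw [eq_bot_iff]
      intro w hw
      have hfixa : ∀ u ∈ W, cj a₀ u = u := fun u hu => by
        have h := hdX a₀ ha₀ u hu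
        rw [hX1, mem_bot] at h
        rw [eq_inv_of_mul_eq_one_right h, hinv hu]
      have := ha₀i w hw
      rw [hfixa w hw, hfixa _ (cj_mem_of_le_normalizer hkW hw)] at this
      exact mem_bot.mpr (eq_one_of_cj_eq_cj_inv hkW hk3 hfpf hW hw this)
    rw [hWbot, Subgroup.card_bot]
    norm_num

end Four

end Cfsg.Agent.LocalEven64
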