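import Mathlib
import Cfsg.Agent.LocalEven64.FFGroup
import Cfsg.Agent.LocalEven64.JBasic
import Cfsg.Agent.LocalEven64.Commutator
import Cfsg.Agent.LocalEven64.FourLemma

/-!
# The action of an overgroup of a 2-subgroup on the normal closure of `Ω₁(Z(T))`

`L` is a subgroup with `C_G(O₂(L)) ≤ O₂(L)`, in a group in which 2-local subgroups are solvable and the centralizer of
`Ω₁(Z(S))` normalizes the Sylow 2-subgroup `S`.
-/

set_option autoImplicit false
set_option linter.unusedSectionVars false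
set_option linter.style.haveILetI false

namespace Cfsg.Agent.LocalEven64

open Subgroup Cfsg
open scoped commutatorElement Pointwise

variable {G : Type*} [Group G]

/-- The centralizer of `Ω₁(Z(S))` normalizes `S`, for all Sylow 2-subgroups `S`. -/
abbrev ZHyp (G : Type*) [Group G] : Prop :=
  ∀ S : Sylow 2 G, centralizer (omegaCenterOf (S : Subgroup G) : Set G) ≤
    normalizer ((S : Subgroup G) : Set G)

/-- All 2-local subgroups are solvable. -/
abbrev NHyp (G : Type*) [Group G] : Prop :=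
  ∀ N : Subgroup G, IsTwoLocal N → Group.IsSolvable ↥N

/-- The module `⟨Ω₁(Z(T)) : T ∈ Syl₂(L)⟩`, cut down to `Ω₁(Z(O₂(L)))`. -/
def VL (L : Subgroup G) : Subgroup G :=
  closure {x : G | x ∈ omegaCenterOf (pCoreOf 2 L) ∧
    ∃ T, IsSylowTwoIn T L ∧ x ∈ omegaCenterOf T}

theorem VL_le_omega (L : Subgroup G) : VL L ≤ omegaCenterOf (pCoreOf 2 L) := by
  rw [VL, closure_le]
  exact fun x hx => hx.1

theorem isElementaryAbelian_VL (L : Subgroup G) : IsElementaryAbelian 2 (VL L) :=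
  Thompson.isElementaryAbelian_of_le (isElementaryAbelian_omegaCenterOf _) (VL_le_omega L)

instance instCommGroupVL (L : Subgroup G) : CommGroup ↥(VL L) :=
  { (inferInstance : Group ↥(VL L)) with
    mul_comm := fun a b => Subtype.ext (Thompson.elemAb_comm (isElementaryAbelian_VL L).1 a.2 b.2) }

theorem VL_mul_self (L : Subgroup G) (v : ↥(VL L)) : v * v = 1 :=
  Subtype.ext (by rw [Subgroup.coe_mul, ← sq]; exact (isElementaryAbelian_VL L).2 _ v.2)

theorem le_normalizer_VL (L : Subgroup G) : L ≤ normalizer (VL L : Set G) :=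
  FF.le_normalizer_closure fun g hg x hx => by
    obtain ⟨hx1, T, hT, hx2⟩ := hx
    refine ⟨cj_mem_of_le_normalizer
      (normalizer_le_normalizer_omegaCenterOf _ (le_normalizer_pCoreOf L hg)) hx1,
      T.map (cj g), ?_, ?_⟩
    · have := isSylowTwoIn_map (cj_injective g) hT
      rwa [map_cj_eq_self_of_mem hg] at this
    · rw [← omegaCenterOf_map (cj_injective g)]
      exact mem_map_of_mem (cj g) hx2

/-- The action of `L` on its module. -/
def act (L : Subgroup G) : ↥L →* MulAut ↥(VL L) :=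
  (normalizerMonoidHom (H := VL L)).comp (Subgroup.inclusion (le_normalizer_VL L))

theorem coe_act (L : Subgroup G) (g : ↥L) (v : ↥(VL L)) :
    ((act L g v : ↥(VL L)) : G) = cj (g : G) v := rfl

/-- The kernel `C_L(V)`. -/
def CL (L : Subgroup G) : Subgroup G := L ⊓ centralizer (VL L : Set G)

theorem CL_le (L : Subgroup G) : CL L ≤ L := inf_le_left

theorem act_eq_one_iff {L : Subgroup G} (g : ↥L) : act L g = 1 ↔ (g : G) ∈ CL L := by
  constructor
  · intro h
    refine ⟨g.2, mem_centralizer_iff.mpr fun v hv => ?_⟩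
    have := congrArg Subtype.val (DFunLike.congr_fun h ⟨v, hv⟩)
    rw [coe_act] at this
    exact (cj_eq_self_iff.mp this).symm
  · intro h
    refine MulEquiv.ext fun v => Subtype.ext ?_
    rw [coe_act]
    exact cj_eq_self_iff.mpr (mem_centralizer_iff.mp h.2 v v.2).symm

theorem le_normalizer_CL (L : Subgroup G) : L ≤ normalizer (CL L : Set G) :=
  Coprime.le_normalizer_inf le_normalizer (le_normalizer_centralizer (le_normalizer_VL L))

theorem pCoreOf_le_CL (L : Subgroup G) : pCoreOf 2 L ≤ CL L :=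
  le_inf (pCoreOf_le L) (le_centralizer_iff.mp ((VL_le_omega L).trans (omegaCenterOf_le_centralizer _)))

theorem commutator_R_le (L : Subgroup G) {H : Subgroup G} (hH : H ≤ L) :
    ⁅pCoreOf 2 L, H⁆ ≤ pCoreOf 2 L :=
  Subgroup.le_normalizer_iff_commutator_le_left.mp (hH.trans (le_normalizer_pCoreOf L))

/-- An element of odd order of `K P`, `P` a 2-group normalizing `K`, lies in `K`. -/
theorem mem_of_odd_of_sup {K P : Subgroup G} (hP : IsPGroup 2 P) (hn : P ≤ normalizer (K : Set G))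
    {x : G} (hx : x ∈ K ⊔ P) (ho : Odd (orderOf x)) : x ∈ K := by
  haveI : (K.subgroupOf (K ⊔ P)).Normal :=
    normal_subgroupOf_of_le_normalizer (sup_le le_normalizer hn)
  have hx' : x ∈ ((K : Set G) * (P : Set G)) := by
    rw [← Subgroup.coe_mul_of_right_le_normalizer_left K P hn]; exact hx
  obtain ⟨k, hk, j, hj, rfl⟩ := hx'
  obtain ⟨n, hn2⟩ := hP ⟨j, hj⟩
  have h1 : QuotientGroup.mk' (K.subgroupOf (K ⊔ P)) ⟨k, mem_sup_left hk⟩ = 1 :=
    (QuotientGroup.eq_one_iff _).mpr (mem_subgroupOf.mpr hk)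
  have h2 : QuotientGroup.mk' (K.subgroupOf (K ⊔ P)) (⟨k * j, hx⟩ ^ 2 ^ n) = 1 := by
    rw [map_pow, show (⟨k * j, hx⟩ : (K ⊔ P : Subgroup G)) =
      ⟨k, mem_sup_left hk⟩ * ⟨j, mem_sup_right hj⟩ from rfl, map_mul, h1, one_mul, ← map_pow,
      show (⟨j, mem_sup_right hj⟩ : (K ⊔ P : Subgroup G)) ^ 2 ^ n = 1 from
      Subtype.ext (by rw [SubmonoidClass.coe_pow]; exact congrArg Subtype.val hn2), map_one]
  rw [QuotientGroup.mk'_apply, QuotientGroup.eq_one_iff, mem_subgroupOf,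
    SubmonoidClass.coe_pow] at h2
  obtain ⟨m, hm⟩ := exists_pow_eq_self_of_coprime (x := k * j) (n := 2 ^ n)
    ((Nat.coprime_two_left.mpr ho).pow_left n)
  show k * j ∈ K
  rw [← hm]
  exact pow_mem h2 m

section Finite

variable [Finite G] {L : Subgroup G}

theorem thompson_eq_of_sylow {T T' : Subgroup G} (hT : IsSylowTwoIn T L) (hT' : IsSylowTwoIn T' L)
    (h : thompsonSubgroupOf 2 T ≤ T') : thompsonSubgroupOf 2 T' = thompsonSubgroupOf 2 T := by
  obtain ⟨g, -, hg⟩ := sylowTwoIn_conj hT hT'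
  exact thompson_eq_of_le_of_conj h (by rw [← hg])

variable (hC : centralizer (pCoreOf 2 L : Set G) ≤ pCoreOf 2 L) (hZ : ZHyp G)

theorem omega_le_VL (hC : centralizer (pCoreOf 2 L : Set G) ≤ pCoreOf 2 L) {T : Subgroup G}
    (hT : IsSylowTwoIn T L) : omegaCenterOf T ≤ VL L := by
  intro x hx
  have hRT := pCoreOf_le_sylowTwoIn hT
  have hxC : x ∈ centralizer (pCoreOf 2 L : Set G) :=
    centralizer_le hRT (omegaCenterOf_le_centralizer T hx)
  exact subset_closure ⟨mem_omegaCenterOf (hC hxC) hxC (mul_self_of_mem_omegaCenterOf hx), T, hT, hx⟩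

include hC hZ

/-- `C_L(Ω₁(Z(T)))` normalizes the Sylow 2-subgroup `T` of `L`. -/
theorem centralizer_omega_le {T : Subgroup G} (hT : IsSylowTwoIn T L) :
    L ⊓ centralizer (omegaCenterOf T : Set G) ≤ normalizer (T : Set G) := by
  obtain ⟨S, hS⟩ := hT.2.1.exists_le_sylow
  have hle : omegaCenterOf (S : Subgroup G) ≤ omegaCenterOf T := by
    intro x hx
    have hxT : x ∈ centralizer (T : Set G) := centralizer_le hS (omegaCenterOf_le_centralizer _ hx)
    exact mem_omegaCenterOf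
      (pCoreOf_le_sylowTwoIn hT (hC (centralizer_le (pCoreOf_le_sylowTwoIn hT) hxT))) hxT
      (mul_self_of_mem_omegaCenterOf hx)
  intro g hg
  have hgS : g ∈ normalizer ((S : Subgroup G) : Set G) := hZ S (centralizer_le hle hg.2)
  rw [← map_cj_eq_self_iff]
  refine sylowTwoIn_eq_of_le hT (P := (S : Subgroup G) ⊓ L) (S.isPGroup'.to_le inf_le_left)
    inf_le_right (le_inf hS hT.1) ▸ ?_
  rw [map_cj_eq_self_iff]
  exact Coprime.le_normalizer_inf (A := normalizer ((S : Subgroup G) : Set G) ⊓ normalizer (L : Set G))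
    inf_le_left inf_le_right ⟨hgS, le_normalizer hg.1⟩

theorem CL_le_normalizer {T : Subgroup G} (hT : IsSylowTwoIn T L) :
    CL L ≤ normalizer (T : Set G) :=
  (inf_le_inf_left _ (centralizer_le (omega_le_VL hC hT))).trans (centralizer_omega_le hC hZ hT)

theorem le_R_of_le_CL {P : Subgroup G} (hP : IsPGroup 2 P) (hPC : P ≤ CL L) :
    P ≤ pCoreOf 2 L := by
  obtain ⟨T, hT, -⟩ := exists_isSylowTwoIn_ge (G := G) (H := ⊥) (L := L) IsPGroup.of_bot bot_le
  have hsub : ∀ {Q U : Subgroup G}, IsPGroup 2 Q → Q ≤ CL L → IsSylowTwoIn U L → Q ≤ U := by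
    intro Q U hQ hQC hU
    have h := sylowTwoIn_eq_of_le hU (P := U ⊔ Q)
      (IsPGroup.to_sup_of_normal_left' hU.2.1 hQ (hQC.trans (CL_le_normalizer hC hZ hU)))
      (sup_le hU.1 (hQC.trans (CL_le L))) le_sup_left
    exact h ▸ le_sup_right
  refine le_trans (le_inf (hsub hP hPC hT) hPC) (le_pCoreOf (inf_le_right.trans (CL_le L)) ?_
    (hT.2.1.to_le inf_le_left))
  refine Coprime.le_normalizer_of_conj_mem fun g hg x hx => ?_
  refine ⟨?_, cj_mem_of_le_normalizer (le_normalizer_CL L hg) hx.2⟩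
  refine hsub (Q := (T ⊓ CL L).map (cj g)) ((hT.2.1.to_le inf_le_left).map _) ?_ hT
    (mem_map_of_mem (cj g) hx)
  rintro _ ⟨y, hy, rfl⟩
  exact cj_mem_of_le_normalizer (le_normalizer_CL L hg) hy.2

theorem commutator_CL_le {T : Subgroup G} (hT : IsSylowTwoIn T L) :
    ⁅CL L, T⁆ ≤ pCoreOf 2 L := by
  refine le_R_of_le_CL hC hZ (hT.2.1.to_le ?_) ?_
  · rw [commutator_comm]
    exact Subgroup.le_normalizer_iff_commutator_le_left.mp (CL_le_normalizer hC hZ hT)
  · exact Subgroup.le_normalizer_iff_commutator_le_left.mp (hT.1.trans (le_normalizer_CL L))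

theorem commutator_CL_mem {T : Subgroup G} (hT : IsSylowTwoIn T L) {c y : G} (hc : c ∈ CL L)
    (hy : y ∈ T) : c * y * c⁻¹ * y⁻¹ ∈ pCoreOf 2 L := by
  have := commutator_CL_le hC hZ hT (commutator_mem_commutator hc hy)
  rwa [commutatorElement_def] at this

theorem isSylowTwoIn_R_CL : IsSylowTwoIn (pCoreOf 2 L) (CL L) := by
  obtain ⟨P, hP, hle⟩ := exists_isSylowTwoIn_ge (isPGroup_pCoreOf (p := 2) L) (pCoreOf_le_CL L)
  rwa [le_antisymm (le_R_of_le_CL hC hZ hP.2.1 hP.1) hle] at hP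

/-- A 2-element of `C_L(V) H` lies in `H`, if `H ⊇ O₂(L)` is normalized by `C_L(V)`. -/
theorem two_element_mem {H : Subgroup G} (hRH : pCoreOf 2 L ≤ H)
    (hn : CL L ≤ normalizer (H : Set G)) {y : G} (hy : y ∈ CL L ⊔ H) {n : ℕ}
    (h2 : y ^ 2 ^ n = 1) : y ∈ H := by
  haveI hnorm : (H.subgroupOf (CL L ⊔ H)).Normal :=
    normal_subgroupOf_of_le_normalizer (sup_le hn le_normalizer)
  have hodd : Odd (H.relIndex (CL L ⊔ H)) := by
    have h1 : Odd ((pCoreOf 2 L).relIndex (CL L)) := (isSylowTwoIn_R_CL hC hZ).2.2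
    have h2 : H.relIndex (CL L) ∣ (pCoreOf 2 L).relIndex (CL L) := relIndex_dvd_of_le_left _ hRH
    have h3 : H.relIndex (CL L ⊔ H) = H.relIndex (CL L) := by
      rw [sup_comm] at hnorm ⊢
      rw [← Subgroup.relIndex_subgroupOf (H := H) le_rfl,
        ← Subgroup.relIndex_subgroupOf (H := H) (K := CL L) (le_sup_right : CL L ≤ H ⊔ CL L),
        ← Subgroup.relIndex_sup_left ((CL L).subgroupOf (H ⊔ CL L)) (H.subgroupOf (H ⊔ CL L)),
        ← Subgroup.subgroupOf_sup le_sup_left le_sup_right]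
    rw [h3]
    exact h1.of_dvd_nat h2
  set q := QuotientGroup.mk' (H.subgroupOf (CL L ⊔ H)) ⟨y, hy⟩ with hq
  have ha : orderOf q ∣ 2 ^ n := orderOf_dvd_of_pow_eq_one (by
    rw [hq, ← map_pow, show (⟨y, hy⟩ : (CL L ⊔ H : Subgroup G)) ^ 2 ^ n = 1 from Subtype.ext h2,
      map_one])
  have hb : orderOf q ∣ H.relIndex (CL L ⊔ H) := orderOf_dvd_natCard q
  have h1 : orderOf q = 1 :=
    Nat.eq_one_of_dvd_coprimes ((Nat.coprime_two_left.mpr hodd).pow_left n) ha hb
  rw [orderOf_eq_one_iff, hq, QuotientGroup.mk'_apply, QuotientGroup.eq_one_iff,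
    mem_subgroupOf] at h1
  exact h1

theorem pCoreOf_act_range : pCoreOf 2 (act L).range = ⊥ := by
  haveI : Fact (Nat.Prime 2) := ⟨Nat.prime_two⟩
  obtain ⟨T, hT, -⟩ := exists_isSylowTwoIn_ge (G := G) (H := ⊥) (L := L) IsPGroup.of_bot bot_le
  obtain ⟨Q, hQ⟩ := isSylowTwoIn_iff.mp hT
  set Pg := ((pCore 2 ↥(act L).range).comap (act L).rangeRestrict).map L.subtype with hPg
  have hPgL : Pg ≤ L := map_subtype_le _
  have hPgn : L ≤ normalizer (Pg : Set G) := by
    refine Coprime.le_normalizer_of_conj_mem fun g hg x hx => ?_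
    obtain ⟨y, hy, rfl⟩ := hx
    exact ⟨_, (inferInstance : ((pCore 2 ↥(act L).range).comap (act L).rangeRestrict).Normal).conj_mem
      y hy ⟨g, hg⟩, rfl⟩
  have hCPg : CL L ≤ Pg := fun c hc => ⟨⟨c, CL_le L hc⟩, by
    show (act L).rangeRestrict ⟨c, CL_le L hc⟩ ∈ pCore 2 ↥(act L).range
    rw [show (act L).rangeRestrict ⟨c, CL_le L hc⟩ = 1 from Subtype.ext ((act_eq_one_iff _).mpr hc)]
    exact one_mem _, rfl⟩
  set D := T ⊓ Pg with hD
  have hPgCD : ∀ y ∈ Pg, ∃ c ∈ CL L, ∃ d ∈ D, y = c * d := by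
    rintro y hy
    obtain ⟨y', hy', rfl⟩ := id hy
    have h1 : (act L).rangeRestrict y' ∈
        (Q.mapSurjective (act L).rangeRestrict_surjective : Subgroup ↥(act L).range) :=
      Thompson.pCore_le_sylow _ hy'
    obtain ⟨t, ht, hte⟩ := h1
    have htT : (t : G) ∈ T := hQ ▸ mem_map_of_mem L.subtype ht
    have hc : ((y' * t⁻¹ : ↥L) : G) ∈ CL L := by
      rw [← act_eq_one_iff]
      have := congrArg Subtype.val hte
      simp only [MonoidHom.coe_rangeRestrict] at this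
      rw [map_mul, map_inv, this, mul_inv_cancel]
    refine ⟨_, hc, t, ⟨htT, ?_⟩, by simp⟩
    have := mul_mem (inv_mem (hCPg hc)) hy
    simpa using this
  have hCD : CL L ≤ normalizer (D : Set G) :=
    Coprime.le_normalizer_inf (CL_le_normalizer hC hZ hT) ((CL_le L).trans hPgn)
  have hRD : pCoreOf 2 L ≤ D :=
    le_inf (pCoreOf_le_sylowTwoIn hT) ((pCoreOf_le_CL L).trans hCPg)
  have hDn : L ≤ normalizer (D : Set G) := by
    refine Coprime.le_normalizer_of_conj_mem fun g hg x hx => ?_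
    have hxPg : g * x * g⁻¹ ∈ Pg := cj_mem_of_le_normalizer (hPgn hg) hx.2
    obtain ⟨c, hc, d, hd, hcd⟩ := hPgCD _ hxPg
    obtain ⟨n, hn⟩ := hT.2.1 ⟨x, hx.1⟩
    have hn' : x ^ 2 ^ n = 1 := congrArg Subtype.val hn
    refine two_element_mem hC hZ hRD hCD (n := n) (hcd ▸ mul_mem_sup hc hd) ?_
    rw [conj_pow, hn', mul_one, mul_inv_cancel]
  have hDR : D ≤ pCoreOf 2 L :=
    le_pCoreOf (inf_le_right.trans hPgL) hDn (hT.2.1.to_le inf_le_left)
  rw [pCoreOf, eq_bot_iff]
  rintro _ ⟨⟨_, y', rfl⟩, hz, rfl⟩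
  obtain ⟨c, hc, d, hd, hcd⟩ := hPgCD _ ⟨y', hz, rfl⟩
  rw [mem_bot]
  show act L y' = 1
  rw [act_eq_one_iff, show (y' : G) = c * d from hcd]
  exact mul_mem hc (pCoreOf_le_CL L (hDR hd))

omit hZ in
theorem isSolvable_of_overgroup (hN : NHyp G) (hR : pCoreOf 2 L ≠ ⊥) : Group.IsSolvable ↥L :=
  Coprime.solvable_of_le (le_normalizer_pCoreOf L)
    (hN _ ⟨pCoreOf 2 L, isPGroup_pCoreOf L, hR, rfl⟩)

end Finite

end Cfsg.Agent.LocalEven64
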