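import Mathlib
import Cfsg.Agent.LocalEven64.Overgroup

/-!
# `J(T)`-components inside an overgroup
-/

set_option autoImplicit false
set_option linter.unusedSectionVars false
set_option linter.style.haveILetI false

namespace Cfsg.Agent.LocalEven64

open Subgroup Cfsg FF
open scoped commutatorElement Pointwise

variable {G : Type*} [Group G] [Finite G] {L : Subgroup G}

/-- The image of a subgroup in the automorphism group of the module of `L`. -/
def img (L H : Subgroup G) : Subgroup (MulAut ↥(VL L)) := (H.subgroupOf L).map (act L)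

/-- The subgroup `[V, x]` of the module, in `G`. -/
noncomputable def imgW (L : Subgroup G) (x : MulAut ↥(VL L)) : Subgroup G :=
  (wSub x).map (VL L).subtype

theorem mem_img {H : Subgroup G} {g : G} (hg : g ∈ H) (hgL : g ∈ L) :
    act L ⟨g, hgL⟩ ∈ img L H := mem_map_of_mem _ (mem_subgroupOf.mpr hg)

theorem img_mono {H H' : Subgroup G} (h : H ≤ H') : img L H ≤ img L H' :=
  map_mono (comap_mono h)

theorem img_le_range (H : Subgroup G) : img L H ≤ (act L).range := by
  rintro _ ⟨g, -, rfl⟩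
  exact ⟨g, rfl⟩

theorem img_normalizer {H : Subgroup G} {g : ↥L} (hg : (g : G) ∈ normalizer (H : Set G))
    {y : MulAut ↥(VL L)} (hy : y ∈ img L H) : act L g * y * (act L g)⁻¹ ∈ img L H := by
  obtain ⟨h, hh, rfl⟩ := hy
  rw [← map_inv, ← map_mul, ← map_mul]
  exact mem_map_of_mem _ ((mem_normalizer_iff.mp hg _).mp hh)

theorem act_comm_eq (g h : ↥L) :
    act L ⟨(g : G) * h * (g : G)⁻¹ * (h : G)⁻¹, mul_mem (mul_mem (mul_mem g.2 h.2) (inv_mem g.2))
      (inv_mem h.2)⟩ = act L g * act L h * (act L g)⁻¹ * (act L h)⁻¹ := by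
  rw [← map_inv, ← map_inv, ← map_mul, ← map_mul, ← map_mul]
  rfl

theorem act_commute_of_mem {g h : ↥L} (hmem : (g : G) * h * (g : G)⁻¹ * (h : G)⁻¹ ∈ CL L) :
    Commute (act L g) (act L h) := by
  have h1 := (act_eq_one_iff (L := L) ⟨_, CL_le L hmem⟩).mpr hmem
  rw [show (⟨_, CL_le L hmem⟩ : ↥L) = ⟨(g : G) * h * (g : G)⁻¹ * (h : G)⁻¹, mul_mem (mul_mem
    (mul_mem g.2 h.2) (inv_mem g.2)) (inv_mem h.2)⟩ from rfl, act_comm_eq, mul_inv_eq_one,
    mul_inv_eq_iff_eq_mul] at h1
  exact h1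

variable (hN : NHyp G) (hZ : ZHyp G) (hC : centralizer (pCoreOf 2 L : Set G) ≤ pCoreOf 2 L)

omit [Finite G] in
theorem R_ne_bot (hC : centralizer (pCoreOf 2 L : Set G) ≤ pCoreOf 2 L) {g : G} (hg : g ≠ 1) :
    pCoreOf 2 L ≠ ⊥ := by
  intro h
  rw [h] at hC
  refine hg (mem_bot.mp (hC ?_))
  rw [mem_centralizer_iff]
  intro y hy
  rw [SetLike.mem_coe, mem_bot] at hy
  subst hy
  simp

include hN hC in
theorem isSolvable_range {g : G} (hg : g ≠ 1) : Group.IsSolvable ↥(act L).range := by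
  haveI := isSolvable_of_overgroup hC hN (R_ne_bot hC hg)
  exact Group.isSolvable_of_surjective (act L).rangeRestrict_surjective

include hN hZ hC

/-- The image of a maximal elementary abelian subgroup is generated by transvections. -/
theorem img_max_le_closure {T A : Subgroup G} (hT : IsSylowTwoIn T L)
    (hA : Thompson.IsMaxEAIn 2 A T) :
    img L A ≤ closure {t | t ∈ img L A ∧ IsTransvection t} := by
  by_cases htriv : ∀ g : G, g = 1
  · rintro _ ⟨a, -, rfl⟩
    rw [show a = 1 from Subtype.ext (htriv a), map_one]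
    exact one_mem _
  push Not at htriv
  obtain ⟨g, hg⟩ := htriv
  have hAL : A ≤ L := hA.1.trans hT.1
  have hE : IsElementaryAbelian 2 (img L A) :=
    Thompson.isElementaryAbelian_map _ (Thompson.isElementaryAbelian_subgroupOf hA.2.1 L)
  obtain ⟨hle, heq⟩ := offender_bound_of_solvable (pCoreOf_act_range hC hZ)
    (isSolvable_range hN hC hg) (VL_mul_self L) hE (img_le_range A)
  refine heq (le_antisymm hle ?_)
  set A0 := A ⊓ centralizer (VL L : Set G) with hA0
  set F := VL L ⊓ centralizer (A : Set G) with hF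
  have hVT : VL L ≤ T :=
    (VL_le_omega L).trans ((omegaCenterOf_le _).trans (pCoreOf_le_sylowTwoIn hT))
  have hm := measureOn_le_of_isMaxEAIn hA (isElementaryAbelian_VL L) hVT A0 inf_le_left
  have hV0 : VL L ⊓ centralizer (A0 : Set G) = VL L :=
    inf_eq_left.mpr (le_centralizer_iff.mp inf_le_right)
  rw [Thompson.measureOn_eq, Thompson.measureOn_eq, hV0, ← hF] at hm
  -- `|A| = |A₀| |Ā|`
  have hker : Nat.card A = Nat.card A0 * Nat.card (img L A) := by
    let f : ↥(A.subgroupOf L) →* MulAut ↥(VL L) := (act L).comp (A.subgroupOf L).subtype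
    have hrange : f.range = img L A := by
      rw [MonoidHom.range_comp, range_subtype]; rfl
    have hk : Nat.card f.ker = Nat.card A0 := Nat.card_congr
      { toFun := fun a => ⟨((a.1 : ↥L) : G), a.1.2, ((act_eq_one_iff (a.1 : ↥L)).mp a.2).2⟩
        invFun := fun a => ⟨⟨⟨a.1, hAL a.2.1⟩, a.2.1⟩, (act_eq_one_iff _).mpr ⟨hAL a.2.1, a.2.2⟩⟩
        left_inv := fun a => rfl
        right_inv := fun a => rfl }
    rw [← hk, ← hrange, ← Subgroup.index_ker, Subgroup.card_mul_index,
      Thompson.card_subgroupOf_of_le hAL]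
  have hfix : Nat.card F = Nat.card (fixedBy (img L A)) := Nat.card_congr
    { toFun := fun v => ⟨⟨v.1, v.2.1⟩, by
        rintro _ ⟨a, ha, rfl⟩
        refine Subtype.ext ?_
        rw [coe_act]
        exact cj_eq_self_iff.mpr (mem_centralizer_iff.mp v.2.2 _ ha)⟩
      invFun := fun v => ⟨v.1.1, v.1.2, mem_centralizer_iff.mpr fun a ha => by
        have := congrArg Subtype.val (v.2 _ (mem_img ha (hAL ha)))
        rw [coe_act] at this
        exact cj_eq_self_iff.mp this⟩
      left_inv := fun v => rfl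
      right_inv := fun v => rfl }
  rw [hker, mul_assoc] at hm
  rw [← hfix]
  exact Nat.le_of_mul_le_mul_left hm Nat.card_pos

/-- The image of `J(T)` is generated by transvections coming from maximal elementary abelian subgroups. -/
theorem img_thompson_le {T : Subgroup G} (hT : IsSylowTwoIn T L) :
    img L (thompsonSubgroupOf 2 T) ≤ closure {t | IsTransvection t ∧
      ∃ A, Thompson.IsMaxEAIn 2 A T ∧ t ∈ img L A} := by
  have h : thompsonSubgroupOf 2 T ≤ ((closure {t | IsTransvection t ∧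
      ∃ A, Thompson.IsMaxEAIn 2 A T ∧ t ∈ img L A}).comap (act L)).map L.subtype := by
    rw [Thompson.thompsonSubgroupOf_eq]
    refine sSup_le fun A hA a ha => ⟨⟨a, hT.1 (hA.1 ha)⟩, ?_, rfl⟩
    have h1 := img_max_le_closure hN hZ hC hT hA (mem_img ha (hT.1 (hA.1 ha)))
    refine Subgroup.closure_mono ?_ h1
    intro t ht
    exact ⟨ht.2, A, hA, ht.1⟩
  rintro _ ⟨j, hj, rfl⟩
  obtain ⟨y, hy, hyj⟩ := h hj
  rw [← Subtype.ext hyj]
  exact hy

theorem img_thompson_le_transGen {T : Subgroup G} (hT : IsSylowTwoIn T L) :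
    img L (thompsonSubgroupOf 2 T) ≤ transGen (act L).range :=
  (img_thompson_le hN hZ hC hT).trans
    (Subgroup.closure_mono (by
      rintro t ⟨ht, A, -, htA⟩
      exact ⟨img_le_range A htA, ht⟩))

/-- A transvection in the image of a subgroup of `J(T)`. -/
theorem mem_thompson_of_img {T A : Subgroup G} (hA : Thompson.IsMaxEAIn 2 A T) :
    A ≤ thompsonSubgroupOf 2 T := Thompson.le_thompsonSubgroupOf hA

variable {T K : Subgroup G} (hT : IsSylowTwoIn T L) (hK : IsJComponent T K) (hKL : K ≤ L)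
include hT hK hKL

omit hN hZ hC in
theorem R_le_normalizer_component : pCoreOf 2 L ≤ normalizer (K : Set G) :=
  le_normalizer_component hT.2.1 hK
    ((sup_le hKL ((Thompson.thompsonSubgroupOf_le T).trans hT.1)).trans (le_normalizer_pCoreOf L))
    ((pCoreOf_le_sylowTwoIn hT).trans
      (le_normalizer.trans (Thompson.normalizer_le_normalizer_thompsonSubgroupOf T)))

omit hN hZ hC in
theorem inf_R_le_pCoreOf : K ⊓ pCoreOf 2 L ≤ pCoreOf 2 K :=
  le_pCoreOf inf_le_left (Coprime.le_normalizer_inf le_normalizer (hKL.trans (le_normalizer_pCoreOf L)))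
    ((isPGroup_pCoreOf L).to_le inf_le_right)

omit hN hKL in
theorem not_le_CL : ¬ K ≤ CL L := by
  intro h
  refine not_isPGroup_component hK ((isPGroup_pCoreOf (p := 2) L).to_le ?_)
  rw [← hK.2.1]
  exact (commutator_mono h (Thompson.thompsonSubgroupOf_le T)).trans (commutator_CL_le hC hZ hT)

/-- The image of a component is generated by a small element inverted by a transvection from `J(T)`. -/
theorem component_data :
    pCoreOf 2 K = K ⊓ pCoreOf 2 L ∧ K ⊓ CL L = pCoreOf 2 K ∧
      ∃ x ∈ smallSet (act L).range, img L K = zpowers x ∧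
        ∃ t : MulAut ↥(VL L), IsTransvection t ∧
          t ∈ img L (thompsonSubgroupOf 2 T) ∧ t * x * t⁻¹ = x⁻¹ := by
  haveI : Fact (Nat.Prime 2) := ⟨Nat.prime_two⟩
  obtain ⟨k0, hk0, hk01⟩ : ∃ k ∈ K, k ≠ 1 := by
    refine (Subgroup.bot_or_exists_ne_one K).resolve_left fun h => not_isPGroup_component hK ?_
    rw [h]; exact IsPGroup.of_bot
  have hO := pCoreOf_act_range hC hZ
  have hsol := isSolvable_range hN hC hk01
  set J := thompsonSubgroupOf 2 T
  have hJL : J ≤ L := (Thompson.thompsonSubgroupOf_le T).trans hT.1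
  have hV := VL_mul_self L
  set X := (act L).range
  -- the image lies in the group generated by the small elements
  have htg : img L K ≤ transGen X := by
    have h1 : K ≤ ((transGen X).comap (act L)).map L.subtype := by
      refine hK.2.1.symm.le.trans ?_
      rw [commutator_le]
      intro k hk j hj
      refine ⟨⟨k, hKL hk⟩ * ⟨j, hJL hj⟩ * ⟨k, hKL hk⟩⁻¹ * ⟨j, hJL hj⟩⁻¹, ?_, rfl⟩
      have hj' : act L ⟨j, hJL hj⟩ ∈ transGen X := img_thompson_le_transGen hN hZ hC hT (mem_img hj _)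
      show act L (_ * _ * _ * _) ∈ transGen X
      rw [map_mul, map_mul, map_mul, map_inv, map_inv]
      exact mul_mem ((mem_normalizer_iff.mp (le_normalizer_transGen X ⟨_, rfl⟩) _).mp hj') (inv_mem hj')
    rintro _ ⟨k, hk, rfl⟩
    obtain ⟨y, hy, hyk⟩ := h1 hk
    rw [← Subtype.ext hyk]; exact hy
  have hsm : img L K ≤ closure (smallSet X) := by
    have h1 : K ≤ ((closure (smallSet X)).comap (act L)).map L.subtype := by
      conv_lhs => rw [← hK.1]
      rw [closure_le]
      rintro y ⟨hy, hyo⟩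
      refine ⟨⟨y, hKL hy⟩, ?_, rfl⟩
      refine mem_closure_smallSet_of_odd hO hsol hV (htg (mem_img hy (hKL hy))) ?_
      refine hyo.of_dvd_nat ?_
      refine (orderOf_map_dvd (act L) ⟨y, hKL hy⟩).trans ?_
      rw [Subgroup.orderOf_mk]
    rintro _ ⟨k, hk, rfl⟩
    obtain ⟨y, hy, hyk⟩ := h1 hk
    rw [← Subtype.ext hyk]; exact hy
  have hQC : pCoreOf 2 K ≤ CL L := by
    intro q hq
    have hqK := pCoreOf_le K hq
    obtain ⟨n, hn⟩ := (isPGroup_pCoreOf (p := 2) K) ⟨q, hq⟩
    refine (act_eq_one_iff ⟨q, hKL hqK⟩).mp ?_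
    have h3 : act L ⟨q, hKL hqK⟩ ^ 3 = 1 := closure_smallSet_pow_three hV (hsm (mem_img hqK _))
    have h2 : act L ⟨q, hKL hqK⟩ ^ 2 ^ n = 1 := by
      rw [← map_pow, show (⟨q, hKL hqK⟩ : ↥L) ^ 2 ^ n = 1 from
        Subtype.ext (by simpa using congrArg Subtype.val hn), map_one]
    have := pow_gcd_eq_one.mpr ⟨h3, h2⟩
    rwa [show Nat.gcd 3 (2 ^ n) = 1 from ((show Nat.Coprime 3 2 by decide).pow_right n), pow_one] at this
  have hQR : pCoreOf 2 K = K ⊓ pCoreOf 2 L :=
    le_antisymm (le_inf (pCoreOf_le K) (le_R_of_le_CL hC hZ (isPGroup_pCoreOf K) hQC))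
      (inf_R_le_pCoreOf hT hK hKL)
  -- index three
  have hKC : K ⊓ CL L = pCoreOf 2 K := by
    have hle : pCoreOf 2 K ≤ K ⊓ CL L := le_inf (pCoreOf_le K) hQC
    have h1 := relIndex_mul_relIndex _ _ _ hle (inf_le_left : K ⊓ CL L ≤ K)
    rw [hK.2.2.1] at h1
    rcases (Nat.dvd_prime Nat.prime_three).mp (Dvd.intro _ h1) with h | h
    · exact le_antisymm (relIndex_eq_one.mp h) hle
    · rw [h] at h1
      have h2 : (K ⊓ CL L).relIndex K = 1 :=
        Nat.eq_of_mul_eq_mul_left (show 0 < 3 by norm_num) (h1.trans (mul_one 3).symm)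
      exact absurd ((relIndex_eq_one.mp h2).trans inf_le_right) (not_le_CL hZ hC hT hK)
  -- the image has order three
  have hcard : Nat.card (img L K) = 3 := by
    let f : ↥(K.subgroupOf L) →* MulAut ↥(VL L) := (act L).comp (K.subgroupOf L).subtype
    have hrange : f.range = img L K := by rw [MonoidHom.range_comp, range_subtype]; rfl
    have hk : Nat.card f.ker = Nat.card (pCoreOf 2 K) := by
      rw [← hKC]
      exact Nat.card_congr
        { toFun := fun a => ⟨((a.1 : ↥L) : G), a.1.2, (act_eq_one_iff (a.1 : ↥L)).mp a.2⟩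
          invFun := fun a => ⟨⟨⟨a.1, hKL a.2.1⟩, a.2.1⟩, (act_eq_one_iff _).mpr a.2.2⟩
          left_inv := fun a => rfl
          right_inv := fun a => rfl }
    have h1 := Subgroup.card_mul_index f.ker
    rw [Subgroup.index_ker, hrange, hk, Thompson.card_subgroupOf_of_le hKL,
      ← Subgroup.relIndex_bot_left (H := K),
      ← relIndex_mul_relIndex _ _ _ bot_le (pCoreOf_le K), Subgroup.relIndex_bot_left, hK.2.2.1] at h1
    exact Nat.eq_of_mul_eq_mul_left Nat.card_pos h1
  refine ⟨hQR, hKC, ?_⟩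
  haveI : Fact (Nat.Prime 3) := ⟨Nat.prime_three⟩
  haveI := isCyclic_of_prime_card hcard
  obtain ⟨⟨x, hx⟩, hx1⟩ := IsCyclic.exists_generator (α := ↥(img L K))
  have hgen : img L K = zpowers x := by
    refine le_antisymm (fun y hy => ?_) (zpowers_le.mpr hx)
    obtain ⟨i, hi⟩ := hx1 ⟨y, hy⟩
    exact ⟨i, congrArg Subtype.val hi⟩
  have hox : orderOf x = 3 := by rw [← Nat.card_zpowers, ← hgen, hcard]
  -- a transvection from `J(T)` that does not centralize the image
  obtain ⟨t, ⟨ht, A, hA, htA⟩, hnc⟩ : ∃ t, (IsTransvection t ∧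
      ∃ A, Thompson.IsMaxEAIn 2 A T ∧ t ∈ img L A) ∧ ¬ Commute t x := by
    by_contra hall
    push Not at hall
    have h1 : img L J ≤ centralizer (img L K : Set (MulAut ↥(VL L))) := by
      refine (img_thompson_le hN hZ hC hT).trans ?_
      rw [closure_le]
      intro t ht
      rw [SetLike.mem_coe, mem_centralizer_iff, hgen]
      rintro _ ⟨i, rfl⟩
      exact ((hall t ht).zpow_right i).eq.symm
    have h2 : ⁅K, J⁆ ≤ CL L := by
      rw [commutator_le]
      intro k hk j hj
      rw [commutatorElement_def]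
      have h3 := mem_centralizer_iff.mp (h1 (mem_img hj (hJL hj))) _ (mem_img hk (hKL hk))
      refine (act_eq_one_iff (L := L) ⟨_, mul_mem (mul_mem (mul_mem (hKL hk) (hJL hj))
        (inv_mem (hKL hk))) (inv_mem (hJL hj))⟩).mp ?_
      rw [show (⟨_, mul_mem (mul_mem (mul_mem (hKL hk) (hJL hj)) (inv_mem (hKL hk))) (inv_mem (hJL hj))⟩ : ↥L) =
        ⟨((⟨k, hKL hk⟩ : ↥L) : G) * ((⟨j, hJL hj⟩ : ↥L) : G) * ((⟨k, hKL hk⟩ : ↥L) : G)⁻¹ *
          ((⟨j, hJL hj⟩ : ↥L) : G)⁻¹, mul_mem (mul_mem (mul_mem (hKL hk) (hJL hj))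
          (inv_mem (hKL hk))) (inv_mem (hJL hj))⟩ from rfl, act_comm_eq, h3]
      group
    exact not_le_CL hZ hC hT hK (hK.2.1 ▸ h2)
  have htJ : t ∈ img L J := img_mono (Thompson.le_thompsonSubgroupOf hA) htA
  have hconj : t * x * t⁻¹ ∈ zpowers x := by
    obtain ⟨j, hj, rfl⟩ := id htJ
    rw [← hgen]
    exact img_normalizer (thompson_le_normalizer hK hj) hx
  have htX : t ∈ X := img_le_range A htA
  have hti : t * x * t⁻¹ = x⁻¹ := by
    obtain ⟨i, hi⟩ := hconj
    have hi' : x ^ i = t * x * t⁻¹ := hi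
    rw [← zpow_mod_orderOf, hox] at hi'
    have h0 : 0 ≤ i % (3 : ℤ) := Int.emod_nonneg _ (by norm_num)
    have h3 : i % (3 : ℤ) < 3 := Int.emod_lt_of_pos _ (by norm_num)
    have hcases : i % (3 : ℤ) = 0 ∨ i % (3 : ℤ) = 1 ∨ i % (3 : ℤ) = 2 := by omega
    rcases hcases with h | h | h <;> rw [show ((3 : ℕ) : ℤ) = 3 from rfl, h] at hi'
    · exfalso
      rw [zpow_zero] at hi'
      rw [conj_eq_one_iff.mp hi'.symm, orderOf_one] at hox
      exact absurd hox (by norm_num)
    · refine absurd ?_ hnc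
      rw [zpow_one] at hi'
      show t * x = x * t
      conv_rhs => rw [hi']
      group
    · rw [← hi', show (2 : ℤ) = ((2 : ℕ) : ℤ) from rfl, zpow_natCast, eq_inv_iff_mul_eq_one,
        ← pow_succ, show x ^ (2 + 1) = x ^ orderOf x by rw [hox], pow_orderOf_eq_one]
  have hx1' : x ≠ 1 := fun h => by
    rw [h, orderOf_one] at hox
    exact absurd hox (by norm_num)
  have hsmall := isSmall_of_inverted hV ht (by rw [hox]; decide) hx1' hti
  refine ⟨x, ⟨?_, hsmall⟩, hgen, t, ht, htJ, hti⟩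
  have h1 : closure (smallSet X) ≤ pCoreOf 3 X := by
    rw [closure_le]; exact fun y hy => hy.1
  exact h1 (hsm hx)

/-- `W_K = [V, K]`. -/
theorem wOf_eq_imgW {x : MulAut ↥(VL L)} (hx : IsSmall x) (hgen : img L K = zpowers x) :
    wOf K = imgW L x := by
  obtain ⟨hQR, -, -⟩ := component_data hN hZ hC hT hK hKL
  have hV := VL_mul_self L
  obtain ⟨k, hk, hkx⟩ : x ∈ img L K := hgen ▸ mem_zpowers x
  have hdisp : ∀ u : ↥(VL L), ((x u * u : ↥(VL L)) : G) = ⁅(u : G), (k : G)⁆ := by
    intro u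
    have hinv : ((u : G))⁻¹ = (u : G) := by
      have := congrArg Subtype.val (inv_eq_self hV u)
      simpa using this
    rw [mul_comm, Subgroup.coe_mul, ← hkx, coe_act, commutatorElement_def, hinv, cj_apply]
    simp only [mul_assoc]
  have himg : ∀ w ∈ wSub x, ∃ u ∈ wSub x, x u * u = w := by
    intro w hw
    have hinj : Function.Injective (fun u : wSub x =>
        (⟨x u.1 * u.1, apply_mul_self_mem_wSub hV hx.odd u.1⟩ : wSub x)) := by
      intro u v huv
      have h0 : x u.1 * u.1 = x v.1 * v.1 := congrArg Subtype.val huv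
      have h1 : x (u.1 * v.1) = u.1 * v.1 := by
        rw [map_mul]
        calc x u.1 * x v.1 = (x u.1 * u.1) * (u.1 * x v.1) := by
              rw [mul_assoc (x u.1), ← mul_assoc u.1, hV, one_mul]
          _ = u.1 * v.1 * (x v.1 * x v.1) := by rw [h0]; ac_rfl
          _ = u.1 * v.1 := by rw [hV, mul_one]
      exact Subtype.ext (eq_of_mul_eq_one hV (eq_one_of_mem_wSub hV hx.odd (mul_mem u.2 v.2) h1))
    obtain ⟨u, hu⟩ := Finite.injective_iff_surjective.mp hinj ⟨w, hw⟩
    exact ⟨u.1, u.2, congrArg Subtype.val hu⟩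
  have hVR : VL L ≤ pCoreOf 2 L := (VL_le_omega L).trans (omegaCenterOf_le _)
  have hWU : imgW L x ≤ omegaCenterOf (pCoreOf 2 K) := by
    rintro _ ⟨w, hw, rfl⟩
    obtain ⟨u, -, rfl⟩ := himg w hw
    show ((x u * u : ↥(VL L)) : G) ∈ omegaCenterOf (pCoreOf 2 K)
    refine mem_omegaCenterOf ?_ ?_ ?_
    · rw [hQR]
      refine ⟨?_, hVR (x u * u).2⟩
      rw [hdisp]
      have h1 := R_le_normalizer_component hT hK hKL (hVR u.2)
      rw [commutatorElement_def]
      exact K.mul_mem (cj_mem_of_le_normalizer h1 hk) (K.inv_mem hk)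
    · rw [hQR]
      exact centralizer_le inf_le_right (omegaCenterOf_le_centralizer _ (VL_le_omega L (x u * u).2))
    · exact congrArg Subtype.val (hV (x u * u))
  have hle : imgW L x ≤ wOf K := by
    rintro _ ⟨w, hw, rfl⟩
    obtain ⟨u, hu, rfl⟩ := himg w hw
    show ((x u * u : ↥(VL L)) : G) ∈ wOf K
    rw [hdisp]
    exact commutator_mem_commutator (hWU (mem_map_of_mem _ hu)) hk
  refine (Subgroup.eq_of_le_of_card_ge hle ?_).symm
  rw [hK.2.2.2.2.1, imgW, Subgroup.card_map_of_injective (VL L).subtype_injective, hx.card_wSub hV]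

omit hN in
/-- `C_L(V)` normalizes `K O₂(L)`. -/
theorem commutator_component_CL : ⁅K, CL L⁆ ≤ pCoreOf 2 L := by
  have hJ : thompsonSubgroupOf 2 T ≤ L := (Thompson.thompsonSubgroupOf_le T).trans hT.1
  have hn : ∀ {H : Subgroup G}, H ≤ L → H ≤ normalizer (pCoreOf 2 L : Set G) :=
    fun h => h.trans (le_normalizer_pCoreOf L)
  have hJC : ⁅CL L, thompsonSubgroupOf 2 T⁆ ≤ pCoreOf 2 L :=
    (commutator_mono le_rfl (Thompson.thompsonSubgroupOf_le T)).trans (commutator_CL_le hC hZ hT)
  conv_lhs => rw [← hK.2.1]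
  refine three_subgroup_le le_normalizer (hn hKL) (hn hJ) (hn (CL_le L)) ?_ ?_
  · rw [commutator_comm (thompsonSubgroupOf 2 T)]
    exact (commutator_mono hJC le_rfl).trans (commutator_R_le L hKL)
  · exact (commutator_mono (Subgroup.le_normalizer_iff_commutator_le_left.mp
      (hKL.trans (le_normalizer_CL L))) le_rfl).trans hJC

end Cfsg.Agent.LocalEven64
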