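import Mathlib
import Cfsg.Agent.LocalEven64.OvergroupComp

/-!
# A component inside an overgroup is determined by its four-group
-/

set_option autoImplicit false
set_option linter.unusedSectionVars false
set_option linter.style.haveILetI false

namespace Cfsg.Agent.LocalEven64

open Subgroup Cfsg FF
open scoped commutatorElement Pointwise

variable {G : Type*} [Group G] [Finite G] {L : Subgroup G}
variable (hN : NHyp G) (hZ : ZHyp G) (hC : centralizer (pCoreOf 2 L : Set G) ≤ pCoreOf 2 L)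
include hN hZ hC

/-- The group `H = K O₂(L) ⟨a⟩` for `a ∈ J(T)` is normalized by `C_L(V)`. -/
theorem CL_le_normalizer_H {T K : Subgroup G} (hT : IsSylowTwoIn T L) (hK : IsJComponent T K)
    (hKL : K ≤ L) {a : G} (ha : a ∈ T) :
    CL L ≤ normalizer ((K ⊔ (pCoreOf 2 L ⊔ zpowers a) : Subgroup G) : Set G) := by
  set H := K ⊔ (pCoreOf 2 L ⊔ zpowers a) with hH
  have hRH : pCoreOf 2 L ≤ H := le_sup_left.trans le_sup_right
  refine Coprime.le_normalizer_of_conj_mem fun c hc x hx => ?_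
  have key : H ≤ H.comap (cj c) := by
    rw [hH, sup_le_iff, sup_le_iff]
    refine ⟨fun k hk => ?_, fun r hr => ?_, zpowers_le.mpr ?_⟩
    · have h1 : c * k * c⁻¹ * k⁻¹ ∈ pCoreOf 2 L := by
        have h2 : ⁅CL L, K⁆ ≤ pCoreOf 2 L := by
          rw [commutator_comm]; exact commutator_component_CL hZ hC hT hK hKL
        have := h2 (commutator_mem_commutator hc hk)
        rwa [commutatorElement_def] at this
      have := mul_mem (hRH h1) (mem_sup_left hk : k ∈ H)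
      simpa [cj, mul_assoc] using this
    · exact hRH (cj_mem_of_le_normalizer (le_normalizer_pCoreOf L (CL_le L hc)) hr)
    · have := mul_mem (hRH (commutator_CL_mem hC hZ hT hc ha))
        (mem_sup_right (mem_sup_right (mem_zpowers a)) : a ∈ H)
      simpa [cj, mul_assoc] using this
  exact key hx

theorem component_le_of_zpowers_eq {T₁ K₁ T₂ K₂ : Subgroup G} (hT₁ : IsSylowTwoIn T₁ L)
    (hK₁ : IsJComponent T₁ K₁) (hK₁L : K₁ ≤ L) (hT₂ : IsSylowTwoIn T₂ L)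
    (hK₂ : IsJComponent T₂ K₂) (hK₂L : K₂ ≤ L) (heq : img L K₂ = img L K₁) : K₂ ≤ K₁ := by
  have hV := VL_mul_self L
  obtain ⟨-, hKC₁, x, hx, hgen₁, t₁, ht₁, ht₁J, hti₁⟩ := component_data hN hZ hC hT₁ hK₁ hK₁L
  obtain ⟨hQR₂, hKC₂, y, hy, hgen₂, t₂, ht₂, ht₂J, hti₂⟩ := component_data hN hZ hC hT₂ hK₂ hK₂L
  obtain ⟨⟨a₁, ha₁L⟩, ha₁, rfl⟩ := id ht₁J
  obtain ⟨⟨a₂, ha₂L⟩, ha₂, rfl⟩ := id ht₂J
  have ha₁' : a₁ ∈ thompsonSubgroupOf 2 T₁ := ha₁
  have ha₂' : a₂ ∈ thompsonSubgroupOf 2 T₂ := ha₂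
  set H := K₁ ⊔ (pCoreOf 2 L ⊔ zpowers a₁) with hH
  have ha₁T : a₁ ∈ T₁ := Thompson.thompsonSubgroupOf_le T₁ ha₁'
  have hn : CL L ≤ normalizer (H : Set G) := CL_le_normalizer_H hN hZ hC hT₁ hK₁ hK₁L ha₁T
  have hK₁H : K₁ ≤ H := le_sup_left
  have hRH : pCoreOf 2 L ≤ H := le_sup_left.trans le_sup_right
  have hHL : H ≤ L := sup_le hK₁L (sup_le (pCoreOf_le L) (zpowers_le.mpr ha₁L))
  -- everything acting as an element of `⟨x, t₁⟩` lies in `C_L(V) H`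
  set Y := zpowers x ⊔ zpowers (act L ⟨a₁, ha₁L⟩) with hY
  have hmem : ∀ (g : G) (hg : g ∈ L), act L ⟨g, hg⟩ ∈ Y → g ∈ CL L ⊔ H := by
    intro g hg hgY
    have hYimg : Y ≤ img L H := by
      rw [hY, sup_le_iff, zpowers_le, zpowers_le]
      exact ⟨img_mono hK₁H (hgen₁ ▸ mem_zpowers x),
        mem_img (mem_sup_right (mem_sup_right (mem_zpowers a₁))) ha₁L⟩
    obtain ⟨⟨h, hhL⟩, hhH, hhe⟩ := hYimg hgY
    have h1 : act L (⟨g, hg⟩ * ⟨h, hhL⟩⁻¹) = 1 := by rw [map_mul, map_inv, hhe, mul_inv_cancel]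
    have h2 := mul_mem (mem_sup_left ((act_eq_one_iff _).mp h1) : _ ∈ CL L ⊔ H)
      (mem_sup_right (show h ∈ H from hhH))
    simpa using h2
  have htY : act L ⟨a₂, ha₂L⟩ ∈ Y := by
    have hyx : img L K₁ = zpowers y := heq ▸ hgen₂
    have h0 : y ∈ zpowers x := hgen₁ ▸ hyx.symm ▸ mem_zpowers y
    have h0' : x ∈ zpowers y := hyx ▸ hgen₁.symm ▸ mem_zpowers x
    have hti₂' : act L ⟨a₂, ha₂L⟩ * x * (act L ⟨a₂, ha₂L⟩)⁻¹ = x⁻¹ := by
      obtain ⟨i, rfl⟩ := h0'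
      rw [← conj_zpow, hti₂, inv_zpow]
    have h1 := transvection_mul_mem_zpowers hV ht₁ ht₂ hx.2 hti₁ hti₂'
    have h2 := Y.mul_mem (le_sup_left (b := zpowers (act L ⟨a₁, ha₁L⟩)) h1)
      (mem_sup_right (inv_mem (mem_zpowers (act L ⟨a₁, ha₁L⟩))))
    rwa [mul_inv_cancel_right] at h2
  have hK₂Y : ∀ (g : G) (hg : g ∈ K₂), act L ⟨g, hK₂L hg⟩ ∈ Y := fun g hg => by
    refine mem_sup_left ?_
    rw [← hgen₁, ← heq]
    exact mem_img hg _
  -- two-elements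
  have htwo : ∀ (g : G) (hg : g ∈ L), act L ⟨g, hg⟩ ∈ Y → ∀ n : ℕ, g ^ 2 ^ n = 1 → g ∈ H :=
    fun g hg hgY n hn2 => two_element_mem hC hZ hRH hn (hmem g hg hgY) hn2
  obtain ⟨n, hn2⟩ := hT₂.2.1 ⟨a₂, Thompson.thompsonSubgroupOf_le T₂ ha₂'⟩
  have hn2' : a₂ ^ 2 ^ n = 1 := congrArg Subtype.val hn2
  have ha₂H : a₂ ∈ H := htwo a₂ ha₂L htY n hn2'
  have hKH : K₂ ≤ H := by
    intro k hk
    -- `⁅k², a₂⁆` agrees with `k` modulo `C(V)`
    have hkk : k * k ∈ K₂ := mul_mem hk hk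
    set z := (k * k) * a₂ * (k * k)⁻¹ with hz
    have hzL : z ∈ L := mul_mem (mul_mem (hK₂L hkk) ha₂L) (inv_mem (hK₂L hkk))
    have hzY : act L ⟨z, hzL⟩ ∈ Y := by
      rw [show (⟨z, hzL⟩ : ↥L) = ⟨k * k, hK₂L hkk⟩ * ⟨a₂, ha₂L⟩ * ⟨k * k, hK₂L hkk⟩⁻¹ from rfl,
        map_mul, map_mul, map_inv]
      exact mul_mem (mul_mem (hK₂Y _ hkk) htY) (inv_mem (hK₂Y _ hkk))
    have hzH : z ∈ H := htwo z hzL hzY n (by rw [hz, conj_pow, hn2', mul_one, mul_inv_cancel])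
    have hd : z * a₂⁻¹ ∈ H := mul_mem hzH (inv_mem ha₂H)
    have hdK : z * a₂⁻¹ ∈ K₂ := by
      have := (hK₂.2.1.le) (commutator_mem_commutator hkk ha₂')
      rwa [commutatorElement_def] at this
    have he : act L ⟨z * a₂⁻¹, hK₂L hdK⟩ = act L ⟨k, hK₂L hk⟩ := by
      obtain ⟨i, hi⟩ : act L ⟨k, hK₂L hk⟩ ∈ zpowers y := hgen₂ ▸ mem_img hk _
      have hi' : y ^ i = act L ⟨k, hK₂L hk⟩ := hi
      rw [show (⟨z * a₂⁻¹, hK₂L hdK⟩ : ↥L) =
        ⟨k, hK₂L hk⟩ * ⟨k, hK₂L hk⟩ * ⟨a₂, ha₂L⟩ * (⟨k, hK₂L hk⟩ * ⟨k, hK₂L hk⟩)⁻¹ * ⟨a₂, ha₂L⟩⁻¹ from rfl]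
      simp only [map_mul, map_inv, ← hi', ← zpow_add]
      have e1 : act L ⟨a₂, ha₂L⟩ * (y ^ (i + i))⁻¹ * (act L ⟨a₂, ha₂L⟩)⁻¹ = y ^ (i + i) := by
        rw [← inv_zpow, ← conj_zpow]
        congr 1
        have := congrArg (·⁻¹) hti₂
        simpa only [mul_inv_rev, inv_inv, mul_assoc] using this
      calc y ^ (i + i) * act L ⟨a₂, ha₂L⟩ * (y ^ (i + i))⁻¹ * (act L ⟨a₂, ha₂L⟩)⁻¹
          = y ^ (i + i) * (act L ⟨a₂, ha₂L⟩ * (y ^ (i + i))⁻¹ * (act L ⟨a₂, ha₂L⟩)⁻¹) := by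
            group
        _ = y ^ i * (y ^ (3 : ℤ)) ^ i := by
            rw [e1, ← zpow_add, ← zpow_mul, ← zpow_add]; congr 1; ring
        _ = y ^ i := by
            rw [show (y ^ (3 : ℤ)) = 1 from hy.2.pow_three ▸ zpow_natCast y 3, one_zpow, mul_one]
    have hc : k * (z * a₂⁻¹)⁻¹ ∈ pCoreOf 2 K₂ := by
      rw [← hKC₂]
      refine ⟨K₂.mul_mem hk (K₂.inv_mem hdK), ?_⟩
      have h1 : act L (⟨k, hK₂L hk⟩ * ⟨z * a₂⁻¹, hK₂L hdK⟩⁻¹) = 1 := by
        rw [map_mul, map_inv, he, mul_inv_cancel]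
      exact (act_eq_one_iff _).mp h1
    have hcH : k * (z * a₂⁻¹)⁻¹ ∈ H := hRH (by rw [hQR₂] at hc; exact hc.2)
    have := mul_mem hcH hd
    rwa [inv_mul_cancel_right] at this
  intro k hk
  -- odd generation
  have hP : IsPGroup 2 (pCoreOf 2 L ⊔ zpowers a₁ : Subgroup G) :=
    hT₁.2.1.to_le (sup_le (pCoreOf_le_sylowTwoIn hT₁) (zpowers_le.mpr ha₁T))
  have hPn : pCoreOf 2 L ⊔ zpowers a₁ ≤ normalizer (K₁ : Set G) :=
    sup_le (R_le_normalizer_component hT₁ hK₁ hK₁L)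
      (zpowers_le.mpr (thompson_le_normalizer hK₁ ha₁'))
  have : K₂ ≤ K₁ := by
    rw [← hK₂.1, closure_le]
    rintro g ⟨hg, hgo⟩
    exact mem_of_odd_of_sup hP hPn (hKH hg) hgo
  exact this hk

/-- Two components in `L` whose four-groups meet are equal. -/
theorem component_eq {T₁ K₁ T₂ K₂ : Subgroup G} (hT₁ : IsSylowTwoIn T₁ L)
    (hK₁ : IsJComponent T₁ K₁) (hK₁L : K₁ ≤ L) (hT₂ : IsSylowTwoIn T₂ L)
    (hK₂ : IsJComponent T₂ K₂) (hK₂L : K₂ ≤ L) (hW : wOf K₁ ⊓ wOf K₂ ≠ ⊥) : K₁ = K₂ := by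
  have hV := VL_mul_self L
  obtain ⟨-, -, x, hx, hgen₁, -⟩ := component_data hN hZ hC hT₁ hK₁ hK₁L
  obtain ⟨-, -, y, hy, hgen₂, -⟩ := component_data hN hZ hC hT₂ hK₂ hK₂L
  rw [wOf_eq_imgW hN hZ hC hT₁ hK₁ hK₁L hx.2 hgen₁, wOf_eq_imgW hN hZ hC hT₂ hK₂ hK₂L hy.2 hgen₂,
    imgW, imgW, ← Subgroup.map_inf _ _ _ (VL L).subtype_injective] at hW
  have hyx : y ∈ zpowers x := by
    refine (small_cases hV hx.2 hy.2 (smallSet_commute hV hy hx)).resolve_right fun h => hW ?_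
    rw [h.2, Subgroup.map_bot]
  have heq : zpowers y = zpowers x := Subgroup.eq_of_le_of_card_ge (zpowers_le.mpr hyx)
    (by rw [Nat.card_zpowers, Nat.card_zpowers, hx.2.1, hy.2.1])
  have heq' : img L K₂ = img L K₁ := by rw [hgen₁, hgen₂, heq]
  exact le_antisymm (component_le_of_zpowers_eq hN hZ hC hT₂ hK₂ hK₂L hT₁ hK₁ hK₁L heq'.symm)
    (component_le_of_zpowers_eq hN hZ hC hT₁ hK₁ hK₁L hT₂ hK₂ hK₂L heq')

theorem wOf_ne_bot {T K : Subgroup G} (hK : IsJComponent T K) : wOf K ≠ ⊥ := fun h => by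
  have := hK.2.2.2.2.1
  rw [h, Subgroup.card_bot] at this
  exact absurd this (by norm_num)

/-- `N_L(W_K) ≤ N(K)`. -/
theorem normalizer_wOf_le {T K : Subgroup G} (hT : IsSylowTwoIn T L) (hK : IsJComponent T K)
    (hKL : K ≤ L) {g : G} (hg : g ∈ L) (hgW : g ∈ normalizer (wOf K : Set G)) :
    g ∈ normalizer (K : Set G) := by
  rw [← map_cj_eq_self_iff]
  refine component_eq hN hZ hC (sylowTwoIn_conj_of_mem hT hg) (isJComponent_map hK g) ?_ hT hK hKL ?_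
  · rintro _ ⟨k, hk, rfl⟩
    exact mul_mem (mul_mem hg (hKL hk)) (inv_mem hg)
  · rw [← wOf_map (cj_injective g), map_cj_eq_self_iff.mpr hgW, inf_idem]
    exact wOf_ne_bot hN hZ hC hK

/-- Two components of `L` normalize each other, and distinct ones have commuting four-groups. -/
theorem component_normalizes {T₁ K₁ T₂ K₂ : Subgroup G} (hT₁ : IsSylowTwoIn T₁ L)
    (hK₁ : IsJComponent T₁ K₁) (hK₁L : K₁ ≤ L) (hT₂ : IsSylowTwoIn T₂ L)
    (hK₂ : IsJComponent T₂ K₂) (hK₂L : K₂ ≤ L) :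
    K₂ ≤ normalizer (K₁ : Set G) ∧ (K₁ ≠ K₂ → K₂ ≤ centralizer (wOf K₁ : Set G)) := by
  by_cases hne : K₁ = K₂
  · subst hne; exact ⟨le_normalizer, fun h => absurd rfl h⟩
  have hV := VL_mul_self L
  obtain ⟨-, -, x, hx, hgen₁, -⟩ := component_data hN hZ hC hT₁ hK₁ hK₁L
  obtain ⟨-, -, y, hy, hgen₂, -⟩ := component_data hN hZ hC hT₂ hK₂ hK₂L
  have hWx := wOf_eq_imgW hN hZ hC hT₁ hK₁ hK₁L hx.2 hgen₁
  have hWy := wOf_eq_imgW hN hZ hC hT₂ hK₂ hK₂L hy.2 hgen₂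
  have hfix : ∀ w ∈ wSub x, y w = w := by
    rcases small_cases hV hx.2 hy.2 (smallSet_commute hV hy hx) with h | h
    · exfalso
      refine hne (component_eq hN hZ hC hT₁ hK₁ hK₁L hT₂ hK₂ hK₂L ?_)
      have heq : zpowers y = zpowers x := Subgroup.eq_of_le_of_card_ge (zpowers_le.mpr h)
        (by rw [Nat.card_zpowers, Nat.card_zpowers, hx.2.1, hy.2.1])
      have h1 := wOf_eq_imgW hN hZ hC hT₂ hK₂ hK₂L hx.2 (hgen₂.trans heq)
      rw [h1, ← hWx, inf_idem]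
      exact wOf_ne_bot hN hZ hC hK₁
    · exact h.1
  have hcent : K₂ ≤ centralizer (wOf K₁ : Set G) := by
    intro k hk
    rw [mem_centralizer_iff, hWx]
    rintro _ ⟨w, hw, rfl⟩
    have h1 : act L ⟨k, hK₂L hk⟩ w = w :=
      zpowers_apply_eq (hfix w hw) (hgen₂ ▸ mem_img hk (hK₂L hk))
    have h2 := congrArg Subtype.val h1
    rw [coe_act] at h2
    exact (cj_eq_self_iff.mp h2).symm
  exact ⟨fun k hk => normalizer_wOf_le hN hZ hC hT₁ hK₁ hK₁L (hK₂L hk)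
    (centralizer_le_normalizer _ (hcent hk)), fun _ => hcent⟩

/-- Components of `L` are subnormal in `L`. -/
theorem component_isSubnormal {T K : Subgroup G} (hT : IsSylowTwoIn T L) (hK : IsJComponent T K)
    (hKL : K ≤ L) : (K.subgroupOf L).IsSubnormal := by
  have hV := VL_mul_self L
  obtain ⟨-, -, x, hx, hgen, -⟩ := component_data hN hZ hC hT hK hKL
  set R := pCoreOf 2 L
  set X := (act L).range
  have hKR : K ⊔ R ≤ L := sup_le hKL (pCoreOf_le L)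
  set M3 := (closure (smallSet X)).comap (act L) with hM3
  set M2 := (zpowers x).comap (act L) with hM2
  haveI n3 : M3.Normal := by
    refine ⟨fun n hn g => ?_⟩
    show act L (g * n * g⁻¹) ∈ closure (smallSet X)
    rw [map_mul, map_mul, map_inv]
    exact (mem_normalizer_iff.mp (le_normalizer_closure_smallSet X ⟨g, rfl⟩) _).mp hn
  have h23 : M2 ≤ M3 := comap_mono (zpowers_le.mpr (subset_closure hx))
  have n2 : (M2.subgroupOf M3).Normal := by
    refine ⟨fun n hn g => ?_⟩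
    show act L ((g : ↥L) * (n : ↥L) * (g : ↥L)⁻¹) ∈ zpowers x
    have hc : Commute (act L (g : ↥L)) (act L (n : ↥L)) := by
      have hab := (Thompson.isElementaryAbelian_closure (p := 3)
        (fun _ hx _ hy => (smallSet_commute hV hx hy).eq) (fun _ hx => hx.2.pow_three) :
          IsElementaryAbelian 3 (closure (smallSet X))).1
      exact Thompson.elemAb_comm hab g.2 n.2
    rw [map_mul, map_mul, map_inv, hc.eq, mul_inv_cancel_right]
    exact hn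
  have h12 : (K ⊔ R).subgroupOf L ≤ M2 := by
    rintro ⟨g, hgL⟩ hg
    show act L ⟨g, hgL⟩ ∈ zpowers x
    have h1 : img L (K ⊔ R) ≤ zpowers x := by
      rw [img, Subgroup.subgroupOf_sup hKL (pCoreOf_le L), Subgroup.map_sup, sup_le_iff]
      refine ⟨hgen.le, ?_⟩
      rintro _ ⟨r, hr, rfl⟩
      rw [(act_eq_one_iff r).mpr (pCoreOf_le_CL L hr)]
      exact one_mem _
    exact h1 (mem_img (H := K ⊔ R) (show g ∈ K ⊔ R from hg) hgL)
  have n1 : (((K ⊔ R).subgroupOf L).subgroupOf M2).Normal := by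
    rw [normal_subgroupOf_iff_le_normalizer h12]
    intro g hg
    have hgC : (g : G) ∈ CL L ⊔ K := by
      obtain ⟨i, hi⟩ := (hg : act L g ∈ zpowers x)
      have hx' : act L g ∈ img L K := hgen ▸ ⟨i, hi⟩
      obtain ⟨k, hk, hke⟩ := hx'
      have h1 : act L (g * k⁻¹) = 1 := by rw [map_mul, map_inv, hke, mul_inv_cancel]
      have h2 := mul_mem (mem_sup_left ((act_eq_one_iff _).mp h1) : _ ∈ CL L ⊔ K) (mem_sup_right hk)
      simpa using h2
    have hnorm : CL L ⊔ K ≤ normalizer ((K ⊔ R : Subgroup G) : Set G) := by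
      refine sup_le (Coprime.le_normalizer_of_conj_mem fun c hc y hy => ?_)
        (le_sup_left.trans le_normalizer)
      have key : K ⊔ R ≤ (K ⊔ R).comap (cj c) := by
        rw [sup_le_iff]
        refine ⟨fun k hk => ?_, fun r hr => mem_sup_right
          (cj_mem_of_le_normalizer (le_normalizer_pCoreOf L (CL_le L hc)) hr)⟩
        have h2 : ⁅CL L, K⁆ ≤ R := by
          rw [commutator_comm]; exact commutator_component_CL hZ hC hT hK hKL
        have h3 := h2 (commutator_mem_commutator hc hk)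
        rw [commutatorElement_def] at h3
        have := mul_mem (mem_sup_right h3 : _ ∈ K ⊔ R) (mem_sup_left hk)
        simpa [cj, mul_assoc] using this
      exact key hy
    rw [mem_normalizer_iff]
    intro y
    exact mem_normalizer_iff.mp (hnorm hgC) (y : G)
  have n0 : ((K.subgroupOf L).subgroupOf ((K ⊔ R).subgroupOf L)).Normal := by
    have hle : K.subgroupOf L ≤ (K ⊔ R).subgroupOf L := comap_mono le_sup_left
    rw [normal_subgroupOf_iff_le_normalizer hle]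
    intro g hg
    rw [mem_normalizer_iff]
    intro y
    exact mem_normalizer_iff.mp
      ((sup_le le_normalizer (R_le_normalizer_component hT hK hKL) : K ⊔ R ≤ _) hg) (y : G)
  exact .step _ _ (comap_mono le_sup_left) (.step _ _ h12 (.step _ _ h23 n3.isSubnormal n2) n1) n0

end Cfsg.Agent.LocalEven64
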