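import Mathlib
import Cfsg.Agent.LocalEven64.OvergroupUnique

/-!
# Existence of components and the decomposition of an overgroup
-/

set_option autoImplicit false
set_option linter.unusedSectionVars false
set_option linter.style.haveILetI false

namespace Cfsg.Agent.LocalEven64

open Subgroup Cfsg FF
open scoped commutatorElement Pointwise

variable {G : Type*} [Group G] [Finite G]

theorem exists_pow_two_pow_odd (e : G) : ∃ n : ℕ, Odd (orderOf (e ^ 2 ^ n)) := by
  obtain ⟨n, m, hm, h⟩ := Nat.exists_eq_two_pow_mul_odd (orderOf_pos e).ne'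
  refine ⟨n, ?_⟩
  rw [orderOf_pow_of_dvd (by positivity) (h ▸ dvd_mul_right _ _), h,
    Nat.mul_div_cancel_left _ (by positivity)]
  exact hm

variable {L : Subgroup G} (hN : NHyp G) (hZ : ZHyp G)
  (hC : centralizer (pCoreOf 2 L : Set G) ≤ pCoreOf 2 L)
include hN hZ hC

/-- For every small element inverted by a transvection coming from a maximal elementary abelian subgroup of `T`
there is a `J(T)`-component with that image. -/
theorem exists_component {T A : Subgroup G} (hT : IsSylowTwoIn T L) (hA : Thompson.IsMaxEAIn 2 A T)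
    {a : G} (haA : a ∈ A) (haL : a ∈ L) {x : MulAut ↥(VL L)} (hx : x ∈ smallSet (act L).range)
    (ht : IsTransvection (act L ⟨a, haL⟩))
    (hti : act L ⟨a, haL⟩ * x * (act L ⟨a, haL⟩)⁻¹ = x⁻¹) :
    ∃ K, IsJComponent T K ∧ K ≤ L ∧ img L K = zpowers x := by
  haveI : Fact (Nat.Prime 2) := ⟨Nat.prime_two⟩
  have hV := VL_mul_self L
  set X := (act L).range
  set R := pCoreOf 2 L with hR
  set t := act L ⟨a, haL⟩ with htdef
  have haT : a ∈ T := hA.1 haA
  have ha2 : a * a = 1 := by rw [← sq]; exact hA.2.1.2 a haA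
  have hainv : a⁻¹ = a := inv_eq_of_mul_eq_one_right ha2
  have ht2 : t⁻¹ = t := inv_eq_of_mul_eq_one_right (ht.mul_self hV)
  have hx3 : x ^ (3 : ℤ) = 1 := by
    rw [show (3 : ℤ) = ((3 : ℕ) : ℤ) from rfl, zpow_natCast]; exact hx.2.pow_three
  obtain ⟨⟨l, hl⟩, hlx⟩ := (pCoreOf_le X hx.1 : x ∈ X)
  set b := l * a * l⁻¹ with hbdef
  have hbL : b ∈ L := mul_mem (mul_mem hl haL) (inv_mem hl)
  have hb2 : b * b = 1 := by rw [hbdef, ← sq, conj_pow, sq, ha2, mul_one, mul_inv_cancel]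
  have hT' : IsSylowTwoIn (T.map (cj l)) L := sylowTwoIn_conj_of_mem hT hl
  have hbT' : b ∈ T.map (cj l) := ⟨a, haT, rfl⟩
  have hactb : act L ⟨b, hbL⟩ = x * t * x⁻¹ := by
    rw [show (⟨b, hbL⟩ : ↥L) = ⟨l, hl⟩ * ⟨a, haL⟩ * ⟨l, hl⟩⁻¹ from rfl, map_mul, map_mul, map_inv,
      hlx]
  set r := a * b with hrdef
  have hrL : r ∈ L := mul_mem haL hbL
  have hactr : act L ⟨r, hrL⟩ = x := by
    rw [show (⟨r, hrL⟩ : ↥L) = ⟨a, haL⟩ * ⟨b, hbL⟩ from rfl, map_mul, hactb, ← htdef]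
    calc t * (x * t * x⁻¹) = (t * x * t⁻¹) * x⁻¹ := by rw [ht2]; group
      _ = x ^ (3 : ℤ) * (x⁻¹ * x⁻¹) := by rw [hti, hx3, one_mul]
      _ = x := by group
  have hra : a * r * a⁻¹ = r⁻¹ := by
    have hbinv : b⁻¹ = b := inv_eq_of_mul_eq_one_right hb2
    rw [hrdef, mul_inv_rev, hbinv, hainv, ← mul_assoc, ha2, one_mul]
  have hR3 : r ^ 3 ∈ R := by
    have hc : r ^ 3 ∈ CL L := by
      refine (act_eq_one_iff ⟨r ^ 3, pow_mem hrL 3⟩).mp ?_
      rw [show (⟨r ^ 3, pow_mem hrL 3⟩ : ↥L) = ⟨r, hrL⟩ ^ 3 from rfl, map_pow, hactr]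
      exact hx.2.pow_three
    have h1 : r ^ 3 * r ^ 3 ∈ R := by
      have := commutator_CL_mem hC hZ hT hc haT
      rwa [show r ^ 3 * a * (r ^ 3)⁻¹ * a⁻¹ = r ^ 3 * (a * (r ^ 3)⁻¹ * a⁻¹) by group,
        show a * (r ^ 3)⁻¹ * a⁻¹ = r ^ 3 by
          rw [← inv_pow, ← conj_pow,
            show a * r⁻¹ * a⁻¹ = (a * r * a⁻¹)⁻¹ by group, hra, inv_inv]] at this
    obtain ⟨n, hn⟩ := (isPGroup_pCoreOf (p := 2) L) ⟨_, h1⟩
    refine two_element_mem hC hZ le_rfl ((CL_le L).trans (le_normalizer_pCoreOf L))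
      (mem_sup_left hc) (n := n + 1) ?_
    have h2 : (r ^ 3 * r ^ 3) ^ 2 ^ n = 1 := congrArg Subtype.val hn
    rwa [← sq, ← pow_mul (r ^ 3), ← pow_succ'] at h2
  set E := R ⊔ zpowers r with hEdef
  have hrn : zpowers r ≤ normalizer (R : Set G) :=
    zpowers_le.mpr (le_normalizer_pCoreOf L hrL)
  have hEelt : ∀ e ∈ E, ∃ ρ ∈ R, ∃ i : ℤ, e = ρ * r ^ i := by
    intro e he
    have he' : e ∈ ((R : Set G) * (zpowers r : Set G)) := by
      rw [← Subgroup.coe_mul_of_right_le_normalizer_left R _ hrn]; exact he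
    obtain ⟨ρ, hρ, _, ⟨i, rfl⟩, rfl⟩ := he'
    exact ⟨ρ, hρ, i, rfl⟩
  have hEL : E ≤ L := sup_le (pCoreOf_le L) (zpowers_le.mpr hrL)
  have hactE : ∀ (ρ : G) (hρ : ρ ∈ R) (i : ℤ) (h : ρ * r ^ i ∈ L),
      act L ⟨ρ * r ^ i, h⟩ = x ^ i := by
    intro ρ hρ i h
    rw [show (⟨ρ * r ^ i, h⟩ : ↥L) = ⟨ρ, pCoreOf_le L hρ⟩ * ⟨r, hrL⟩ ^ i from
        Subtype.ext (by simp), map_mul, map_zpow, hactr,
      (act_eq_one_iff ⟨ρ, pCoreOf_le L hρ⟩).mpr (pCoreOf_le_CL L hρ), one_mul]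
  have hECL : E ⊓ CL L ≤ R := by
    rintro e ⟨he, hec⟩
    obtain ⟨ρ, hρ, i, rfl⟩ := hEelt e he
    have h1 : x ^ i = 1 := by
      rw [← hactE ρ hρ i (CL_le L hec)]
      exact (act_eq_one_iff _).mpr hec
    rw [← orderOf_dvd_iff_zpow_eq_one, hx.2.1] at h1
    obtain ⟨j, rfl⟩ := h1
    refine mul_mem hρ ?_
    rw [zpow_mul, show r ^ ((3 : ℕ) : ℤ) = r ^ 3 from zpow_natCast r 3]
    exact zpow_mem hR3 j
  have hEimg : img L E ≤ zpowers x := by
    rintro _ ⟨⟨e, heL⟩, he, rfl⟩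
    obtain ⟨ρ, hρ, i, rfl⟩ := hEelt e he
    exact ⟨i, (hactE ρ hρ i heL).symm⟩
  -- `H = E⟨a⟩` contains all involutions of `L` acting like transvections inverting `x`
  set H := E ⊔ zpowers a with hHdef
  have haE : a ∈ normalizer (E : Set G) := by
    rw [← map_cj_eq_self_iff, hEdef, Subgroup.map_sup,
      map_cj_eq_self_iff.mpr (le_normalizer_pCoreOf L haL), MonoidHom.map_zpowers,
      show cj a r = r⁻¹ from hra, zpowers_inv]
  have hbH : b ∈ H := by
    have h1 := mul_mem (mem_sup_right (mem_zpowers a) : a ∈ H)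
      (mem_sup_left (mem_sup_right (mem_zpowers r)) : r ∈ H)
    rwa [hrdef, ← mul_assoc, ha2, one_mul] at h1
  have hRH : R ≤ H := le_sup_left.trans le_sup_left
  have hCH : CL L ≤ normalizer (H : Set G) := by
    refine Coprime.le_normalizer_of_conj_mem fun c hc y hy => ?_
    have hca : cj c a ∈ H := by
      have := mul_mem (hRH (commutator_CL_mem hC hZ hT hc haT))
        (mem_sup_right (mem_zpowers a) : a ∈ H)
      simpa [cj, mul_assoc] using this
    have hcb : cj c b ∈ H := by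
      have := mul_mem (hRH (commutator_CL_mem hC hZ hT' hc hbT')) hbH
      simpa [cj, mul_assoc] using this
    have key : H ≤ H.comap (cj c) := by
      rw [hHdef, hEdef, sup_le_iff, sup_le_iff]
      refine ⟨⟨fun ρ hρ => hRH (cj_mem_of_le_normalizer
        (le_normalizer_pCoreOf L (CL_le L hc)) hρ), zpowers_le.mpr ?_⟩, zpowers_le.mpr hca⟩
      show cj c (a * b) ∈ H
      rw [map_mul]; exact mul_mem hca hcb
    exact key hy
  have hinvol : ∀ (y : G) (hy : y ∈ L), y * y = 1 → IsTransvection (act L ⟨y, hy⟩) →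
      act L ⟨y, hy⟩ * x * (act L ⟨y, hy⟩)⁻¹ = x⁻¹ → y ∈ H := by
    intro y hy hy2 hyt hyi
    obtain ⟨i, hi⟩ := transvection_mul_mem_zpowers hV ht hyt hx.2 hti hyi
    have hi' : x ^ i = act L ⟨y, hy⟩ * t := hi
    set h := r ^ i * a with hh
    have hhH : h ∈ H :=
      mul_mem (mem_sup_left (mem_sup_right (zpow_mem (mem_zpowers r) i)))
        (mem_sup_right (mem_zpowers a))
    have hhL : h ∈ L := mul_mem (zpow_mem hrL i) haL
    have hhy : act L ⟨h, hhL⟩ = act L ⟨y, hy⟩ := by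
      rw [show (⟨h, hhL⟩ : ↥L) = ⟨r, hrL⟩ ^ i * ⟨a, haL⟩ from rfl, map_mul, map_zpow, hactr, hi',
        ← htdef, mul_assoc, ht.mul_self hV, mul_one]
    have hc : y * h⁻¹ ∈ CL L := (act_eq_one_iff (⟨y, hy⟩ * ⟨h, hhL⟩⁻¹)).mp (by
      rw [map_mul, map_inv, hhy, mul_inv_cancel])
    refine two_element_mem hC hZ hRH hCH (n := 1) ?_ (by rw [pow_one, sq, hy2])
    have := mul_mem (mem_sup_left hc : _ ∈ CL L ⊔ H) (mem_sup_right hhH)
    rwa [inv_mul_cancel_right] at this
  -- `J` normalizes `E`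
  set J := thompsonSubgroupOf 2 T with hJdef
  have hJT : J ≤ T := Thompson.thompsonSubgroupOf_le T
  have hJL : J ≤ L := hJT.trans hT.1
  have hJx : ∀ (j : G) (hj : j ∈ J), act L ⟨j, hJL hj⟩ * x * (act L ⟨j, hJL hj⟩)⁻¹ = x ∨
      act L ⟨j, hJL hj⟩ * x * (act L ⟨j, hJL hj⟩)⁻¹ = x⁻¹ := by
    intro j hj
    refine conj_eq_or hV hx.2 ?_
    have h1 : img L J ≤ normalizer (zpowers x : Set (MulAut ↥(VL L))) := by
      refine (img_thompson_le hN hZ hC hT).trans ?_
      rw [closure_le]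
      rintro s ⟨hs, B, -, hsB⟩
      rw [SetLike.mem_coe, ← map_cj_eq_self_iff, MonoidHom.map_zpowers]
      rcases trans_conj_small hV (img_le_range B hsB) hs hx with h | h
      · rw [cj_apply, h]
      · rw [cj_apply, h, zpowers_inv]
    exact (mem_normalizer_iff.mp (h1 (mem_img hj _)) x).mp (mem_zpowers x)
  have hJH : ∀ j ∈ J, ∀ y ∈ H, cj j y ∈ H := by
    intro j hj y hy
    have hgen : ∀ (z : G) (hz : z ∈ L), z * z = 1 → IsTransvection (act L ⟨z, hz⟩) →
        act L ⟨z, hz⟩ * x * (act L ⟨z, hz⟩)⁻¹ = x⁻¹ → cj j z ∈ H := by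
      intro z hz hz2 hzt hzi
      have hzL : cj j z ∈ L := mul_mem (mul_mem (hJL hj) hz) (inv_mem (hJL hj))
      have hact : act L ⟨cj j z, hzL⟩ =
          act L ⟨j, hJL hj⟩ * act L ⟨z, hz⟩ * (act L ⟨j, hJL hj⟩)⁻¹ := by
        rw [← map_inv, ← map_mul, ← map_mul]; rfl
      refine hinvol _ hzL ?_ (hact ▸ hzt.conj _) ?_
      · rw [← map_mul, hz2, map_one]
      rw [hact]
      set g := act L ⟨j, hJL hj⟩
      set s := act L ⟨z, hz⟩
      have hx0 : g⁻¹ * x * g = x ∨ g⁻¹ * x * g = x⁻¹ := by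
        rcases hJx j hj with h | h
        · left
          calc g⁻¹ * x * g = g⁻¹ * (g * x * g⁻¹) * g := by rw [h]
            _ = x := by group
        · right
          calc g⁻¹ * x * g = (g⁻¹ * x⁻¹ * g)⁻¹ := by group
            _ = (g⁻¹ * (g * x * g⁻¹) * g)⁻¹ := by rw [h]
            _ = x⁻¹ := by group
      have hgx : ∀ e : MulAut ↥(VL L), g * s * g⁻¹ * e * (g * s * g⁻¹)⁻¹ =
          g * (s * (g⁻¹ * e * g) * s⁻¹) * g⁻¹ := fun e => by group
      rw [hgx]
      rcases hx0 with h | h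
      · rw [h, hzi]
        calc g * x⁻¹ * g⁻¹ = (g * (g⁻¹ * x * g) * g⁻¹)⁻¹ := by rw [h]; group
          _ = x⁻¹ := by group
      · rw [h, ← conj_inv, hzi, inv_inv]
        calc g * x * g⁻¹ = (g * (g⁻¹ * x * g) * g⁻¹)⁻¹ := by rw [h]; group
          _ = x⁻¹ := by group
    have h1 : cj j a ∈ H := hgen a haL ha2 ht hti
    have h2 : cj j b ∈ H := by
      refine hgen b hbL hb2 (hactb ▸ ht.conj x) ?_
      rw [hactb]
      calc x * t * x⁻¹ * x * (x * t * x⁻¹)⁻¹ = x * (t * x * t⁻¹) * x⁻¹ := by group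
        _ = x⁻¹ := by rw [hti]; group
    have key : H ≤ H.comap (cj j) := by
      rw [hHdef, hEdef, sup_le_iff, sup_le_iff]
      refine ⟨⟨fun ρ hρ => hRH (cj_mem_of_le_normalizer (le_normalizer_pCoreOf L (hJL hj)) hρ),
        zpowers_le.mpr ?_⟩, zpowers_le.mpr h1⟩
      show cj j (a * b) ∈ H
      rw [map_mul]; exact mul_mem h1 h2
    exact key hy
  have hJE : ∀ j ∈ J, ∀ e ∈ E, cj j e ∈ E := by
    intro j hj e he
    obtain ⟨ρ, hρ, i, rfl⟩ := hEelt e he
    have hyH : cj j (ρ * r ^ i) ∈ H := hJH j hj _ (mem_sup_left he)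
    have hy' : cj j (ρ * r ^ i) ∈ ((E : Set G) * (zpowers a : Set G)) := by
      rw [← Subgroup.coe_mul_of_right_le_normalizer_left E _ (zpowers_le.mpr haE)]; exact hyH
    obtain ⟨e', he', _, ⟨m, rfl⟩, hem⟩ := hy'
    dsimp only at hem
    rcases Int.even_or_odd m with ⟨q, rfl⟩ | ⟨q, rfl⟩
    · rw [← two_mul, zpow_mul, zpow_ofNat, sq, ha2, one_zpow, mul_one] at hem
      exact hem ▸ he'
    · exfalso
      rw [zpow_add, zpow_mul, zpow_ofNat, sq, ha2, one_zpow, one_mul, zpow_one] at hem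
      have hL1 : cj j (ρ * r ^ i) ∈ L := mul_mem (mul_mem (hJL hj) (hEL he)) (inv_mem (hJL hj))
      have h1 : act L ⟨cj j (ρ * r ^ i), hL1⟩ ∈ zpowers x := by
        rw [show (⟨cj j (ρ * r ^ i), hL1⟩ : ↥L) =
            ⟨j, hJL hj⟩ * ⟨ρ * r ^ i, hEL he⟩ * ⟨j, hJL hj⟩⁻¹ from rfl,
          map_mul, map_mul, map_inv, hactE ρ hρ i (hEL he), ← conj_zpow]
        rcases hJx j hj with h | h <;> rw [h]
        · exact zpow_mem (mem_zpowers x) i
        · exact zpow_mem (inv_mem (mem_zpowers x)) i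
      have h2 : act L ⟨cj j (ρ * r ^ i), hL1⟩ = act L ⟨e', hEL he'⟩ * t := by
        rw [htdef, ← map_mul]; congr 1; exact Subtype.ext hem.symm
      have h3 : t ∈ zpowers x := by
        have := mul_mem (inv_mem (hEimg (mem_img he' (hEL he')))) h1
        rwa [h2, inv_mul_cancel_left] at this
      have h4 : t * x * t⁻¹ = x := by
        obtain ⟨m', hm'⟩ := h3
        have hm'' : x ^ m' = t := hm'
        rw [← hm'']; group
      rw [hti] at h4
      have h5 : x ^ 2 = 1 := by rw [sq]; nth_rw 1 [← h4]; exact inv_mul_cancel x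
      have h6 := hx.2.pow_three
      rw [pow_succ, h5, one_mul] at h6
      exact hx.2.ne_one h6
  -- the component
  set S : Set G := {g | g ∈ E ∧ Odd (orderOf g)} with hSdef
  set K := closure S with hKdef
  have hKE : K ≤ E := by rw [hKdef, closure_le]; exact fun g hg => hg.1
  have hKL : K ≤ L := hKE.trans hEL
  have hEK : E ≤ normalizer (K : Set G) := by
    refine le_normalizer_closure fun e he g hg => ⟨mul_mem (mul_mem he hg.1) (inv_mem he), ?_⟩
    rw [show e * g * e⁻¹ = cj e g from rfl, orderOf_injective (cj e) (cj_injective e)]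
    exact hg.2
  have hJK : J ≤ normalizer (K : Set G) := by
    refine le_normalizer_closure fun j hj g hg => ⟨hJE j hj g hg.1, ?_⟩
    rw [show j * g * j⁻¹ = cj j g from rfl, orderOf_injective (cj j) (cj_injective j)]
    exact hg.2
  have hgenK : closure {g : G | g ∈ K ∧ Odd (orderOf g)} = K :=
    le_antisymm ((closure_le _).mpr fun g hg => hg.1)
      (Subgroup.closure_mono fun g hg => ⟨subset_closure hg, hg.2⟩)
  have himgK : img L K = zpowers x := by
    refine le_antisymm ((img_mono hKE).trans hEimg) (zpowers_le.mpr ?_)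
    obtain ⟨n, hn⟩ := exists_pow_two_pow_odd r
    have h1 : x ^ 2 ^ n ∈ img L K := by
      have hS' : r ^ 2 ^ n ∈ S := ⟨mem_sup_right (pow_mem (mem_zpowers r) _), hn⟩
      have h := mem_img (L := L) (subset_closure hS' : r ^ 2 ^ n ∈ K) (pow_mem hrL _)
      rwa [show (⟨r ^ 2 ^ n, pow_mem hrL _⟩ : ↥L) = ⟨r, hrL⟩ ^ 2 ^ n from rfl, map_pow, hactr] at h
    obtain ⟨m, hm⟩ := exists_pow_eq_self_of_coprime (x := x) (n := 2 ^ n)
      (by rw [hx.2.1]; exact (show Nat.Coprime 2 3 by decide).pow_left n)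
    exact hm ▸ pow_mem h1 m
  set Q := pCoreOf 2 K with hQdef
  have hQle : Q ≤ CL L := by
    intro q hq
    have hqK := pCoreOf_le K hq
    obtain ⟨n, hn⟩ := (isPGroup_pCoreOf (p := 2) K) ⟨q, hq⟩
    obtain ⟨i, hi⟩ : act L ⟨q, hKL hqK⟩ ∈ zpowers x := himgK ▸ mem_img hqK _
    have hi' : x ^ i = act L ⟨q, hKL hqK⟩ := hi
    refine (act_eq_one_iff ⟨q, hKL hqK⟩).mp ?_
    have h3 : act L ⟨q, hKL hqK⟩ ^ 3 = 1 := by
      rw [← hi', ← zpow_natCast, ← zpow_mul, mul_comm, zpow_mul,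
        show ((3 : ℕ) : ℤ) = 3 from rfl, hx3, one_zpow]
    have h2 : act L ⟨q, hKL hqK⟩ ^ 2 ^ n = 1 := by
      rw [← map_pow, show (⟨q, hKL hqK⟩ : ↥L) ^ 2 ^ n = 1 from
        Subtype.ext (by simpa using congrArg Subtype.val hn), map_one]
    have := pow_gcd_eq_one.mpr ⟨h3, h2⟩
    rwa [show Nat.gcd 3 (2 ^ n) = 1 from ((show Nat.Coprime 3 2 by decide).pow_right n), pow_one] at this
  have hKCL : K ⊓ CL L = Q := by
    refine le_antisymm ?_ (le_inf (pCoreOf_le K) hQle)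
    refine le_trans (le_inf inf_le_left ((inf_le_inf_right _ hKE).trans hECL)) ?_
    exact le_pCoreOf inf_le_left (Coprime.le_normalizer_inf le_normalizer
      (hKL.trans (le_normalizer_pCoreOf L))) ((isPGroup_pCoreOf L).to_le inf_le_right)
  have hidx : (pCoreOf 2 K).relIndex K = 3 := by
    let f : ↥(K.subgroupOf L) →* MulAut ↥(VL L) := (act L).comp (K.subgroupOf L).subtype
    have hrange : f.range = img L K := by rw [MonoidHom.range_comp, range_subtype]; rfl
    have hk : Nat.card f.ker = Nat.card Q := by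
      rw [← hKCL]
      exact Nat.card_congr
        { toFun := fun a => ⟨((a.1 : ↥L) : G), a.1.2, (act_eq_one_iff (a.1 : ↥L)).mp a.2⟩
          invFun := fun a => ⟨⟨⟨a.1, hKL a.2.1⟩, a.2.1⟩, (act_eq_one_iff _).mpr a.2.2⟩
          left_inv := fun a => rfl
          right_inv := fun a => rfl }
    have h1 := Subgroup.card_mul_index f.ker
    rw [Subgroup.index_ker, hrange, hk, Thompson.card_subgroupOf_of_le hKL, himgK,
      Nat.card_zpowers, hx.2.1,
      ← Subgroup.relIndex_bot_left (H := K),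
      ← relIndex_mul_relIndex _ _ _ bot_le (pCoreOf_le K), Subgroup.relIndex_bot_left] at h1
    exact (Nat.eq_of_mul_eq_mul_left Nat.card_pos h1).symm
  have hmodQ : ∀ g h : G, g ∈ K → h ∈ K → (∀ (hg : g ∈ L) (hh : h ∈ L),
      act L ⟨g, hg⟩ = act L ⟨h, hh⟩) → g * h⁻¹ ∈ Q := by
    intro g h hg hh he
    rw [← hKCL]
    refine ⟨K.mul_mem hg (K.inv_mem hh), (act_eq_one_iff (⟨g, hKL hg⟩ * ⟨h, hKL hh⟩⁻¹)).mp ?_⟩
    rw [map_mul, map_inv, he (hKL hg) (hKL hh), mul_inv_cancel]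
  have haJ : a ∈ J := Thompson.le_thompsonSubgroupOf hA haA
  have hcomm : ⁅K, J⁆ = K := by
    refine le_antisymm (Subgroup.le_normalizer_iff_commutator_le_left.mp hJK) ?_
    conv_lhs => rw [← hgenK]
    rw [closure_le]
    rintro k ⟨hk, hko⟩
    obtain ⟨i, hi⟩ : act L ⟨k, hKL hk⟩ ∈ zpowers x := himgK ▸ mem_img hk _
    have hi' : x ^ i = act L ⟨k, hKL hk⟩ := hi
    have hkk : k * k ∈ K := mul_mem hk hk
    set d := k * k * a * (k * k)⁻¹ * a⁻¹ with hd
    have hdc : d ∈ ⁅K, J⁆ := by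
      have := commutator_mem_commutator hkk haJ
      rwa [commutatorElement_def] at this
    have hdK : d ∈ K := (Subgroup.le_normalizer_iff_commutator_le_left.mp hJK) hdc
    have hq : k * d⁻¹ ∈ Q := by
      refine hmodQ k d hk hdK fun _ _ => ?_
      rw [show (⟨d, hKL hdK⟩ : ↥L) = ⟨k, hKL hk⟩ * ⟨k, hKL hk⟩ * ⟨a, haL⟩ *
        (⟨k, hKL hk⟩ * ⟨k, hKL hk⟩)⁻¹ * ⟨a, haL⟩⁻¹ from rfl]
      simp only [map_mul, map_inv, ← hi', ← zpow_add]
      have e1 : t * (x ^ (i + i))⁻¹ * t⁻¹ = x ^ (i + i) := by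
        rw [← inv_zpow, ← conj_zpow]
        congr 1
        have := congrArg (·⁻¹) hti
        simpa only [mul_inv_rev, inv_inv, mul_assoc] using this
      calc x ^ i = x ^ i * (x ^ (3 : ℤ)) ^ i := by rw [hx3, one_zpow, mul_one]
        _ = x ^ (i + i) * (t * (x ^ (i + i))⁻¹ * t⁻¹) := by
            rw [e1, ← zpow_add, ← zpow_mul, ← zpow_add]; congr 1; ring
        _ = x ^ (i + i) * t * (x ^ (i + i))⁻¹ * t⁻¹ := by group
    refine mem_of_odd_of_sup (P := Q) (isPGroup_pCoreOf K)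
      ((pCoreOf_le K).trans (Coprime.le_normalizer_commutator_left J K)) ?_ hko
    have := mul_mem (mem_sup_right hq : _ ∈ ⁅K, J⁆ ⊔ Q) (mem_sup_left hdc)
    rwa [inv_mul_cancel_right] at this
  have hcond2 : ∀ S' : Subgroup G, IsSylowTwoIn S' (K ⊔ J) → J ≤ S' →
      thompsonSubgroupOf 2 S' = J := by
    intro S' hS' hJS'
    obtain ⟨T₁, hT₁, hle⟩ := exists_isSylowTwoIn_ge hS'.2.1 (hS'.1.trans (sup_le hKL hJL))
    have h1 := thompson_eq_of_sylow hT hT₁ (hJS'.trans hle)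
    rw [Thompson.thompsonSubgroupOf_eq_of_le hle (h1 ▸ hJS'), h1]
  -- the four group
  set U := omegaCenterOf Q with hUdef
  have hUe : IsElementaryAbelian 2 U := isElementaryAbelian_omegaCenterOf Q
  have hKU : K ≤ normalizer (U : Set G) :=
    (le_normalizer_pCoreOf K).trans (normalizer_le_normalizer_omegaCenterOf _)
  have hQR : Q ≤ R := le_R_of_le_CL hC hZ (isPGroup_pCoreOf K) hQle
  have hUT : U ≤ T := (omegaCenterOf_le Q).trans (hQR.trans (pCoreOf_le_sylowTwoIn hT))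
  obtain ⟨⟨k, hkL⟩, hk, hkx⟩ : x ∈ img L K := himgK ▸ mem_zpowers x
  have hk' : k ∈ K := hk
  have hQfix : ∀ q ∈ Q, ∀ u ∈ U, cj q u = u := fun q hq u hu =>
    cj_eq_self_iff.mpr (mem_centralizer_iff.mp (omegaCenterOf_le_centralizer Q hu) q hq)
  have hku : ∀ {u : G}, u ∈ U → cj k u ∈ U := fun hu => cj_mem_of_le_normalizer (hKU hk') hu
  have hk3 : ∀ u ∈ U, cj k (cj k (cj k u)) = u := by
    intro u hu
    have h3 : k ^ 3 ∈ Q := by
      rw [← hKCL]
      refine ⟨pow_mem hk' 3, (act_eq_one_iff (⟨k, hkL⟩ ^ 3)).mp ?_⟩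
      rw [map_pow, hkx]; exact hx.2.pow_three
    rw [← cj_mul, ← cj_mul, show k * k * k = k ^ 3 from (pow_three' k).symm]
    exact hQfix _ h3 u hu
  set W := wOf K with hWdef
  have hWD : ∀ w ∈ W, ∃ u ∈ U, w = u * cj k u := by
    have hUc : ∀ {p q : G}, p ∈ U → q ∈ U → p * q = q * p := fun hp hq =>
      Thompson.elemAb_comm hUe.1 hp hq
    have hUinv : ∀ {p : G}, p ∈ U → p⁻¹ = p := fun hp =>
      inv_eq_of_mul_eq_one_right (mul_self_of_mem_omegaCenterOf hp)
    let D : Subgroup G :=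
      { carrier := {w | ∃ u ∈ U, w = u * cj k u}
        one_mem' := ⟨1, one_mem _, by simp⟩
        mul_mem' := by
          rintro _ _ ⟨u, hu, rfl⟩ ⟨v, hv, rfl⟩
          refine ⟨u * v, mul_mem hu hv, ?_⟩
          rw [map_mul, mul_assoc, mul_assoc, ← mul_assoc (cj k u), hUc (hku hu) hv, mul_assoc]
        inv_mem' := by
          rintro _ ⟨u, hu, rfl⟩
          exact ⟨u, hu, by rw [hUinv (mul_mem hu (hku hu))]⟩ }
    suffices h : W ≤ D from fun w hw => h hw
    rw [hWdef, wOf, commutator_le]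
    intro u hu g hg
    obtain ⟨i, hi⟩ : ∃ i : ℕ, x ^ i = act L ⟨g, hKL hg⟩ := by
      have h1 : act L ⟨g, hKL hg⟩ ∈ zpowers x := himgK ▸ mem_img hg _
      rw [← mem_powers_iff_mem_zpowers, Submonoid.mem_powers_iff] at h1
      exact h1
    have hq : g * (k ^ i)⁻¹ ∈ Q := hmodQ g (k ^ i) hg (pow_mem hk' i) fun _ _ => by
      rw [← hi, ← hkx, ← map_pow]; rfl
    have hcg : cj g u = cj (k ^ i) u := by
      conv_lhs => rw [show g = g * (k ^ i)⁻¹ * k ^ i by group, cj_mul]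
      exact hQfix _ hq _ (cj_mem_of_le_normalizer (hKU (pow_mem hk' i)) hu)
    have hform : ∀ j : ℕ, u * cj (k ^ j) u ∈ D := by
      intro j
      induction j with
      | zero =>
        rw [pow_zero, show cj (1 : G) u = u by simp [cj], mul_self_of_mem_omegaCenterOf hu]
        exact one_mem _
      | succ j ih =>
        have hju : cj (k ^ j) u ∈ U := cj_mem_of_le_normalizer (hKU (pow_mem hk' j)) hu
        have := mul_mem ih (show cj (k ^ j) u * cj k (cj (k ^ j) u) ∈ D from ⟨_, hju, rfl⟩)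
        rwa [mul_assoc, ← mul_assoc (cj (k ^ j) u), mul_self_of_mem_omegaCenterOf hju, one_mul,
          ← cj_mul, ← pow_succ'] at this
    have hfin := hform i
    rw [← hcg, show cj g u = cj g u⁻¹ by rw [hUinv hu]] at hfin
    rw [commutatorElement_def, mul_assoc u, mul_assoc u]
    exact hfin
  have hWU : W ≤ U := wOf_le_omegaCenterOf K
  have hkW : k ∈ normalizer (W : Set G) := normalizer_le_normalizer_wOf K (le_normalizer hk')
  have hWe : IsElementaryAbelian 2 W := Thompson.isElementaryAbelian_of_le hUe hWU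
  have hfpf : ∀ w ∈ W, cj k w = w → w = 1 := by
    intro w hw hfix
    obtain ⟨u, hu, rfl⟩ := hWD w hw
    rw [map_mul, Thompson.elemAb_comm hUe.1 hu (hku hu), mul_right_inj] at hfix
    have h1 : cj k u = u := by
      have := hk3 u hu
      rw [hfix] at this
      exact this
    rw [h1, mul_self_of_mem_omegaCenterOf hu]
  have hAJ : A ≤ J := Thompson.le_thompsonSubgroupOf hA
  have hAK : A ≤ normalizer (K : Set G) := hAJ.trans hJK
  have hAW : A ≤ normalizer (W : Set G) := hAK.trans (normalizer_le_normalizer_wOf K)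
  have hAU : A ≤ normalizer (U : Set G) := by
    intro g hg
    refine normalizer_le_normalizer_omegaCenterOf Q ?_
    rw [← map_cj_eq_self_iff, hQdef, pCoreOf_map (cj_injective g), map_cj_eq_self_iff.mpr (hAK hg)]
  have hsplit : ∀ (g : G) (hg : g ∈ A) (y : G), y ∈ K → (∀ hy : y ∈ L,
      act L ⟨g, hJL (hAJ hg)⟩ * x * (act L ⟨g, hJL (hAJ hg)⟩)⁻¹ = act L ⟨y, hy⟩) →
      ∀ w ∈ W, cj g (cj k w) = cj y (cj g w) := by
    intro g hg y hy he w hw
    have hgk : cj g k ∈ K := cj_mem_of_le_normalizer (hAK hg) hk'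
    have hq : cj g k * y⁻¹ ∈ Q := hmodQ _ _ hgk hy fun _ hyL => by
      rw [← he hyL, ← hkx, ← map_inv, ← map_mul, ← map_mul]; rfl
    have hgw : cj g w ∈ U := hWU (cj_mem_of_le_normalizer (hAW hg) hw)
    calc cj g (cj k w) = cj (cj g k * y⁻¹) (cj y (cj g w)) := by
          simp [cj, mul_assoc]
      _ = cj y (cj g w) := hQfix _ hq _ (cj_mem_of_le_normalizer (hKU hy) hgw)
  have hW4 : Nat.card W ≤ 4 := by
    refine card_le_four hkW (fun w hw => hk3 w (hWU hw)) hfpf hWe hWU hUe hA.2.1 hAU hAW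
      (measureOn_le_of_isMaxEAIn hA hUe hUT) (fun g hg => ?_) (a₀ := a) haA ?_
    · rcases hJx g (hAJ hg) with h | h
      · exact Or.inl (hsplit g hg k hk' fun _ => by rw [h, ← hkx])
      · exact Or.inr (hsplit g hg k⁻¹ (inv_mem hk') fun _ => by
          rw [h, ← hkx, ← map_inv]; rfl)
    · exact hsplit a haA k⁻¹ (inv_mem hk') fun _ => by
        show t * x * t⁻¹ = _
        rw [hti, ← hkx, ← map_inv]; rfl
  have hWne : ∃ w ∈ W, w ≠ 1 := by
    obtain ⟨w, hw, hw1⟩ := (Subgroup.bot_or_exists_ne_one (wSub x)).resolve_left fun h => by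
      have := hx.2.card_wSub hV
      rw [h, Subgroup.card_bot] at this
      exact absurd this (by norm_num)
    have hdisp : ∀ u : ↥(VL L), ((u * x u : ↥(VL L)) : G) = ⁅(u : G), k⁆ := by
      intro u
      have hinv : ((u : G))⁻¹ = (u : G) := by
        have := congrArg Subtype.val (inv_eq_self hV u)
        simpa using this
      rw [Subgroup.coe_mul, ← hkx, coe_act, commutatorElement_def, hinv, cj_apply]
      simp only [mul_assoc]
    set z : ↥(VL L) := w * x w with hz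
    have hzmem : z ∈ wSub x := mul_mem hw (apply_mem_wSub hV hx.2.odd hw)
    have hz1 : z ≠ 1 := fun h => hx.2.apply_ne hV hw hw1 (eq_of_mul_eq_one hV h).symm
    have hwR : (w : G) ∈ R := omegaCenterOf_le _ (VL_le_omega L w.2)
    have hzK : (z : G) ∈ K := by
      rw [hz, hdisp, commutatorElement_def]
      have h1 : cj (w : G) k ∈ K := cj_mem_of_le_normalizer (hEK (mem_sup_left hwR)) hk'
      exact K.mul_mem h1 (K.inv_mem hk')
    have hzQ : (z : G) ∈ Q := by
      rw [← hKCL]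
      exact ⟨hzK, pCoreOf_le_CL L (omegaCenterOf_le _ (VL_le_omega L z.2))⟩
    have hzU : (z : G) ∈ U := mem_omegaCenterOf hzQ
      (centralizer_le hQR (omegaCenterOf_le_centralizer _ (VL_le_omega L z.2)))
      (congrArg Subtype.val (hV z))
    refine ⟨((z * x z : ↥(VL L)) : G), ?_, ?_⟩
    · rw [hdisp]; exact commutator_mem_commutator hzU hk'
    · intro h
      exact hx.2.apply_ne hV hzmem hz1 (eq_of_mul_eq_one hV (Subtype.ext h : z * x z = 1)).symm
  refine ⟨K, ⟨hgenK, hcomm, hidx, hcond2, le_antisymm hW4 ?_, fun w hw =>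
    mul_self_of_mem_omegaCenterOf (hWU hw)⟩, hKL, himgK⟩
  obtain ⟨w, hw, hw1⟩ := hWne
  obtain ⟨n, hn⟩ := IsPGroup.iff_card.mp (Thompson.isPGroup_of_isElementaryAbelian hWe)
  have hkw : cj k w ∈ W := cj_mem_of_le_normalizer hkW hw
  have hkw1 : cj k w ≠ 1 := fun h => hw1 (cj_injective k (h.trans (map_one (cj k)).symm))
  by_contra hlt
  push Not at hlt
  have hn1 : n ≤ 1 := by
    by_contra h2
    have : 2 ^ 2 ≤ 2 ^ n := Nat.pow_le_pow_right (by norm_num) (by omega)
    rw [← hn] at this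
    exact absurd (lt_of_le_of_lt this hlt) (by norm_num)
  interval_cases n
  · haveI : Subsingleton W := (Nat.card_eq_one_iff_unique.mp (by simpa using hn)).1
    exact hw1 (congrArg Subtype.val (Subsingleton.elim (⟨w, hw⟩ : W) 1))
  · obtain ⟨y, -, hy⟩ := (Nat.card_eq_two_iff' (1 : W)).mp (by simpa using hn)
    have h1 := hy ⟨w, hw⟩ fun h => hw1 (congrArg Subtype.val h)
    have h2 := hy ⟨cj k w, hkw⟩ fun h => hkw1 (congrArg Subtype.val h)
    exact hw1 (hfpf w hw (congrArg Subtype.val (h2.trans h1.symm)))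

/-- An overgroup with `J(T)` outside its 2-core contains a component. -/
theorem exists_component_of_not_le {T : Subgroup G} (hT : IsSylowTwoIn T L)
    (hJ : ¬ thompsonSubgroupOf 2 T ≤ pCoreOf 2 L) : ∃ K, IsJComponent T K ∧ K ≤ L := by
  have hJL : thompsonSubgroupOf 2 T ≤ L := (Thompson.thompsonSubgroupOf_le T).trans hT.1
  obtain ⟨j, hj, hjR⟩ := SetLike.not_le_iff_exists.mp hJ
  have hj1 : j ≠ 1 := fun h => hjR (h ▸ one_mem _)
  by_cases hex : ∃ s : MulAut ↥(VL L), IsTransvection s ∧ ∃ A, Thompson.IsMaxEAIn 2 A T ∧ s ∈ img L A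
  · obtain ⟨_, hs, A, hA, ⟨a, haL⟩, ha, rfl⟩ := hex
    obtain ⟨x, hx, hxi⟩ := exists_inverted (pCoreOf_act_range hC hZ) (isSolvable_range hN hC hj1)
      (VL_mul_self L) ⟨_, rfl⟩ hs
    obtain ⟨K, hK, hKL, -⟩ := exists_component hN hZ hC hT hA ha haL hx hs hxi
    exact ⟨K, hK, hKL⟩
  · exfalso
    have hle : img L (thompsonSubgroupOf 2 T) ≤ ⊥ := by
      refine (img_thompson_le hN hZ hC hT).trans ?_
      rw [closure_le]
      exact fun s hs => absurd ⟨s, hs⟩ hex
    refine hJ (le_R_of_le_CL hC hZ (isPGroup_thompsonSubgroupOf hT.2.1) fun g hg => ?_)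
    exact (act_eq_one_iff ⟨g, hJL hg⟩).mp (mem_bot.mp (hle (mem_img hg _)))

/-- `L` is generated by the normalizer of `J(T)` and the components. -/
theorem le_normalizer_sup_components {T : Subgroup G} (hT : IsSylowTwoIn T L) :
    L ≤ (L ⊓ normalizer (thompsonSubgroupOf 2 T : Set G)) ⊔
      sSup {K | IsJComponent T K ∧ K ≤ L} := by
  have hV := VL_mul_self L
  set J := thompsonSubgroupOf 2 T with hJdef
  have hJT : J ≤ T := Thompson.thompsonSubgroupOf_le T
  have hJL : J ≤ L := hJT.trans hT.1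
  set M := (L ⊓ normalizer (J : Set G)) ⊔ sSup {K | IsJComponent T K ∧ K ≤ L} with hMdef
  by_cases htriv : ∀ g : G, g = 1
  · intro g _; rw [htriv g]; exact one_mem _
  push Not at htriv
  obtain ⟨g₀, hg₀⟩ := htriv
  have hO := pCoreOf_act_range hC hZ
  have hsol := isSolvable_range hN hC hg₀
  set X := (act L).range
  set S : Set G := {y | ∃ g ∈ L, ∃ j ∈ J, y = cj g j} with hSdef
  set H := closure S with hHdef
  have hHL : H ≤ L := by
    rw [hHdef, closure_le]
    rintro _ ⟨g, hg, j, hj, rfl⟩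
    exact mul_mem (mul_mem hg (hJL hj)) (inv_mem hg)
  have hJH : J ≤ H := fun j hj => subset_closure ⟨1, one_mem _, j, hj, by simp [cj]⟩
  have hHn : L ≤ normalizer (H : Set G) := le_normalizer_closure fun g hg y hy => by
    obtain ⟨g', hg', j, hj, rfl⟩ := hy
    exact ⟨g * g', mul_mem hg hg', j, hj, by simp [cj, mul_assoc]⟩
  -- Frattini
  have hfr : ∀ g ∈ L, ∃ h ∈ H, ∃ n ∈ L ⊓ normalizer (J : Set G), g = h * n := by
    obtain ⟨P, hP, hJP⟩ := exists_isSylowTwoIn_ge (isPGroup_thompsonSubgroupOf hT.2.1) hJH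
    obtain ⟨T₁, hT₁, hPT₁⟩ := exists_isSylowTwoIn_ge hP.2.1 (hP.1.trans hHL)
    have hJ1 := thompson_eq_of_sylow hT hT₁ (hJP.trans hPT₁)
    have hJP' : thompsonSubgroupOf 2 P = J := by
      rw [Thompson.thompsonSubgroupOf_eq_of_le hPT₁ (hJ1 ▸ hJP), hJ1]
    intro g hg
    have hPg : IsSylowTwoIn (P.map (cj g)) H := by
      have := isSylowTwoIn_map (cj_injective g) hP
      rwa [map_cj_eq_self_iff.mpr (hHn hg)] at this
    obtain ⟨h, hh, hhP⟩ := sylowTwoIn_conj hPg hP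
    rw [map_cj_map_cj, map_cj_eq_self_iff] at hhP
    refine ⟨h⁻¹, inv_mem hh, h * g, ⟨mul_mem (hHL hh) hg, ?_⟩, by group⟩
    rw [← hJP']
    exact Thompson.normalizer_le_normalizer_thompsonSubgroupOf P hhP
  have hHimg : img L H ≤ transGen X := by
    have h1 : H ≤ ((transGen X).comap (act L)).map L.subtype := by
      rw [hHdef, closure_le]
      rintro _ ⟨g, hg, j, hj, rfl⟩
      refine ⟨⟨g, hg⟩ * ⟨j, hJL hj⟩ * ⟨g, hg⟩⁻¹, ?_, rfl⟩
      show act L (_ * _ * _) ∈ transGen X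
      rw [map_mul, map_mul, map_inv]
      exact (mem_normalizer_iff.mp (le_normalizer_transGen X ⟨_, rfl⟩) _).mp
        (img_thompson_le_transGen hN hZ hC hT (mem_img hj (hJL hj)))
    rintro _ ⟨h, hh, rfl⟩
    obtain ⟨y, hy, hyh⟩ := h1 hh
    rw [← Subtype.ext hyh]; exact hy
  set Z : Set (MulAut ↥(VL L)) := {x | x ∈ smallSet X ∧ ∃ s : MulAut ↥(VL L), IsTransvection s ∧
    (∃ A, Thompson.IsMaxEAIn 2 A T ∧ s ∈ img L A) ∧ s * x * s⁻¹ = x⁻¹} with hZdef
  have hZn : transGen X ≤ normalizer (closure Z : Set (MulAut ↥(VL L))) := by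
    rw [transGen, closure_le]
    rintro s ⟨hsX, hs⟩
    rw [SetLike.mem_coe, ← map_cj_eq_self_iff]
    have key : (closure Z).map (cj s) ≤ closure Z := by
      rw [Subgroup.map_le_iff_le_comap, closure_le]
      rintro x ⟨hx, hx'⟩
      show s * x * s⁻¹ ∈ closure Z
      rcases trans_conj_small hV hsX hs hx with h | h <;> rw [h]
      exacts [subset_closure ⟨hx, hx'⟩, inv_mem (subset_closure ⟨hx, hx'⟩)]
    exact Subgroup.eq_of_le_of_card_ge key
      (le_of_eq (Subgroup.card_map_of_injective (cj_injective s)).symm)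
  have hst : ∀ h ∈ transGen X, ∀ s, IsTransvection s →
      (∃ A, Thompson.IsMaxEAIn 2 A T ∧ s ∈ img L A) → h * s * h⁻¹ * s⁻¹ ∈ closure Z := by
    intro h hh s hs hsA
    have hsX : s ∈ X := img_le_range _ hsA.choose_spec.2
    obtain ⟨x, hx, hxi⟩ := exists_inverted hO hsol hV hsX hs
    have hxZ : x ∈ Z := ⟨hx, s, hs, hsA, hxi⟩
    induction hh using closure_induction with
    | mem u hu =>
      have h1 := trans_commutator hV hsX hs hu.1 hu.2 hx hxi (exists_inverted hO hsol hV hu.1 hu.2)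
      rw [commutatorElement_def] at h1
      exact zpowers_le.mpr (subset_closure hxZ) h1
    | one => simp
    | mul u v hu _ ihu ihv =>
      have := mul_mem ((mem_normalizer_iff.mp (hZn hu) _).mp ihv) ihu
      convert this using 1; group
    | inv u hu ihu =>
      have := (mem_normalizer_iff.mp (hZn (inv_mem hu)) _).mp (inv_mem ihu)
      convert this using 1; group
  have hcomm : ∀ h ∈ transGen X, ∀ g ∈ img L J, h * g * h⁻¹ * g⁻¹ ∈ closure Z := by
    intro h hh g hg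
    have hgT : g ∈ transGen X := img_thompson_le_transGen hN hZ hC hT hg
    have hg' := img_thompson_le hN hZ hC hT hg
    clear hg hgT
    induction hg' using closure_induction with
    | mem s hs => exact hst h hh s hs.1 hs.2
    | one => simp
    | mul u v hu _ ihu ihv =>
      have hu' : u ∈ transGen X := by
        refine Subgroup.closure_mono ?_ hu
        rintro s ⟨hs, A, -, hsA⟩
        exact ⟨img_le_range A hsA, hs⟩
      have := mul_mem ihu ((mem_normalizer_iff.mp (hZn hu') _).mp ihv)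
      convert this using 1; group
    | inv u hu ihu =>
      have hu' : u ∈ transGen X := by
        refine Subgroup.closure_mono ?_ hu
        rintro s ⟨hs, A, -, hsA⟩
        exact ⟨img_le_range A hsA, hs⟩
      have := (mem_normalizer_iff.mp (hZn (inv_mem hu')) _).mp (inv_mem ihu)
      convert this using 1; group
  have hCM : CL L ≤ M := fun c hc => mem_sup_left ⟨CL_le L hc,
    Thompson.normalizer_le_normalizer_thompsonSubgroupOf T (CL_le_normalizer hC hZ hT hc)⟩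
  have hZM : ∀ (y : G) (hy : y ∈ L), act L ⟨y, hy⟩ ∈ closure Z → y ∈ M := by
    have hle : closure Z ≤ img L M := by
      rw [closure_le]
      rintro x ⟨hx, s, hs, ⟨A, hA, ⟨a, haL⟩, ha, rfl⟩, hxi⟩
      obtain ⟨K, hK, hKL, hKx⟩ := exists_component hN hZ hC hT hA ha haL hx hs hxi
      have hKM : K ≤ M := le_trans (le_sSup (show K ∈ {K | IsJComponent T K ∧ K ≤ L} from ⟨hK, hKL⟩))
        le_sup_right
      exact img_mono hKM (hKx ▸ mem_zpowers x)
    intro y hy hyZ
    obtain ⟨⟨m, hmL⟩, hm, hme⟩ := hle hyZ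
    have h1 : act L (⟨y, hy⟩ * ⟨m, hmL⟩⁻¹) = 1 := by rw [map_mul, map_inv, hme, mul_inv_cancel]
    have h2 := mul_mem (hCM ((act_eq_one_iff _).mp h1)) (show m ∈ M from hm)
    simpa using h2
  have hHM : H ≤ M := by
    rw [hHdef, closure_le]
    rintro _ ⟨g, hg, j, hj, rfl⟩
    obtain ⟨h, hh, n, hn, rfl⟩ := hfr g hg
    have hj' : cj n j ∈ J := cj_mem_of_le_normalizer hn.2 hj
    rw [cj_mul]
    have hhj : act L ⟨h * cj n j * h⁻¹ * (cj n j)⁻¹, mul_mem (mul_mem (mul_mem (hHL hh) (hJL hj'))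
        (inv_mem (hHL hh))) (inv_mem (hJL hj'))⟩ ∈ closure Z := by
      have := hcomm _ (hHimg (mem_img hh (hHL hh))) _ (mem_img hj' (hJL hj'))
      rwa [← map_inv, ← map_inv, ← map_mul, ← map_mul, ← map_mul] at this
    have := mul_mem (hZM _ _ hhj) (mem_sup_left ⟨hJL hj', le_normalizer hj'⟩ : cj n j ∈ M)
    rwa [inv_mul_cancel_right] at this
  intro g hg
  obtain ⟨h, hh, n, hn, rfl⟩ := hfr g hg
  exact mul_mem (hHM hh) (mem_sup_left hn)

end Cfsg.Agent.LocalEven64
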