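import Mathlib
import Cfsg.Agent.LocalEven64.OvergroupUnique

/-!
# 2-local subgroups as overgroups
-/

set_option autoImplicit false
set_option linter.unusedSectionVars false
set_option linter.style.haveILetI false

namespace Cfsg.Agent.LocalEven64

open Subgroup Cfsg
open scoped commutatorElement

variable {G : Type*} [Group G] [Finite G]

/-- In a group of characteristic 2 type the 2-core of a 2-local subgroup is self-centralizing in `G`. -/
theorem centralizer_pCoreOf_le_of_twoLocal (hL : IsCharacteristicTwoType G) {L : Subgroup G}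
    (h : IsTwoLocal L) : centralizer (pCoreOf 2 L : Set G) ≤ pCoreOf 2 L := by
  obtain ⟨T, hT, hT1, rfl⟩ := h
  have hTR : T ≤ pCoreOf 2 (normalizer (T : Set G)) := le_pCoreOf le_normalizer le_rfl hT
  intro g hg
  have hgN : g ∈ normalizer (T : Set G) := centralizer_le_normalizer _ (centralizer_le hTR hg)
  refine ⟨⟨g, hgN⟩, hL.2 T hT hT1 ?_, rfl⟩
  rw [mem_centralizer_iff]
  intro y hy
  exact Subtype.ext (mem_centralizer_iff.mp hg _ ⟨y, hy, rfl⟩)

theorem isPGroup_wOf {T K : Subgroup G} (hK : IsJComponent T K) : IsPGroup 2 (wOf K) :=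
  fun w => ⟨1, Subtype.ext (by rw [pow_one, SubmonoidClass.coe_pow, sq]; exact hK.2.2.2.2.2 w w.2)⟩

theorem isTwoLocal_normalizer_wOf {T K : Subgroup G} (hK : IsJComponent T K) :
    IsTwoLocal (normalizer (wOf K : Set G)) :=
  ⟨wOf K, isPGroup_wOf hK, fun h => by
    have := hK.2.2.2.2.1
    rw [h, Subgroup.card_bot] at this
    exact absurd this (by norm_num), rfl⟩

theorem component_le_normalizer_wOf (K : Subgroup G) : K ≤ normalizer (wOf K : Set G) :=
  le_normalizer.trans (normalizer_le_normalizer_wOf K)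

theorem thompson_le_normalizer_wOf {T K : Subgroup G} (hK : IsJComponent T K) :
    thompsonSubgroupOf 2 T ≤ normalizer (wOf K : Set G) :=
  (thompson_le_normalizer hK).trans (normalizer_le_normalizer_wOf K)

/-- `N(K) = N(W_K)`, and `K` is a component for every conjugate of `T` with `J` in `N(W_K)`. -/
theorem jComponentsZero_normalizer (hL : IsCharacteristicTwoType G) (hN : NHyp G) (hZ : ZHyp G)
    {T K : Subgroup G} (hT : IsPGroup 2 T) (hK : K ∈ jComponentsZero T) :
    normalizer (K : Set G) = normalizer (wOf K : Set G) ∧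
      ∀ g : G, thompsonSubgroupOf 2 (T.map (cj g)) ≤ normalizer (wOf K : Set G) →
        IsJComponent (T.map (cj g)) K := by
  obtain ⟨hK, hS⟩ := hK
  set N := normalizer (wOf K : Set G) with hNdef
  have hC := centralizer_pCoreOf_le_of_twoLocal hL (isTwoLocal_normalizer_wOf hK)
  obtain ⟨S₀, hS₀, hJS₀⟩ :=
    exists_isSylowTwoIn_ge (isPGroup_thompsonSubgroupOf hT) (thompson_le_normalizer_wOf hK)
  have hJ₀ := hS S₀ hJS₀ hS₀
  have hK₀ := IsJComponent.congr hJ₀ hK
  have hle : N ≤ normalizer (K : Set G) := fun g hg =>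
    normalizer_wOf_le hN hZ hC hS₀ hK₀ (component_le_normalizer_wOf K) hg hg
  refine ⟨le_antisymm (normalizer_le_normalizer_wOf K) hle, fun g hg => ?_⟩
  obtain ⟨S₁, hS₁, hJS₁⟩ :=
    exists_isSylowTwoIn_ge (isPGroup_thompsonSubgroupOf (hT.map (cj g))) hg
  obtain ⟨n, hn, rfl⟩ := sylowTwoIn_conj hS₀ hS₁
  have h1 : thompsonSubgroupOf 2 (S₀.map (cj n)) = (thompsonSubgroupOf 2 T).map (cj n) := by
    rw [← Thompson.thompsonSubgroupOf_conj, hJ₀]
  have h2 : thompsonSubgroupOf 2 (S₀.map (cj n)) = thompsonSubgroupOf 2 (T.map (cj g)) :=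
    thompson_eq_of_le_of_conj hJS₁ (g := n * g⁻¹) (by
      rw [map_cj_map_cj, inv_mul_cancel_right, h1, Thompson.thompsonSubgroupOf_conj])
  have hKn := isJComponent_map hK n
  rw [map_cj_eq_self_iff.mpr (hle hn)] at hKn
  exact IsJComponent.congr (by rw [← h2, h1, Thompson.thompsonSubgroupOf_conj]) hKn

end Cfsg.Agent.LocalEven64
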