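import Mathlib
import Cfsg.Agent.LocalEven64.TwoLocal
import Cfsg.Agent.Lib.Fitting.Minimal

/-!
# Basic facts about straddling 2-subgroups
-/

set_option autoImplicit false
set_option linter.unusedSectionVars false
set_option linter.style.haveILetI false

namespace Cfsg.Agent.LocalEven64

open Subgroup Cfsg

variable {G : Type*} [Group G] [Finite G]

theorem ne_top_of_twoLocal (hO : pCore 2 G = ⊥) {M : Subgroup G} (hM : IsTwoLocal M) : M ≠ ⊤ := by
  obtain ⟨X, hX, hX1, rfl⟩ := hM
  intro h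
  haveI : X.Normal := normalizer_eq_top_iff.mp h
  exact hX1 (le_bot_iff.mp (hO ▸ Thompson.le_pCore (p := 2) inferInstance hX))

theorem normalizer_sylow_le (S : Sylow 2 G) {M : Subgroup G}
    (hMJ : normalizer (thompsonSubgroupOf 2 (S : Subgroup G) : Set G) ≤ M) :
    normalizer ((S : Subgroup G) : Set G) ≤ M :=
  (Thompson.normalizer_le_normalizer_thompsonSubgroupOf _).trans hMJ

theorem sylow_le (S : Sylow 2 G) {M : Subgroup G}
    (hMJ : normalizer (thompsonSubgroupOf 2 (S : Subgroup G) : Set G) ≤ M) : (S : Subgroup G) ≤ M :=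
  le_normalizer.trans (normalizer_sylow_le S hMJ)

theorem normalizer_map_cj (H : Subgroup G) (g : G) :
    normalizer ((H.map (cj g) : Subgroup G) : Set G) = (normalizer (H : Set G)).map (cj g) :=
  (map_normalizer_eq_of_bijective H (MulAut.conj g).bijective).symm

theorem normalizer_thompson_le_of_isSylowTwoIn (S : Sylow 2 G) {M : Subgroup G}
    (hMJ : normalizer (thompsonSubgroupOf 2 (S : Subgroup G) : Set G) ≤ M) {P : Subgroup G}
    (hP : IsSylowTwoIn P M) : normalizer (thompsonSubgroupOf 2 P : Set G) ≤ M := by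
  obtain ⟨g, hg, rfl⟩ := sylowTwoIn_conj (isSylowTwoIn_sylow S (sylow_le S hMJ)) hP
  rw [← Thompson.thompsonSubgroupOf_conj, normalizer_map_cj]
  calc (normalizer (thompsonSubgroupOf 2 (S : Subgroup G) : Set G)).map (cj g)
      ≤ M.map (cj g) := Subgroup.map_mono hMJ
    _ = M := map_cj_eq_self_of_mem hg

theorem exists_ne_one_centralized {R T : Subgroup G} (hR : IsPGroup 2 R) (hT : IsPGroup 2 T)
    (hn : T ≤ normalizer (R : Set G)) (hR1 : R ≠ ⊥) :
    ∃ r ∈ R, r ≠ 1 ∧ T ≤ centralizer ({r} : Set G) := by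
  haveI : Fact (Nat.Prime 2) := ⟨Nat.prime_two⟩
  set P := R ⊔ T
  have hP : IsPGroup 2 P := IsPGroup.to_sup_of_normal_left' hR hT hn
  haveI : Group.IsNilpotent P := hP.isNilpotent
  haveI : (R.subgroupOf P).Normal := normal_subgroupOf_of_le_normalizer (sup_le le_normalizer hn)
  have hne : R.subgroupOf P ≠ ⊥ := by
    rw [Ne, subgroupOf_eq_bot]
    intro h
    exact hR1 (by simpa [P] using h.eq_bot)
  obtain ⟨⟨r, hrP⟩, hr, hr1⟩ :=
    (Subgroup.bot_or_exists_ne_one _).resolve_left (Fitting.inf_center_ne_bot hne)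
  refine ⟨r, hr.1, fun h => hr1 (Subtype.ext h), fun t ht => ?_⟩
  rw [mem_centralizer_singleton_iff]
  exact congrArg Subtype.val (mem_center_iff.mp hr.2 ⟨t, mem_sup_right ht⟩)

theorem normalizer_le_of_stronglyEmbedded {M X : Subgroup G} (hM : IsStronglyEmbedded M)
    (hX : IsPGroup 2 X) (hX1 : X ≠ ⊥) (hXM : X ≤ M) : normalizer (X : Set G) ≤ M := by
  haveI : Fact (Nat.Prime 2) := ⟨Nat.prime_two⟩
  intro g hg
  by_contra hgM
  have hle : X ≤ M ⊓ M.map (cj g) := le_inf hXM (by
    rw [← map_cj_eq_self_iff.mpr hg]; exact Subgroup.map_mono hXM)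
  obtain ⟨k, hk⟩ := IsPGroup.iff_card.mp hX
  have hk0 : k ≠ 0 := by
    rintro rfl
    exact hX1 (Subgroup.card_eq_one.mp (by simpa using hk))
  have h2 : 2 ∣ Nat.card ↥(M ⊓ M.map (cj g)) :=
    (hk ▸ dvd_pow_self 2 hk0 : 2 ∣ Nat.card X).trans (card_dvd_of_le hle)
  exact (Nat.not_odd_iff_even.mpr (even_iff_two_dvd.mpr h2)) (hM.2.2 g hgM)

theorem stronglyEmbedded_iff (hL : IsCharacteristicTwoType G) (hO : pCore 2 G = ⊥) (S : Sylow 2 G)
    {M : Subgroup G} (hM : IsTwoLocal M)
    (hMJ : normalizer (thompsonSubgroupOf 2 (S : Subgroup G) : Set G) ≤ M) :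
    IsStronglyEmbedded M ↔ straddlingTwoSubgroups M = ∅ := by
  haveI : Fact (Nat.Prime 2) := ⟨Nat.prime_two⟩
  constructor
  · intro hSE
    rw [Set.eq_empty_iff_forall_notMem]
    rintro T ⟨hT, hT1, hTM, L, ⟨R, hR, hR1, rfl⟩, hTL, hLM⟩
    refine hLM (normalizer_le_of_stronglyEmbedded hSE hR hR1 ?_)
    obtain ⟨r, hr, hr1, hTr⟩ := exists_ne_one_centralized hR hT hTL hR1
    have hrM : r ∈ M := normalizer_le_of_stronglyEmbedded hSE hT hT1 hTM
      (centralizer_le_normalizer _ (mem_centralizer_iff.mpr fun t ht =>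
        mem_centralizer_singleton_iff.mp (hTr ht)))
    have hne : R ⊓ M ≠ ⊥ := fun h => hr1 (mem_bot.mp (h ▸ ⟨hr, hrM⟩))
    haveI := hR.isNilpotent
    by_contra hRM
    have hlt : R ⊓ M < R := lt_of_le_of_ne inf_le_left fun h => hRM (h ▸ inf_le_right)
    have hlt' : (R ⊓ M).subgroupOf R < ⊤ := lt_top_iff_ne_top.mpr fun h =>
      hlt.not_ge (subgroupOf_eq_top.mp h)
    obtain ⟨y, hy, hy'⟩ := SetLike.exists_of_lt (Group.normalizerCondition_of_isNilpotent _ hlt')
    rw [← subgroupOf_normalizer_eq inf_le_left] at hy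
    exact hy' ⟨y.2, normalizer_le_of_stronglyEmbedded hSE (hR.to_le inf_le_left) hne inf_le_right hy⟩
  · intro h
    refine ⟨ne_top_of_twoLocal hO hM, ?_, fun g hg => ?_⟩
    · rw [even_iff_two_dvd]
      refine dvd_trans ?_ (card_dvd_of_le (sylow_le S hMJ))
      exact S.dvd_card_of_dvd_card (even_iff_two_dvd.mp hL.1)
    · by_contra hodd
      rw [Nat.not_odd_iff_even, even_iff_two_dvd] at hodd
      obtain ⟨⟨t, ht⟩, ht2⟩ := exists_prime_orderOf_dvd_card' 2 hodd
      rw [Subgroup.orderOf_mk] at ht2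
      have hT : IsPGroup 2 (zpowers t) := IsPGroup.of_card (n := 1) (by
        rw [Nat.card_zpowers, ht2, pow_one])
      have hT1 : zpowers t ≠ ⊥ := by
        rw [Ne, zpowers_eq_bot]
        rintro rfl
        rw [orderOf_one] at ht2
        exact absurd ht2 (by norm_num)
      have hloc : IsTwoLocal (M.map (cj g)) := by
        obtain ⟨X, hX, hX1, rfl⟩ := hM
        refine ⟨X.map (cj g), hX.map _, fun hb => hX1 ?_, (normalizer_map_cj X g).symm⟩
        exact (Subgroup.map_eq_bot_iff_of_injective _ (cj_injective g)).mp hb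
      have hle : M.map (cj g) ≤ M := by
        by_contra hle
        exact (Set.eq_empty_iff_forall_notMem.mp h (zpowers t))
          ⟨hT, hT1, zpowers_le.mpr ht.1, _, hloc, zpowers_le.mpr ht.2, hle⟩
      have hP := isSylowTwoIn_sylow S (sylow_le S hMJ)
      have hP' : IsSylowTwoIn ((S : Subgroup G).map (cj g)) M := by
        have h1 := isSylowTwoIn_map (cj_injective g) hP
        rwa [Subgroup.eq_of_le_of_card_ge hle
          (le_of_eq (Subgroup.card_map_of_injective (cj_injective g)).symm)] at h1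
      obtain ⟨m, hm, hmS⟩ := sylowTwoIn_conj hP hP'
      have hn : m⁻¹ * g ∈ normalizer ((S : Subgroup G) : Set G) := by
        rw [← map_cj_eq_self_iff, ← map_cj_map_cj, ← hmS, map_cj_inv_cancel]
      have := mul_mem hm (normalizer_sylow_le S hMJ hn)
      rw [mul_inv_cancel_left] at this
      exact hg this

end Cfsg.Agent.LocalEven64
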