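import Mathlib
import Cfsg.Agent.LocalEven64.Straddle
import Cfsg.Agent.LocalEven64.OvergroupExist

/-!
# Maximal straddling 2-subgroups and their components
-/

set_option autoImplicit false
set_option linter.unusedSectionVars false
set_option linter.style.haveILetI false

namespace Cfsg.Agent.LocalEven64

open Subgroup Cfsg

variable {G : Type*} [Group G] [Finite G]

theorem thompson_ne_bot {T : Subgroup G} (hT : IsPGroup 2 T) (h1 : T ≠ ⊥) :
    thompsonSubgroupOf 2 T ≠ ⊥ := by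
  haveI : Fact (Nat.Prime 2) := ⟨Nat.prime_two⟩
  obtain ⟨k, hk⟩ := IsPGroup.iff_card.mp hT
  have hk0 : k ≠ 0 := by
    rintro rfl
    exact h1 (Subgroup.card_eq_one.mp (by simpa using hk))
  intro h
  exact Thompson.thompsonSubgroup_ne_bot (G := ↥T) (p := 2) (hk ▸ dvd_pow_self 2 hk0)
    ((Subgroup.map_eq_bot_iff_of_injective _ T.subtype_injective).mp h)

/-- An element outside a proper subgroup of a 2-group normalizing it. -/
theorem exists_normalizing_not_mem {P H : Subgroup G} (hP : IsPGroup 2 P) (hlt : H < P) :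
    ∃ y ∈ P, y ∈ normalizer (H : Set G) ∧ y ∉ H := by
  haveI : Fact (Nat.Prime 2) := ⟨Nat.prime_two⟩
  haveI := hP.isNilpotent
  have hlt' : H.subgroupOf P < ⊤ := lt_top_iff_ne_top.mpr fun h =>
    hlt.not_ge (subgroupOf_eq_top.mp h)
  obtain ⟨y, hy, hy'⟩ := SetLike.exists_of_lt (Group.normalizerCondition_of_isNilpotent _ hlt')
  rw [← subgroupOf_normalizer_eq hlt.le] at hy
  exact ⟨y, y.2, hy, hy'⟩

/-- A straddling subgroup above `J(T)`, `T` maximal, has the same Thompson subgroup and is no larger. -/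
theorem max_straddling_compare {M T P : Subgroup G} (hT : T ∈ maxStraddlingTwoSubgroups M)
    (hP : P ∈ straddlingTwoSubgroups M) (hJP : thompsonSubgroupOf 2 T ≤ P) :
    thompsonSubgroupOf 2 P = thompsonSubgroupOf 2 T ∧ Nat.card P ≤ Nat.card T := by
  obtain ⟨hle, h⟩ := hT.2 P hP
  have ha := le_antisymm hle (maxElemAbelianOrder_le_of_le hJP)
  obtain ⟨h1, h2⟩ := h ha
  have hJ : thompsonSubgroupOf 2 P = thompsonSubgroupOf 2 T :=
    (Subgroup.eq_of_le_of_card_ge (thompson_le_of_order_eq hJP ha.symm) h1).symm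
  exact ⟨hJ, h2 (by rw [hJ])⟩

variable (S : Sylow 2 G) {M : Subgroup G}
  (hMJ : normalizer (thompsonSubgroupOf 2 (S : Subgroup G) : Set G) ≤ M)
include hMJ

theorem normalizer_thompson_le {T : Subgroup G} (hT : T ∈ maxStraddlingTwoSubgroups M) :
    normalizer (thompsonSubgroupOf 2 T : Set G) ≤ M := by
  obtain ⟨hT2, hT1, hTM, -⟩ := hT.1
  obtain ⟨P, hP, hTP⟩ := exists_isSylowTwoIn_ge hT2 hTM
  by_cases he : T = P
  · subst he; exact normalizer_thompson_le_of_isSylowTwoIn S hMJ hP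
  by_contra hle
  obtain ⟨y, hyP, hyN, hyT⟩ := exists_normalizing_not_mem hP.2.1 (lt_of_le_of_ne hTP he)
  set T' := T ⊔ zpowers y with hT'
  have hT'P : T' ≤ P := sup_le hTP (zpowers_le.mpr hyP)
  have hloc : IsTwoLocal (normalizer (thompsonSubgroupOf 2 T : Set G)) :=
    ⟨_, isPGroup_thompsonSubgroupOf hT2, thompson_ne_bot hT2 hT1, rfl⟩
  have hstr : T' ∈ straddlingTwoSubgroups M := by
    refine ⟨hP.2.1.to_le hT'P, fun h => hT1 (le_bot_iff.mp (le_sup_left.trans h.le)),
      hT'P.trans hP.1, _, hloc, sup_le ?_ (zpowers_le.mpr ?_), hle⟩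
    · exact le_normalizer.trans (Thompson.normalizer_le_normalizer_thompsonSubgroupOf T)
    · exact Thompson.normalizer_le_normalizer_thompsonSubgroupOf T hyN
  obtain ⟨-, hcard⟩ :=
    max_straddling_compare hT hstr ((Thompson.thompsonSubgroupOf_le T).trans le_sup_left)
  have h := Subgroup.eq_of_le_of_card_ge (le_sup_left : T ≤ T') hcard
  exact hyT (h.ge (mem_sup_right (mem_zpowers y)))

/-- The basic properties of a local subgroup outside `M` containing `J(T)` in a Sylow 2-subgroup `T₀`. -/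
theorem max_straddling_overgroup (hL : IsCharacteristicTwoType G)
    {T : Subgroup G} (hT : T ∈ maxStraddlingTwoSubgroups M) {L : Subgroup G} (hL2 : IsTwoLocal L)
    (hLM : ¬ L ≤ M) {T₀ : Subgroup G} (hT₀ : IsSylowTwoIn T₀ L)
    (hJ : thompsonSubgroupOf 2 T ≤ T₀) :
    thompsonSubgroupOf 2 T₀ = thompsonSubgroupOf 2 T ∧ T₀ ∈ straddlingTwoSubgroups M ∧
      L ∈ jOvergroups T₀ ∧ Nat.card T₀ ≤ Nat.card T := by
  obtain ⟨hT2, hT1, hTM, -⟩ := id hT.1
  have hJ1 := thompson_ne_bot hT2 hT1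
  set T₁ := T₀ ⊓ M with hT₁def
  have hJT₁ : thompsonSubgroupOf 2 T ≤ T₁ :=
    le_inf hJ ((Thompson.thompsonSubgroupOf_le T).trans hTM)
  have hstr : T₁ ∈ straddlingTwoSubgroups M :=
    ⟨hT₀.2.1.to_le inf_le_left, fun h => hJ1 (le_bot_iff.mp (hJT₁.trans h.le)), inf_le_right, L,
      hL2, inf_le_left.trans hT₀.1, hLM⟩
  obtain ⟨hJeq, hcard⟩ := max_straddling_compare hT hstr hJT₁
  have hT₁eq : T₁ = T₀ := by
    by_contra hne
    obtain ⟨y, hy, hyN, hy'⟩ := exists_normalizing_not_mem hT₀.2.1 (lt_of_le_of_ne inf_le_left hne)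
    have hyJ := Thompson.normalizer_le_normalizer_thompsonSubgroupOf (p := 2) T₁ hyN
    rw [hJeq] at hyJ
    exact hy' ⟨hy, normalizer_thompson_le S hMJ hT hyJ⟩
  rw [hT₁eq] at hstr hJeq hcard
  refine ⟨hJeq, hstr, ⟨hT₀, fun hle => hLM ?_, centralizer_pCoreOf_le_of_twoLocal hL hL2⟩, hcard⟩
  have h1 : thompsonSubgroupOf 2 (pCoreOf 2 L) = thompsonSubgroupOf 2 T₀ :=
    Thompson.thompsonSubgroupOf_eq_of_le (pCoreOf_le_sylowTwoIn hT₀) hle
  have h2 := (le_normalizer_pCoreOf L).trans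
    (Thompson.normalizer_le_normalizer_thompsonSubgroupOf (p := 2) (pCoreOf 2 L))
  rw [h1, hJeq] at h2
  exact h2.trans (normalizer_thompson_le S hMJ hT)

theorem sylow_of_le (hL : IsCharacteristicTwoType G) {T : Subgroup G}
    (hT : T ∈ maxStraddlingTwoSubgroups M) {L : Subgroup G} (hL2 : IsTwoLocal L) (hLM : ¬ L ≤ M)
    (hTL : T ≤ L) : IsSylowTwoIn T L ∧ L ∈ jOvergroups T := by
  obtain ⟨T₀, hT₀, hle⟩ := exists_isSylowTwoIn_ge hT.1.1 hTL
  obtain ⟨-, -, hjo, hcard⟩ := max_straddling_overgroup S hMJ hL hT hL2 hLM hT₀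
    ((Thompson.thompsonSubgroupOf_le T).trans hle)
  rw [← Subgroup.eq_of_le_of_card_ge hle hcard] at hT₀ hjo
  exact ⟨hT₀, hjo⟩

/-- Components outside `M` belong to `𝒦₀(T)`. -/
theorem mem_jComponentsZero_of_not_le (hL : IsCharacteristicTwoType G) {T : Subgroup G}
    (hT : T ∈ maxStraddlingTwoSubgroups M) {K : Subgroup G} (hK : IsJComponent T K)
    (hKM : ¬ K ≤ M) : K ∈ jComponentsZero T :=
  ⟨hK, fun _ hJS hS => (max_straddling_overgroup S hMJ hL hT (isTwoLocal_normalizer_wOf hK)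
    (fun h => hKM ((component_le_normalizer_wOf K).trans h)) hS hJS).1⟩

theorem outside_nonempty (hL : IsCharacteristicTwoType G) (hN : NHyp G) (hZ : ZHyp G)
    {T : Subgroup G} (hT : T ∈ maxStraddlingTwoSubgroups M) :
    (jComponentsOutside M T).Nonempty := by
  obtain ⟨hT2, hT1, hTM, L, hL2, hTL, hLM⟩ := id hT.1
  obtain ⟨hTs, hjo⟩ := sylow_of_le S hMJ hL hT hL2 hLM hTL
  have hdec := le_normalizer_sup_components hN hZ hjo.2.2 hTs
  obtain ⟨K, hK, hKL, hKM⟩ : ∃ K, IsJComponent T K ∧ K ≤ L ∧ ¬ K ≤ M := by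
    by_contra h
    push Not at h
    exact hLM (hdec.trans (sup_le (inf_le_right.trans (normalizer_thompson_le S hMJ hT))
      (sSup_le fun K hK => h K hK.1 hK.2)))
  refine ⟨K, mem_jComponentsZero_of_not_le S hMJ hL hT hK hKM, hKM, ?_⟩
  have hle : pCoreOf 2 L ≤ pCoreOf 2 (K ⊔ T) :=
    le_pCoreOf ((pCoreOf_le_sylowTwoIn hTs).trans le_sup_right)
      ((sup_le hKL hTL).trans (le_normalizer_pCoreOf L)) (isPGroup_pCoreOf L)
  intro h
  obtain ⟨g, hg⟩ : ∃ g : G, g ≠ 1 := by
    obtain ⟨g, -, hg⟩ := (Subgroup.bot_or_exists_ne_one T).resolve_left hT1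
    exact ⟨g, hg⟩
  exact R_ne_bot hjo.2.2 hg (le_bot_iff.mp (hle.trans h.le))

/-- The class of a component outside `M`: the components in the normalizer of its four-group. -/
def classOf (T K : Subgroup G) : Set (Subgroup G) :=
  {K' | IsJComponent T K' ∧ K' ≤ normalizer (wOf K : Set G)}

/-- The join of the four-groups of the class. -/
def classW (T K : Subgroup G) : Subgroup G := sSup (wOf '' classOf T K)

theorem unique_maximal (hL : IsCharacteristicTwoType G) (hN : NHyp G) (hZ : ZHyp G)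
    {T : Subgroup G} (hT : T ∈ maxStraddlingTwoSubgroups M) {K : Subgroup G}
    (hK : K ∈ jComponentsOutside M T) :
    IsMaximalTwoLocal (normalizer (classW T K : Set G)) ∧
      K ⊔ T ≤ normalizer (classW T K : Set G) ∧
      (∀ L : Subgroup G, IsTwoLocal L → K ⊔ thompsonSubgroupOf 2 T ≤ L →
        L ≤ normalizer (classW T K : Set G)) ∧
      IsSylowTwoIn T (normalizer (classW T K : Set G)) := by
  obtain ⟨⟨hK, hK0⟩, hKM, hO2⟩ := hK
  obtain ⟨hT2, hT1, hTM, -⟩ := id hT.1
  set J := thompsonSubgroupOf 2 T with hJdef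
  -- any local subgroup containing `K` and `J`
  have hloc : ∀ L : Subgroup G, IsTwoLocal L → ¬ L ≤ M → J ≤ L → ∃ T',
      IsSylowTwoIn T' L ∧ thompsonSubgroupOf 2 T' = J ∧
      centralizer (pCoreOf 2 L : Set G) ≤ pCoreOf 2 L := by
    intro L hL2 hLM hJL
    obtain ⟨T', hT', hJT'⟩ := exists_isSylowTwoIn_ge (isPGroup_thompsonSubgroupOf hT2) hJL
    exact ⟨T', hT', (max_straddling_overgroup S hMJ hL hT hL2 hLM hT' hJT').1,
      centralizer_pCoreOf_le_of_twoLocal hL hL2⟩
  have hmut : ∀ L : Subgroup G, IsTwoLocal L → ¬ L ≤ M → J ≤ L → ∀ K₁ K₂,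
      IsJComponent T K₁ → K₁ ≤ L → IsJComponent T K₂ → K₂ ≤ L →
      K₂ ≤ normalizer (wOf K₁ : Set G) := by
    intro L hL2 hLM hJL K₁ K₂ h1 h1L h2 h2L
    obtain ⟨T', hT', hJ', hC⟩ := hloc L hL2 hLM hJL
    exact (component_normalizes hN hZ hC hT' (IsJComponent.congr hJ' h1) h1L hT'
      (IsJComponent.congr hJ' h2) h2L).1.trans (normalizer_le_normalizer_wOf K₁)
  set N := normalizer (wOf K : Set G) with hNdef
  have hN2 : IsTwoLocal N := isTwoLocal_normalizer_wOf hK
  have hNM : ¬ N ≤ M := fun h => hKM ((component_le_normalizer_wOf K).trans h)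
  have hJN : J ≤ N := thompson_le_normalizer_wOf hK
  have hKcl : K ∈ classOf T K := ⟨hK, component_le_normalizer_wOf K⟩
  -- the class is the same seen from each of its members
  have hclass : ∀ K₁ ∈ classOf T K, ∀ K₂, IsJComponent T K₂ →
      (K₂ ≤ normalizer (wOf K₁ : Set G) ↔ K₂ ∈ classOf T K) := by
    intro K₁ h1 K₂ h2
    have hKN1 : K ≤ normalizer (wOf K₁ : Set G) :=
      hmut N hN2 hNM hJN K₁ K h1.1 h1.2 hK (component_le_normalizer_wOf K)
    have hN1M : ¬ normalizer (wOf K₁ : Set G) ≤ M := fun h => hKM (hKN1.trans h)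
    constructor
    · intro h
      exact ⟨h2, hmut _ (isTwoLocal_normalizer_wOf h1.1) hN1M (thompson_le_normalizer_wOf h1.1)
        K K₂ hK hKN1 h2 h⟩
    · intro h
      exact hmut N hN2 hNM hJN K₁ K₂ h1.1 h1.2 h2 h.2
  have hJW : J ≤ normalizer (classW T K : Set G) := by
    refine Coprime.le_normalizer_of_conj_mem fun j hj x hx => ?_
    have key : classW T K ≤ (classW T K).comap (cj j) := by
      rw [classW, sSup_le_iff]
      rintro _ ⟨K', hK', rfl⟩ y hy
      exact le_sSup (Set.mem_image_of_mem wOf hK')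
        (cj_mem_of_le_normalizer (thompson_le_normalizer_wOf hK'.1 hj) hy)
    exact key hx
  have hKW : ∀ K₂ ∈ classOf T K, K₂ ≤ normalizer (classW T K : Set G) := by
    intro K₂ h2
    refine Coprime.le_normalizer_of_conj_mem fun k hk x hx => ?_
    have key : classW T K ≤ (classW T K).comap (cj k) := by
      rw [classW, sSup_le_iff]
      rintro _ ⟨K', hK', rfl⟩ y hy
      exact le_sSup (Set.mem_image_of_mem wOf hK')
        (cj_mem_of_le_normalizer ((hclass K' hK' K₂ h2.1).mpr h2 hk) hy)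
    exact key hx
  -- every local subgroup over `⟨K, J⟩` normalizes the join of the four-groups
  have hover : ∀ L : Subgroup G, IsTwoLocal L → K ⊔ J ≤ L → L ≤ normalizer (classW T K : Set G) := by
    intro L hL2 hKJL
    have hKL : K ≤ L := le_sup_left.trans hKJL
    have hLM : ¬ L ≤ M := fun h => hKM (hKL.trans h)
    obtain ⟨T', hT', hJ', hC⟩ := hloc L hL2 hLM (le_sup_right.trans hKJL)
    have hsub : ∀ K₂, IsJComponent T K₂ → K₂ ≤ L → K₂ ∈ classOf T K := fun K₂ h2 h2L =>
      ⟨h2, hmut L hL2 hLM (le_sup_right.trans hKJL) K K₂ hK hKL h2 h2L⟩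
    refine (le_normalizer_sup_components hN hZ hC hT').trans (sup_le ?_ ?_)
    · rw [hJ']
      intro n hn
      have hcl : ∀ K₂ ∈ classOf T K, K₂.map (cj n) ∈ classOf T K := by
        intro K₂ h2
        have hKn : IsJComponent T (K.map (cj n)) := by
          refine IsJComponent.congr ?_ (isJComponent_map hK n)
          rw [← Thompson.thompsonSubgroupOf_conj]
          exact (map_cj_eq_self_iff.mpr hn.2).symm
        have hKn' : K.map (cj n) ∈ classOf T K := hsub _ hKn (by
          rintro _ ⟨k, hk, rfl⟩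
          exact mul_mem (mul_mem hn.1 (hKL hk)) (inv_mem hn.1))
        have h2n : IsJComponent T (K₂.map (cj n)) := by
          refine IsJComponent.congr ?_ (isJComponent_map h2.1 n)
          rw [← Thompson.thompsonSubgroupOf_conj]
          exact (map_cj_eq_self_iff.mpr hn.2).symm
        refine (hclass _ hKn' _ h2n).mp ?_
        rw [← wOf_map (cj_injective n), normalizer_map_cj]
        exact Subgroup.map_mono h2.2
      rw [mem_normalizer_iff]
      have key : (classW T K).map (cj n) ≤ classW T K := by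
        rw [Subgroup.map_le_iff_le_comap, classW, sSup_le_iff]
        rintro _ ⟨K', hK', rfl⟩ y hy
        refine le_sSup (Set.mem_image_of_mem wOf (hcl K' hK')) ?_
        rw [← wOf_map (cj_injective n)]
        exact mem_map_of_mem _ hy
      exact mem_normalizer_iff.mp (map_cj_eq_self_iff.mp (Subgroup.eq_of_le_of_card_ge key
        (le_of_eq (Subgroup.card_map_of_injective (cj_injective n)).symm)))
    · exact sSup_le fun K₂ h2 => hKW K₂ (hsub K₂ (IsJComponent.congr hJ'.symm h2.1) h2.2)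
  -- the join of the four-groups is a 2-group
  obtain ⟨T₀, hT₀, hJT₀, hCN⟩ := hloc N hN2 hNM hJN
  have hW2 : IsPGroup 2 (classW T K) := by
    refine (isPGroup_pCoreOf (p := 2) N).to_le ?_
    rw [classW, sSup_le_iff]
    rintro _ ⟨K', hK', rfl⟩
    obtain ⟨-, -, x, hx, hgen, -⟩ :=
      component_data hN hZ hCN hT₀ (IsJComponent.congr hJT₀ hK'.1) hK'.2
    rw [wOf_eq_imgW hN hZ hCN hT₀ (IsJComponent.congr hJT₀ hK'.1) hK'.2 hx.2 hgen]
    exact (map_subtype_le _).trans ((VL_le_omega N).trans (omegaCenterOf_le _))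
  have hWne : classW T K ≠ ⊥ := fun h => by
    have h1 : wOf K ≤ classW T K := le_sSup (Set.mem_image_of_mem wOf hKcl)
    rw [h] at h1
    have := hK.2.2.2.2.1
    rw [le_bot_iff.mp h1, Subgroup.card_bot] at this
    exact absurd this (by norm_num)
  have hL₀ : IsTwoLocal (normalizer (classW T K : Set G)) := ⟨_, hW2, hWne, rfl⟩
  have hKL₀ : K ≤ normalizer (classW T K : Set G) := hKW K hKcl
  have hmax : IsMaximalTwoLocal (normalizer (classW T K : Set G)) :=
    ⟨hL₀, fun L hL2 hle => le_antisymm (hover L hL2 ((sup_le hKL₀ hJW).trans hle)) hle⟩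
  have hRT : IsTwoLocal (normalizer (pCoreOf 2 (K ⊔ T) : Set G)) :=
    ⟨_, isPGroup_pCoreOf _, hO2, rfl⟩
  have hKT : K ⊔ T ≤ normalizer (classW T K : Set G) :=
    (le_normalizer_pCoreOf (K ⊔ T)).trans (hover _ hRT
      ((sup_le_sup_left (Thompson.thompsonSubgroupOf_le T) K).trans (le_normalizer_pCoreOf _)))
  exact ⟨hmax, hKT, hover,
    (sylow_of_le S hMJ hL hT hL₀ (fun h => hKM (hKL₀.trans h)) (le_sup_right.trans hKT)).1⟩

end Cfsg.Agent.LocalEven64
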