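import Mathlib
import Cfsg.Agent.LocalEven64.FourLemma

/-!
# The four-group of a component as a module

`k` is an element of odd order generating a component `K` modulo `O₂(K)`.
-/

set_option autoImplicit false
set_option linter.unusedSectionVars false
set_option linter.style.haveILetI false

namespace Cfsg.Agent.LocalEven64

open Subgroup Cfsg
open scoped commutatorElement Pointwise

variable {G : Type*} [Group G] [Finite G]

/-- The four elements of a subgroup of order four. -/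
theorem four_mem {W : Subgroup G} (hW : Nat.card W = 4) (h2 : ∀ w ∈ W, w * w = 1) {a b : G}
    (ha : a ∈ W) (hb : b ∈ W) (ha1 : a ≠ 1) (hb1 : b ≠ 1) (hab : a ≠ b) {z : G} (hz : z ∈ W) :
    z = 1 ∨ z = a ∨ z = b ∨ z = a * b := by
  classical
  haveI := Fintype.ofFinite G
  by_contra h
  push Not at h
  obtain ⟨k0, k1, k2, k3⟩ := h
  have n1 : a * b ≠ 1 := fun he => hab (mul_left_cancel ((h2 a ha).trans he.symm))
  have n2 : a * b ≠ a := fun he => hb1 (mul_eq_left.mp he)
  have n3 : a * b ≠ b := fun he => ha1 (mul_eq_right.mp he)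
  have hsub : ({1, a, b, a * b, z} : Finset G) ⊆ Finset.univ.filter (· ∈ W) := by
    intro u hu
    simp only [Finset.mem_insert, Finset.mem_singleton] at hu
    rw [Finset.mem_filter]
    refine ⟨Finset.mem_univ u, ?_⟩
    rcases hu with rfl | rfl | rfl | rfl | rfl
    · exact one_mem _
    · exact ha
    · exact hb
    · exact mul_mem ha hb
    · exact hz
  have hcard : (Finset.univ.filter (· ∈ W)).card = 4 := by
    rw [← hW, Nat.card_eq_fintype_card, Fintype.card_subtype]
  have h5 : ({1, a, b, a * b, z} : Finset G).card = 5 := by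
    rw [Finset.card_insert_of_notMem, Finset.card_insert_of_notMem, Finset.card_insert_of_notMem,
      Finset.card_insert_of_notMem, Finset.card_singleton]
    all_goals simp only [Finset.mem_insert, Finset.mem_singleton, not_or]
    exacts [Ne.symm k3, ⟨Ne.symm n3, Ne.symm k2⟩, ⟨hab, Ne.symm n2, Ne.symm k1⟩,
      ⟨Ne.symm ha1, Ne.symm hb1, Ne.symm n1, Ne.symm k0⟩]
  have := Finset.card_le_card hsub
  omega

theorem four_comm {W : Subgroup G} (h2 : ∀ w ∈ W, w * w = 1) {a b : G} (ha : a ∈ W) (hb : b ∈ W) :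
    a * b = b * a := by
  have h := h2 _ (mul_mem ha hb)
  rw [eq_inv_of_mul_eq_one_left h, mul_inv_rev, inv_eq_of_mul_eq_one_right (h2 a ha),
    inv_eq_of_mul_eq_one_right (h2 b hb)]

/-- The data attached to a component. -/
structure CompData (K : Subgroup G) (k : G) : Prop where
  mem : k ∈ K
  odd : Odd (orderOf k)
  cube : k ^ 3 ∈ pCoreOf 2 K
  gen : ∀ g ∈ K, ∃ i : ℕ, g * (k ^ i)⁻¹ ∈ pCoreOf 2 K
  fpf : ∀ w ∈ wOf K, cj k w = w → w = 1
  disp : ∀ w ∈ wOf K, ∃ u ∈ omegaCenterOf (pCoreOf 2 K), w = u * cj k u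

theorem exists_compData {T K : Subgroup G} (hK : IsJComponent T K) : ∃ k, CompData K k := by
  set Q := pCoreOf 2 K with hQ
  obtain ⟨k, ⟨hk, hko⟩, hkQ⟩ : ∃ k, (k ∈ K ∧ Odd (orderOf k)) ∧ k ∉ Q := by
    by_contra h
    push Not at h
    have h1 : K ≤ Q := by
      conv_lhs => rw [← hK.1]
      rw [closure_le]
      exact fun g hg => h g hg
    exact not_isPGroup_component hK ((isPGroup_pCoreOf (p := 2) K).to_le h1)
  have hQn : (Q.subgroupOf K).Normal :=
    normal_subgroupOf_of_le_normalizer (le_normalizer_pCoreOf K)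
  haveI := hQn
  haveI : Fact (Nat.Prime 3) := ⟨Nat.prime_three⟩
  have hcard : Nat.card (↥K ⧸ Q.subgroupOf K) = 3 := hK.2.2.1
  set q : ↥K ⧸ Q.subgroupOf K := QuotientGroup.mk' _ ⟨k, hk⟩ with hqdef
  have hq1 : q ≠ 1 := fun h => hkQ (mem_subgroupOf.mp ((QuotientGroup.eq_one_iff _).mp h))
  have hzp : ∀ y : ↥K ⧸ Q.subgroupOf K, y ∈ zpowers q := fun y =>
    mem_zpowers_of_prime_card hcard hq1
  have hcube : k ^ 3 ∈ Q := by
    have h : q ^ 3 = 1 := hcard ▸ pow_card_eq_one'
    rw [hqdef, ← map_pow, QuotientGroup.mk'_apply, QuotientGroup.eq_one_iff, mem_subgroupOf,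
      SubmonoidClass.coe_pow] at h
    exact h
  have hgen : ∀ g ∈ K, ∃ i : ℕ, g * (k ^ i)⁻¹ ∈ Q := by
    intro g hg
    have h1 := hzp (QuotientGroup.mk' _ ⟨g, hg⟩)
    rw [← mem_powers_iff_mem_zpowers, Submonoid.mem_powers_iff] at h1
    obtain ⟨i, hi⟩ := h1
    refine ⟨i, ?_⟩
    have h2 : QuotientGroup.mk' (Q.subgroupOf K) (⟨g, hg⟩ * (⟨k, hk⟩ ^ i)⁻¹) = 1 := by
      rw [map_mul, map_inv, map_pow, ← hqdef, hi, mul_inv_cancel]
    rw [QuotientGroup.mk'_apply, QuotientGroup.eq_one_iff, mem_subgroupOf] at h2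
    exact h2
  set U := omegaCenterOf Q with hU
  have hUe : IsElementaryAbelian 2 U := isElementaryAbelian_omegaCenterOf Q
  have hKU : K ≤ normalizer (U : Set G) :=
    (le_normalizer_pCoreOf K).trans (normalizer_le_normalizer_omegaCenterOf _)
  have hQfix : ∀ x ∈ Q, ∀ u ∈ U, cj x u = u := fun x hx u hu =>
    cj_eq_self_iff.mpr (mem_centralizer_iff.mp (omegaCenterOf_le_centralizer Q hu) x hx)
  have hku : ∀ {u : G}, u ∈ U → cj k u ∈ U := fun hu => cj_mem_of_le_normalizer (hKU hk) hu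
  have hk3 : ∀ u ∈ U, cj k (cj k (cj k u)) = u := by
    intro u hu
    rw [← cj_mul, ← cj_mul, show k * k * k = k ^ 3 from (pow_three' k).symm]
    exact hQfix _ hcube u hu
  have hdisp : ∀ w ∈ wOf K, ∃ u ∈ U, w = u * cj k u := by
    have hUc : ∀ {p q : G}, p ∈ U → q ∈ U → p * q = q * p := fun hp hq =>
      Thompson.elemAb_comm hUe.1 hp hq
    have hUinv : ∀ {p : G}, p ∈ U → p⁻¹ = p := fun hp =>
      inv_eq_of_mul_eq_one_right (mul_self_of_mem_omegaCenterOf hp)
    let D : Subgroup G :=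
      { carrier := {w | ∃ u ∈ U, w = u * cj k u}
        one_mem' := ⟨1, one_mem _, by simp⟩
        mul_mem' := by
          rintro _ _ ⟨u, hu, rfl⟩ ⟨v, hv, rfl⟩
          refine ⟨u * v, mul_mem hu hv, ?_⟩
          rw [map_mul, mul_assoc, mul_assoc, ← mul_assoc (cj k u), hUc (hku hu) hv, mul_assoc]
        inv_mem' := by
          rintro _ ⟨u, hu, rfl⟩
          exact ⟨u, hu, by rw [hUinv (mul_mem hu (hku hu))]⟩ }
    suffices h : wOf K ≤ D from fun w hw => h hw
    rw [wOf, commutator_le]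
    intro u hu g hg
    obtain ⟨i, hq⟩ := hgen g hg
    have hcg : cj g u = cj (k ^ i) u := by
      conv_lhs => rw [show g = g * (k ^ i)⁻¹ * k ^ i by group, cj_mul]
      exact hQfix _ hq _ (cj_mem_of_le_normalizer (hKU (pow_mem hk i)) hu)
    have hform : ∀ j : ℕ, u * cj (k ^ j) u ∈ D := by
      intro j
      induction j with
      | zero =>
        rw [pow_zero, show cj (1 : G) u = u by simp [cj], mul_self_of_mem_omegaCenterOf hu]
        exact one_mem _
      | succ j ih =>
        have hju : cj (k ^ j) u ∈ U := cj_mem_of_le_normalizer (hKU (pow_mem hk j)) hu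
        have := mul_mem ih (show cj (k ^ j) u * cj k (cj (k ^ j) u) ∈ D from ⟨_, hju, rfl⟩)
        rwa [mul_assoc, ← mul_assoc (cj (k ^ j) u), mul_self_of_mem_omegaCenterOf hju, one_mul,
          ← cj_mul, ← pow_succ'] at this
    have hfin := hform i
    rw [← hcg, show cj g u = cj g u⁻¹ by rw [hUinv hu]] at hfin
    rw [commutatorElement_def, mul_assoc u, mul_assoc u]
    exact hfin
  refine ⟨k, ⟨hk, hko, hcube, hgen, ?_, hdisp⟩⟩
  intro w hw hfix
  obtain ⟨u, hu, rfl⟩ := hdisp w hw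
  rw [map_mul, Thompson.elemAb_comm hUe.1 hu (hku hu), mul_right_inj] at hfix
  have h1 : cj k u = u := by
    have := hk3 u hu
    rw [hfix] at this
    exact this
  rw [h1, mul_self_of_mem_omegaCenterOf hu]

namespace CompData

variable {T K : Subgroup G} {k : G} (hK : IsJComponent T K) (hk : CompData K k)
include hK hk

theorem cj_mem {w : G} (hw : w ∈ wOf K) : cj k w ∈ wOf K :=
  cj_mem_of_le_normalizer (normalizer_le_normalizer_wOf K (le_normalizer hk.mem)) hw

theorem cube_apply {w : G} (hw : w ∈ wOf K) : cj k (cj k (cj k w)) = w := by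
  rw [← cj_mul, ← cj_mul, show k * k * k = k ^ 3 from (pow_three' k).symm]
  exact cj_eq_self_iff.mpr
    (mem_centralizer_iff.mp (omegaCenterOf_le_centralizer _ (wOf_le_omegaCenterOf K hw)) _ hk.cube)

theorem w_cases {w : G} (hw : w ∈ wOf K) (hw1 : w ≠ 1) {z : G} (hz : z ∈ wOf K) :
    z = 1 ∨ z = w ∨ z = cj k w ∨ z = w * cj k w :=
  four_mem hK.2.2.2.2.1 hK.2.2.2.2.2 hw (hk.cj_mem hK hw) hw1
    (fun h => hw1 (cj_injective k (h.trans (map_one (cj k)).symm)))
    (fun h => hw1 (hk.fpf w hw h.symm)) hz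

/-- A 2-group centralizing `K` modulo `O₂(K)` centralizes `W_K`. -/
theorem le_centralizer_wOf {P : Subgroup G} (hP : IsPGroup 2 P)
    (hPK : P ≤ normalizer (K : Set G)) (hc : ∀ x ∈ P, cj x k * k⁻¹ ∈ pCoreOf 2 K) :
    P ≤ centralizer (wOf K : Set G) := by
  have hW2 : IsPGroup 2 (wOf K) :=
    fun w => ⟨1, Subtype.ext (by rw [pow_one, SubmonoidClass.coe_pow, sq]; exact hK.2.2.2.2.2 w w.2)⟩
  have hPW : P ≤ normalizer (wOf K : Set G) := hPK.trans (normalizer_le_normalizer_wOf K)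
  haveI : Fact (Nat.Prime 2) := ⟨Nat.prime_two⟩
  letI : MulAction P (wOf K) :=
    { smul := fun x w => ⟨cj (x : G) (w : G), cj_mem_of_le_normalizer (hPW x.2) w.2⟩
      one_smul := fun w => Subtype.ext (by show cj ((1 : P) : G) (w : G) = w; simp [cj])
      mul_smul := fun x y w => Subtype.ext (cj_mul (x : G) y w) }
  obtain ⟨⟨w, hw⟩, hwfix, hw1⟩ := hP.exists_fixed_point_of_prime_dvd_card_of_fixed_point (wOf K)
    (by rw [hK.2.2.2.2.1]; norm_num)
    (show (1 : wOf K) ∈ MulAction.fixedPoints P (wOf K) from fun x => Subtype.ext (map_one (cj (x : G))))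
  have hw1' : w ≠ 1 := fun h => hw1 (Subtype.ext h.symm)
  intro x hx
  have hxw : cj x w = w := congrArg Subtype.val (hwfix ⟨x, hx⟩)
  have hxkw : cj x (cj k w) = cj k w := by
    have h1 : cj x (cj k w) = cj (cj x k * k⁻¹) (cj k (cj x w)) := by simp [cj, mul_assoc]
    rw [h1, hxw]
    exact cj_eq_self_iff.mpr (mem_centralizer_iff.mp (omegaCenterOf_le_centralizer _
      (wOf_le_omegaCenterOf K (hk.cj_mem hK hw))) _ (hc x hx))
  rw [mem_centralizer_iff]
  intro z hz
  refine (cj_eq_self_iff.mp ?_).symm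
  rcases hk.w_cases hK hw hw1' hz with rfl | rfl | rfl | rfl
  · exact map_one _
  · exact hxw
  · exact hxkw
  · rw [map_mul, hxw, hxkw]

/-- An element inverting `k` modulo `O₂(K)` inverts it on `W_K`. -/
theorem invOn {a : G} (haK : a ∈ normalizer (K : Set G)) (ha : cj a k * k ∈ pCoreOf 2 K) :
    InvOn (wOf K) k a := by
  intro w hw
  have h1 : cj a (cj k w) = cj (cj a k * k) (cj k⁻¹ (cj a w)) := by simp [cj, mul_assoc]
  rw [h1]
  refine cj_eq_self_iff.mpr (mem_centralizer_iff.mp (omegaCenterOf_le_centralizer _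
    (wOf_le_omegaCenterOf K ?_)) _ ha)
  exact cj_mem_of_le_normalizer (normalizer_le_normalizer_wOf K (le_normalizer (inv_mem hk.mem)))
    (cj_mem_of_le_normalizer (normalizer_le_normalizer_wOf K haK) hw)

/-- Every element normalizing `K` centralizes or inverts `k` modulo `O₂(K)`. -/
theorem sign {a : G} (haK : a ∈ normalizer (K : Set G)) :
    cj a k * k⁻¹ ∈ pCoreOf 2 K ∨ cj a k * k ∈ pCoreOf 2 K := by
  set Q := pCoreOf 2 K with hQ
  obtain ⟨i, hi⟩ := hk.gen _ (cj_mem_of_le_normalizer haK hk.mem)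
  have h3 : (k ^ 3) ^ (i / 3) ∈ Q := pow_mem hk.cube _
  have hred : cj a k * (k ^ (i % 3))⁻¹ ∈ Q := by
    have h4 : k ^ i = (k ^ 3) ^ (i / 3) * k ^ (i % 3) := by
      rw [← pow_mul, ← pow_add, Nat.div_add_mod]
    have h5 := Q.mul_mem hi h3
    rw [h4, mul_inv_rev, mul_assoc (cj a k), mul_assoc, inv_mul_cancel, mul_one] at h5
    exact h5
  have hlt : i % 3 < 3 := Nat.mod_lt _ (by norm_num)
  interval_cases h : i % 3
  · exfalso
    rw [pow_zero, inv_one, mul_one] at hred
    have haQ : a ∈ normalizer (Q : Set G) := by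
      rw [← map_cj_eq_self_iff, hQ, pCoreOf_map (cj_injective a), map_cj_eq_self_iff.mpr haK]
    have h2 : k ∈ Q := (mem_normalizer_iff.mp haQ k).mpr hred
    have hkW : ∀ w ∈ wOf K, cj k w = w := fun w hw => cj_eq_self_iff.mpr
      (mem_centralizer_iff.mp (omegaCenterOf_le_centralizer _ (wOf_le_omegaCenterOf K hw)) _ h2)
    have := hK.2.2.2.2.1
    rw [(Subgroup.eq_bot_iff_forall _).mpr fun w hw => hk.fpf w hw (hkW w hw), Subgroup.card_bot] at this
    exact absurd this (by norm_num)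
  · left; rwa [pow_one] at hred
  · right
    have h6 := Q.mul_mem hred hk.cube
    rwa [pow_succ k 2, ← mul_assoc, inv_mul_cancel_right] at h6

end CompData

/-- `⟨K, J(T)⟩` is generated by the conjugates of `J(T)` by elements of `K`. -/
theorem closure_conj_thompson {T K : Subgroup G} (hK : IsJComponent T K) :
    closure {y : G | ∃ k ∈ K, ∃ j ∈ thompsonSubgroupOf 2 T, y = cj k j} =
      K ⊔ thompsonSubgroupOf 2 T := by
  set J := thompsonSubgroupOf 2 T
  refine le_antisymm ?_ ?_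
  · rw [closure_le]
    rintro _ ⟨k, hk, j, hj, rfl⟩
    exact mul_mem (mul_mem (mem_sup_left hk) (mem_sup_right hj)) (inv_mem (mem_sup_left hk))
  · have hJS : J ≤ closure {y : G | ∃ k ∈ K, ∃ j ∈ J, y = cj k j} := fun j hj =>
      subset_closure ⟨1, one_mem _, j, hj, by simp [cj]⟩
    refine sup_le (hK.2.1.symm.le.trans ?_) hJS
    rw [commutator_le]
    intro k hk j hj
    rw [commutatorElement_def]
    exact mul_mem (subset_closure ⟨k, hk, j, hj, rfl⟩) (inv_mem (hJS hj))

end Cfsg.Agent.LocalEven64
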