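import Mathlib
import Cfsg.Agent.LocalEven64.ComponentAction

/-!
# The centre of `J(T)` and the four-group of a `J(T)`-component
-/

set_option autoImplicit false
set_option linter.unusedSectionVars false
set_option linter.style.haveILetI false

namespace Cfsg.Agent.LocalEven64

open Subgroup Cfsg
open scoped commutatorElement Pointwise

variable {G : Type*} [Group G] [Finite G]

theorem mem_of_centralizes_maxIn {A S : Subgroup G} (hA : Thompson.IsMaxEAIn 2 A S) {x : G}
    (hx : x ∈ S) (hc : x ∈ centralizer (A : Set G)) (h2 : x * x = 1) : x ∈ A := by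
  have hA' := hA.subgroupOf_mem
  have h := Thompson.mem_of_centralizes_max hA' (x := (⟨x, hx⟩ : S))
    (mem_centralizer_iff.mpr fun y hy => Subtype.ext (mem_centralizer_iff.mp hc (y : G) hy))
    (Subtype.ext (by rw [SubmonoidClass.coe_pow, sq]; exact h2))
  exact h

/-- The elements normalizing `K` and centralizing `K/O₂(K)`. -/
def sectionCentralizer (K : Subgroup G) : Subgroup G where
  carrier := {x | x ∈ normalizer (K : Set G) ∧ ∀ g ∈ K, cj x g * g⁻¹ ∈ pCoreOf 2 K}
  one_mem' := ⟨one_mem _, fun g _ => by simp [cj]⟩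
  mul_mem' := by
    rintro x y ⟨hx, hx'⟩ ⟨hy, hy'⟩
    refine ⟨(normalizer (K : Set G)).mul_mem hx hy, fun g hg => ?_⟩
    have := (pCoreOf 2 K).mul_mem (hx' (cj y g) (cj_mem_of_le_normalizer hy hg)) (hy' g hg)
    rw [cj_mul]
    rwa [mul_assoc, inv_mul_cancel_left] at this
  inv_mem' := by
    rintro x ⟨hx, hx'⟩
    refine ⟨(normalizer (K : Set G)).inv_mem hx, fun g hg => ?_⟩
    have h := hx' (cj x⁻¹ g) (cj_mem_of_le_normalizer ((normalizer (K : Set G)).inv_mem hx) hg)
    rw [cj_cj_inv] at h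
    have := (pCoreOf 2 K).inv_mem h
    rwa [mul_inv_rev, inv_inv] at this

theorem sectionCentralizer_conj {K : Subgroup G} {b x : G} (hb : b ∈ normalizer (K : Set G))
    (hx : x ∈ sectionCentralizer K) : cj b x ∈ sectionCentralizer K := by
  have hbQ : b ∈ normalizer (pCoreOf 2 K : Set G) := by
    rw [← map_cj_eq_self_iff, pCoreOf_map (cj_injective b), map_cj_eq_self_iff.mpr hb]
  refine ⟨cj_mem_of_le_normalizer (le_normalizer (H := normalizer (K : Set G)) hb) hx.1, fun g hg => ?_⟩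
  have h := hx.2 (cj b⁻¹ g) (cj_mem_of_le_normalizer ((normalizer (K : Set G)).inv_mem hb) hg)
  have := cj_mem_of_le_normalizer hbQ h
  simpa [cj, mul_assoc] using this

theorem pCoreOf_le_sectionCentralizer (K : Subgroup G) : pCoreOf 2 K ≤ sectionCentralizer K := by
  intro q hq
  refine ⟨le_normalizer (pCoreOf_le K hq), fun g hg => ?_⟩
  have h := cj_mem_of_le_normalizer (le_normalizer_pCoreOf K hg) ((pCoreOf 2 K).inv_mem hq)
  have := (pCoreOf 2 K).mul_mem hq h
  simpa [cj, mul_assoc] using this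

theorem CompData.mem_sectionCentralizer {K : Subgroup G} {k x : G} (hk : CompData K k)
    (hx : x ∈ normalizer (K : Set G)) (h : cj x k * k⁻¹ ∈ pCoreOf 2 K) :
    x ∈ sectionCentralizer K := by
  set Q := pCoreOf 2 K with hQ
  refine ⟨hx, fun g hg => ?_⟩
  have hxQ : x ∈ normalizer (Q : Set G) := by
    rw [← map_cj_eq_self_iff, hQ, pCoreOf_map (cj_injective x), map_cj_eq_self_iff.mpr hx]
  have hpow : ∀ i : ℕ, cj x (k ^ i) * (k ^ i)⁻¹ ∈ Q := by
    intro i
    induction i with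
    | zero => simp [cj]
    | succ i ih =>
      have hki : cj x (k ^ i) ∈ K := cj_mem_of_le_normalizer hx (pow_mem hk.mem i)
      have h1 := Q.mul_mem (cj_mem_of_le_normalizer (le_normalizer_pCoreOf K hki) h) ih
      convert h1 using 1
      simp only [cj_apply, pow_succ]
      group
  obtain ⟨i, hi⟩ := hk.gen g hg
  have h1 := Q.mul_mem (Q.mul_mem (cj_mem_of_le_normalizer hxQ hi) (hpow i)) (Q.inv_mem hi)
  convert h1 using 1
  simp [cj, mul_assoc]

variable {T K : Subgroup G}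

/-- `Ω₁(Z(J(T)))` is the product of its intersections with `Z(⟨K, J(T)⟩)` and `W_K`, the latter of
order two. -/
theorem omega_center_split (hT : IsPGroup 2 T) (hK : IsJComponent T K) :
    Nat.card ↥(omegaCenterOf (thompsonSubgroupOf 2 T) ⊓ wOf K) = 2 ∧
      (omegaCenterOf (thompsonSubgroupOf 2 T) ⊓
          ((K ⊔ thompsonSubgroupOf 2 T) ⊓
            centralizer ((K ⊔ thompsonSubgroupOf 2 T : Subgroup G) : Set G))) ⊔
        (omegaCenterOf (thompsonSubgroupOf 2 T) ⊓ wOf K) = omegaCenterOf (thompsonSubgroupOf 2 T) ∧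
      wOf K ≤ thompsonSubgroupOf 2 T := by
  classical
  haveI : Fact (Nat.Prime 2) := ⟨Nat.prime_two⟩
  set J := thompsonSubgroupOf 2 T with hJdef
  set Q := pCoreOf 2 K with hQdef
  set W := wOf K with hWdef
  set H := K ⊔ J with hHdef
  set Z₀ := omegaCenterOf J with hZdef
  have hJ2 : IsPGroup 2 J := isPGroup_thompsonSubgroupOf hT
  have hJK : J ≤ normalizer (K : Set G) := thompson_le_normalizer hK
  obtain ⟨k, hk⟩ := exists_compData hK
  have hW2 : ∀ w ∈ W, w * w = 1 := hK.2.2.2.2.2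
  have hHK : H ≤ normalizer (K : Set G) := sup_le le_normalizer hJK
  have hHQ : H ≤ normalizer (Q : Set G) := fun g hg => by
    rw [← map_cj_eq_self_iff, hQdef, pCoreOf_map (cj_injective g), map_cj_eq_self_iff.mpr (hHK hg)]
  obtain ⟨S, hS, hJS⟩ := exists_isSylowTwoIn_ge hJ2 (le_sup_right : J ≤ H)
  have hJS' : thompsonSubgroupOf 2 S = J := hK.2.2.2.1 S hS hJS
  have hQS : Q ≤ S :=
    (le_pCoreOf ((pCoreOf_le K).trans le_sup_left) hHQ (isPGroup_pCoreOf K)).trans
      (pCoreOf_le_sylowTwoIn hS)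
  have haS : maxElemAbelianOrder S = maxElemAbelianOrder T := maxElemAbelianOrder_of_thompson_eq hJS'
  set E := S ⊓ sectionCentralizer K with hEdef
  have hQE : Q ≤ E := le_inf hQS (pCoreOf_le_sectionCentralizer K)
  have hEW : E ≤ centralizer (W : Set G) :=
    hk.le_centralizer_wOf hK (hS.2.1.to_le inf_le_left) (fun x hx => hx.2.1)
      (fun x hx => hx.2.2 k hk.mem)
  -- elements of `J` outside `E` invert
  have hinv : ∀ b ∈ J, b ∉ E → cj b k * k ∈ Q := fun b hb hbE =>
    (hk.sign hK (hJK hb)).resolve_left fun h => hbE ⟨hJS hb, hk.mem_sectionCentralizer (hJK hb) h⟩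
  have hprod : ∀ b c : G, b ∈ J → c ∈ J → b ∉ E → c ∉ E → b * c ∈ E := by
    intro b c hb hc hbE hcE
    refine ⟨mul_mem (hJS hb) (hJS hc), hk.mem_sectionCentralizer
      ((normalizer (K : Set G)).mul_mem (hJK hb) (hJK hc)) ?_⟩
    have h1 := cj_mem_of_le_normalizer (hHQ (mem_sup_right hb)) (hinv c hc hcE)
    have hmem : cj b k ∈ K := cj_mem_of_le_normalizer (hJK hb) hk.mem
    -- `cj (bc) k = cj b (q k⁻¹)`
    have h2 := Q.mul_mem h1 (Q.inv_mem (hinv b hb hbE))
    have h3 := cj_mem_of_le_normalizer (le_normalizer_pCoreOf K hk.mem) h2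
    rw [cj_mul]
    have h4 : cj b (cj c k) * k⁻¹ = cj b (cj c k * k) * (cj b k)⁻¹ * k⁻¹ := by
      rw [map_mul]; group
    rw [h4]
    have h5 : cj b (cj c k * k) * (cj b k)⁻¹ * k⁻¹ =
        cj b (cj c k * k) * (k * (cj b k * k)⁻¹ * k⁻¹) := by group
    rw [h5]
    exact Q.mul_mem h1 (cj_mem_of_le_normalizer (le_normalizer_pCoreOf K hk.mem)
      (Q.inv_mem (hinv b hb hbE)))
  -- some maximal elementary abelian subgroup is not inside `E`
  obtain ⟨A, hA, a, haA, haE⟩ : ∃ A, Thompson.IsMaxEAIn 2 A T ∧ ∃ a ∈ A, a ∉ E := by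
    by_contra h
    push Not at h
    have hle : J ≤ E := by
      rw [hJdef, Thompson.thompsonSubgroupOf_eq]
      exact sSup_le fun A hA x hx => h A hA x hx
    have h1 : K ≤ Q := by
      refine hK.2.1.symm.le.trans ?_
      rw [commutator_le]
      intro g hg j hj
      have h2 := (hle hj).2.2 g hg
      have h3 := Q.inv_mem h2
      simpa [commutatorElement_def, cj, mul_assoc] using h3
    exact not_isPGroup_component hK ((isPGroup_pCoreOf (p := 2) K).to_le h1)
  have haJ : a ∈ J := Thompson.le_thompsonSubgroupOf hA haA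
  have hAJ : A ≤ J := Thompson.le_thompsonSubgroupOf hA
  have hai : InvOn W k a := hk.invOn hK (hJK haJ) (hinv a haJ haE)
  have ha2 : a * a = 1 := by rw [← sq]; exact hA.2.1.2 a haA
  have hWK : K ≤ normalizer (W : Set G) := le_normalizer.trans (normalizer_le_normalizer_wOf K)
  have hJW : J ≤ normalizer (W : Set G) := hJK.trans (normalizer_le_normalizer_wOf K)
  have hkW : k ∈ normalizer (W : Set G) := hWK hk.mem
  have hWe : IsElementaryAbelian 2 W :=
    Thompson.isElementaryAbelian_of_le (isElementaryAbelian_omegaCenterOf _) (wOf_le_omegaCenterOf K)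
  -- an inverting element does not centralize `W`
  have hnc : ∀ b, InvOn W k b → ¬ ∀ w ∈ W, cj b w = w := by
    intro b hb hfix
    have := hK.2.2.2.2.1
    have hbot : wOf K = ⊥ := (Subgroup.eq_bot_iff_forall _).mpr fun w hw => ?_
    · rw [hbot, Subgroup.card_bot] at this
      exact absurd this (by norm_num)
    · have h1 := hb w hw
      rw [hfix _ (hk.cj_mem hK hw), hfix w hw] at h1
      exact eq_one_of_cj_eq_cj_inv hkW (fun w hw => hk.cube_apply hK hw) hk.fpf hWe hw h1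
  set Ca := W ⊓ centralizer ({a} : Set G) with hCa
  have hCa_mem : ∀ {w : G}, w ∈ W → cj a w = w → w ∈ Ca := fun hw h =>
    ⟨hw, mem_centralizer_singleton_iff.mpr (cj_eq_self_iff.mp h).symm⟩
  have hCa_fix : ∀ {w : G}, w ∈ Ca → cj a w = w := fun hw =>
    cj_eq_self_iff.mpr (mem_centralizer_singleton_iff.mp hw.2).symm
  have hCa2 : Nat.card Ca = 2 := by
    have hlt : Ca < W := lt_of_le_of_ne inf_le_left fun h =>
      hnc a hai fun w hw => hCa_fix (h.symm ▸ hw)
    obtain ⟨m, hm⟩ := card_dvd_of_le hlt.le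
    rw [hK.2.2.2.2.1] at hm
    have hne : Nat.card Ca ≠ 4 := fun h4 => hlt.ne
      (Subgroup.eq_of_le_of_card_ge hlt.le (by rw [hK.2.2.2.2.1, h4]))
    have hne1 : Nat.card Ca ≠ 1 := by
      intro h1
      obtain ⟨w, hw, hw1⟩ := (Subgroup.bot_or_exists_ne_one W).resolve_left fun h => by
        have := hK.2.2.2.2.1
        rw [show wOf K = ⊥ from h, Subgroup.card_bot] at this
        exact absurd this (by norm_num)
      have haw : cj a w ∈ W := cj_mem_of_le_normalizer (hJW haJ) hw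
      have h2 : w * cj a w ∈ Ca := by
        refine hCa_mem (mul_mem hw haw) ?_
        rw [map_mul, ← cj_mul, ha2, show cj (1 : G) w = w by simp [cj]]
        exact four_comm hW2 haw hw
      have hbot := Subgroup.card_eq_one.mp h1
      rw [hbot, mem_bot] at h2
      have haw' : cj a w = w := (mul_left_cancel ((hW2 w hw).trans h2.symm)).symm
      exact hw1 (mem_bot.mp (hbot ▸ hCa_mem hw haw'))
    have hle : Nat.card Ca ≤ 4 := Nat.le_of_dvd (by norm_num) ⟨m, hm⟩
    have hpos : 0 < Nat.card Ca := Nat.card_pos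
    interval_cases h : Nat.card Ca <;> omega
  -- `B = (A ∩ E) W`
  set A₁ := A ⊓ E with hA₁
  set B := A₁ ⊔ W with hBdef
  have hA₁W : A₁ ≤ centralizer (W : Set G) := inf_le_right.trans hEW
  have hBe : IsElementaryAbelian 2 B :=
    Thompson.isElementaryAbelian_sup (Thompson.isElementaryAbelian_of_le hA.2.1 inf_le_left) hWe hA₁W
  have hWQ : W ≤ Q := (wOf_le_omegaCenterOf K).trans (omegaCenterOf_le Q)
  have hBE : B ≤ E := sup_le inf_le_right (hWQ.trans hQE)
  have hcardA : Nat.card A ≤ 2 * Nat.card A₁ := by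
    have hsurj : Function.Surjective (fun q : Fin 2 × A₁ =>
        (⟨a ^ (q.1 : ℕ) * q.2, mul_mem (pow_mem haA _) q.2.2.1⟩ : A)) := by
      rintro ⟨b, hb⟩
      by_cases hbE : b ∈ E
      · exact ⟨(0, ⟨b, hb, hbE⟩), by simp⟩
      · refine ⟨(1, ⟨a * b, mul_mem haA hb, hprod a b haJ (hAJ hb) haE hbE⟩), Subtype.ext ?_⟩
        show a ^ (1 : ℕ) * (a * b) = b
        rw [pow_one, ← mul_assoc, ha2, one_mul]
    have := Nat.card_le_card_of_surjective _ hsurj
    simpa [Nat.card_prod] using this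
  have hA₁a : A₁ ⊓ W ≤ Ca := fun w hw =>
    ⟨hw.2, mem_centralizer_singleton_iff.mpr (Thompson.elemAb_comm hA.2.1.1 hw.1.1 haA)⟩
  have hBcard : Nat.card A ≤ Nat.card B := by
    have h1 := Thompson.card_sup_mul_card_inf (H := A₁) (K := W)
      ((le_centralizer_iff.mp hA₁W).trans (centralizer_le_normalizer _))
    rw [← hBdef, hK.2.2.2.2.1] at h1
    have h2 : Nat.card (A₁ ⊓ W : Subgroup G) ≤ 2 := hCa2 ▸ card_le_of_le hA₁a
    have h3 : Nat.card A₁ * 4 ≤ Nat.card B * 2 := h1 ▸ Nat.mul_le_mul_left _ h2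
    omega
  have hAS : Thompson.IsMaxEAIn 2 A S := by
    refine ⟨hAJ.trans hJS, hA.2.1, fun D hD hDe => ?_⟩
    rw [← maxElemAbelianOrder_eq hA, ← haS]
    exact card_le_maxElemAbelianOrder hD hDe
  have hBS : Thompson.IsMaxEAIn 2 B S :=
    ⟨hBE.trans inf_le_left, hBe, fun D hD hDe => (hAS.2.2 D hD hDe).trans hBcard⟩
  have hBJ : B ≤ J := hJS' ▸ Thompson.le_thompsonSubgroupOf hBS
  have hWJ : W ≤ J := le_sup_right.trans hBJ
  have hinter : Z₀ ⊓ W = Ca := by
    refine le_antisymm (fun w hw => ?_) (fun w hw => ?_)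
    · exact ⟨hw.2, mem_centralizer_singleton_iff.mpr
        (mem_centralizer_iff.mp (omegaCenterOf_le_centralizer J hw.1) a haJ).symm⟩
    · refine ⟨mem_omegaCenterOf (hWJ hw.1) (mem_centralizer_iff.mpr fun b hb => ?_) (hW2 w hw.1), hw.1⟩
      by_cases hbE : b ∈ E
      · exact (mem_centralizer_iff.mp (hEW hbE) w hw.1).symm
      · have hab := hprod a b haJ hb haE hbE
        have h1 : cj (a * b) w = w :=
          cj_eq_self_iff.mpr (mem_centralizer_iff.mp (hEW hab) w hw.1).symm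
        refine cj_eq_self_iff.mp ?_
        calc cj b w = cj a (cj (a * b) w) := by
              rw [← cj_mul, ← mul_assoc, ha2, one_mul]
          _ = w := by rw [h1, hCa_fix hw]
  refine ⟨hinter ▸ hCa2, ?_, hWJ⟩
  refine le_antisymm (sup_le inf_le_left inf_le_left) ?_
  intro z hz
  have hzJ : z ∈ J := omegaCenterOf_le J hz
  have hzc : z ∈ centralizer (J : Set G) := omegaCenterOf_le_centralizer J hz
  have hz2 : z * z = 1 := mul_self_of_mem_omegaCenterOf hz
  have hzE : z ∈ E := by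
    by_contra hzE
    refine hnc z (hk.invOn hK (hJK hzJ) (hinv z hzJ hzE)) fun w hw => ?_
    exact cj_eq_self_iff.mpr (mem_centralizer_iff.mp hzc w (hWJ hw)).symm
  -- the module `U₁ = Ω₁(Z(J(E)))`
  set U₁ := omegaCenterOf (thompsonSubgroupOf 2 E) with hU₁
  have hBEmax : Thompson.IsMaxEAIn 2 B E :=
    ⟨hBE, hBe, fun D hD hDe => hBS.2.2 D (hD.trans inf_le_left) hDe⟩
  have hJEJ : thompsonSubgroupOf 2 E ≤ J := hJS' ▸ thompson_le_of_order_eq
    ((Thompson.thompsonSubgroupOf_le E).trans inf_le_left)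
    (by rw [maxElemAbelianOrder_eq hBEmax, maxElemAbelianOrder_eq hBS])
  have hzB : z ∈ B := mem_of_centralizes_maxIn hBS (hJS hzJ)
    (centralizer_le hBJ hzc) hz2
  have hzU : z ∈ U₁ := mem_omegaCenterOf (Thompson.le_thompsonSubgroupOf hBEmax hzB)
    (centralizer_le hJEJ hzc) hz2
  have hWU : W ≤ U₁ := fun w hw => mem_omegaCenterOf
    (Thompson.le_thompsonSubgroupOf hBEmax (mem_sup_right hw))
    (mem_centralizer_iff.mpr fun x hx =>
      (mem_centralizer_iff.mp (hEW (Thompson.thompsonSubgroupOf_le E hx)) w hw).symm) (hW2 w hw)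
  have hU₁B : U₁ ≤ B := fun u hu => mem_of_centralizes_maxIn hBS
    (inf_le_left (b := sectionCentralizer K) (Thompson.thompsonSubgroupOf_le E (omegaCenterOf_le _ hu)))
    (centralizer_le (Thompson.le_thompsonSubgroupOf hBEmax) (omegaCenterOf_le_centralizer _ hu))
    (mul_self_of_mem_omegaCenterOf hu)
  have hkE : ∀ g ∈ K, ∀ x ∈ E, cj g x ∈ E := by
    intro g hg x hx
    have h1 : cj g x * x⁻¹ ∈ Q := by
      have := Q.inv_mem (hx.2.2 g hg)
      simpa [cj, mul_assoc] using this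
    have := E.mul_mem (hQE h1) hx
    rwa [inv_mul_cancel_right] at this
  have hKU₁ : K ≤ normalizer (U₁ : Set G) := by
    refine le_trans (Coprime.le_normalizer_of_conj_mem hkE)
      ((Thompson.normalizer_le_normalizer_thompsonSubgroupOf (p := 2) E).trans
        (normalizer_le_normalizer_omegaCenterOf _))
  set D₁ := U₁ ⊓ A₁ with hD₁
  set D₂ := D₁.map (cj k) with hD₂
  have hU₁e : IsElementaryAbelian 2 U₁ := isElementaryAbelian_omegaCenterOf _
  have hWA₁n : A₁ ≤ normalizer (W : Set G) :=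
    (inf_le_left.trans hAJ).trans hJW
  have hdec : ∀ u ∈ U₁, ∃ w ∈ W, ∃ d ∈ D₁, u = d * w := by
    intro u hu
    have hu' : u ∈ ((A₁ : Set G) * (W : Set G)) := by
      rw [← Subgroup.coe_mul_of_right_le_normalizer_left A₁ W
        ((le_centralizer_iff.mp hA₁W).trans (centralizer_le_normalizer _))]
      exact hU₁B hu
    obtain ⟨d, hd, w, hw, rfl⟩ := hu'
    refine ⟨w, hw, d, ⟨?_, hd⟩, rfl⟩
    have := U₁.mul_mem hu (U₁.inv_mem (hWU hw))
    rwa [mul_inv_cancel_right] at this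
  have hD₁U : D₁ ≤ U₁ := inf_le_left
  have hD₂U : D₂ ≤ U₁ := by
    rintro _ ⟨d, hd, rfl⟩
    exact cj_mem_of_le_normalizer (hKU₁ hk.mem) hd.1
  have hU₁c : U₁ ≤ centralizer (U₁ : Set G) := Thompson.le_centralizer_self hU₁e.1
  have hnorm : ∀ {X Y : Subgroup G}, X ≤ U₁ → Y ≤ U₁ → Y ≤ normalizer (X : Set G) := fun hX hY =>
    hY.trans (hU₁c.trans ((centralizer_le hX).trans (centralizer_le_normalizer _)))
  have hidx : Nat.card U₁ ≤ 2 * Nat.card D₁ := by
    have h1 := Thompson.card_sup_mul_card_inf (H := D₁) (K := W) (hnorm hD₁U hWU)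
    have h2 : D₁ ⊔ W = U₁ := le_antisymm (sup_le hD₁U hWU) fun u hu => by
      obtain ⟨w, hw, d, hd, rfl⟩ := hdec u hu
      exact mul_mem_sup hd hw
    rw [h2, hK.2.2.2.2.1] at h1
    -- `D₁ ∩ W = Z₀ ∩ W`
    have h3 : (2 : ℕ) ≤ Nat.card (D₁ ⊓ W : Subgroup G) := by
      rw [← hCa2]
      refine card_le_of_le fun w hw => ⟨⟨hWU hw.1, ?_, ?_⟩, hw.1⟩
      · exact mem_of_centralizes_maxIn hAS (hJS (hWJ hw.1)) (by
          rw [← hinter] at hw
          exact centralizer_le hAJ (omegaCenterOf_le_centralizer J hw.1)) (hW2 w hw.1)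
      · exact hQE (hWQ hw.1)
    have h4 : Nat.card U₁ * 2 ≤ Nat.card D₁ * 4 := h1 ▸ Nat.mul_le_mul_left _ h3
    omega
  set C := D₁ ⊓ D₂ with hCdef
  have hWC : W ⊔ C = U₁ := by
    refine Subgroup.eq_of_le_of_card_ge (sup_le hWU (inf_le_left.trans hD₁U)) ?_
    have h1 := Thompson.card_sup_mul_card_inf (H := W) (K := C) (hnorm hWU (inf_le_left.trans hD₁U))
    have h2 : W ⊓ C = ⊥ := by
      rw [eq_bot_iff]
      rintro w ⟨hw, ⟨-, hw1⟩, d, hd, hdw⟩
      have hwCa : w ∈ Ca := hA₁a ⟨hw1, hw⟩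
      have hdW : d ∈ W := by
        have := cj_mem_of_le_normalizer (inv_mem hkW) (show cj k d ∈ W by rw [hdw]; exact hw)
        rwa [cj_inv_cj] at this
      have hdCa : d ∈ Ca := hA₁a ⟨hd.2, hdW⟩
      obtain ⟨y, -, hy⟩ := (Nat.card_eq_two_iff' (1 : Ca)).mp hCa2
      by_contra hw'
      rw [mem_bot] at hw'
      have hd1 : d ≠ 1 := fun h => hw' (by rw [← hdw, h, map_one])
      have h1 := hy ⟨w, hwCa⟩ fun h => hw' (congrArg Subtype.val h)
      have h2 := hy ⟨d, hdCa⟩ fun h => hd1 (congrArg Subtype.val h)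
      have h3 : d = w := congrArg Subtype.val (h2.trans h1.symm)
      rw [h3] at hdw
      exact hw' (hk.fpf w hw hdw)
    rw [h2, Subgroup.card_bot, mul_one, hK.2.2.2.2.1] at h1
    rw [h1]
    have h3 := Thompson.card_sup_mul_card_inf (H := D₁) (K := D₂) (hnorm hD₁U hD₂U)
    have h4 : Nat.card (D₁ ⊔ D₂ : Subgroup G) ≤ Nat.card U₁ := card_le_of_le (sup_le hD₁U hD₂U)
    have h5 : Nat.card D₂ = Nat.card D₁ := Subgroup.card_map_of_injective (cj_injective k)
    rw [h5, ← hCdef] at h3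
    refine Nat.le_of_mul_le_mul_left ?_ (Nat.card_pos (α := U₁))
    calc Nat.card U₁ * Nat.card U₁ ≤ (2 * Nat.card D₁) * (2 * Nat.card D₁) :=
          Nat.mul_le_mul hidx hidx
      _ = 4 * (Nat.card (D₁ ⊔ D₂ : Subgroup G) * Nat.card C) := by rw [h3]; ring
      _ ≤ 4 * (Nat.card U₁ * Nat.card C) := Nat.mul_le_mul_left _ (Nat.mul_le_mul_right _ h4)
      _ = Nat.card U₁ * (4 * Nat.card C) := by ring
  have hz' : z ∈ ((W : Set G) * (C : Set G)) := by
    rw [← Subgroup.coe_mul_of_right_le_normalizer_left W C (hnorm hWU (inf_le_left.trans hD₁U)), hWC]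
    exact hzU
  obtain ⟨w, hw, c, hc, rfl⟩ := hz'
  have hca : cj a c = c :=
    cj_eq_self_iff.mpr (Thompson.elemAb_comm hA.2.1.1 haA hc.1.2.1)
  have hwa : cj a w = w := by
    have h1 : cj a (w * c) = w * c := cj_eq_self_iff.mpr (mem_centralizer_iff.mp hzc a haJ)
    rwa [map_mul, hca, mul_left_inj] at h1
  have hwZ : w ∈ Z₀ ⊓ W := hinter ▸ hCa_mem hw hwa
  have hcZ : c ∈ Z₀ := by
    have := Z₀.mul_mem (Z₀.inv_mem hwZ.1) hz
    rwa [inv_mul_cancel_left] at this
  have hcJ : c ∈ centralizer (J : Set G) := omegaCenterOf_le_centralizer J hcZ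
  -- `c` is centralized by `J` and `a^k`, which generate `⟨K, J⟩`
  set a' := cj k a with ha'
  have hca' : cj a' c = c := by
    obtain ⟨d, hd, hdc⟩ := hc.2
    rw [← hdc, ha']
    have h1 : cj a d = d := cj_eq_self_iff.mpr (Thompson.elemAb_comm hA.2.1.1 haA hd.2.1)
    calc cj (cj k a) (cj k d) = cj k (cj a d) := by simp [cj, mul_assoc]
      _ = cj k d := by rw [h1]
  set G' := J ⊔ zpowers a' with hG'
  have hG'c : c ∈ centralizer (G' : Set G) := by
    rw [← zpowers_le, le_centralizer_iff, hG', sup_le_iff]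
    refine ⟨le_centralizer_iff.mp (zpowers_le.mpr hcJ), zpowers_le.mpr ?_⟩
    rw [mem_centralizer_iff]
    rintro _ ⟨i, rfl⟩
    have hcomm : Commute c a' := (cj_eq_self_iff.mp hca').symm
    exact (hcomm.zpow_left i).eq
  have hHn : H ≤ normalizer (Q : Set G) := hHQ
  have hHle : H ≤ G' ⊔ Q := by
    refine sup_le ?_ (le_sup_left.trans le_sup_left)
    have ha'mem : a' * a⁻¹ ∈ G' :=
      mul_mem (mem_sup_right (mem_zpowers _)) (mem_sup_left (inv_mem haJ))
    have hk2 : a' * a⁻¹ * (k * k)⁻¹ ∈ Q := by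
      have h2 : a' * a⁻¹ * (k * k)⁻¹ = cj k ((cj a k⁻¹) * k⁻¹) := by
        simp [ha', cj, mul_assoc]
      rw [h2]
      refine cj_mem_of_le_normalizer (le_normalizer_pCoreOf K hk.mem) ?_
      have h3 := Q.inv_mem (hinv a haJ haE)
      rw [mul_inv_rev, ← map_inv] at h3
      have h4 := cj_mem_of_le_normalizer (le_normalizer_pCoreOf K hk.mem) h3
      simpa [cj, mul_assoc] using h4
    have hkk : k * k ∈ G' ⊔ Q := by
      have := (G' ⊔ Q).mul_mem ((G' ⊔ Q).inv_mem (mem_sup_right hk2)) (mem_sup_left ha'mem)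
      simpa [mul_assoc] using this
    have hkmem : k ∈ G' ⊔ Q := by
      obtain ⟨m, hm⟩ := exists_pow_eq_self_of_coprime (x := k) (n := 2)
        (Nat.coprime_two_left.mpr hk.odd)
      rw [sq] at hm
      exact hm ▸ pow_mem hkk m
    intro g hg
    obtain ⟨i, hi⟩ := hk.gen g hg
    have := (G' ⊔ Q).mul_mem (mem_sup_right hi) (pow_mem hkmem i)
    rwa [inv_mul_cancel_right] at this
  have hHG' : H ≤ G' := by
    have hQJ : Q ≤ normalizer (J : Set G) := hJS' ▸ (hQS.trans
      (le_normalizer.trans (Thompson.normalizer_le_normalizer_thompsonSubgroupOf S)))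
    have hG'H : G' ≤ H := sup_le le_sup_right
      (zpowers_le.mpr (mul_mem (mul_mem (mem_sup_left hk.mem) (mem_sup_right haJ))
        (inv_mem (mem_sup_left hk.mem))))
    refine (closure_conj_thompson hK).symm.le.trans ((closure_le _).mpr ?_)
    rintro _ ⟨h, hh, j, hj, rfl⟩
    have h' : h ∈ ((G' : Set G) * (Q : Set G)) := by
      rw [← Subgroup.coe_mul_of_left_le_normalizer_right G' Q (hG'H.trans hHn)]
      exact hHle (mem_sup_left hh)
    obtain ⟨g, hg, q, hq, rfl⟩ := h'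
    rw [cj_mul]
    exact mul_mem (mul_mem hg (mem_sup_left (cj_mem_of_le_normalizer (hQJ hq) hj))) (inv_mem hg)
  show w * c ∈ _
  rw [four_comm (W := U₁) (fun u hu => mul_self_of_mem_omegaCenterOf hu) (hWU hw) (hD₁U hc.1)]
  exact mul_mem_sup ⟨hcZ, mem_sup_right (omegaCenterOf_le J hcZ), centralizer_le hHG' hG'c⟩ hwZ

end Cfsg.Agent.LocalEven64
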