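import Mathlib
import Cfsg.Agent.LocalEven64.ComponentAction
import Cfsg.Agent.LocalEven64.FFGroup
import Cfsg.Agent.Lib.Coprime.Action
import Cfsg.Agent.Lib.Thompson.Cores

/-!
# A component that is subnormal in `⟨K, J⟩` has its four-group normalized by `J`
-/

set_option autoImplicit false
set_option linter.unusedSectionVars false
set_option linter.style.haveILetI false

namespace Cfsg.Agent.LocalEven64

open Subgroup Cfsg
open scoped commutatorElement Pointwise

/-- `[O₂(Γ), y]` lies in each subnormal subgroup containing the odd order element `y`. -/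
theorem commutator_pCore_le_of_isSubnormal {Γ : Type*} [Group Γ] [Finite Γ] {Hs : Subgroup Γ}
    (h : Hs.IsSubnormal) : ∀ y ∈ Hs, Odd (orderOf y) → ⁅pCore 2 Γ, zpowers y⁆ ≤ Hs := by
  induction h with
  | top => exact fun y _ _ => le_top
  | step H K hle hsn hn ih =>
    intro y hy ho
    haveI : Fact (Nat.Prime 2) := ⟨Nat.prime_two⟩
    have hP : IsPGroup 2 (pCore 2 Γ) := Thompson.isPGroup_pCore
    obtain ⟨n, hcard⟩ := IsPGroup.iff_card.mp hP
    have hcop : (Nat.card (zpowers y)).Coprime (Nat.card (pCore 2 Γ)) := by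
      rw [Nat.card_zpowers, hcard]
      exact (Nat.coprime_two_right.mpr ho).pow_right n
    haveI := hP.isNilpotent
    rw [← Coprime.commutator_commutator_eq (zpowers y) (pCore 2 Γ)
      (by rw [normalizer_eq_top]; exact le_top) hcop (Or.inr inferInstance)]
    haveI := hn
    refine (commutator_mono (ih y (hle hy) ho) (zpowers_le.mpr hy)).trans ?_
    rw [commutator_comm]
    exact Thompson.commutator_le_of_le_normalizer
      ((normal_subgroupOf_iff_le_normalizer hle).mp hn)

variable {G : Type*} [Group G] [Finite G]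

section Subnormal

variable {T K H : Subgroup G} {k : G} (hK : IsJComponent T K) (hk : CompData K k) (hKH : K ≤ H)
  (hsn : (K.subgroupOf H).IsSubnormal)
include hK hk hKH hsn

theorem pCoreOf_le_normalizer_of_subnormal : pCoreOf 2 H ≤ normalizer (K : Set G) := by
  intro e he
  rw [← map_cj_eq_self_iff]
  refine Subgroup.eq_of_le_of_card_ge ?_
    (Subgroup.card_map_of_injective (cj_injective e)).ge
  conv_lhs => rw [← hK.1]
  rw [MonoidHom.map_closure, closure_le]
  rintro _ ⟨y, ⟨hy, ho⟩, rfl⟩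
  obtain ⟨e', he', rfl⟩ := he
  have hyH := hKH hy
  have ho' : Odd (orderOf (⟨y, hyH⟩ : H)) := by rwa [Subgroup.orderOf_mk]
  have := commutator_pCore_le_of_isSubnormal hsn ⟨y, hyH⟩ (mem_subgroupOf.mpr hy) ho'
    (commutator_mem_commutator he' (mem_zpowers _))
  have h2 : cj (H.subtype e') y = ((⁅e', (⟨y, hyH⟩ : H)⁆ : H) : G) * y := by
    simp [cj, commutatorElement_def]
  rw [h2]
  exact mul_mem (mem_subgroupOf.mp this) hy

theorem pCoreOf_component_le : pCoreOf 2 K ≤ pCoreOf 2 H := by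
  have hQK : pCoreOf 2 K ≤ K := pCoreOf_le K
  have hn : ((pCoreOf 2 K).subgroupOf H).subgroupOf (K.subgroupOf H) |>.Normal := by
    have hle : (pCoreOf 2 K).subgroupOf H ≤ K.subgroupOf H := fun z hz => hQK hz
    refine (normal_subgroupOf_iff_le_normalizer hle).mpr ?_
    intro g hg
    have h1 := mem_normalizer_iff.mp (le_normalizer_pCoreOf (p := 2) K (mem_subgroupOf.mp hg))
    rw [mem_normalizer_iff]
    intro z
    simpa [mem_subgroupOf] using h1 (z : G)
  have h := Thompson.le_pCore_of_isSubnormal (p := 2)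
    (Subgroup.IsSubnormal.step ((pCoreOf 2 K).subgroupOf H) (K.subgroupOf H) (fun z hz => hQK hz) hsn hn)
    ((isPGroup_pCoreOf K).comap_subtype)
  intro x hx
  exact ⟨⟨x, hKH (hQK hx)⟩, h (mem_subgroupOf.mpr hx), rfl⟩

theorem pCoreOf_le_centralizer_wOf : pCoreOf 2 H ≤ centralizer (wOf K : Set G) := by
  have hEK := pCoreOf_le_normalizer_of_subnormal hK hk hKH hsn
  refine hk.le_centralizer_wOf hK (isPGroup_pCoreOf H) hEK fun e he => ?_
  have h1 : cj e k * k⁻¹ ∈ pCoreOf 2 H ⊓ K := by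
    refine ⟨?_, K.mul_mem (cj_mem_of_le_normalizer (hEK he) hk.mem) (K.inv_mem hk.mem)⟩
    rw [show cj e k * k⁻¹ = e * (k * e⁻¹ * k⁻¹) by simp [cj, mul_assoc]]
    exact mul_mem he (((mem_normalizer_iff.mp (le_normalizer_pCoreOf H (hKH hk.mem))) e⁻¹).mp
      ((pCoreOf 2 H).inv_mem he))
  refine le_pCoreOf inf_le_right ?_ ((isPGroup_pCoreOf H).to_le inf_le_left) h1
  intro g hg
  rw [mem_normalizer_iff]
  intro z
  exact and_congr (mem_normalizer_iff.mp (le_normalizer_pCoreOf H (hKH hg)) z)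
    (mem_normalizer_iff.mp (le_normalizer hg) z)

theorem wOf_le_omega_of_subnormal : wOf K ≤ omegaCenterOf (pCoreOf 2 H) := by
  intro w hw
  refine mem_omegaCenterOf (pCoreOf_component_le hK hk hKH hsn
    ((wOf_le_omegaCenterOf K).trans (omegaCenterOf_le _) hw)) ?_ ?_
  · exact le_centralizer_iff.mp (pCoreOf_le_centralizer_wOf hK hk hKH hsn) hw
  · exact mul_self_of_mem_omegaCenterOf (wOf_le_omegaCenterOf K hw)

theorem mul_cj_mem_wOf {u : G} (hu : u ∈ omegaCenterOf (pCoreOf 2 H)) :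
    u * cj k u ∈ wOf K ∧ cj k (cj k (cj k u)) = u ∧ u * cj k (cj k u) ∈ wOf K := by
  set U := omegaCenterOf (pCoreOf 2 H) with hU
  have hUe : IsElementaryAbelian 2 U := isElementaryAbelian_omegaCenterOf _
  have hQE := pCoreOf_component_le hK hk hKH hsn
  have hkU : k ∈ normalizer (U : Set G) :=
    normalizer_le_normalizer_omegaCenterOf _ (le_normalizer_pCoreOf H (hKH hk.mem))
  have h2 : ∀ {v : G}, v ∈ U → v * v = 1 := fun hv => mul_self_of_mem_omegaCenterOf hv
  have hinv : ∀ {v : G}, v ∈ U → v⁻¹ = v := fun hv => inv_eq_of_mul_eq_one_right (h2 hv)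
  have hk3 : cj k (cj k (cj k u)) = u := by
    rw [← cj_mul, ← cj_mul, show k * k * k = k ^ 3 from (pow_three' k).symm]
    exact cj_eq_self_iff.mpr
      (mem_centralizer_iff.mp (omegaCenterOf_le_centralizer _ hu) _ (hQE hk.cube))
  have hku := cj_mem_of_le_normalizer hkU hu
  have hkku := cj_mem_of_le_normalizer hkU hku
  -- `u * k u` lies in `Ω₁(Z(O₂(K)))`
  have hmU : u * cj k u ∈ U := mul_mem hu hku
  have hmK : u * cj k u ∈ K := by
    have h1 : u * cj k u = cj u k * k⁻¹ := by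
      have : cj u k * k⁻¹ = u * cj k u⁻¹ := by simp [cj, mul_assoc]
      rw [this, hinv hu]
    rw [h1]
    exact mul_mem (cj_mem_of_le_normalizer (pCoreOf_le_normalizer_of_subnormal hK hk hKH hsn
      (omegaCenterOf_le _ hu)) hk.mem) (inv_mem hk.mem)
  have hmY : u * cj k u ∈ omegaCenterOf (pCoreOf 2 K) := by
    refine mem_omegaCenterOf ?_
      (centralizer_le hQE (omegaCenterOf_le_centralizer _ hmU)) (h2 hmU)
    refine le_pCoreOf (p := 2) (N := pCoreOf 2 H ⊓ K) inf_le_right ?_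
      ((isPGroup_pCoreOf H).to_le inf_le_left) ⟨omegaCenterOf_le _ hmU, hmK⟩
    intro g hg
    rw [mem_normalizer_iff]
    intro z
    exact and_congr (mem_normalizer_iff.mp (le_normalizer_pCoreOf H (hKH hg)) z)
      (mem_normalizer_iff.mp (le_normalizer hg) z)
  have h3 : u * cj k (cj k u) ∈ wOf K := by
    have h4 : ⁅u * cj k u, k⁆ = u * cj k (cj k u) := by
      have h5 : ⁅u * cj k u, k⁆ = (u * cj k u) * cj k (u * cj k u)⁻¹ := by
        simp [cj, commutatorElement_def, mul_assoc]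
      rw [h5, hinv hmU, map_mul, mul_assoc, ← mul_assoc (cj k u), h2 hku, one_mul]
    rw [← h4]
    exact commutator_mem_commutator hmY hk.mem
  refine ⟨?_, hk3, h3⟩
  have h6 := hk.cj_mem hK h3
  rw [map_mul, hk3, Thompson.elemAb_comm hUe.1 hku hu] at h6
  exact h6

/-- An element of `H` normalizes `W_K` or moves it into the fixed points of `k`. -/
theorem moves_or_fixed {b : G} (hb : b ∈ H) :
    b ∈ normalizer (wOf K : Set G) ∨ ∀ w ∈ wOf K, cj k (cj b⁻¹ w) = cj b⁻¹ w := by
  classical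
  set U := omegaCenterOf (pCoreOf 2 H) with hU
  have hUe : IsElementaryAbelian 2 U := isElementaryAbelian_omegaCenterOf _
  letI : CommGroup ↥U :=
    { (inferInstance : Group ↥U) with
      mul_comm := fun a b => Subtype.ext (Thompson.elemAb_comm hUe.1 a.2 b.2) }
  have hV : ∀ v : ↥U, v * v = 1 := fun v => Subtype.ext (mul_self_of_mem_omegaCenterOf v.2)
  have hHU : H ≤ normalizer (U : Set G) :=
    (le_normalizer_pCoreOf H).trans (normalizer_le_normalizer_omegaCenterOf _)
  let ψ : ↥H →* MulAut ↥U :=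
    (normalizerMonoidHom (H := U)).comp (Subgroup.inclusion hHU)
  have hψ : ∀ (g : ↥H) (v : ↥U), ((ψ g v : ↥U) : G) = cj (g : G) v := fun g v => rfl
  set kH : ↥H := ⟨k, hKH hk.mem⟩ with hkH
  set x := ψ kH with hx
  have hWU := wOf_le_omega_of_subnormal hK hk hKH hsn
  have hm := fun (v : ↥U) => mul_cj_mem_wOf hK hk hKH hsn v.2
  have hx3 : x ^ 3 = 1 := by
    refine MulEquiv.ext fun v => Subtype.ext ?_
    rw [pow_three]
    exact (hm v).2.1
  obtain ⟨w₀, hw₀, hw₀1⟩ : ∃ w ∈ wOf K, w ≠ 1 := by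
    rcases (wOf K).bot_or_exists_ne_one with h | h
    · have := hK.2.2.2.2.1
      rw [h, Subgroup.card_bot] at this
      exact absurd this (by norm_num)
    · exact h
  have hx1 : x ≠ 1 := fun he => hw₀1 <| hk.fpf _ hw₀
    (congrArg (Subtype.val : ↥U → G) (DFunLike.congr_fun he (⟨w₀, hWU hw₀⟩ : ↥U)))
  haveI : Fact (Nat.Prime 3) := ⟨Nat.prime_three⟩
  have hord : orderOf x = 3 := orderOf_eq_prime hx3 hx1
  have hodd : Odd (orderOf x) := by rw [hord]; decide
  have hxW : ∀ (i : ℕ) (w : ↥U), (w : G) ∈ wOf K → ((x ^ i) w : ↥U) ∈ (wOf K).subgroupOf U := by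
    intro i w hw
    induction i with
    | zero => simpa [mem_subgroupOf] using hw
    | succ i ih =>
      rw [mem_subgroupOf] at ih ⊢
      rw [pow_succ', MulAut.mul_apply, hψ]
      exact hk.cj_mem hK ih
  have hWle : (wOf K).subgroupOf U ≤ FF.wSub x := by
    intro w hw
    rw [FF.mem_wSub]
    have h1 : x (FF.normMap x w) = FF.normMap x w := by
      rw [← FF.normMap_comm (Commute.refl x), FF.normMap_apply_self]
    have h2 : FF.normMap x w ∈ (wOf K).subgroupOf U := by
      rw [FF.normMap_apply]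
      exact Subgroup.prod_mem _ fun i _ => hxW i w (mem_subgroupOf.mp hw)
    exact Subtype.ext (hk.fpf _ (mem_subgroupOf.mp h2) (congrArg Subtype.val h1))
  have hrec : ∀ v ∈ FF.wSub x, v = x v * x (x v) := by
    intro v hv
    rw [FF.mem_wSub, FF.normMap_apply, hord] at hv
    simp only [Finset.prod_range_succ, Finset.prod_range_zero, one_mul, pow_zero, pow_one,
      MulAut.one_apply, pow_two, MulAut.mul_apply] at hv
    rw [mul_assoc] at hv
    exact FF.eq_of_mul_eq_one hV hv
  have hWge : FF.wSub x ≤ (wOf K).subgroupOf U := by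
    intro v hv
    rw [hrec v hv, mem_subgroupOf, Subgroup.coe_mul]
    exact (hm (x v)).1
  have hWeq : FF.wSub x = (wOf K).subgroupOf U := le_antisymm hWge hWle
  have hxs : FF.IsSmall x := by
    refine ⟨hord, ?_⟩
    have h1 := FF.card_fix1_mul_card_wSub hV hodd
    rw [hWeq, Nat.card_congr (Subgroup.subgroupOfEquivOfLe hWU).toEquiv, hK.2.2.2.2.1] at h1
    rw [mul_comm]; exact h1
  -- `x` lies in the 3-core of the image
  have hxcore : x ∈ pCoreOf 3 ψ.range := by
    have hsn' : ((K.subgroupOf H).map ψ.rangeRestrict).IsSubnormal :=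
      hsn.map ψ.rangeRestrict_surjective
    have hp : IsPGroup 3 ((K.subgroupOf H).map ψ.rangeRestrict) := by
      rintro ⟨_, g, hg, rfl⟩
      refine ⟨1, Subtype.ext (Subtype.ext ?_)⟩
      obtain ⟨i, hq⟩ := hk.gen _ (mem_subgroupOf.mp hg)
      have hψg : ψ g = x ^ i := by
        have h1 : ψ (g * (kH ^ i)⁻¹) = 1 := by
          refine MulEquiv.ext fun v => Subtype.ext ?_
          rw [hψ, MulAut.one_apply]
          exact cj_eq_self_iff.mpr (mem_centralizer_iff.mp (omegaCenterOf_le_centralizer _ v.2) _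
            (pCoreOf_component_le hK hk hKH hsn hq))
        rwa [map_mul, map_inv, map_pow, mul_inv_eq_one, ← hx] at h1
      show ψ g ^ 3 ^ 1 = 1
      rw [hψg, pow_one, ← pow_mul, mul_comm, pow_mul, hx3, one_pow]
    exact ⟨ψ.rangeRestrict kH,
      Thompson.le_pCore_of_isSubnormal hsn' hp (mem_map_of_mem _ (mem_subgroupOf.mpr hk.mem)), rfl⟩
  set y := ψ ⟨b, hb⟩ * x * (ψ ⟨b, hb⟩)⁻¹ with hy
  have hycore : y ∈ pCoreOf 3 ψ.range :=
    (mem_normalizer_iff.mp (le_normalizer_pCoreOf ψ.range ⟨⟨b, hb⟩, rfl⟩) x).mp hxcore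
  have hys : FF.IsSmall y := hxs.conj _
  have hc : Commute y x := FF.small_commute hV (isPGroup_pCoreOf _) hycore hxcore hys hxs
  rcases FF.small_cases hV hxs hys hc with hz | ⟨hfix, -⟩
  · left
    rw [← map_cj_eq_self_iff]
    refine Subgroup.eq_of_le_of_card_ge ?_
      (Subgroup.card_map_of_injective (cj_injective b)).ge
    rintro _ ⟨w, hw, rfl⟩
    have h0 := hrec ⟨w, hWU hw⟩ (hWle (mem_subgroupOf.mpr hw))
    set g := ψ ⟨b, hb⟩ with hg
    set v := g (x ⟨w, hWU hw⟩) with hv
    have h1 : g ⟨w, hWU hw⟩ = v * y v := by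
      conv_lhs => rw [h0, map_mul]
      simp only [hv, hy, MulAut.mul_apply, MulAut.inv_apply_self]
    have h2 : v * y v ∈ (wOf K).subgroupOf U := by
      rw [← mem_powers_iff_mem_zpowers, Submonoid.mem_powers_iff] at hz
      obtain ⟨i, hi⟩ := hz
      rw [← pow_mod_orderOf, hord] at hi
      have hlt : i % 3 < 3 := Nat.mod_lt _ (by norm_num)
      rw [← hi, mem_subgroupOf, Subgroup.coe_mul]
      interval_cases i % 3
      · rw [pow_zero, MulAut.one_apply, mul_self_of_mem_omegaCenterOf v.2]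
        exact one_mem _
      · rw [pow_one]
        exact (hm v).1
      · rw [pow_two, MulAut.mul_apply]
        exact (hm v).2.2
    rw [← h1] at h2
    exact mem_subgroupOf.mp h2
  · right
    intro w hw
    have h := congrArg Subtype.val (hfix ⟨w, hWU hw⟩ (hWle (mem_subgroupOf.mpr hw)))
    simp only [hy, MulAut.mul_apply] at h
    rw [hψ] at h
    have h2 : ((ψ ⟨b, hb⟩)⁻¹ ⟨w, hWU hw⟩ : ↥U) = ψ (⟨b, hb⟩⁻¹) ⟨w, hWU hw⟩ := by rw [map_inv]
    rw [hψ, h2, hψ] at h
    have h3 := congrArg (cj b⁻¹) h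
    rw [cj_inv_cj] at h3
    exact h3

end Subnormal

/-- If `K` is a component and is subnormal in `⟨K, J(T)⟩`, then `J(T)` normalizes `W_K`. -/
theorem thompson_le_normalizer_wOf_of_subnormal {T T₀ L K : Subgroup G} (hTL : IsSylowTwoIn T L)
    (hK : IsJComponent T₀ K) (hKL : K ≤ L)
    (hsn : (K.subgroupOf (K ⊔ thompsonSubgroupOf 2 T)).IsSubnormal) :
    thompsonSubgroupOf 2 T ≤ normalizer (wOf K : Set G) := by
  set J := thompsonSubgroupOf 2 T with hJ
  set H := K ⊔ J with hHdef
  obtain ⟨k, hk⟩ := exists_compData hK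
  have hKH : K ≤ H := le_sup_left
  have hTp : IsPGroup 2 T := hTL.2.1
  have hJT : J ≤ T := Thompson.thompsonSubgroupOf_le T
  have hHL : H ≤ L := sup_le hKL (hJT.trans hTL.1)
  rw [hJ, Thompson.thompsonSubgroupOf_eq]
  refine sSup_le fun A hA => ?_
  by_contra hAW
  have hAJ : A ≤ J := Thompson.le_thompsonSubgroupOf hA
  have hAH : A ≤ H := hAJ.trans le_sup_right
  obtain ⟨S₂, hS₂, hJS₂⟩ := exists_isSylowTwoIn_ge (hTp.to_le hJT) (le_sup_right : J ≤ H)
  set U := omegaCenterOf (pCoreOf 2 H) with hU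
  have hUe : IsElementaryAbelian 2 U := isElementaryAbelian_omegaCenterOf _
  have hWU : wOf K ≤ U := wOf_le_omega_of_subnormal hK hk hKH hsn
  have hHU : H ≤ normalizer (U : Set G) :=
    (le_normalizer_pCoreOf H).trans (normalizer_le_normalizer_omegaCenterOf _)
  have hAU : A ≤ normalizer (U : Set G) := hAH.trans hHU
  have hAmax : Thompson.IsMaxEAIn 2 A S₂ := by
    refine ⟨hAJ.trans hJS₂, hA.2.1, fun B hB hBe => ?_⟩
    obtain ⟨T', hT', hBT'⟩ := exists_isSylowTwoIn_ge (Thompson.isPGroup_of_isElementaryAbelian hBe)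
      (hB.trans (hS₂.1.trans hHL))
    obtain ⟨n, _, rfl⟩ := sylowTwoIn_conj hTL hT'
    have h1 := hA.2.2 (B.map (cj n⁻¹)) ?_ (Thompson.isElementaryAbelian_map _ hBe)
    · rwa [Subgroup.card_map_of_injective (cj_injective n⁻¹)] at h1
    · rw [← map_cj_inv_cancel n T]
      exact map_mono hBT'
  have hmax := measureOn_le_of_isMaxEAIn hAmax hUe
    ((omegaCenterOf_le _).trans (pCoreOf_le_sylowTwoIn hS₂))
  have hab : ⁅A, A⁆ ≤ centralizer (U : Set G) := by
    rw [commutator_le]
    intro x hx y hy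
    rw [commutatorElement_eq_one_iff_mul_comm.mpr (Thompson.elemAb_comm hA.2.1.1 hx hy)]
    exact one_mem _
  have hAinv : ∀ {a : G}, a ∈ A → a⁻¹ = a := fun ha =>
    inv_eq_of_mul_eq_one_right (by rw [← sq]; exact hA.2.1.2 _ ha)
  have hfixk : ∀ b ∈ A, b ∉ normalizer (wOf K : Set G) → ∀ w ∈ wOf K, cj k (cj b w) = cj b w := by
    intro b hb hbn w hw
    have := (moves_or_fixed hK hk hKH hsn (hAH hb)).resolve_left hbn w hw
    rwa [hAinv hb] at this
  set Pi0 : Subgroup G := closure {z | ∃ b ∈ A, ∃ w ∈ wOf K, z = cj b w} with hPi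
  have hPU : Pi0 ≤ U := by
    rw [hPi, closure_le]
    rintro _ ⟨b, hb, w, hw, rfl⟩
    exact cj_mem_of_le_normalizer (hAU hb) (hWU hw)
  have hWP : ∀ b ∈ A, ∀ w ∈ wOf K, cj b w ∈ Pi0 := fun b hb w hw =>
    subset_closure ⟨b, hb, w, hw, rfl⟩
  obtain ⟨hm, hfix⟩ := Thompson.replProp_commutator hUe.1 hAU hab hmax hPU
  set X := ⁅Pi0, A⁆ with hX
  set B₁ := A ⊓ centralizer (X : Set G) with hB₁
  have hcomm : ∀ {u v : G}, u ∈ U → v ∈ U → u * v = v * u := fun hu hv =>
    Thompson.elemAb_comm hUe.1 hu hv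
  have h2 : ∀ {u : G}, u ∈ U → u * u = 1 := fun hu => mul_self_of_mem_omegaCenterOf hu
  have hdX : ∀ a ∈ A, ∀ u ∈ Pi0, u * cj a u ∈ X := by
    intro a ha u hu
    have h1 : ⁅u, a⁆ = u * cj a u := by
      have : cj a u⁻¹ = cj a u := by rw [inv_eq_of_mul_eq_one_right (h2 (hPU hu))]
      rw [← this]
      simp [cj, commutatorElement_def, mul_assoc]
    exact h1 ▸ commutator_mem_commutator hu ha
  have hsX : ∀ s ∈ B₁, ∀ z ∈ X, cj s z = z := fun s hs z hz =>
    cj_eq_self_iff.mpr (mem_centralizer_iff.mp hs.2 _ hz).symm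
  obtain ⟨a, ha, han⟩ : ∃ a ∈ A, a ∉ normalizer (wOf K : Set G) := SetLike.not_le_iff_exists.mp hAW
  have hkey : ∀ s ∈ B₁, s ∈ normalizer (wOf K : Set G) → ∀ b ∈ A, b ∉ normalizer (wOf K : Set G) →
      ∀ w ∈ wOf K, cj s w = w := by
    intro s hs hsn' b hb hbn w hw
    have hw' : cj s w ∈ wOf K := cj_mem_of_le_normalizer hsn' hw
    have h1 := hsX s hs _ (hdX b hb w (by simpa [cj] using hWP 1 (one_mem _) w hw))
    have hbs : cj s (cj b w) = cj b (cj s w) := by
      rw [← cj_mul, ← cj_mul, Thompson.elemAb_comm hA.2.1.1 hs.1 hb]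
    rw [map_mul, hbs] at h1
    -- `d = w * s w` is fixed by `b`
    have h3 : cj b (w * cj s w) = w * cj s w := by
      have hu1 := hWU hw
      have hu2 := hWU hw'
      have hu3 := cj_mem_of_le_normalizer (hAU hb) hu1
      have hu4 := cj_mem_of_le_normalizer (hAU hb) hu2
      rw [map_mul]
      have h4 : cj b (cj s w) = cj s w * (w * cj b w) := by
        rw [← h1, ← mul_assoc, h2 hu2, one_mul]
      rw [h4, ← mul_assoc (cj s w), hcomm (mul_mem hu2 hu1) hu3, ← mul_assoc, h2 hu3, one_mul,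
        hcomm hu2 hu1]
    have h5 := hfixk b hb hbn _ (mul_mem hw hw')
    rw [h3] at h5
    have h6 := hk.fpf _ (mul_mem hw hw') h5
    exact (eq_inv_of_mul_eq_one_right h6).trans (inv_eq_of_mul_eq_one_right (h2 (hWU hw)))
  have hWne : ∃ w ∈ wOf K, w ≠ 1 := by
    rcases (wOf K).bot_or_exists_ne_one with h | h
    · have := hK.2.2.2.2.1
      rw [h, Subgroup.card_bot] at this
      exact absurd this (by norm_num)
    · exact h
  by_cases hex : ∃ b ∈ B₁, b ∉ normalizer (wOf K : Set G)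
  · obtain ⟨b, hb, hbn⟩ := hex
    obtain ⟨w, hw, hw1⟩ := hWne
    have hsplit : ∀ s ∈ B₁, s ∈ normalizer (wOf K : Set G) ∨
        b * s ∈ normalizer (wOf K : Set G) := by
      intro s hs
      by_contra h
      push Not at h
      have h1 := hfixk s hs.1 h.1 w hw
      have h2' := hfixk (b * s) (mul_mem hb.1 hs.1) h.2 w hw
      rw [cj_mul] at h2'
      have h3 := hsX s hs _ (hdX b hb.1 w (by simpa [cj] using hWP 1 (one_mem _) w hw))
      rw [map_mul, ← cj_mul s b, Thompson.elemAb_comm hA.2.1.1 hs.1 hb.1, cj_mul] at h3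
      have h4 : cj k (w * cj b w) = w * cj b w := by rw [← h3, map_mul, h1, h2']
      rw [map_mul, hfixk b hb.1 hbn w hw, mul_left_inj] at h4
      exact hw1 (hk.fpf w hw h4)
    set B₀ := B₁ ⊓ normalizer (wOf K : Set G) with hB₀
    have hcard1 : Nat.card B₁ ≤ 2 * Nat.card B₀ := by
      have hsurj : Function.Surjective (fun q : Fin 2 × B₀ =>
          (⟨b ^ (q.1 : ℕ) * q.2, mul_mem (pow_mem hb _) q.2.2.1⟩ : B₁)) := by
        rintro ⟨s, hs⟩
        rcases hsplit s hs with hc | hi
        · exact ⟨(0, ⟨s, hs, hc⟩), by simp⟩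
        · refine ⟨(1, ⟨b * s, mul_mem hb hs, hi⟩), Subtype.ext ?_⟩
          show b ^ (1 : ℕ) * (b * s) = s
          rw [pow_one, ← mul_assoc, ← sq, hA.2.1.2 b hb.1, one_mul]
      have := Nat.card_le_card_of_surjective _ hsurj
      simpa [Nat.card_prod] using this
    set C₀ := U ⊓ centralizer (B₀ : Set G) with hC₀
    set C₁ := U ⊓ centralizer (B₁ : Set G) with hC₁
    have hc2 : Nat.card C₀ ≤ 2 * Nat.card C₁ := by
      have h := (hmax B₀ (inf_le_left.trans inf_le_left)).trans hm.ge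
      rw [Thompson.measureOn_eq, Thompson.measureOn_eq, ← hC₀, ← hC₁] at h
      refine Nat.le_of_mul_le_mul_left ?_ (Nat.card_pos (α := B₀))
      calc Nat.card B₀ * Nat.card C₀ ≤ Nat.card B₁ * Nat.card C₁ := h
        _ ≤ 2 * Nat.card B₀ * Nat.card C₁ := Nat.mul_le_mul_right _ hcard1
        _ = Nat.card B₀ * (2 * Nat.card C₁) := by ring
    have hle : wOf K ⊔ C₁ ≤ C₀ := by
      refine sup_le (le_inf hWU ?_) (inf_le_inf_left _ (centralizer_le inf_le_left))
      intro z hz
      rw [mem_centralizer_iff]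
      intro s hs
      exact cj_eq_self_iff.mp (hkey s hs.1 hs.2 b hb.1 hbn z hz)
    have hinf : wOf K ⊓ C₁ = ⊥ := by
      rw [eq_bot_iff]
      rintro z ⟨hz, hzC⟩
      have h3 := hfixk b hb.1 hbn z hz
      rw [cj_eq_self_iff.mpr (mem_centralizer_iff.mp hzC.2 b hb)] at h3
      exact mem_bot.mpr (hk.fpf z hz h3)
    have h4 := Thompson.card_sup_mul_card_inf (H := wOf K) (K := C₁)
      (((inf_le_left : C₁ ≤ U).trans (Thompson.le_centralizer_self hUe.1)).trans
        ((centralizer_le hWU).trans (centralizer_le_normalizer _)))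
    rw [hinf, Subgroup.card_bot, hK.2.2.2.2.1, mul_one] at h4
    have h5 := (card_le_of_le hle).trans hc2
    rw [h4] at h5
    have := Nat.card_pos (α := C₁)
    omega
  · push Not at hex
    have hBP : B₁ ≤ centralizer (Pi0 : Set G) := by
      intro s hs
      rw [hPi, centralizer_closure, mem_centralizer_iff]
      rintro _ ⟨b, hb, w, hw, rfl⟩
      refine (cj_eq_self_iff.mp ?_).symm
      rw [← cj_mul, Thompson.elemAb_comm hA.2.1.1 hs.1 hb, cj_mul,
        hkey s hs (hex s hs) a ha han w hw]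
    have hPle : Pi0 ≤ X ⊔ (U ⊓ centralizer (A : Set G)) := by
      rw [← hfix]
      exact le_inf hPU (le_centralizer_iff.mp hBP)
    have hAP : A ≤ normalizer (Pi0 : Set G) := FF.le_normalizer_closure fun g hg z hz => by
      obtain ⟨b, hb, w, hw, rfl⟩ := hz
      exact ⟨g * b, mul_mem hg hb, w, hw, (cj_mul g b w).symm⟩
    have hXP : X ≤ Pi0 := Thompson.commutator_le_of_le_normalizer hAP
    have hstep : X ≤ ⁅X, A⁆ := by
      rw [hX, commutator_le]
      intro u hu c hc
      have hn : U ⊓ centralizer (A : Set G) ≤ normalizer (X : Set G) :=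
        (inf_le_left.trans (Thompson.le_centralizer_self hUe.1)).trans
          ((centralizer_le (hXP.trans hPU)).trans (centralizer_le_normalizer _))
      have hu' : u ∈ ((X : Set G) * ((U ⊓ centralizer (A : Set G) : Subgroup G) : Set G)) := by
        rw [← Subgroup.coe_mul_of_right_le_normalizer_left _ _ hn]; exact hPle hu
      obtain ⟨x, hx, y, hy, rfl⟩ := hu'
      have hyc : ⁅y, c⁆ = 1 :=
        commutatorElement_eq_one_iff_mul_comm.mpr (mem_centralizer_iff.mp hy.2 c hc).symm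
      rw [commutatorElement_mul_left_eq_conj_mul, hyc, mul_one, mul_inv_cancel, one_mul]
      exact commutator_mem_commutator hx hc
    haveI : Fact (Nat.Prime 2) := ⟨Nat.prime_two⟩
    have hX1 : X = ⊥ := by
      refine Thompson.eq_bot_of_commutator_eq_self (p := 2) (P := X ⊔ A) ?_ le_sup_left
        (hstep.trans (commutator_mono le_rfl le_sup_right))
      exact IsPGroup.to_sup_of_normal_left'
        ((Thompson.isPGroup_of_isElementaryAbelian hUe).to_le (hXP.trans hPU))
        (Thompson.isPGroup_of_isElementaryAbelian hA.2.1)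
        (Coprime.le_normalizer_commutator_right A Pi0)
    refine han ?_
    rw [← map_cj_eq_self_iff]
    refine Subgroup.eq_of_le_of_card_ge ?_
      (Subgroup.card_map_of_injective (cj_injective a)).ge
    rintro _ ⟨w, hw, rfl⟩
    have h := hdX a ha w (by simpa [cj] using hWP 1 (one_mem _) w hw)
    rw [hX1, mem_bot] at h
    rw [← inv_eq_of_mul_eq_one_right h, inv_eq_of_mul_eq_one_right (h2 (hWU hw))]
    exact hw

end Cfsg.Agent.LocalEven64
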