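import Mathlib
import Cfsg.Agent.LocalEven64.MaxStraddle
import Cfsg.Agent.LocalEven64.OmegaSplit
import Cfsg.Agent.LocalEven64.SubnormalComponent

/-!
# A component together with its unique maximal 2-local overgroup

`Vertex T K L`: `K` is a `J(T)`-component, `L` a maximal 2-local subgroup with Sylow 2-subgroup `T` that
contains `K`, and every 2-local subgroup containing `⟨K, J(T)⟩` is contained in `L`.
-/

set_option autoImplicit false
set_option linter.unusedSectionVars false
set_option linter.style.haveILetI false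

namespace Cfsg.Agent.LocalEven64

open Subgroup Cfsg
open scoped commutatorElement Pointwise

variable {G : Type*} [Group G] [Finite G]

/-- `Ω₁(Z(J(T)))`. -/
abbrev zj (T : Subgroup G) : Subgroup G := omegaCenterOf (thompsonSubgroupOf 2 T)

/-- The part of `Ω₁(Z(J(T)))` centralized by `K`. -/
def cK (T K : Subgroup G) : Subgroup G := zj T ⊓ centralizer (K : Set G)

/-- `C_T(W_K)`. -/
def rK (T K : Subgroup G) : Subgroup G := T ⊓ centralizer (wOf K : Set G)

/-- A component with its maximal 2-local overgroup. -/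
structure Vertex (T K L : Subgroup G) : Prop where
  comp : IsJComponent T K
  maxl : IsMaximalTwoLocal L
  sylow : IsSylowTwoIn T L
  le : K ≤ L
  hover : ∀ L' : Subgroup G, IsTwoLocal L' → K ⊔ thompsonSubgroupOf 2 T ≤ L' → L' ≤ L

theorem isTwoLocal_map {L : Subgroup G} (h : IsTwoLocal L) (g : G) : IsTwoLocal (L.map (cj g)) := by
  obtain ⟨X, hX, hX1, rfl⟩ := h
  exact ⟨X.map (cj g), hX.map _, fun hb =>
    hX1 ((Subgroup.map_eq_bot_iff_of_injective _ (cj_injective g)).mp hb),
    (normalizer_map_cj X g).symm⟩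

theorem isMaximalTwoLocal_map {L : Subgroup G} (h : IsMaximalTwoLocal L) (g : G) :
    IsMaximalTwoLocal (L.map (cj g)) := by
  refine ⟨isTwoLocal_map h.1 g, fun N hN hle => ?_⟩
  have h1 := h.2 _ (isTwoLocal_map hN g⁻¹) (by
    have := Subgroup.map_mono (f := cj g⁻¹) hle
    rwa [map_cj_inv_cancel] at this)
  rw [← h1, map_cj_cancel_inv]

theorem isTwoLocal_centralizer {v : G} (hv : v * v = 1) (hv1 : v ≠ 1) :
    IsTwoLocal (centralizer ({v} : Set G)) := by
  have ho : orderOf v = 2 := orderOf_eq_prime (by rw [sq, hv]) hv1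
  refine ⟨zpowers v, IsPGroup.of_card (n := 1) (by rw [Nat.card_zpowers, ho, pow_one]),
    fun h => hv1 (zpowers_eq_bot.mp h), ?_⟩
  refine le_antisymm (fun g hg => ?_) (fun g hg => ?_)
  · have h1 := mem_centralizer_singleton_iff.mp hg
    rw [mem_normalizer_iff]
    intro x
    constructor
    · rintro ⟨i, rfl⟩
      refine ⟨i, ?_⟩
      have : Commute g v := h1
      show v ^ i = g * v ^ i * g⁻¹
      rw [(this.zpow_right i).eq, mul_inv_cancel_right]
    · rintro ⟨i, hi⟩
      refine ⟨i, ?_⟩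
      have : Commute g v := h1
      show v ^ i = x
      have h2 : v ^ i = g * x * g⁻¹ := hi
      rw [← mul_right_inj g, (this.zpow_right i).eq, h2, inv_mul_cancel_right]
  · rw [mem_centralizer_singleton_iff]
    have h1 := (mem_normalizer_iff.mp hg v).mp (mem_zpowers v)
    rw [← mem_powers_iff_mem_zpowers, Submonoid.mem_powers_iff] at h1
    obtain ⟨i, hi⟩ := h1
    rw [← pow_mod_orderOf, ho] at hi
    have hlt : i % 2 < 2 := Nat.mod_lt _ (by norm_num)
    interval_cases i % 2
    · rw [pow_zero] at hi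
      exact absurd (conj_eq_one_iff.mp hi.symm) hv1
    · rw [pow_one] at hi
      exact mul_inv_eq_iff_eq_mul.mp hi.symm

theorem conj_centralizer_singleton (g v : G) :
    (centralizer ({v} : Set G)).map (cj g) = centralizer ({cj g v} : Set G) := by
  ext x
  constructor
  · rintro ⟨y, hy, rfl⟩
    have h := mem_centralizer_singleton_iff.mp hy
    rw [mem_centralizer_singleton_iff, ← map_mul, ← map_mul, h]
  · intro hx
    refine ⟨cj g⁻¹ x, ?_, cj_cj_inv g x⟩
    have h := congrArg (cj g⁻¹) (mem_centralizer_singleton_iff.mp hx)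
    rw [map_mul, map_mul, cj_inv_cj] at h
    exact mem_centralizer_singleton_iff.mpr h

theorem zj_le_omegaCenterOf {T : Subgroup G} (hfix : T ≤ centralizer (zj T : Set G)) :
    zj T ≤ omegaCenterOf T := fun _ hz =>
  mem_omegaCenterOf ((omegaCenterOf_le _).trans (Thompson.thompsonSubgroupOf_le T) hz)
    (le_centralizer_iff.mp hfix hz) (mul_self_of_mem_omegaCenterOf hz)

/-- An element of order at most two of `T` centralizing `J(T)` lies in `Ω₁(Z(J(T)))`. -/
theorem mem_zj {T : Subgroup G} {x : G} (hx : x ∈ T)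
    (hc : x ∈ centralizer (thompsonSubgroupOf 2 T : Set G)) (h2 : x * x = 1) : x ∈ zj T := by
  obtain ⟨A, hA⟩ := Thompson.exists_isMaxEAIn 2 T
  have hAJ := Thompson.le_thompsonSubgroupOf hA
  exact mem_omegaCenterOf (hAJ (mem_of_centralizes_maxIn hA hx (centralizer_le hAJ hc) h2)) hc h2

theorem omegaCenterOf_le_zj (T : Subgroup G) : omegaCenterOf T ≤ zj T := fun _ hx =>
  mem_zj (omegaCenterOf_le T hx)
    (centralizer_le (Thompson.thompsonSubgroupOf_le T) (omegaCenterOf_le_centralizer T hx))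
    (mul_self_of_mem_omegaCenterOf hx)

theorem zj_mul_self {T : Subgroup G} {x : G} (hx : x ∈ zj T) : x * x = 1 :=
  mul_self_of_mem_omegaCenterOf hx

namespace Vertex

variable {T K L : Subgroup G} (v : Vertex T K L)
include v

theorem isPGroup : IsPGroup 2 T := v.sylow.2.1

theorem thompson_le : thompsonSubgroupOf 2 T ≤ L :=
  (Thompson.thompsonSubgroupOf_le T).trans v.sylow.1

theorem map (g : G) : Vertex (T.map (cj g)) (K.map (cj g)) (L.map (cj g)) where
  comp := isJComponent_map v.comp g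
  maxl := isMaximalTwoLocal_map v.maxl g
  sylow := isSylowTwoIn_map (cj_injective g) v.sylow
  le := Subgroup.map_mono v.le
  hover := fun L' h2 hle => by
    have h1 := v.hover _ (isTwoLocal_map h2 g⁻¹) (by
      have := Subgroup.map_mono (f := cj g⁻¹) hle
      rwa [Subgroup.map_sup, ← Thompson.thompsonSubgroupOf_conj, map_cj_inv_cancel,
        map_cj_inv_cancel] at this)
    have := Subgroup.map_mono (f := cj g) h1
    rwa [map_cj_cancel_inv] at this

/-- Two vertices with comparable data share their maximal 2-local subgroup. -/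
theorem eq_of_le {T' K' L' : Subgroup G} (v' : Vertex T' K' L')
    (h : K ⊔ thompsonSubgroupOf 2 T ≤ L') : L' = L :=
  (v'.maxl.2 L v.maxl.1 (v.hover L' v'.maxl.1 h)).symm

theorem eq_of_maximal {L' : Subgroup G} (hm : IsMaximalTwoLocal L')
    (h : K ⊔ thompsonSubgroupOf 2 T ≤ L') : L' = L :=
  (hm.2 L v.maxl.1 (v.hover L' hm.1 h)).symm

theorem centralizer_le {x : G} (hx : x * x = 1) (hx1 : x ≠ 1)
    (hK : x ∈ centralizer (K : Set G)) (hJ : x ∈ centralizer (thompsonSubgroupOf 2 T : Set G)) :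
    centralizer ({x} : Set G) ≤ L :=
  v.hover _ (isTwoLocal_centralizer hx hx1) (sup_le
    (fun g hg => mem_centralizer_singleton_iff.mpr (mem_centralizer_iff.mp hK g hg))
    (fun g hg => mem_centralizer_singleton_iff.mpr (mem_centralizer_iff.mp hJ g hg)))

theorem centralizer_le_of_mem_cK {x : G} (hx : x ∈ cK T K) (hx1 : x ≠ 1) :
    centralizer ({x} : Set G) ≤ L :=
  v.centralizer_le (zj_mul_self hx.1) hx1 hx.2 (omegaCenterOf_le_centralizer _ hx.1)

theorem le_centralizer_cK {x : G} (hx : x ∈ cK T K) :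
    K ⊔ thompsonSubgroupOf 2 T ≤ centralizer ({x} : Set G) :=
  sup_le (fun g hg => mem_centralizer_singleton_iff.mpr (mem_centralizer_iff.mp hx.2 g hg))
    (fun g hg => mem_centralizer_singleton_iff.mpr
      (mem_centralizer_iff.mp (omegaCenterOf_le_centralizer _ hx.1) g hg))

variable {k : G} (hk : CompData K k)
include hk

omit hk in
theorem wOf_card : Nat.card (wOf K) = 4 := v.comp.2.2.2.2.1

omit hk in
theorem wOf_mul_self {w : G} (hw : w ∈ wOf K) : w * w = 1 := v.comp.2.2.2.2.2 w hw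

omit hk in
theorem wOf_le_thompson : wOf K ≤ thompsonSubgroupOf 2 T :=
  (omega_center_split v.isPGroup v.comp).2.2

omit hk in
theorem exists_w : ∃ w, w ∈ zj T ∧ w ∈ wOf K ∧ w ≠ 1 ∧
    ∀ x ∈ zj T, x ∈ wOf K → x = 1 ∨ x = w := by
  classical
  have h2 := (omega_center_split v.isPGroup v.comp).1
  rw [Nat.card_eq_two_iff' (1 : ↥(zj T ⊓ wOf K))] at h2
  obtain ⟨⟨w, hw⟩, hw1, huniq⟩ := h2
  refine ⟨w, hw.1, hw.2, fun h => hw1 (Subtype.ext h), fun x hx hxW => ?_⟩
  by_cases hx1 : x = 1
  · exact Or.inl hx1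
  · exact Or.inr (congrArg Subtype.val
      (huniq ⟨x, hx, hxW⟩ fun h => hx1 (congrArg Subtype.val h)))

theorem inf_wOf_eq_bot : cK T K ⊓ wOf K = ⊥ := by
  rw [eq_bot_iff]
  rintro x ⟨hx, hxW⟩
  exact mem_bot.mpr (hk.fpf x hxW (cj_eq_self_iff.mpr (mem_centralizer_iff.mp hx.2 k hk.mem)))

theorem card_zj : Nat.card (zj T) = 2 * Nat.card (cK T K) := by
  obtain ⟨h2, hsup, -⟩ := omega_center_split v.isPGroup v.comp
  have hle : cK T K ⊔ (zj T ⊓ wOf K) = zj T := by
    refine le_antisymm (sup_le inf_le_left inf_le_left) ?_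
    conv_lhs => rw [zj, ← hsup]
    refine sup_le_sup_right ?_ _
    rintro x ⟨hx, -, hxc⟩
    exact ⟨hx, Subgroup.centralizer_le
      (show (K : Set G) ⊆ ((K ⊔ thompsonSubgroupOf 2 T : Subgroup G) : Set G) from
        fun g hg => mem_sup_left (show g ∈ K from hg)) hxc⟩
  have hn : zj T ⊓ wOf K ≤ normalizer (cK T K : Set G) := fun x hx => by
    refine centralizer_le_normalizer _ ?_
    rw [mem_centralizer_iff]
    intro y hy
    exact Thompson.elemAb_comm (isElementaryAbelian_omegaCenterOf _).1 hy.1 hx.1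
  have h := Thompson.card_sup_mul_card_inf hn
  have hb : cK T K ⊓ (zj T ⊓ wOf K) = ⊥ :=
    le_bot_iff.mp ((inf_le_inf_left _ inf_le_right).trans (v.inf_wOf_eq_bot hk).le)
  rw [hle, hb, Subgroup.card_bot, h2, mul_one] at h
  rw [h, mul_comm]

omit hk in
theorem wOf_le_rK : wOf K ≤ rK T K := le_inf (v.wOf_le_thompson.trans (Thompson.thompsonSubgroupOf_le T))
  fun w hw => mem_centralizer_iff.mpr fun _ hx => four_comm v.comp.2.2.2.2.2 hx hw

section Solv

variable (hL : IsCharacteristicTwoType G) (hN : NHyp G) (hZ : ZHyp G)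
include hL

omit hk in
theorem centralizer_pCoreOf : centralizer (pCoreOf 2 L : Set G) ≤ pCoreOf 2 L :=
  centralizer_pCoreOf_le_of_twoLocal hL v.maxl.1

include hN hZ

theorem pCoreOf_le_sylow : pCoreOf 2 K ≤ T :=
  (pCoreOf_component_le v.comp hk v.le
    (component_isSubnormal hN hZ (v.centralizer_pCoreOf hL) v.sylow v.comp v.le)).trans
    (pCoreOf_le_sylowTwoIn v.sylow)

theorem pCoreOf_le_rK : pCoreOf 2 K ≤ rK T K :=
  le_inf (v.pCoreOf_le_sylow hk hL hN hZ) fun q hq => mem_centralizer_iff.mpr fun _ hw =>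
    (mem_centralizer_iff.mp (omegaCenterOf_le_centralizer _ (wOf_le_omegaCenterOf K hw)) q hq).symm

variable (hfix : T ≤ centralizer (zj T : Set G))
include hfix

omit hk in
theorem le_normalizer : T ≤ normalizer (K : Set G) := by
  intro t ht
  rw [← map_cj_eq_self_iff]
  have hC := v.centralizer_pCoreOf hL
  obtain ⟨w, hw, hwK, hw1, -⟩ := v.exists_w
  refine component_eq hN hZ hC (sylowTwoIn_conj_of_mem v.sylow (v.sylow.1 ht))
    (isJComponent_map v.comp t) ?_ v.sylow v.comp v.le ?_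
  · rintro _ ⟨g, hg, rfl⟩
    exact mul_mem (mul_mem (v.sylow.1 ht) (v.le hg)) (inv_mem (v.sylow.1 ht))
  · intro h
    have : w ∈ wOf (K.map (cj t)) ⊓ wOf K := by
      refine ⟨?_, hwK⟩
      rw [← wOf_map (cj_injective t)]
      exact ⟨w, hwK, cj_eq_self_iff.mpr (mem_centralizer_iff.mp (hfix ht) w hw).symm⟩
    rw [h] at this
    exact hw1 (mem_bot.mp this)

omit hk in
theorem normalizes_wOf {t x : G} (ht : t ∈ T) (hx : x ∈ wOf K) : cj t x ∈ wOf K :=
  cj_mem_of_le_normalizer (normalizer_le_normalizer_wOf K (v.le_normalizer hL hN hZ hfix ht)) hx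

theorem centralizes_iff {t : G} (ht : t ∈ T) :
    t ∈ rK T K ↔ cj t k * k⁻¹ ∈ pCoreOf 2 K := by
  have hTK := v.le_normalizer hL hN hZ hfix
  have hsec : ∀ s ∈ T, cj s k * k⁻¹ ∈ pCoreOf 2 K → s ∈ rK T K := fun s hs h =>
    ⟨hs, (hk.le_centralizer_wOf v.comp (P := T ⊓ sectionCentralizer K)
      (v.isPGroup.to_le inf_le_left) (inf_le_left.trans hTK) fun x hx => hx.2.2 k hk.mem)
        ⟨hs, hk.mem_sectionCentralizer (hTK hs) h⟩⟩
  refine ⟨fun h => ?_, hsec t ht⟩
  refine (hk.sign v.comp (hTK ht)).resolve_right fun hinv => ?_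
  have hi := hk.invOn v.comp (hTK ht) hinv
  obtain ⟨w, -, hw, hw1, -⟩ := v.exists_w
  have h1 := hi w hw
  have hfixW : ∀ x ∈ wOf K, cj t x = x := fun x hx =>
    cj_eq_self_iff.mpr (mem_centralizer_iff.mp h.2 x hx).symm
  rw [hfixW _ (hk.cj_mem v.comp hw), hfixW w hw] at h1
  refine hw1 (eq_one_of_cj_eq_cj_inv (W := wOf K) ?_ (fun w hw => hk.cube_apply v.comp hw) hk.fpf
    (Thompson.isElementaryAbelian_of_le (isElementaryAbelian_omegaCenterOf _) (wOf_le_omegaCenterOf K))
    hw h1)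
  exact normalizer_le_normalizer_wOf K (Subgroup.le_normalizer hk.mem)

theorem inverts {t : G} (ht : t ∈ T) (htR : t ∉ rK T K) : cj t k * k ∈ pCoreOf 2 K :=
  (hk.sign v.comp (v.le_normalizer hL hN hZ hfix ht)).resolve_left fun h =>
    htR ((v.centralizes_iff hk hL hN hZ hfix ht).mpr h)

theorem mul_mem_rK {a b : G} (ha : a ∈ T) (hb : b ∈ T) (haR : a ∉ rK T K) (hbR : b ∉ rK T K) :
    a * b ∈ rK T K := by
  rw [v.centralizes_iff hk hL hN hZ hfix (mul_mem ha hb)]
  have hQn : a ∈ normalizer (pCoreOf 2 K : Set G) := by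
    rw [← map_cj_eq_self_iff, pCoreOf_map (cj_injective a),
      map_cj_eq_self_iff.mpr (v.le_normalizer hL hN hZ hfix ha)]
  set Q := pCoreOf 2 K with hQ
  have h1 := cj_mem_of_le_normalizer hQn (v.inverts hk hL hN hZ hfix hb hbR)
  have h2 := Q.mul_mem h1 (cj_mem_of_le_normalizer (le_normalizer_pCoreOf K hk.mem)
    (Q.inv_mem (v.inverts hk hL hN hZ hfix ha haR)))
  convert h2 using 1
  simp only [cj_apply]
  group

omit hk in
theorem le_normalizer_rK_sylow : T ≤ normalizer (rK T K : Set G) :=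
  Coprime.le_normalizer_of_conj_mem fun t ht x hx => by
    refine ⟨T.mul_mem (T.mul_mem ht hx.1) (T.inv_mem ht), ?_⟩
    exact cj_mem_of_le_normalizer (normalizer_le_normalizer_centralizer _
      (normalizer_le_normalizer_wOf K (v.le_normalizer hL hN hZ hfix ht))) hx.2

theorem le_normalizer_rK : K ≤ normalizer (rK T K : Set G) := by
  refine Coprime.le_normalizer_of_conj_mem fun g hg x hx => ?_
  have hs : x ∈ sectionCentralizer K := hk.mem_sectionCentralizer
    (v.le_normalizer hL hN hZ hfix hx.1) ((v.centralizes_iff hk hL hN hZ hfix hx.1).mp hx)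
  have h1 : g * x * g⁻¹ * x⁻¹ ∈ pCoreOf 2 K := by
    have := (pCoreOf 2 K).inv_mem (hs.2 g hg)
    simpa [cj, mul_assoc] using this
  have := (rK T K).mul_mem (v.pCoreOf_le_rK hk hL hN hZ h1) hx
  rwa [inv_mul_cancel_right] at this

/-- A subgroup of `T` normalized by `T` and `k` is normalized by `K`. -/
theorem le_normalizer_of_sylow {X : Subgroup G} (hT : T ≤ normalizer (X : Set G))
    (hkX : k ∈ normalizer (X : Set G)) : K ≤ normalizer (X : Set G) := by
  intro g hg
  obtain ⟨i, hi⟩ := hk.gen g hg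
  have h := (normalizer (X : Set G)).mul_mem (hT (v.pCoreOf_le_sylow hk hL hN hZ hi))
    ((normalizer (X : Set G)).pow_mem hkX i)
  rwa [inv_mul_cancel_right] at h

omit hk in
theorem rK_ne : rK T K ≠ T := by
  intro h
  have hle : wOf K ≤ zj T := fun x hx => by
    refine mem_omegaCenterOf (v.wOf_le_thompson hx) (mem_centralizer_iff.mpr fun j hj => ?_)
      (v.wOf_mul_self hx)
    have hjR : j ∈ rK T K := by rw [h]; exact Thompson.thompsonSubgroupOf_le T hj
    exact (mem_centralizer_iff.mp hjR.2 x hx).symm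
  have h2 := (omega_center_split v.isPGroup v.comp).1
  rw [inf_eq_right.mpr hle, v.wOf_card] at h2
  exact absurd h2 (by norm_num)

theorem zj_le_rK : zj T ≤ rK T K :=
  le_inf ((omegaCenterOf_le _).trans (Thompson.thompsonSubgroupOf_le T)) fun x hx =>
    mem_centralizer_iff.mpr fun y hy =>
      mem_centralizer_iff.mp (omegaCenterOf_le_centralizer _ hx) y (v.wOf_le_thompson hy)

theorem sq_mem_rK {t : G} (ht : t ∈ T) : t * t ∈ rK T K := by
  by_cases h : t ∈ rK T K
  · exact mul_mem h h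
  · exact v.mul_mem_rK hk hL hN hZ hfix ht ht h h

/-- `T` moves elements of `W_K` by elements of `W_K ∩ Z(T)`. -/
theorem mul_cj_mem_zj {t x : G} (ht : t ∈ T) (hx : x ∈ wOf K) :
    x * cj t x ∈ zj T ∧ x * cj t x ∈ wOf K := by
  have hmW : x * cj t x ∈ wOf K := mul_mem hx (v.normalizes_wOf hL hN hZ hfix ht hx)
  refine ⟨?_, hmW⟩
  by_cases htR : t ∈ rK T K
  · rw [cj_eq_self_iff.mpr (mem_centralizer_iff.mp htR.2 x hx).symm, v.wOf_mul_self hx]
    exact one_mem _
  have hR : ∀ {r : G}, r ∈ rK T K → ∀ {y : G}, y ∈ wOf K → cj r y = y := fun hr _ hy =>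
    cj_eq_self_iff.mpr (mem_centralizer_iff.mp hr.2 _ hy).symm
  have htfix : cj t (x * cj t x) = x * cj t x := by
    rw [map_mul, ← cj_mul, hR (v.sq_mem_rK hk hL hN hZ hfix ht) hx]
    exact four_comm v.comp.2.2.2.2.2 (v.normalizes_wOf hL hN hZ hfix ht hx) hx
  refine mem_omegaCenterOf (v.wOf_le_thompson hmW) (mem_centralizer_iff.mpr fun j hj => ?_)
    (v.wOf_mul_self hmW)
  refine cj_eq_self_iff.mp ?_
  have hjT := Thompson.thompsonSubgroupOf_le T hj
  by_cases hjR : j ∈ rK T K
  · exact hR hjR hmW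
  · have h1 := hR (v.mul_mem_rK hk hL hN hZ hfix hjT ht hjR htR) hmW
    rwa [cj_mul, htfix] at h1

theorem mul_cj_ne_one {t x : G} (ht : t ∈ T) (htR : t ∉ rK T K) (hx : x ∈ wOf K)
    (hxZ : x ∉ zj T) : x * cj t x ≠ 1 := by
  intro h
  have hfx : cj t x = x := by
    rw [eq_inv_of_mul_eq_one_right h]
    exact inv_eq_of_mul_eq_one_right (v.wOf_mul_self hx)
  refine hxZ (mem_omegaCenterOf (v.wOf_le_thompson hx) (mem_centralizer_iff.mpr fun j hj => ?_)
    (v.wOf_mul_self hx))
  refine cj_eq_self_iff.mp ?_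
  have hjT := Thompson.thompsonSubgroupOf_le T hj
  by_cases hjR : j ∈ rK T K
  · exact cj_eq_self_iff.mpr (mem_centralizer_iff.mp hjR.2 x hx).symm
  · have h1 : cj (j * t) x = x := cj_eq_self_iff.mpr (mem_centralizer_iff.mp
      (v.mul_mem_rK hk hL hN hZ hfix hjT ht hjR htR).2 x hx).symm
    rwa [cj_mul, hfx] at h1

/-- `L` normalizes `K` if `K` is the only component of `L`. -/
theorem le_normalizer_of_unique (huniq : ∀ K', IsJComponent T K' → K' ≤ L → K' = K) :
    L ≤ normalizer (K : Set G) := by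
  refine (le_normalizer_sup_components hN hZ (v.centralizer_pCoreOf hL) v.sylow).trans
    (sup_le (fun n hn => ?_) (sSup_le fun K' hK' => ?_))
  · rw [← map_cj_eq_self_iff]
    refine huniq _ (IsJComponent.congr ?_ (isJComponent_map v.comp n)) ?_
    · rw [← Thompson.thompsonSubgroupOf_conj]
      exact (map_cj_eq_self_iff.mpr hn.2).symm
    · rintro _ ⟨g, hg, rfl⟩
      exact mul_mem (mul_mem hn.1 (v.le hg)) (inv_mem hn.1)
  · rw [huniq K' hK'.1 hK'.2]
    exact Subgroup.le_normalizer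

end Solv

end Vertex

end Cfsg.Agent.LocalEven64
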