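import Mathlib
import Cfsg.Agent.LocalEven64.Vertex

/-!
# Two vertices with a common Sylow 2-subgroup: basic facts
-/

set_option autoImplicit false
set_option linter.unusedSectionVars false
set_option linter.style.haveILetI false

namespace Cfsg.Agent.LocalEven64

open Subgroup Cfsg
open scoped commutatorElement Pointwise

variable {G : Type*} [Group G] [Finite G]

/-- The standing hypotheses of the amalgam argument. -/
structure AmCtx (G : Type*) [Group G] [Finite G] (T : Subgroup G) : Prop where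
  hL : IsCharacteristicTwoType G
  hN : NHyp G
  hZ : ZHyp G
  fix : T ≤ centralizer (zj T : Set G)

/-- The subgroup generated by the squares of the elements of `X`. -/
def sqSub (X : Subgroup G) : Subgroup G := closure {y | ∃ x ∈ X, y = x * x}

theorem sq_mem_sqSub {X : Subgroup G} {x : G} (hx : x ∈ X) : x * x ∈ sqSub X :=
  subset_closure ⟨x, hx, rfl⟩

theorem sqSub_le (X : Subgroup G) : sqSub X ≤ X := by
  rw [sqSub, closure_le]
  rintro _ ⟨x, hx, rfl⟩
  exact mul_mem hx hx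

theorem normalizer_le_normalizer_sqSub (X : Subgroup G) :
    normalizer (X : Set G) ≤ normalizer (sqSub X : Set G) :=
  FF.le_normalizer_closure fun g hg y hy => by
    obtain ⟨x, hx, rfl⟩ := hy
    exact ⟨g * x * g⁻¹, (mem_normalizer_iff.mp hg x).mp hx, by group⟩

theorem card_le_two_mul {P H : Subgroup G} (hHP : H ≤ P)
    (h : ∀ a ∈ P, ∀ b ∈ P, a ∉ H → b ∉ H → a * b ∈ H) : Nat.card P ≤ 2 * Nat.card H := by
  by_cases hex : ∃ a ∈ P, a ∉ H
  · obtain ⟨a, ha, haH⟩ := hex
    have hai : a⁻¹ ∉ H := fun h' => haH (H.inv_mem_iff.mp h')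
    have hsurj : Function.Surjective (fun q : Fin 2 × H =>
        (⟨a ^ (q.1 : ℕ) * q.2, mul_mem (pow_mem ha _) (hHP q.2.2)⟩ : P)) := by
      rintro ⟨b, hb⟩
      by_cases hbH : b ∈ H
      · exact ⟨(0, ⟨b, hbH⟩), by simp⟩
      · refine ⟨(1, ⟨a⁻¹ * b, h _ (inv_mem ha) b hb hai hbH⟩), Subtype.ext ?_⟩
        show a ^ (1 : ℕ) * (a⁻¹ * b) = b
        rw [pow_one, mul_inv_cancel_left]
    have := Nat.card_le_card_of_surjective _ hsurj
    simpa [Nat.card_prod] using this
  · push Not at hex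
    have := card_le_of_le (show P ≤ H from hex)
    omega

/-- Adjoining an element outside at least doubles the order. -/
theorem two_mul_card_le_of_lt {C D : Subgroup G} (h : C ≤ D) {a : G} (ha : a ∈ D) (haC : a ∉ C) :
    2 * Nat.card C ≤ Nat.card D := by
  obtain ⟨m, hm⟩ := card_dvd_of_le h
  have hne : m ≠ 1 := fun h1 => haC (by
    rw [h1, mul_one] at hm
    rw [Subgroup.eq_of_le_of_card_ge h hm.le]
    exact ha)
  have hm0 : m ≠ 0 := fun h0 => by
    rw [h0, mul_zero] at hm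
    exact absurd hm (Nat.card_pos).ne'
  rw [hm, mul_comm]
  exact Nat.mul_le_mul_left _ (by omega)

theorem mem_sup_zpowers {C : Subgroup G} {a x : G} (hc : ∀ c ∈ C, a * c = c * a) (ha : a * a = 1)
    (hx : x ∈ C ⊔ zpowers a) : x ∈ C ∨ x * a ∈ C := by
  have hn : zpowers a ≤ normalizer (C : Set G) := zpowers_le.mpr
    (centralizer_le_normalizer _ (mem_centralizer_iff.mpr fun c hcC => (hc c hcC).symm))
  have hx' : x ∈ ((C : Set G) * ((zpowers a : Subgroup G) : Set G)) := by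
    rw [← Subgroup.coe_mul_of_right_le_normalizer_left C _ hn]; exact hx
  obtain ⟨c, hcC, b, hb, rfl⟩ := hx'
  obtain ⟨i, rfl⟩ := hb
  have ha' : ∀ i : ℤ, a ^ i = 1 ∨ a ^ i = a := fun i => by
    rcases Int.even_or_odd i with ⟨j, rfl⟩ | ⟨j, rfl⟩
    · left
      rw [zpow_add, ← (Commute.refl a).mul_zpow, ha, one_zpow]
    · right
      rw [zpow_add, zpow_mul, zpow_ofNat, sq, ha, one_zpow, one_mul, zpow_one]
  rcases ha' i with h | h
  · left
    show c * a ^ i ∈ C
    rwa [h, mul_one]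
  · right
    show c * a ^ i * a ∈ C
    rwa [h, mul_assoc, ha, mul_one]

namespace Vertex

variable {T K L : Subgroup G} (v : Vertex T K L) {k : G} (hk : CompData K k) (hC : AmCtx G T)
include v hk hC

theorem exists_maxEA : ∃ A t, Thompson.IsMaxEAIn 2 A T ∧ t ∈ A ∧ t ∉ rK T K := by
  by_contra h
  push Not at h
  have hle : thompsonSubgroupOf 2 T ≤ rK T K := by
    rw [Thompson.thompsonSubgroupOf_eq]
    exact sSup_le fun A hA t ht => h A t hA ht
  have h2 := (omega_center_split v.isPGroup v.comp).1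
  have hW : wOf K ≤ zj T := fun x hx => mem_omegaCenterOf (v.wOf_le_thompson hx)
    (mem_centralizer_iff.mpr fun j hj => (mem_centralizer_iff.mp (hle hj).2 x hx).symm)
    (v.wOf_mul_self hx)
  rw [inf_eq_right.mpr hW, v.wOf_card] at h2
  exact absurd h2 (by norm_num)

/-- The elements of `W_K` outside `Z(T)` form one coset. -/
theorem exists_x : ∃ x, x ∈ wOf K ∧ x ∉ zj T ∧
    ∀ z ∈ wOf K, z ∈ zj T ∨ x * z ∈ zj T := by
  obtain ⟨w, hw, hwK, hw1, huniq⟩ := v.exists_w
  have hkw : cj k w ∉ zj T := by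
    intro h
    rcases huniq _ h (hk.cj_mem v.comp hwK) with h1 | h1
    · exact hw1 (cj_injective k (h1.trans (map_one (cj k)).symm))
    · exact hw1 (hk.fpf w hwK h1)
  refine ⟨cj k w, hk.cj_mem v.comp hwK, hkw, fun z hz => ?_⟩
  rcases hk.w_cases v.comp hwK hw1 hz with rfl | rfl | rfl | rfl
  · exact Or.inl (one_mem _)
  · exact Or.inl hw
  · right; rw [v.wOf_mul_self (hk.cj_mem v.comp hwK)]; exact one_mem _
  · right
    rw [four_comm v.comp.2.2.2.2.2 hwK (hk.cj_mem v.comp hwK), ← mul_assoc,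
      v.wOf_mul_self (hk.cj_mem v.comp hwK), one_mul]
    exact hw

theorem rK_normalizes : T ≤ normalizer (rK T K : Set G) ∧ k ∈ normalizer (rK T K : Set G) :=
  ⟨v.le_normalizer_rK_sylow hC.hL hC.hN hC.hZ hC.fix,
    v.le_normalizer_rK hk hC.hL hC.hN hC.hZ hC.fix hk.mem⟩

theorem cube_mem : k ^ 3 ∈ rK T K := v.pCoreOf_le_rK hk hC.hL hC.hN hC.hZ hk.cube

theorem cj_mem_rK {x : G} (hx : x ∈ rK T K) : cj k x ∈ rK T K :=
  cj_mem_of_le_normalizer (v.rK_normalizes hk hC).2 hx

theorem cj_inv_mem_rK {x : G} (hx : x ∈ rK T K) : cj k⁻¹ x ∈ rK T K :=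
  cj_mem_of_le_normalizer ((normalizer _).inv_mem (v.rK_normalizes hk hC).2) hx

theorem cj_mem_centralizer_rK {x : G} (hx : x ∈ centralizer (rK T K : Set G)) :
    cj k x ∈ centralizer (rK T K : Set G) ∧ cj k⁻¹ x ∈ centralizer (rK T K : Set G) :=
  ⟨cj_mem_of_le_normalizer
      (normalizer_le_normalizer_centralizer _ (v.rK_normalizes hk hC).2) hx,
    cj_mem_of_le_normalizer
      ((normalizer _).inv_mem (normalizer_le_normalizer_centralizer _ (v.rK_normalizes hk hC).2)) hx⟩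

variable {K' L' : Subgroup G} (v' : Vertex T K' L') {k' : G} (hk' : CompData K' k') (hne : L ≠ L')
include v' hk' hne

theorem no_common {X : Subgroup G} (hXT : X ≤ T) (hT : T ≤ normalizer (X : Set G))
    (hkX : k ∈ normalizer (X : Set G)) (hk'X : k' ∈ normalizer (X : Set G)) : X = ⊥ := by
  by_contra hX
  have hJ : thompsonSubgroupOf 2 T ≤ normalizer (X : Set G) :=
    (Thompson.thompsonSubgroupOf_le T).trans hT
  have h1 := v.hover _ ⟨X, v.isPGroup.to_le hXT, hX, rfl⟩
    (sup_le (v.le_normalizer_of_sylow hk hC.hL hC.hN hC.hZ hC.fix hT hkX) hJ)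
  exact hne (v'.eq_of_maximal v.maxl
    ((sup_le (v'.le_normalizer_of_sylow hk' hC.hL hC.hN hC.hZ hC.fix hT hk'X) hJ).trans h1))

theorem rK_ne_rK : rK T K ≠ rK T K' := by
  intro h
  have h1 := v.no_common hk hC v' hk' hne inf_le_left (v.rK_normalizes hk hC).1
    (v.rK_normalizes hk hC).2 (by rw [show T ⊓ centralizer (wOf K : Set G) = rK T K' from h]; exact (v'.rK_normalizes hk' hC).2)
  obtain ⟨w, -, hw, hw1, -⟩ := v.exists_w
  exact hw1 (mem_bot.mp (h1 ▸ v.wOf_le_rK hw))

theorem exists_mem_not_mem : ∃ a ∈ rK T K, a ∉ rK T K' := by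
  by_contra h
  push Not at h
  by_cases h' : rK T K' ≤ rK T K
  · exact v.rK_ne_rK hk hC v' hk' hne (le_antisymm h h')
  obtain ⟨b, hb, hbR⟩ := SetLike.not_le_iff_exists.mp h'
  refine v'.rK_ne hC.hL hC.hN hC.hZ hC.fix (le_antisymm inf_le_left fun t ht => ?_)
  by_cases htR : t ∈ rK T K
  · exact h t htR
  · have := mul_mem (h _ (v.mul_mem_rK hk hC.hL hC.hN hC.hZ hC.fix ht hb.1 htR hbR)) (inv_mem hb)
    rwa [mul_inv_cancel_right] at this

/-- If `W'` lies in `R` and does not commute with its image under `k`, then `k` fixes `W' ∩ Z(T)`. -/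
theorem fixes_of_not_commute (hW : wOf K' ≤ rK T K) {x y : G} (hx : x ∈ wOf K') (hy : y ∈ wOf K')
    (hxy : x * cj k y ≠ cj k y * x) {w : G} (hwW : w ∈ wOf K') (hwZ : w ∈ zj T) (hw1 : w ≠ 1) :
    cj k w = w := by
  obtain ⟨u, hu, huW, hu1, huniq⟩ := v'.exists_w
  have hw : w = u := (huniq w hwZ hwW).resolve_left hw1
  set b := cj k y with hb
  have hbT : b ∈ T := (v.cj_mem_rK hk hC (hW hy)).1
  have hx2 := v'.wOf_mul_self hx
  have hy2 := v'.wOf_mul_self hy
  have hb2 : b * b = 1 := by rw [hb, ← map_mul, hy2, map_one]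
  have hm := v'.mul_cj_mem_zj hk' hC.hL hC.hN hC.hZ hC.fix hbT hx
  set m := x * cj b x with hmdef
  have hm1 : m ≠ 1 := by
    intro h
    refine hxy ?_
    have h1 : cj b x = x := by
      rw [eq_inv_of_mul_eq_one_right h]
      exact inv_eq_of_mul_eq_one_right hx2
    exact (cj_eq_self_iff.mp h1).symm
  -- the same commutator, seen in `k W'`
  set x' := cj k⁻¹ x with hx'
  have hx'T : x' ∈ T := (v.cj_inv_mem_rK hk hC (hW hx)).1
  have hm' : m = cj k (y * cj x' y) := by
    have hbi : b⁻¹ = b := inv_eq_of_mul_eq_one_right hb2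
    have hxi : x⁻¹ = x := inv_eq_of_mul_eq_one_right hx2
    have h1 : m = (b * cj x b)⁻¹ := by
      simp only [hmdef, cj_apply, hbi, hxi, mul_inv_rev, mul_assoc]
    have h2 : cj k (y * cj x' y) = b * cj x b := by
      simp [hb, hx', cj, mul_assoc]
    have h3 := v'.mul_cj_mem_zj hk' hC.hL hC.hN hC.hZ hC.fix hx'T hy
    rw [h2, h1]
    refine inv_eq_of_mul_eq_one_right ?_
    rw [← h2, ← map_mul, v'.wOf_mul_self h3.2, map_one]
  have h3 := v'.mul_cj_mem_zj hk' hC.hL hC.hN hC.hZ hC.fix hx'T hy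
  have hmu : m = u := (huniq m hm.1 hm.2).resolve_left hm1
  rcases huniq _ h3.1 h3.2 with h4 | h4
  · rw [h4, map_one] at hm'
    exact absurd hm' hm1
  · rw [h4, hmu] at hm'
    rw [hw]
    exact hm'.symm

end Vertex

end Cfsg.Agent.LocalEven64
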