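import Mathlib
import Cfsg.Agent.LocalEven64.AmalgamBasic

/-!
# A component moving the central involution of a neighbouring four-group

If `W'` lies in `C_T(W)` and `k` moves `W' ∩ Z(T)`, then a largest elementary abelian subgroup not centralizing
`W` is beaten by the abelian group generated by `W` and the conjugates of `W'`.
-/

set_option autoImplicit false
set_option linter.unusedSectionVars false
set_option linter.style.haveILetI false

namespace Cfsg.Agent.LocalEven64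

open Subgroup Cfsg
open scoped commutatorElement Pointwise

variable {G : Type*} [Group G] [Finite G]

namespace Vertex

variable {T K L : Subgroup G} (v : Vertex T K L) {k : G} (hk : CompData K k) (hC : AmCtx G T)
variable {K' L' : Subgroup G} (v' : Vertex T K' L') {k' : G} (hk' : CompData K' k') (hne : L ≠ L')
include v hk hC v' hk' hne

theorem cj_eq_or {t z u : G} (hu : ∀ x ∈ zj T, x ∈ wOf K' → x = 1 ∨ x = u) (ht : t ∈ T)
    (hz : z ∈ wOf K') : cj t z = z ∨ cj t z = z * u := by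
  have h := v'.mul_cj_mem_zj hk' hC.hL hC.hN hC.hZ hC.fix ht hz
  have e : cj t z = z * (z * cj t z) := by rw [← mul_assoc, v'.wOf_mul_self hz, one_mul]
  rcases hu _ h.1 h.2 with h1 | h1
  · left; rw [e, h1, mul_one]
  · right; rw [e, h1]

/-- The abelian group generated by `W`, `Ω₁(Z(J))` and three commuting conjugates of `W'`. -/
theorem offender_span (hW : wOf K' ≤ rK T K)
    (hcomm : ∀ x ∈ wOf K', ∀ y ∈ wOf K', x * cj k y = cj k y * x) :
    IsElementaryAbelian 2 (wOf K ⊔ zj T ⊔ wOf K' ⊔ (wOf K').map (cj k) ⊔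
        (wOf K').map (cj (k * k)) : Subgroup G) ∧
      wOf K ⊔ zj T ⊔ wOf K' ⊔ (wOf K').map (cj k) ⊔ (wOf K').map (cj (k * k)) ≤ T := by
  set W₁ := (wOf K').map (cj k) with hW₁
  set W₂ := (wOf K').map (cj (k * k)) with hW₂
  have hW₁R : W₁ ≤ rK T K := by
    rintro _ ⟨z, hz, rfl⟩; exact v.cj_mem_rK hk hC (hW hz)
  have hW₂R : W₂ ≤ rK T K := by
    rintro _ ⟨z, hz, rfl⟩; rw [cj_mul]; exact v.cj_mem_rK hk hC (v.cj_mem_rK hk hC (hW hz))
  have hV₀ : wOf K ⊔ zj T ≤ centralizer (rK T K : Set G) :=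
    sup_le (le_centralizer_iff.mp inf_le_right)
      (le_centralizer_iff.mp (inf_le_left.trans hC.fix))
  have hc01 : wOf K' ≤ centralizer (W₁ : Set G) := by
    intro x hx
    rw [mem_centralizer_iff]
    rintro _ ⟨y, hy, rfl⟩
    exact (hcomm x hx y hy).symm
  have hc02 : wOf K' ≤ centralizer (W₂ : Set G) := by
    intro x hx
    rw [mem_centralizer_iff]
    rintro _ ⟨y, hy, rfl⟩
    have h := hcomm _ (v'.normalizes_wOf hC.hL hC.hN hC.hZ hC.fix (v.cube_mem hk hC).1 hy) _ hx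
    have h1 := congrArg (cj k⁻¹) h
    rw [map_mul, map_mul, cj_inv_cj, show cj k⁻¹ (cj (k ^ 3) y) = cj (k * k) y by
      rw [← cj_mul, show k⁻¹ * k ^ 3 = k * k by rw [pow_succ', inv_mul_cancel_left, sq]]] at h1
    exact h1
  have hc12 : W₁ ≤ centralizer (W₂ : Set G) := by
    rintro _ ⟨x, hx, rfl⟩
    rw [mem_centralizer_iff]
    rintro _ ⟨y, hy, rfl⟩
    rw [cj_mul, ← map_mul, ← map_mul, hcomm x hx y hy]
  have hWe : ∀ {T' K'' : Subgroup G}, IsJComponent T' K'' → IsElementaryAbelian 2 (wOf K'') :=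
    fun _ => Thompson.isElementaryAbelian_of_le (isElementaryAbelian_omegaCenterOf _)
      (wOf_le_omegaCenterOf _)
  refine ⟨Thompson.isElementaryAbelian_sup (Thompson.isElementaryAbelian_sup
    (Thompson.isElementaryAbelian_sup (Thompson.isElementaryAbelian_sup (hWe v.comp)
      (isElementaryAbelian_omegaCenterOf _) ?_) (hWe v'.comp) ?_)
      (Thompson.isElementaryAbelian_map _ (hWe v'.comp)) ?_)
      (Thompson.isElementaryAbelian_map _ (hWe v'.comp)) ?_, ?_⟩
  · exact (le_sup_left.trans hV₀).trans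
      (Subgroup.centralizer_le (v.zj_le_rK hk hC.hL hC.hN hC.hZ hC.fix))
  · exact hV₀.trans (Subgroup.centralizer_le hW)
  · exact sup_le (hV₀.trans (Subgroup.centralizer_le hW₁R)) hc01
  · exact sup_le (sup_le (hV₀.trans (Subgroup.centralizer_le hW₂R)) hc02) hc12
  · exact sup_le (sup_le (sup_le (sup_le (v.wOf_le_rK.trans inf_le_left)
      ((omegaCenterOf_le _).trans (Thompson.thompsonSubgroupOf_le T))) (hW.trans inf_le_left))
        (hW₁R.trans inf_le_left)) (hW₂R.trans inf_le_left)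

/-- An element inverting `k` interchanges the two conjugates of `W'`. -/
theorem offender_swap {t z : G} (htT : t ∈ T) (htR : t ∉ rK T K) (hz : z ∈ wOf K') :
    ∃ y ∈ wOf K', cj t (cj k z) = cj (k * k) y := by
  set q := cj t k * k with hq
  have hqR : q ∈ rK T K := v.pCoreOf_le_rK hk hC.hL hC.hN hC.hZ
    (v.inverts hk hC.hL hC.hN hC.hZ hC.fix htT htR)
  set r := cj k⁻¹ (cj k⁻¹ q) with hr
  have hrT : r ∈ T := (v.cj_inv_mem_rK hk hC (v.cj_inv_mem_rK hk hC hqR)).1
  refine ⟨cj r (cj (k ^ 3)⁻¹ (cj t z)), v'.normalizes_wOf hC.hL hC.hN hC.hZ hC.fix hrT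
    (v'.normalizes_wOf hC.hL hC.hN hC.hZ hC.fix (T.inv_mem (v.cube_mem hk hC).1)
      (v'.normalizes_wOf hC.hL hC.hN hC.hZ hC.fix htT hz)), ?_⟩
  simp only [hr, hq, cj_apply]
  group

theorem offender_false (hW : wOf K' ≤ rK T K) {w' : G} (hw'W : w' ∈ wOf K') (hw'Z : w' ∈ zj T)
    (hw'1 : w' ≠ 1) (hmove : cj k w' ≠ w') : False := by
  classical
  set R := rK T K with hR
  set R' := rK T K' with hR'
  obtain ⟨-, hkR⟩ := v.rK_normalizes hk hC
  obtain ⟨u, -, huW, hu1, huniq⟩ := v'.exists_w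
  have hw'u : w' = u := (huniq w' hw'Z hw'W).resolve_left hw'1
  subst hw'u
  obtain ⟨w, hwZ, hwW, hw1, huniqw⟩ := v.exists_w
  obtain ⟨x₀, hx₀, hx₀Z, hx₀c⟩ := v'.exists_x hk' hC
  obtain ⟨xw, hxw, hxwZ, -⟩ := v.exists_x hk hC
  have hRT : ∀ {r : G}, r ∈ R → r ∈ T := fun hr => hr.1
  have hfix' : ∀ {r : G}, r ∈ R' → ∀ {z : G}, z ∈ wOf K' → cj r z = z := fun hr _ hz =>
    cj_eq_self_iff.mpr (mem_centralizer_iff.mp hr.2 _ hz).symm
  have hfixW : ∀ {r : G}, r ∈ R → ∀ {z : G}, z ∈ wOf K → cj r z = z := fun hr _ hz =>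
    cj_eq_self_iff.mpr (mem_centralizer_iff.mp hr.2 _ hz).symm
  have hfixZ : ∀ {t : G}, t ∈ T → ∀ {z : G}, z ∈ zj T → cj t z = z := fun ht _ hz =>
    cj_eq_self_iff.mpr (mem_centralizer_iff.mp (hC.fix ht) _ hz).symm
  -- `T` acts on `W'` by multiples of `w'`
  have hmulW' : ∀ {t z : G}, t ∈ T → z ∈ wOf K' → cj t z = z ∨ cj t z = z * w' :=
    fun ht hz => v.cj_eq_or hk hC v' hk' hne huniq ht hz
  have hmulW : ∀ {t z : G}, t ∈ T → z ∈ wOf K → cj t z = z ∨ cj t z = z * w :=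
    fun ht hz => v'.cj_eq_or hk' hC v hk hne.symm huniqw ht hz
  have hcomm : ∀ {x y : G}, x ∈ wOf K' → y ∈ wOf K' → x * cj k y = cj k y * x := by
    intro x y hx hy
    by_contra h
    exact hmove (v.fixes_of_not_commute hk hC v' hk' hne hW hx hy h hw'W hw'Z hw'1)
  set W₁ := (wOf K').map (cj k) with hW₁
  set W₂ := (wOf K').map (cj (k * k)) with hW₂
  have hW₁R : W₁ ≤ R := by
    rintro _ ⟨z, hz, rfl⟩; exact v.cj_mem_rK hk hC (hW hz)
  have hW₂R : W₂ ≤ R := by
    rintro _ ⟨z, hz, rfl⟩; rw [cj_mul]; exact v.cj_mem_rK hk hC (v.cj_mem_rK hk hC (hW hz))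
  obtain ⟨hXe, hXT⟩ := v.offender_span hk hC v' hk' hne hW fun x hx y hy => hcomm hx hy
  set X := wOf K ⊔ zj T ⊔ wOf K' ⊔ W₁ ⊔ W₂ with hX
  have hXW : wOf K ≤ X := le_sup_left.trans (le_sup_left.trans (le_sup_left.trans le_sup_left))
  have hXZ : zj T ≤ X := le_sup_right.trans (le_sup_left.trans (le_sup_left.trans le_sup_left))
  have hXW' : wOf K' ≤ X := le_sup_right.trans (le_sup_left.trans le_sup_left)
  have hXW₁ : W₁ ≤ X := le_sup_right.trans le_sup_left
  have hXW₂ : W₂ ≤ X := le_sup_right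
  have hWc : ∀ x ∈ wOf K, ∀ y ∈ R, x * y = y * x := fun x hx y hy => mem_centralizer_iff.mp hy.2 x hx
  have hZc : ∀ x ∈ zj T, ∀ y ∈ R, x * y = y * x := fun x hx y hy =>
    mem_centralizer_iff.mp (hC.fix (hRT hy)) x hx
  have hXc : ∀ {x y : G}, x ∈ X → y ∈ X → x * y = y * x := fun hx hy =>
    Thompson.elemAb_comm hXe.1 hx hy
  have hX2 : ∀ {x : G}, x ∈ X → x * x = 1 := fun hx => by rw [← sq]; exact hXe.2 _ hx
  -- the offender
  obtain ⟨A, t, hA, htA, htR⟩ := v.exists_maxEA hk hC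
  have hAT : A ≤ T := hA.1
  have htT : t ∈ T := hAT htA
  have hA2 : ∀ {a : G}, a ∈ A → a * a = 1 := fun ha => by rw [← sq]; exact hA.2.1.2 _ ha
  have hAc : ∀ {a b : G}, a ∈ A → b ∈ A → a * b = b * a := fun ha hb =>
    Thompson.elemAb_comm hA.2.1.1 ha hb
  -- `t` interchanges `k W'` and `k² W'`
  have hswap : ∀ {z : G}, z ∈ wOf K' → ∃ y ∈ wOf K', cj t (cj k z) = cj (k * k) y :=
    fun hz => v.offender_swap hk hC v' hk' hne htT htR hz
  obtain ⟨z₀, hz₀, hz₀e⟩ := hswap hx₀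
  set b := cj k x₀ with hb
  set m := b * cj t b with hm
  -- an element of `R` moving `W'`
  obtain ⟨r, hr, hrR'⟩ := v.exists_mem_not_mem hk hC v' hk' hne
  have hrx : cj r x₀ = x₀ * w' := by
    refine (hmulW' (hRT hr) hx₀).resolve_left fun h => ?_
    refine v'.mul_cj_ne_one hk' hC.hL hC.hN hC.hZ hC.fix (hRT hr) hrR' hx₀ hx₀Z ?_
    rw [h, v'.wOf_mul_self hx₀]
  have hkne : ∀ {z : G}, z = 1 ∨ z = w' → w' ≠ cj k z := by
    rintro z (rfl | rfl) h
    · exact hw'1 (h.trans (map_one _))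
    · exact hmove h.symm
  have hmC : m ∉ centralizer (R : Set G) := by
    intro h
    have h1 := (v.cj_mem_centralizer_rK hk hC h).2
    have e : cj k⁻¹ m = x₀ * cj k z₀ := by
      rw [hm, map_mul, hb, cj_inv_cj, hz₀e, ← cj_mul]; congr 1; congr 1; group
    rw [e] at h1
    have h2 : cj r (x₀ * cj k z₀) = x₀ * cj k z₀ :=
      cj_eq_self_iff.mpr (mem_centralizer_iff.mp h1 r hr)
    set r' := cj k⁻¹ r with hr'
    have h3 : cj r (cj k z₀) = cj k (cj r' z₀) := by simp [hr', cj, mul_assoc]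
    rw [map_mul, hrx, h3, mul_assoc, mul_right_inj] at h2
    rcases hmulW' (hRT (v.cj_inv_mem_rK hk hC hr)) hz₀ with h4 | h4
    · rw [h4, mul_eq_right] at h2
      exact hw'1 h2
    · rw [h4, map_mul] at h2
      refine hkne (Or.inr rfl) ?_
      have h5 : w' * cj k z₀ = cj k z₀ * w' := (hcomm hw'W hz₀)
      rw [← mul_assoc, h5, mul_assoc, mul_eq_left] at h2
      exact (eq_inv_of_mul_eq_one_left h2).trans (inv_eq_of_mul_eq_one_right (by
        rw [← map_mul, v'.wOf_mul_self hw'W, map_one]))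
  have hxwX : xw ∈ X := hXW hxw
  have hbW₁ : b ∈ W₁ := ⟨x₀, hx₀, rfl⟩
  have hbX : b ∈ X := hXW₁ hbW₁
  have htb : cj t b ∈ X := by
    exact hXW₂ ⟨z₀, hz₀, hz₀e.symm⟩
  have hx₀X : x₀ ∈ X := hXW' hx₀
  set C₁ := X ⊓ centralizer ({t} : Set G) with hC₁
  have hC₁fix : ∀ {z : G}, z ∈ C₁ → cj t z = z := fun hz =>
    cj_eq_self_iff.mpr (mem_centralizer_singleton_iff.mp hz.2).symm
  have hC₁mem : ∀ {z : G}, z ∈ X → cj t z = z → z ∈ C₁ := fun hz h =>
    ⟨hz, mem_centralizer_singleton_iff.mpr (cj_eq_self_iff.mp h).symm⟩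
  have hw_cen : w ∈ centralizer (R : Set G) :=
    mem_centralizer_iff.mpr fun y hy => (hWc w hwW y hy).symm
  have hw'_cen : w' ∈ centralizer (R : Set G) :=
    mem_centralizer_iff.mpr fun y hy => (hZc w' hw'Z y hy).symm
  have htxw : cj t xw = xw * w := by
    refine (hmulW htT hxw).resolve_left fun h => ?_
    refine v.mul_cj_ne_one hk hC.hL hC.hN hC.hZ hC.fix htT htR hxw hxwZ ?_
    rw [h, v.wOf_mul_self hxw]
  have htb' : cj t b = b * m := by rw [hm, ← mul_assoc, hX2 hbX, one_mul]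
  have hxwC : xw ∉ C₁ := fun h => by
    have := hC₁fix h
    rw [htxw, mul_eq_left] at this
    exact hw1 this
  set C₁a := C₁ ⊔ zpowers xw with hC₁a
  have hC₁aX : C₁a ≤ X := sup_le inf_le_left (zpowers_le.mpr hxwX)
  have hsplit : ∀ {z : G}, z ∈ C₁a → cj t z = z ∨ cj t z = z * w := by
    intro z hz
    rcases mem_sup_zpowers (C := C₁) (fun c hc => hXc hxwX hc.1) (v.wOf_mul_self hxw) hz with h | h
    · exact Or.inl (hC₁fix h)
    · right
      have h1 := hC₁fix h
      rw [map_mul, htxw, ← mul_assoc] at h1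
      calc cj t z = cj t z * xw * w * (xw * w)⁻¹ := by group
        _ = z * xw * (xw * w)⁻¹ := by rw [h1]
        _ = z * w := by
          rw [mul_inv_rev, inv_eq_of_mul_eq_one_right (v.wOf_mul_self hxw), mul_assoc z,
            inv_eq_of_mul_eq_one_right (v.wOf_mul_self hwW), ← mul_assoc xw,
            four_comm v.comp.2.2.2.2.2 hxw hwW, mul_assoc w, v.wOf_mul_self hxw, mul_one]
  have hbC : b ∉ C₁a := fun h => by
    rcases hsplit h with h1 | h1 <;> rw [htb'] at h1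
    · exact hmC ((mul_eq_left.mp h1).symm ▸ one_mem _)
    · exact hmC ((mul_left_cancel h1).symm ▸ hw_cen)
  set C₁b := C₁a ⊔ zpowers b with hC₁b
  have hC₁bX : C₁b ≤ X := sup_le hC₁aX (zpowers_le.mpr hbX)
  have h4 : 4 * Nat.card C₁ ≤ Nat.card C₁b := by
    have h1 := two_mul_card_le_of_lt (D := C₁a) (le_sup_left : C₁ ≤ C₁a) (mem_sup_right (mem_zpowers xw)) hxwC
    have h2 := two_mul_card_le_of_lt (D := C₁b) (le_sup_left : C₁a ≤ C₁b) (mem_sup_right (mem_zpowers b)) hbC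
    omega
  -- the chain in `A`
  set A₁ := A ⊓ R with hA₁
  set A₂ := A₁ ⊓ R' with hA₂
  set A₃ := A₂ ⊓ centralizer (W₁ : Set G) with hA₃
  have hcA₁ : Nat.card A ≤ 2 * Nat.card A₁ := card_le_two_mul inf_le_left fun a ha c hc h1 h2 =>
    ⟨mul_mem ha hc, v.mul_mem_rK hk hC.hL hC.hN hC.hZ hC.fix (hAT ha) (hAT hc)
      (fun h => h1 ⟨ha, h⟩) (fun h => h2 ⟨hc, h⟩)⟩
  have hcA₂ : Nat.card A₁ ≤ 2 * Nat.card A₂ := card_le_two_mul inf_le_left fun a ha c hc h1 h2 =>
    ⟨mul_mem ha hc, v'.mul_mem_rK hk' hC.hL hC.hN hC.hZ hC.fix (hRT ha.2) (hRT hc.2)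
      (fun h => h1 ⟨ha, h⟩) (fun h => h2 ⟨hc, h⟩)⟩
  have hW₁cen : ∀ {a : G}, a ∈ R → cj k⁻¹ a ∈ R' → a ∈ centralizer (W₁ : Set G) := by
    intro a _ ha'
    rw [mem_centralizer_iff]
    rintro _ ⟨z, hz, rfl⟩
    have h1 := congrArg (cj k) (mem_centralizer_iff.mp ha'.2 z hz)
    rw [map_mul, map_mul, cj_cj_inv] at h1
    exact h1
  have hcA₃ : Nat.card A₂ ≤ 2 * Nat.card A₃ := card_le_two_mul inf_le_left fun a ha c hc h1 h2 => by
    refine ⟨mul_mem ha hc, hW₁cen (R.mul_mem ha.1.2 hc.1.2) ?_⟩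
    rw [map_mul]
    exact v'.mul_mem_rK hk' hC.hL hC.hN hC.hZ hC.fix (hRT (v.cj_inv_mem_rK hk hC ha.1.2))
      (hRT (v.cj_inv_mem_rK hk hC hc.1.2)) (fun h => h1 ⟨ha, hW₁cen ha.1.2 h⟩)
      (fun h => h2 ⟨hc, hW₁cen hc.1.2 h⟩)
  -- `A₃` centralizes `X`
  have hW₂eq : W₁.map (cj t) = W₂ := by
    refine Subgroup.eq_of_le_of_card_ge ?_ ?_
    · rintro _ ⟨_, ⟨z, hz, rfl⟩, rfl⟩
      obtain ⟨y, hy, hye⟩ := hswap hz
      exact ⟨y, hy, hye.symm⟩
    · rw [Subgroup.card_map_of_injective (cj_injective t), hW₁, hW₂,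
        Subgroup.card_map_of_injective (cj_injective k), Subgroup.card_map_of_injective (cj_injective (k * k))]
  have hA₃X : A₃ ≤ centralizer (X : Set G) := by
    rw [le_centralizer_iff, hX]
    refine sup_le (sup_le (sup_le (sup_le ?_ ?_) ?_) ?_) ?_ <;> intro z h <;>
      rw [mem_centralizer_iff] <;> intro a ha
    · exact (hWc z h a ha.1.1.2).symm
    · exact (hZc z h a ha.1.1.2).symm
    · exact (mem_centralizer_iff.mp ha.1.2.2 z h).symm
    · exact (mem_centralizer_iff.mp ha.2 z h).symm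
    · rw [← hW₂eq] at h
      obtain ⟨y, hy, rfl⟩ := h
      refine cj_eq_self_iff.mp ?_
      rw [← cj_mul, hAc ha.1.1.1 htA, cj_mul,
        cj_eq_self_iff.mpr (mem_centralizer_iff.mp ha.2 y hy).symm]
  -- replacement
  have hmax : Nat.card A₃ * Nat.card X ≤ Nat.card A * Nat.card (X ⊓ centralizer (A : Set G) : Subgroup G) := by
    have hE : IsElementaryAbelian 2 (A₃ ⊔ X : Subgroup G) := Thompson.isElementaryAbelian_sup
      (Thompson.isElementaryAbelian_of_le hA.2.1 (inf_le_left.trans (inf_le_left.trans inf_le_left)))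
      hXe hA₃X
    have h1 := hA.2.2 (A₃ ⊔ X) (sup_le ((inf_le_left.trans (inf_le_left.trans inf_le_left)).trans hAT) hXT) hE
    have h2 := Thompson.card_sup_mul_card_inf (H := A₃) (K := X)
      ((le_centralizer_iff.mp hA₃X).trans (centralizer_le_normalizer _))
    have h3 : Nat.card (A₃ ⊓ X : Subgroup G) ≤ Nat.card (X ⊓ centralizer (A : Set G) : Subgroup G) :=
      card_le_of_le fun z hz => ⟨hz.2, mem_centralizer_iff.mpr fun a ha => hAc ha hz.1.1.1.1⟩
    rw [← h2]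
    exact Nat.mul_le_mul h1 h3
  set C₂ := C₁ ⊓ centralizer (A₂ : Set G) with hC₂
  set C₃ := X ⊓ centralizer (A : Set G) with hC₃
  have hC₃₂ : C₃ ≤ C₂ := fun z hz =>
    ⟨⟨hz.1, mem_centralizer_singleton_iff.mpr ((mem_centralizer_iff.mp hz.2 t htA).symm)⟩,
      mem_centralizer_iff.mpr fun a ha => mem_centralizer_iff.mp hz.2 a ha.1.1⟩
  have hc12' := card_le_of_le (inf_le_left : C₂ ≤ C₁)
  have hc23 := card_le_of_le hC₃₂
  have hbt := card_le_of_le hC₁bX
  have hpos := Nat.card_pos (α := A₃)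
  have hpos3 := Nat.card_pos (α := C₃)
  -- step in `k W'`
  have hj : Nat.card A₂ * Nat.card C₂ ≤ Nat.card A₃ * Nat.card C₁ := by
    by_cases hex : A₂ ≤ centralizer (W₁ : Set G)
    · have : A₃ = A₂ := inf_eq_left.mpr hex
      rw [this]
      exact Nat.mul_le_mul_left _ hc12'
    obtain ⟨a, ha, haW⟩ := SetLike.not_le_iff_exists.mp hex
    set a' := cj k⁻¹ a with ha'
    have ha'T : a' ∈ T := hRT (v.cj_inv_mem_rK hk hC ha.1.2)
    have ha'R : a' ∉ R' := fun h => haW (hW₁cen ha.1.2 h)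
    have hab : cj a b = b * cj k w' := by
      have h1 : cj a (cj k x₀) = cj k (cj a' x₀) := by simp [ha', cj, mul_assoc]
      rw [hb, h1]
      rcases hmulW' ha'T hx₀ with h2 | h2
      · refine absurd ?_ (v'.mul_cj_ne_one hk' hC.hL hC.hN hC.hZ hC.fix ha'T ha'R hx₀ hx₀Z)
        rw [h2, v'.wOf_mul_self hx₀]
      · rw [h2, map_mul]
    have hmC₁ : m ∈ C₁ := by
      refine hC₁mem (mul_mem hbX htb) ?_
      rw [hm, map_mul, ← cj_mul t t, hA2 htA, show cj (1 : G) b = b by simp [cj]]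
      exact hXc htb hbX
    have hmC₂ : m ∉ C₂ := by
      intro h
      have h1 : cj a m = m := cj_eq_self_iff.mpr (mem_centralizer_iff.mp h.2 a ha)
      have h2 : cj a (cj t b) = cj t b * cj t (cj k w') := by
        rw [← cj_mul, hAc ha.1.1 htA, cj_mul, hab, map_mul]
      have hkw'X : cj k w' ∈ X := hXW₁ ⟨w', hw'W, rfl⟩
      rw [hm, map_mul, hab, h2, mul_assoc, mul_right_inj, ← mul_assoc, hXc hkw'X htb, mul_assoc,
        mul_eq_left] at h1
      have h3 : cj t (cj k w') = cj k w' := by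
        rw [eq_inv_of_mul_eq_one_right h1]
        exact inv_eq_of_mul_eq_one_right (by rw [← map_mul, v'.wOf_mul_self hw'W, map_one])
      obtain ⟨y, hy, hye⟩ := hswap hw'W
      rw [h3] at hye
      have h5 : w' = cj k y := by
        apply cj_injective k
        rw [hye, cj_mul]
      have hyZ : y = 1 ∨ y = w' := by
        refine huniq y ?_ hy
        by_contra hyZ
        have h6 : cj r y = y := by
          refine cj_eq_self_iff.mpr (mem_centralizer_iff.mp ?_ r hr)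
          have h7 := (v.cj_mem_centralizer_rK hk hC hw'_cen).2
          rwa [h5, cj_inv_cj] at h7
        refine v'.mul_cj_ne_one hk' hC.hL hC.hN hC.hZ hC.fix (hRT hr) hrR' hy hyZ ?_
        rw [h6, v'.wOf_mul_self hy]
      exact hkne hyZ h5
    have h1 := two_mul_card_le_of_lt (inf_le_left : C₂ ≤ C₁) hmC₁ hmC₂
    calc Nat.card A₂ * Nat.card C₂ ≤ 2 * Nat.card A₃ * Nat.card C₂ := Nat.mul_le_mul_right _ hcA₃
      _ = Nat.card A₃ * (2 * Nat.card C₂) := by ring
      _ ≤ _ := Nat.mul_le_mul_left _ h1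
  -- step in `W'`
  have hfin : Nat.card A₁ * (4 * Nat.card C₃) ≤ Nat.card A₃ * Nat.card X := by
    by_cases hex : A₁ ≤ R'
    · have : A₂ = A₁ := inf_eq_left.mpr hex
      rw [← this]
      calc Nat.card A₂ * (4 * Nat.card C₃) ≤ Nat.card A₂ * (4 * Nat.card C₂) :=
            Nat.mul_le_mul_left _ (by omega)
        _ = 4 * (Nat.card A₂ * Nat.card C₂) := by ring
        _ ≤ 4 * (Nat.card A₃ * Nat.card C₁) := Nat.mul_le_mul_left _ hj
        _ = Nat.card A₃ * (4 * Nat.card C₁) := by ring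
        _ ≤ _ := Nat.mul_le_mul_left _ (by omega)
    obtain ⟨a, ha, haR'⟩ := SetLike.not_le_iff_exists.mp hex
    have hax : cj a x₀ = x₀ * w' := by
      refine (hmulW' (hRT ha.2) hx₀).resolve_left fun h => ?_
      refine v'.mul_cj_ne_one hk' hC.hL hC.hN hC.hZ hC.fix (hRT ha.2) haR' hx₀ hx₀Z ?_
      rw [h, v'.wOf_mul_self hx₀]
    -- either a new fixed element moved by `a`, or a larger index
    have hkey : 2 * Nat.card C₃ ≤ Nat.card C₂ ∨ 8 * Nat.card C₁ ≤ Nat.card X := by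
      have hA₂fix : ∀ {c : G}, c ∈ A₂ → cj c x₀ = x₀ := fun hc => hfix' hc.2 hx₀
      have hwit : ∀ z ∈ X, cj t z = z → (∀ c ∈ A₂, cj c z = z) → cj a z ≠ z →
          2 * Nat.card C₃ ≤ Nat.card C₂ := by
        intro z hz htz hcz haz
        refine two_mul_card_le_of_lt hC₃₂ (a := z) ⟨hC₁mem hz htz,
          mem_centralizer_iff.mpr fun c hc => cj_eq_self_iff.mp (hcz c hc)⟩ fun h => haz ?_
        exact cj_eq_self_iff.mpr (mem_centralizer_iff.mp h.2 a ha.1)
      rcases hmulW' htT hx₀ with h | h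
      · exact Or.inl (hwit x₀ hx₀X h (fun c hc => hA₂fix hc)
          (by rw [hax]; exact fun he => hw'1 (mul_eq_left.mp he)))
      by_cases hww : w' = w
      · refine Or.inl (hwit (x₀ * xw) (mul_mem hx₀X hxwX) ?_ (fun c hc => ?_) ?_)
        · rw [map_mul, h, htxw, hww, mul_assoc, ← mul_assoc w,
            four_comm v.comp.2.2.2.2.2 hwW hxw, mul_assoc, v.wOf_mul_self hwW, mul_one]
        · rw [map_mul, hA₂fix hc, hfixW hc.1.2 hxw]
        · rw [map_mul, hax, hfixW ha.2 hxw, mul_assoc, Ne, mul_right_inj, mul_eq_right]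
          exact hw'1
      · right
        have hnot : x₀ ∉ C₁b := by
          intro hin
          rcases mem_sup_zpowers (fun c hc => hXc hbX (hC₁aX hc)) (hX2 hbX) hin with h1 | h1
          · rcases hsplit h1 with h2 | h2 <;> rw [h] at h2
            · exact hw'1 (mul_eq_left.mp h2)
            · exact hww (mul_left_cancel h2)
          · have e : cj t (x₀ * b) = x₀ * b * (w' * m) := by
              rw [map_mul, h, htb', mul_assoc x₀, ← mul_assoc w',
                hXc (hXZ hw'Z) hbX]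
              simp only [mul_assoc]
            rcases hsplit h1 with h2 | h2 <;> rw [e] at h2
            · refine hmC ?_
              rw [eq_inv_of_mul_eq_one_right (mul_eq_left.mp h2)]
              exact inv_mem hw'_cen
            · refine hmC ?_
              rw [show m = w'⁻¹ * w by rw [← mul_left_cancel h2, inv_mul_cancel_left]]
              exact mul_mem (inv_mem hw'_cen) hw_cen
        have h1 := two_mul_card_le_of_lt (le_sup_left : C₁b ≤ C₁b ⊔ zpowers x₀)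
          (mem_sup_right (mem_zpowers x₀)) hnot
        have h2 := card_le_of_le (sup_le hC₁bX (zpowers_le.mpr hx₀X) : C₁b ⊔ zpowers x₀ ≤ X)
        omega
    rcases hkey with h | h
    · calc Nat.card A₁ * (4 * Nat.card C₃) ≤ 2 * Nat.card A₂ * (4 * Nat.card C₃) :=
            Nat.mul_le_mul_right _ hcA₂
        _ = 4 * (Nat.card A₂ * (2 * Nat.card C₃)) := by ring
        _ ≤ 4 * (Nat.card A₂ * Nat.card C₂) :=
            Nat.mul_le_mul_left _ (Nat.mul_le_mul_left _ h)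
        _ ≤ 4 * (Nat.card A₃ * Nat.card C₁) := Nat.mul_le_mul_left _ hj
        _ = Nat.card A₃ * (4 * Nat.card C₁) := by ring
        _ ≤ _ := Nat.mul_le_mul_left _ (by omega)
    · calc Nat.card A₁ * (4 * Nat.card C₃) ≤ 2 * Nat.card A₂ * (4 * Nat.card C₂) :=
            Nat.mul_le_mul hcA₂ (by omega)
        _ = 8 * (Nat.card A₂ * Nat.card C₂) := by ring
        _ ≤ 8 * (Nat.card A₃ * Nat.card C₁) := Nat.mul_le_mul_left _ hj
        _ = Nat.card A₃ * (8 * Nat.card C₁) := by ring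
        _ ≤ _ := Nat.mul_le_mul_left _ h
  have h5 : Nat.card A * Nat.card C₃ ≤ 2 * (Nat.card A₁ * Nat.card C₃) :=
    (Nat.mul_le_mul_right _ hcA₁).trans (le_of_eq (mul_assoc _ _ _))
  have h6 : 0 < Nat.card A₁ * Nat.card C₃ := Nat.mul_pos Nat.card_pos hpos3
  nlinarith [hmax, hfin, h5, h6]

end Vertex

end Cfsg.Agent.LocalEven64
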