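import Mathlib
import Cfsg.Agent.LocalEven64.AmalgamOffender

/-!
# Crossing vertices: conjugates of the neighbouring four-group commute

If `k` fixes `W' ∩ Z(T)` and `k'` fixes `W ∩ Z(T)`, with `W' ≤ C_T(W)`, then `W'` commutes with its conjugates
under `k`: otherwise the squares of `C_T(W) ∩ C_T(W')` generate a subgroup normalized by both.
-/

set_option autoImplicit false
set_option linter.unusedSectionVars false
set_option linter.style.haveILetI false

namespace Cfsg.Agent.LocalEven64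

open Subgroup Cfsg
open scoped commutatorElement Pointwise

variable {G : Type*} [Group G] [Finite G]

namespace Vertex

variable {T K L : Subgroup G} (v : Vertex T K L) {k : G} (hk : CompData K k) (hC : AmCtx G T)
variable {K' L' : Subgroup G} (v' : Vertex T K' L') {k' : G} (hk' : CompData K' k') (hne : L ≠ L')
include v hk hC v' hk' hne

/-- `[W', k W'] ≠ 1` forces the squares of `E` to be normalized by `k` and to contain `W' ∩ Z(T)`. -/
theorem sqSub_inf_of_not_commute (hW : wOf K' ≤ rK T K) {x y : G} (hx : x ∈ wOf K')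
    (hy : y ∈ wOf K') (hxy : x * cj k y ≠ cj k y * x) :
    k ∈ normalizer (sqSub (rK T K ⊓ rK T K') : Set G) ∧
      ∀ u ∈ wOf K', u ∈ zj T → u ∈ sqSub (rK T K ⊓ rK T K') := by
  classical
  set R := rK T K with hR
  set R' := rK T K' with hR'
  set E := R ⊓ R' with hE
  obtain ⟨w', hw'Z, hw'W, hw'1, huniq⟩ := v'.exists_w
  obtain ⟨x₀, hx₀, hx₀Z, hx₀c⟩ := v'.exists_x hk' hC
  have hfixk : cj k w' = w' := v.fixes_of_not_commute hk hC v' hk' hne hW hx hy hxy hw'W hw'Z hw'1
  have hcen : ∀ z ∈ zj T, ∀ t ∈ T, z * t = t * z := fun z hz t ht =>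
    mem_centralizer_iff.mp (hC.fix ht) z hz
  have h2 : ∀ {z : G}, z ∈ wOf K' → z * z = 1 := fun hz => v'.wOf_mul_self hz
  have hform : ∀ z ∈ wOf K', ∃ c, (c = 1 ∨ c = w') ∧ (z = c ∨ z = x₀ * c) := by
    intro z hz
    rcases hx₀c z hz with h | h
    · exact ⟨z, huniq z h hz, Or.inl rfl⟩
    · refine ⟨x₀ * z, huniq _ h (mul_mem hx₀ hz), Or.inr ?_⟩
      rw [← mul_assoc, h2 hx₀, one_mul]
  set b := cj k x₀ with hb
  have hbR : b ∈ R := v.cj_mem_rK hk hC (hW hx₀)
  have hx₀b : x₀ * b ≠ b * x₀ := by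
    intro hc
    apply hxy
    obtain ⟨c, hc1, hx'⟩ := hform x hx
    obtain ⟨d, hd1, hy'⟩ := hform y hy
    have hcz : c ∈ zj T := by rcases hc1 with rfl | rfl; exacts [one_mem _, hw'Z]
    have hkd : cj k d = d := by rcases hd1 with rfl | rfl; exacts [map_one _, hfixk]
    have hdz : d ∈ zj T := by rcases hd1 with rfl | rfl; exacts [one_mem _, hw'Z]
    have hcb := hcen c hcz b hbR.1
    have hdb := hcen d hdz b hbR.1
    have hdx := hcen d hdz x₀ (hW hx₀).1
    have hcd := hcen c hcz d ((v.zj_le_rK hk hC.hL hC.hN hC.hZ hC.fix) hdz).1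
    rcases hx' with rfl | rfl <;> rcases hy' with rfl | rfl
    · rw [hkd]; exact hcd
    · rw [map_mul, hkd, ← hb, ← mul_assoc, hcb, mul_assoc, hcd, mul_assoc]
    · rw [hkd, mul_assoc, hcd, ← mul_assoc, ← hdx, mul_assoc]
    · rw [map_mul, hkd, ← hb]
      calc x₀ * c * (b * d) = x₀ * (c * b) * d := by simp only [mul_assoc]
        _ = (x₀ * b) * (c * d) := by rw [hcb]; simp only [mul_assoc]
        _ = (b * x₀) * (d * c) := by rw [hc, hcd]
        _ = b * (x₀ * d) * c := by simp only [mul_assoc]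
        _ = b * d * (x₀ * c) := by rw [← hdx]; simp only [mul_assoc]
  have hbR' : b ∉ R' := fun h => hx₀b (mem_centralizer_iff.mp h.2 x₀ hx₀)
  -- `r` moves an element of `W'` by an element of `{1, w'}`
  have hact : ∀ {r z : G}, r ∈ T → z ∈ wOf K' → cj r z = z ∨ cj r z = z * w' := fun hr hz =>
    v.cj_eq_or hk hC v' hk' hne huniq hr hz
  have hbx : cj b x₀ = x₀ * w' := (hact hbR.1 hx₀).resolve_left fun h =>
    hx₀b (cj_eq_self_iff.mp h).symm
  set d := cj k b with hd
  have hdR : d ∈ R := v.cj_mem_rK hk hC hbR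
  have hdb : cj d b = b * w' := by
    rw [hd, hb]
    have e : cj (cj k (cj k x₀)) (cj k x₀) = cj k (cj (cj k x₀) x₀) := by simp [cj, mul_assoc]
    rw [e, ← hb, hbx, map_mul, hfixk]
  have hd' : d ∉ R' := by
    intro h
    set x₁ := cj (k ^ 3) x₀ with hx₁
    have hx₁W : x₁ ∈ wOf K' :=
      v'.normalizes_wOf hC.hL hC.hN hC.hZ hC.fix (v.cube_mem hk hC).1 hx₀
    have h1 : cj d x₀ = x₀ := cj_eq_self_iff.mpr (mem_centralizer_iff.mp h.2 x₀ hx₀).symm
    have h3 := congrArg (cj k) h1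
    have e1 : cj k (cj d x₀) = cj x₁ b := by
      rw [hx₁, hd, hb]; simp [cj, pow_three, mul_assoc]
    rw [e1, ← hb, cj_eq_self_iff] at h3
    rcases hact (v.cube_mem hk hC).1 hx₀ with h4 | h4
    · rw [← hx₁] at h4
      rw [h4] at h3
      exact hx₀b h3
    · rw [← hx₁] at h4
      rw [h4, mul_assoc, hcen w' hw'Z b hbR.1, ← mul_assoc, ← mul_assoc, mul_left_inj] at h3
      exact hx₀b h3
  have hb2 : b * b = 1 := by rw [hb, ← map_mul, h2 hx₀, map_one]
  have hd2 : d * d = 1 := by rw [hd, ← map_mul, hb2, map_one]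
  have hdbE : d * b ∈ E := ⟨mul_mem hdR hbR,
    v'.mul_mem_rK hk' hC.hL hC.hN hC.hZ hC.fix hdR.1 hbR.1 hd' hbR'⟩
  have hw'F : w' ∈ sqSub E := by
    have e : d * b * (d * b) = w' := by
      have h1 : d * b * d⁻¹ = b * w' := hdb
      rw [inv_eq_of_mul_eq_one_right hd2] at h1
      rw [← mul_assoc, h1, mul_assoc, hcen w' hw'Z b hbR.1, ← mul_assoc, hb2, one_mul]
    exact e ▸ sq_mem_sqSub hdbE
  refine ⟨?_, fun u hu huZ => ?_⟩
  · have hRle : sqSub R ≤ sqSub E := by
      rw [sqSub, closure_le]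
      rintro _ ⟨r, hr, rfl⟩
      by_cases hrR' : r ∈ R'
      · exact sq_mem_sqSub ⟨hr, hrR'⟩
      · set e := b * r with he
        have heE : e ∈ E := ⟨mul_mem hbR hr,
          v'.mul_mem_rK hk' hC.hL hC.hN hC.hZ hC.fix hbR.1 hr.1 hbR' hrR'⟩
        -- `e` moves `b = k x₀` by an element of `{1, w'}`
        have hec : cj e b = b ∨ cj e b = b * w' := by
          have e1 : cj e b = cj k (cj (cj k⁻¹ e) x₀) := by simp [hb, cj, mul_assoc]
          rcases hact (v.cj_inv_mem_rK hk hC heE.1).1 hx₀ with h | h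
          · left; rw [e1, h]
          · right; rw [e1, h, map_mul, hfixk]
        have hre : r = b * e := by rw [he, ← mul_assoc, hb2, one_mul]
        have hrr : r * r = (b * cj e b) * (e * e) := by
          rw [hre, cj_apply]; group
        rw [hrr]
        refine (sqSub E).mul_mem ?_ (sq_mem_sqSub heE)
        rcases hec with h | h
        · rw [h, hb2]; exact one_mem _
        · rw [h, ← mul_assoc, hb2, one_mul]; exact hw'F
    have heq : sqSub E = sqSub R := le_antisymm
      (closure_mono (by rintro _ ⟨e, he, rfl⟩; exact ⟨e, he.1, rfl⟩)) hRle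
    rw [heq]
    exact normalizer_le_normalizer_sqSub R (v.rK_normalizes hk hC).2
  · rcases huniq u huZ hu with rfl | rfl
    · exact one_mem _
    · exact hw'F

theorem le_normalizer_sqSub_inf : T ≤ normalizer (sqSub (rK T K ⊓ rK T K') : Set G) :=
  (le_normalizer_inf (v.rK_normalizes hk hC).1 (v'.rK_normalizes hk' hC).1).trans
    (normalizer_le_normalizer_sqSub _)

/-- In a crossing pair `W'` commutes with its conjugate under `k`. -/
theorem commute_of_crossing (hW : wOf K' ≤ rK T K) (hW' : wOf K ≤ rK T K')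
    (hfixk' : ∀ u ∈ wOf K, u ∈ zj T → cj k' u = u) {x y : G} (hx : x ∈ wOf K') (hy : y ∈ wOf K') :
    x * cj k y = cj k y * x := by
  classical
  by_contra hxy
  obtain ⟨hkn, hmem⟩ := v.sqSub_inf_of_not_commute hk hC v' hk' hne hW hx hy hxy
  obtain ⟨w', hw'Z, hw'W, hw'1, huniq'⟩ := v'.exists_w
  set E := rK T K ⊓ rK T K' with hE
  suffices hk'n : k' ∈ normalizer (sqSub E : Set G) by
    have h := v.no_common hk hC v' hk' hne ((sqSub_le E).trans (inf_le_left.trans inf_le_left))
      (v.le_normalizer_sqSub_inf hk hC v' hk' hne) hkn hk'n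
    have h1 := hmem w' hw'W hw'Z
    rw [h] at h1
    exact hw'1 (mem_bot.mp h1)
  by_cases hc : ∀ a ∈ wOf K, ∀ b ∈ wOf K, a * cj k' b = cj k' b * a
  swap
  · push Not at hc
    obtain ⟨a, ha, b, hb, hab⟩ := hc
    have h := (v'.sqSub_inf_of_not_commute hk' hC v hk hne.symm hW' ha hb hab).1
    rwa [inf_comm (rK T K') (rK T K)] at h
  refine normalizer_le_normalizer_sqSub E ?_
  -- `E = C_{R'}(W)` also centralizes `k' W`
  obtain ⟨w, hwZ, hwW, hw1, huniq⟩ := v.exists_w
  obtain ⟨x₀, hx₀, hx₀Z, hx₀c⟩ := v.exists_x hk hC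
  have hfixw : cj k' w = w := hfixk' w hwW hwZ
  have hx1R' : cj k' x₀ ∈ rK T K' := v'.cj_mem_rK hk' hC (hW' hx₀)
  have hx1E : cj k' x₀ ∈ E := ⟨⟨hx1R'.1, mem_centralizer_iff.mpr fun a ha => hc a ha x₀ hx₀⟩, hx1R'⟩
  have hactW : ∀ {r z : G}, r ∈ T → z ∈ wOf K → cj r z = z ∨ cj r z = z * w := fun hr hz =>
    v'.cj_eq_or hk' hC v hk hne.symm huniq hr hz
  -- `g = k y` is outside `R'`
  set g := cj k y with hg
  have hgR : g ∈ rK T K := v.cj_mem_rK hk hC (hW hy)
  have hgR' : g ∉ rK T K' := fun h => hxy (mem_centralizer_iff.mp h.2 x hx)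
  have hfixkw' : cj k w' = w' :=
    v.fixes_of_not_commute hk hC v' hk' hne hW hx hy hxy hw'W hw'Z hw'1
  set x₁ := cj k' x₀ with hx₁
  -- `x₁` moves `g` inside `{1, w'}`
  have hx1g : cj x₁ g = g ∨ cj x₁ g = g * w' := by
    have e1 : cj x₁ g = cj k (cj (cj k⁻¹ x₁) y) := by simp [hg, cj, mul_assoc]
    rcases v.cj_eq_or hk hC v' hk' hne huniq' (v.cj_inv_mem_rK hk hC hx1E.1).1 hy with h | h
    · left; rw [e1, h]
    · right; rw [e1, h, map_mul, hfixkw']
  have hE1 : E ≤ centralizer ({x₁} : Set G) := by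
    -- `x₁ * g x₁ g` lies in `⟨w'⟩`
    have hg2 : g * g = 1 := by rw [hg, ← map_mul, v'.wOf_mul_self hy, map_one]
    have hgi : g⁻¹ = g := inv_eq_of_mul_eq_one_right hg2
    have hx12 : x₁ * x₁ = 1 := by rw [hx₁, ← map_mul, v.wOf_mul_self hx₀, map_one]
    have hm : x₁ * cj g x₁ ∈ centralizer (T : Set G) := by
      have e : x₁ * cj g x₁ = cj x₁ g * g := by
        simp only [cj_apply, hgi, inv_eq_of_mul_eq_one_right hx12, mul_assoc]
      rw [e]
      rcases hx1g with h | h
      · rw [h, hg2]; exact one_mem _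
      · rw [h, mul_assoc, mem_centralizer_iff.mp (hC.fix hgR.1) w' hw'Z, ← mul_assoc, hg2, one_mul]
        exact le_centralizer_iff.mp hC.fix hw'Z
    -- `g x₁ g` is the image of an element of `W` under `k'⁻¹`
    set q := cj g k' * k' with hq
    have hqR : q ∈ rK T K' := v'.pCoreOf_le_rK hk' hC.hL hC.hN hC.hZ
      (v'.inverts hk' hC.hL hC.hN hC.hZ hC.fix hgR.1 hgR')
    set z := cj (cj k' q) x₀ with hz
    have hgx₀ : cj g x₀ = x₀ := cj_eq_self_iff.mpr (mem_centralizer_iff.mp hgR.2 x₀ hx₀).symm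
    have hzW : z ∈ wOf K :=
      v.normalizes_wOf hC.hL hC.hN hC.hZ hC.fix (v'.cj_mem_rK hk' hC hqR).1 hx₀
    have hgx : cj g x₁ = cj k'⁻¹ z := by
      have e : cj g x₁ = cj q (cj k'⁻¹ (cj g x₀)) := by
        simp [hq, hx₁, cj, mul_assoc]
      rw [e, hgx₀, hz]
      simp [cj, mul_assoc]
    -- move the relation by `k'⁻¹`
    set u := cj (k' ^ 3)⁻¹ z with hu
    have huW : u ∈ wOf K :=
      v.normalizes_wOf hC.hL hC.hN hC.hZ hC.fix (T.inv_mem (v'.cube_mem hk' hC).1) hzW
    have hrel : x₀ * cj k' u ∈ centralizer (rK T K' : Set G) := by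
      have h1 := (v'.cj_mem_centralizer_rK hk' hC (Subgroup.centralizer_le inf_le_left hm)).2
      have e : cj k'⁻¹ (x₁ * cj g x₁) = x₀ * cj k' u := by
        rw [map_mul, hgx, hx₁, cj_inv_cj, hu]
        congr 1
        simp [cj, pow_three, mul_assoc]
      rwa [e] at h1
    intro e he
    rw [mem_centralizer_singleton_iff]
    refine cj_eq_self_iff.mp ?_
    have hex₀ : cj e x₀ = x₀ := cj_eq_self_iff.mpr (mem_centralizer_iff.mp he.1.2 x₀ hx₀).symm
    have h3 : cj e (x₀ * cj k' u) = x₀ * cj k' u :=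
      cj_eq_self_iff.mpr (mem_centralizer_iff.mp hrel e he.2)
    rw [map_mul, hex₀, mul_right_inj] at h3
    -- `u` is congruent to `x₀`
    rcases hx₀c u huW with h | h
    · exfalso
      obtain hu' | hu' := huniq u h huW
      all_goals
        have hku : cj k' u ∈ centralizer (rK T K' : Set G) := by
          rw [hu']
          first
            | (rw [map_one]; exact one_mem _)
            | (rw [hfixw]; exact Subgroup.centralizer_le inf_le_left (le_centralizer_iff.mp hC.fix hwZ))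
        have hx0c := (centralizer (rK T K' : Set G)).mul_mem hrel
          ((centralizer (rK T K' : Set G)).inv_mem hku)
        rw [mul_inv_cancel_right] at hx0c
        obtain ⟨r, hr, hrR⟩ := v'.exists_mem_not_mem hk' hC v hk hne.symm
        refine v.mul_cj_ne_one hk hC.hL hC.hN hC.hZ hC.fix hr.1 hrR hx₀ hx₀Z ?_
        rw [cj_eq_self_iff.mpr (mem_centralizer_iff.mp hx0c r hr), v.wOf_mul_self hx₀]
    · have hkc : cj k' (x₀ * u) = x₀ * u := by
        rcases huniq _ h (mul_mem hx₀ huW) with h' | h'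
        · rw [h', map_one]
        · rw [h', hfixw]
      have e4 : x₁ = (x₀ * u) * (cj k' u)⁻¹ := by
        rw [hx₁, ← hkc, map_mul, mul_inv_cancel_right]
      rw [e4, map_mul, map_inv, h3]
      congr 1
      exact cj_eq_self_iff.mpr (mem_centralizer_iff.mp (hC.fix he.1.1) _ h).symm
  -- so `k'` normalizes `E`
  have hEW : E ≤ centralizer ((wOf K).map (cj k') : Set G) := by
    intro e he
    rw [mem_centralizer_iff]
    rintro _ ⟨z, hz, rfl⟩
    have hx1e := mem_centralizer_singleton_iff.mp (hE1 he)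
    have hcz : ∀ c, c = 1 ∨ c = w → cj k' c * e = e * cj k' c := by
      rintro c (rfl | rfl)
      · simp
      · rw [hfixw]; exact mem_centralizer_iff.mp (hC.fix he.1.1) _ hwZ
    rcases hx₀c z hz with h | h
    · exact hcz z (huniq z h hz)
    · have h4 := hcz _ (huniq _ h (mul_mem hx₀ hz))
      have e5 : z = x₀ * (x₀ * z) := by rw [← mul_assoc, v.wOf_mul_self hx₀, one_mul]
      rw [e5, map_mul, mul_assoc, h4, ← mul_assoc, ← hx1e, mul_assoc]
  have hEle : E ≤ E.map (cj k') := by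
    intro e he
    refine ⟨cj k'⁻¹ e, ⟨⟨(v'.cj_inv_mem_rK hk' hC he.2).1, ?_⟩, v'.cj_inv_mem_rK hk' hC he.2⟩,
      cj_cj_inv k' e⟩
    show cj k'⁻¹ e ∈ centralizer (wOf K : Set G)
    rw [mem_centralizer_iff]
    intro z hz
    apply cj_injective k'
    rw [map_mul, map_mul, cj_cj_inv]
    exact mem_centralizer_iff.mp (hEW he) _ ⟨z, hz, rfl⟩
  rw [← map_cj_eq_self_iff]
  exact (Subgroup.eq_of_le_of_card_ge hEle
    (le_of_eq (Subgroup.card_map_of_injective (cj_injective k')))).symm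

end Vertex

end Cfsg.Agent.LocalEven64
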