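import Mathlib
import Cfsg.Agent.LocalEven64.AmalgamCrossing

/-!
# A crossing pair does not exist

The conjugates of the two four-groups under the group generated by both vertices would all lie in the common
Sylow subgroup.
-/

set_option autoImplicit false
set_option linter.unusedSectionVars false
set_option linter.style.haveILetI false

namespace Cfsg.Agent.LocalEven64

open Subgroup Cfsg
open scoped commutatorElement Pointwise

variable {G : Type*} [Group G] [Finite G]

namespace Vertex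

variable {T K L : Subgroup G} (v : Vertex T K L) {k : G} (hk : CompData K k) (hC : AmCtx G T)
include v hk hC

/-- A central element fixed by `k` is centralized by `K`. -/
theorem mem_cK_of_fixed {z : G} (hz : z ∈ zj T) (hzk : cj k z = z) : z ∈ cK T K := by
  refine ⟨hz, mem_centralizer_iff.mpr fun g hg => cj_eq_self_iff.mp ?_⟩
  obtain ⟨i, hi⟩ := hk.gen g hg
  have hq : cj (g * (k ^ i)⁻¹) z = z := cj_eq_self_iff.mpr
    (mem_centralizer_iff.mp (hC.fix (v.pCoreOf_le_sylow hk hC.hL hC.hN hC.hZ hi)) z hz).symm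
  have hp : ∀ n : ℕ, cj (k ^ n) z = z := by
    intro n
    induction n with
    | zero => simp [cj]
    | succ n ih => rw [pow_succ, cj_mul, hzk, ih]
  rw [show g = g * (k ^ i)⁻¹ * k ^ i by group, cj_mul, hp, hq]

theorem cube_fix {w : G} (hw : w ∈ wOf K) (hw1 : w ≠ 1) :
    cj k (cj k w) = w * cj k w := by
  have hkw := hk.cj_mem v.comp hw
  have h3 := hk.cube_apply v.comp hw
  rcases hk.w_cases v.comp hw hw1 (hk.cj_mem v.comp hkw) with h | h | h | h
  · exact absurd (cj_injective k ((cj_injective k (h.trans (map_one _).symm)).trans (map_one _).symm)) hw1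
  · rw [h] at h3
    exact absurd (hk.fpf w hw h3) hw1
  · exact absurd (hk.fpf w hw (cj_injective k h)) hw1
  · exact h

end Vertex

/-- Products of `n` elements of the two groups `K_b T`. -/
def Word (T : Subgroup G) (KK : Bool → Subgroup G) : ℕ → G → Prop
  | 0, x => x = 1
  | n + 1, x => ∃ b, ∃ p ∈ KK b ⊔ T, ∃ y, Word T KK n y ∧ x = p * y

theorem Word.append {T : Subgroup G} {KK : Bool → Subgroup G} :
    ∀ {n : ℕ} {x : G}, Word T KK n x → ∀ b, ∀ q ∈ KK b ⊔ T, Word T KK (n + 1) (x * q)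
  | 0, x, hx, b, q, hq => ⟨b, q, hq, 1, rfl, by rw [hx, one_mul, mul_one]⟩
  | _ + 1, _, hx, b, q, hq => by
    obtain ⟨a, p, hp, y, hy, rfl⟩ := hx
    exact ⟨a, p, hp, y * q, Word.append hy b q hq, mul_assoc p y q⟩

theorem Word.inv {T : Subgroup G} {KK : Bool → Subgroup G} :
    ∀ {n : ℕ} {x : G}, Word T KK n x → Word T KK n x⁻¹
  | 0, x, hx => by
    show x⁻¹ = 1
    rw [show x = 1 from hx, inv_one]
  | _ + 1, _, hx => by
    obtain ⟨a, p, hp, y, hy, rfl⟩ := hx
    rw [mul_inv_rev]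
    exact Word.append (Word.inv hy) a p⁻¹ (inv_mem hp)

theorem Word.last {T : Subgroup G} {KK : Bool → Subgroup G} :
    ∀ {n : ℕ} {x : G}, Word T KK (n + 1) x → ∃ b, ∃ q ∈ KK b ⊔ T, ∃ y, Word T KK n y ∧ x = y * q
  | 0, x, hx => by
    obtain ⟨a, p, hp, y, hy, rfl⟩ := hx
    exact ⟨a, p, hp, 1, rfl, by rw [show y = 1 from hy, mul_one, one_mul]⟩
  | _ + 1, _, hx => by
    obtain ⟨a, p, hp, y, hy, rfl⟩ := hx
    obtain ⟨b, q, hq, z, hz, rfl⟩ := Word.last hy
    exact ⟨b, q, hq, p * z, ⟨a, p, hp, z, hz, rfl⟩, (mul_assoc p z q).symm⟩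

variable {T : Subgroup G} (hC : AmCtx G T) (KK LL : Bool → Subgroup G) (kk : Bool → G)
  (hv : ∀ b, Vertex T (KK b) (LL b)) (hk : ∀ b, CompData (KK b) (kk b))
  (hneq : ∀ b, LL b ≠ LL (!b)) (hcard : Nat.card (zj T) ≤ 4)
  (hW : ∀ b, wOf (KK (!b)) ≤ rK T (KK b))
  (hfixk : ∀ b, ∀ u ∈ wOf (KK (!b)), u ∈ zj T → cj (kk b) u = u)
include hC hv hk hneq hcard hW hfixk

theorem crossing_mem_cK (b : Bool) {u : G} (hu : u ∈ wOf (KK (!b))) (huZ : u ∈ zj T) :
    u ∈ cK T (KK b) :=
  (hv b).mem_cK_of_fixed (hk b) hC huZ (hfixk b u hu huZ)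

/-- Each of the two maximal 2-local subgroups has a single component. -/
theorem crossing_component_unique (a : Bool) {K'' : Subgroup G} (hK : IsJComponent T K'')
    (hKL : K'' ≤ LL a) : K'' = KK a := by
  classical
  by_contra hne
  have hCL := (hv a).centralizer_pCoreOf hC.hL
  have h1 := (component_normalizes hC.hN hC.hZ hCL (hv a).sylow hK hKL (hv a).sylow (hv a).comp
    (hv a).le).2 hne
  have h2 := (component_normalizes hC.hN hC.hZ hCL (hv a).sylow (hv a).comp (hv a).le (hv a).sylow hK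
    hKL).2 (Ne.symm hne)
  obtain ⟨wa, hwaZ, hwaW, hwa1, -⟩ := (hv a).exists_w
  obtain ⟨wi, hwiZ, hwiW, hwi1, -⟩ := (hv (!a)).exists_w
  have h2' := (omega_center_split (hv a).isPGroup hK).1
  obtain ⟨⟨u, huZ, huW⟩, hu1⟩ : ∃ u : ↥(zj T ⊓ wOf K''), u ≠ 1 := by
    rw [Nat.card_eq_two_iff' (1 : ↥(zj T ⊓ wOf K''))] at h2'
    obtain ⟨u, hu, -⟩ := h2'
    exact ⟨u, hu⟩
  have hu1' : u ≠ 1 := fun h => hu1 (Subtype.ext h)
  -- `C₀(K_a)` has order two
  have huc : u ∈ cK T (KK a) :=
    ⟨huZ, mem_centralizer_iff.mpr fun g hg => (mem_centralizer_iff.mp (h1 hg) u huW).symm⟩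
  have hwic : wi ∈ cK T (KK a) := crossing_mem_cK hC KK LL kk hv hk hneq hcard hW hfixk a hwiW hwiZ
  have huw : u = wi := by
    by_contra hneu
    have hc2 : Nat.card (cK T (KK a)) ≤ 2 := by
      have := (hv a).card_zj (hk a)
      omega
    have h3 : 3 ≤ Nat.card (cK T (KK a)) := by
      haveI := Fintype.ofFinite G
      have hsub : ({1, u, wi} : Finset G) ⊆ Finset.univ.filter (· ∈ cK T (KK a)) := by
        intro z hz
        simp only [Finset.mem_insert, Finset.mem_singleton] at hz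
        rw [Finset.mem_filter]
        rcases hz with rfl | rfl | rfl
        exacts [⟨Finset.mem_univ _, one_mem _⟩, ⟨Finset.mem_univ _, huc⟩, ⟨Finset.mem_univ _, hwic⟩]
      have h := Finset.card_le_card hsub
      rw [Finset.card_insert_of_notMem (by simp [Ne.symm hu1', Ne.symm hwi1]),
        Finset.card_insert_of_notMem (by simpa using hneu), Finset.card_singleton,
        ← Fintype.card_subtype, ← Nat.card_eq_fintype_card] at h
      exact h
    omega
  subst huw
  -- `K''` lies in the other maximal subgroup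
  have hwac : wa ∈ cK T (KK (!a)) := crossing_mem_cK hC KK LL kk hv hk hneq hcard hW hfixk (!a)
    (by rw [Bool.not_not]; exact hwaW) hwaZ
  have hle : K'' ≤ LL (!a) := fun g hg => (hv (!a)).centralizer_le_of_mem_cK hwac hwa1
    (mem_centralizer_singleton_iff.mpr (mem_centralizer_iff.mp (h2 hg) wa hwaW).symm)
  have heq : K'' = KK (!a) := component_eq hC.hN hC.hZ ((hv (!a)).centralizer_pCoreOf hC.hL)
    (hv (!a)).sylow hK hle (hv (!a)).sylow (hv (!a)).comp (hv (!a)).le
    (fun h => hu1' (mem_bot.mp (h ▸ ⟨huW, hwiW⟩)))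
  subst heq
  exact hneq a ((hv (!a)).eq_of_maximal (hv a).maxl
    (sup_le hKL (hv a).thompson_le))

/-- The component with respect to any Sylow subgroup is the same. -/
theorem crossing_component_eq (a : Bool) {T' K'' : Subgroup G} (hT' : IsSylowTwoIn T' (LL a))
    (hK : IsJComponent T' K'') (hKL : K'' ≤ LL a) : K'' = KK a := by
  obtain ⟨l, hl, rfl⟩ := sylowTwoIn_conj (hv a).sylow hT'
  have hlK : l ∈ normalizer (KK a : Set G) :=
    (hv a).le_normalizer_of_unique (hk a) hC.hL hC.hN hC.hZ hC.fix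
      (fun K' h h' => crossing_component_unique hC KK LL kk hv hk hneq hcard hW hfixk a h h') hl
  have h1 := isJComponent_map hK l⁻¹
  rw [map_cj_inv_cancel] at h1
  have h2 := crossing_component_unique hC KK LL kk hv hk hneq hcard hW hfixk a h1 (by
    rintro _ ⟨g, hg, rfl⟩
    exact mul_mem (mul_mem (inv_mem hl) (hKL hg)) (inv_mem (inv_mem hl)))
  rw [← map_cj_cancel_inv l K'', h2, map_cj_eq_self_iff.mpr hlK]

/-- Conjugation matching the central involutions maps `W_j` to a conjugate of `W_i` at distance two. -/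
theorem crossing_transfer {x : G} {i j : Bool} {wi wj : G} (hwiZ : wi ∈ zj T)
    (hwiW : wi ∈ wOf (KK i)) (hwjZ : wj ∈ zj T) (hwjW : wj ∈ wOf (KK j)) (hwj1 : wj ≠ 1)
    (hxw : cj x wj = wi) :
    ∃ m : ℕ, m < 3 ∧ (wOf (KK j)).map (cj x) = (wOf (KK i)).map (cj (kk (!i) ^ m)) := by
  classical
  set a := !i with ha
  set b := !j with hb
  have hwi1 : wi ≠ 1 := fun h => hwj1 (cj_injective x ((hxw.trans h).trans (map_one _).symm))
  have hwic : wi ∈ cK T (KK a) := crossing_mem_cK hC KK LL kk hv hk hneq hcard hW hfixk a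
    (by rw [ha, Bool.not_not]; exact hwiW) hwiZ
  have hwjc : wj ∈ cK T (KK b) := crossing_mem_cK hC KK LL kk hv hk hneq hcard hW hfixk b
    (by rw [hb, Bool.not_not]; exact hwjW) hwjZ
  have hxL : (LL b).map (cj x) = LL a := by
    refine (hv a).eq_of_maximal (isMaximalTwoLocal_map (hv b).maxl x) ?_
    refine ((hv a).le_centralizer_cK hwic).trans ?_
    rw [← hxw, ← conj_centralizer_singleton]
    exact Subgroup.map_mono ((hv b).centralizer_le_of_mem_cK hwjc hwj1)
  have hxK : (KK b).map (cj x) = KK a := by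
    have hs := isSylowTwoIn_map (cj_injective x) (hv b).sylow
    rw [hxL] at hs
    refine crossing_component_eq hC KK LL kk hv hk hneq hcard hW hfixk a hs
      (isJComponent_map (hv b).comp x) ?_
    rw [← hxL]
    exact Subgroup.map_mono (hv b).le
  obtain ⟨wb, hwbZ, hwbW, hwb1, -⟩ := (hv b).exists_w
  obtain ⟨wa, hwaZ, hwaW, hwa1, -⟩ := (hv a).exists_w
  have hxwb : cj x wb ∈ wOf (KK a) := by
    rw [← hxK, ← wOf_map (cj_injective x)]; exact mem_map_of_mem _ hwbW
  have hxwb1 : cj x wb ≠ 1 := fun h => hwb1 (cj_injective x (h.trans (map_one _).symm))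
  obtain ⟨m, hm3, hm⟩ : ∃ m : ℕ, m < 3 ∧ cj x wb = cj (kk a ^ m) wa := by
    rcases (hk a).w_cases (hv a).comp hwaW hwa1 hxwb with h | h | h | h
    · exact absurd h hxwb1
    · exact ⟨0, by norm_num, by rw [h]; simp [cj]⟩
    · exact ⟨1, by norm_num, by rw [h, pow_one]⟩
    · exact ⟨2, by norm_num, by rw [h, sq, cj_mul, (hv a).cube_fix (hk a) hC hwaW hwa1]⟩
  refine ⟨m, hm3, ?_⟩
  set y := (kk a ^ m)⁻¹ * x with hy
  have hyw : cj y wb = wa := by rw [hy, cj_mul, hm, cj_inv_cj]
  have hwac : wa ∈ cK T (KK i) := crossing_mem_cK hC KK LL kk hv hk hneq hcard hW hfixk i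
    hwaW hwaZ
  have hwbc : wb ∈ cK T (KK j) := crossing_mem_cK hC KK LL kk hv hk hneq hcard hW hfixk j
    hwbW hwbZ
  have hyL : (LL j).map (cj y) = LL i := by
    refine (hv i).eq_of_maximal (isMaximalTwoLocal_map (hv j).maxl y) ?_
    refine ((hv i).le_centralizer_cK hwac).trans ?_
    rw [← hyw, ← conj_centralizer_singleton]
    exact Subgroup.map_mono ((hv j).centralizer_le_of_mem_cK hwbc hwb1)
  have hyK : (KK j).map (cj y) = KK i := by
    have hs := isSylowTwoIn_map (cj_injective y) (hv j).sylow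
    rw [hyL] at hs
    refine crossing_component_eq hC KK LL kk hv hk hneq hcard hW hfixk i hs
      (isJComponent_map (hv j).comp y) ?_
    rw [← hyL]
    exact Subgroup.map_mono (hv j).le
  have hx : x = kk a ^ m * y := by rw [hy, mul_inv_cancel_left]
  rw [hx, ← map_cj_map_cj, wOf_map (cj_injective y), hyK]

variable (hcomm : ∀ b, ∀ x ∈ wOf (KK (!b)), ∀ y ∈ wOf (KK (!b)),
  x * cj (kk b) y = cj (kk b) y * x)
include hcomm

theorem crossing_word : ∀ (n : ℕ) (x : G), Word T KK n x → ∀ i j,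
    (wOf (KK j)).map (cj x) ≤ rK T (KK i) := by
  intro n
  induction n with
  | zero =>
    intro x hx i j
    rw [show x = 1 from hx, map_cj_one]
    by_cases hij : j = i
    · subst hij; exact (hv j).wOf_le_rK
    · have : j = !i := by cases i <;> cases j <;> simp_all
      rw [this]; exact hW i
  | succ n ih =>
    have hRn : ∀ b, ∀ p ∈ KK b ⊔ T, ∀ g ∈ rK T (KK b), cj p g ∈ rK T (KK b) := fun b p hp g hg =>
      cj_mem_of_le_normalizer ((sup_le ((hv b).le_normalizer_rK (hk b) hC.hL hC.hN hC.hZ hC.fix)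
        ((hv b).le_normalizer_rK_sylow hC.hL hC.hN hC.hZ hC.fix) : _ ≤ _) hp) hg
    have hWn : ∀ b, ∀ p ∈ KK b ⊔ T, (wOf (KK b)).map (cj p) = wOf (KK b) := fun b p hp =>
      map_cj_eq_self_iff.mpr ((sup_le (component_le_normalizer_wOf _)
        (((hv b).le_normalizer hC.hL hC.hN hC.hZ hC.fix).trans
          (normalizer_le_normalizer_wOf _)) : _ ≤ _) hp)
    have hT : ∀ x, Word T KK (n + 1) x → ∀ j, (wOf (KK j)).map (cj x) ≤ T := by
      rintro _ ⟨a, p, hp, y, hy, rfl⟩ j
      rw [← map_cj_map_cj]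
      rintro _ ⟨g, hg, rfl⟩
      exact (hRn a p hp g (ih y hy a j hg)).1
    intro x hx i j
    obtain ⟨b, q, hq, y', hy', hxq⟩ := Word.last hx
    by_cases hbj : b = j
    · subst hbj
      rw [hxq, ← map_cj_map_cj, hWn b q hq]
      exact ih y' hy' i b
    obtain ⟨wi, hwiZ, hwiW, hwi1, huniqi⟩ := (hv i).exists_w
    obtain ⟨wj, hwjZ, hwjW, hwj1, huniqj⟩ := (hv j).exists_w
    have hTi := hT _ (Word.inv hx)
    rintro _ ⟨g, hg, rfl⟩
    have hgT : cj x g ∈ T := hT x hx j (mem_map_of_mem _ hg)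
    refine ⟨hgT, mem_centralizer_iff.mpr fun u hu => ?_⟩
    by_contra hne
    set u' := cj x⁻¹ u with hu'
    have hu'T : u' ∈ T := hTi i (mem_map_of_mem _ hu)
    have hA := (hv i).mul_cj_mem_zj (hk i) hC.hL hC.hN hC.hZ hC.fix hgT hu
    have hB := (hv j).mul_cj_mem_zj (hk j) hC.hL hC.hN hC.hZ hC.fix hu'T hg
    have hu2 : u⁻¹ = u := inv_eq_of_mul_eq_one_right ((hv i).wOf_mul_self hu)
    have hg2 : (cj x g)⁻¹ = cj x g :=
      inv_eq_of_mul_eq_one_right (by rw [← map_mul, (hv j).wOf_mul_self hg, map_one])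
    have hAB : cj x (g * cj u' g) = (u * cj (cj x g) u)⁻¹ := by
      have e : cj x (g * cj u' g) = cj x g * cj u (cj x g) := by
        rw [map_mul, hu']; simp [cj, mul_assoc]
      rw [e]
      simp only [cj_apply, hu2, inv_eq_of_mul_eq_one_right ((hv j).wOf_mul_self hg), inv_inv,
        mul_inv_rev, mul_assoc]
    have hA1 : u * cj (cj x g) u ≠ 1 := by
      intro h1
      refine hne ?_
      have h2 : cj (cj x g) u = u := by
        rw [eq_inv_of_mul_eq_one_right h1]; exact hu2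
      exact (cj_eq_self_iff.mp h2).symm
    have hAw : u * cj (cj x g) u = wi := (huniqi _ hA.1 hA.2).resolve_left hA1
    have hBw : g * cj u' g = wj := by
      refine (huniqj _ hB.1 hB.2).resolve_left fun h1 => hA1 ?_
      rw [h1, map_one] at hAB
      exact inv_eq_one.mp hAB.symm
    rw [hAw, hBw, inv_eq_of_mul_eq_one_right (zj_mul_self hwiZ)] at hAB
    obtain ⟨m, hm, hmap⟩ := crossing_transfer hC KK LL kk hv hk hneq hcard hW hfixk hwiZ hwiW hwjZ
      hwjW hwj1 hAB
    have hxg : cj x g ∈ (wOf (KK i)).map (cj (kk (!i) ^ m)) := hmap ▸ mem_map_of_mem _ hg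
    obtain ⟨z, hz, hze⟩ := hxg
    refine hne ?_
    rw [← hze]
    have hi' : wOf (KK i) = wOf (KK (!!i)) := by rw [Bool.not_not]
    interval_cases m
    · simp only [pow_zero]
      rw [show cj (1 : G) z = z by simp [cj]]
      exact four_comm (hv i).comp.2.2.2.2.2 hu hz
    · rw [pow_one]
      exact hcomm (!i) u (hi' ▸ hu) z (hi' ▸ hz)
    · have hz3 : cj (kk (!i) ^ 3) z ∈ wOf (KK i) :=
        (hv i).normalizes_wOf hC.hL hC.hN hC.hZ hC.fix ((hv (!i)).cube_mem (hk (!i)) hC).1 hz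
      have h := congrArg (cj (kk (!i))⁻¹) (hcomm (!i) _ (hi' ▸ hz3) u (hi' ▸ hu))
      rw [map_mul, map_mul, cj_inv_cj, show cj (kk (!i))⁻¹ (cj (kk (!i) ^ 3) z) =
        cj (kk (!i) ^ 2) z by rw [← cj_mul, pow_succ' _ 2, inv_mul_cancel_left]] at h
      exact h.symm

theorem crossing_false : False := by
  obtain ⟨w, hwZ, hwW, hw1, -⟩ := (hv false).exists_w
  set N := closure {y : G | ∃ n x, Word T KK n x ∧ ∃ j, ∃ u ∈ wOf (KK j), y = cj x u} with hN
  have hNR : N ≤ rK T (KK false) := by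
    rw [hN, closure_le]
    rintro _ ⟨n, x, hx, j, u, hu, rfl⟩
    exact crossing_word hC KK LL kk hv hk hneq hcard hW hfixk hcomm n x hx false j (mem_map_of_mem _ hu)
  have hnorm : ∀ b, KK b ⊔ T ≤ normalizer (N : Set G) := fun b =>
    FF.le_normalizer_closure fun g hg y hy => by
      obtain ⟨n, x, hx, j, u, hu, rfl⟩ := hy
      exact ⟨n + 1, g * x, ⟨b, g, hg, x, hx, rfl⟩, j, u, hu, (cj_mul g x u).symm⟩
  have h := (hv false).no_common (hk false) hC (hv true) (hk true) (by simpa using hneq false)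
    (hNR.trans inf_le_left) (le_sup_right.trans (hnorm false))
    (hnorm false (mem_sup_left (hk false).mem)) (hnorm true (mem_sup_left (hk true).mem))
  have h1 : w ∈ N := subset_closure ⟨0, 1, rfl, false, w, hwW, by simp [cj]⟩
  rw [h] at h1
  exact hw1 (mem_bot.mp h1)

end Cfsg.Agent.LocalEven64
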