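import Mathlib
import Cfsg.Agent.LocalEven64.AmalgamGraph

/-!
# The amalgam of two vertices with a common Sylow 2-subgroup
-/

set_option autoImplicit false
set_option linter.unusedSectionVars false
set_option linter.style.haveILetI false

namespace Cfsg.Agent.LocalEven64

open Subgroup Cfsg
open scoped commutatorElement Pointwise

variable {G : Type*} [Group G] [Finite G]

namespace Vertex

variable {T K L : Subgroup G} (v : Vertex T K L) {k : G} (hk : CompData K k) (hC : AmCtx G T)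
variable {K' L' : Subgroup G} (v' : Vertex T K' L') {k' : G} (hk' : CompData K' k') (hne : L ≠ L')
include v hk hC v' hk' hne

/-- Neighbouring four-groups do not centralize each other. -/
theorem not_wOf_le_rK (hcard : Nat.card (zj T) ≤ 4) : ¬ wOf K' ≤ rK T K := by
  intro hW
  have hW' : wOf K ≤ rK T K' :=
    le_inf (v.wOf_le_rK.trans inf_le_left) (le_centralizer_iff.mp (hW.trans inf_le_right))
  have hfix : ∀ u ∈ wOf K', u ∈ zj T → cj k u = u := by
    intro u hu huZ
    by_contra h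
    exact v.offender_false hk hC v' hk' hne hW hu huZ (fun h1 => h (by rw [h1, map_one])) h
  have hfix' : ∀ u ∈ wOf K, u ∈ zj T → cj k' u = u := by
    intro u hu huZ
    by_contra h
    exact v'.offender_false hk' hC v hk hne.symm hW' hu huZ (fun h1 => h (by rw [h1, map_one])) h
  let KK : Bool → Subgroup G := fun b => cond b K' K
  let LL : Bool → Subgroup G := fun b => cond b L' L
  let kk : Bool → G := fun b => cond b k' k
  have hv : ∀ b, Vertex T (KK b) (LL b) := fun b => match b with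
    | false => v
    | true => v'
  have hkk : ∀ b, CompData (KK b) (kk b) := fun b => match b with
    | false => hk
    | true => hk'
  refine crossing_false hC KK LL kk hv hkk (fun b => ?_) hcard (fun b => ?_) (fun b => ?_) fun b => ?_
  · cases b
    · exact hne
    · exact hne.symm
  · cases b
    · exact hW
    · exact hW'
  · cases b
    · exact hfix
    · exact hfix'
  · cases b
    · exact fun x hx y hy => v.commute_of_crossing hk hC v' hk' hne hW hW' hfix' hx hy
    · exact fun x hx y hy => v'.commute_of_crossing hk' hC v hk hne.symm hW' hW hfix hx hy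

/-- The shared central involution. -/
theorem zj_inf_wOf_eq (hcard : Nat.card (zj T) ≤ 4) :
    zj T ⊓ wOf K = zj T ⊓ wOf K' := by
  obtain ⟨w, hwZ, hwW, hw1, huniq⟩ := v.exists_w
  obtain ⟨w', hw'Z, hw'W, hw'1, huniq'⟩ := v'.exists_w
  obtain ⟨a, ha, haR⟩ := SetLike.not_le_iff_exists.mp (v.not_wOf_le_rK hk hC v' hk' hne hcard)
  obtain ⟨x, hx, hxZ, -⟩ := v.exists_x hk hC
  have haT : a ∈ T := (v'.wOf_le_rK ha).1
  have hxT : x ∈ T := (v.wOf_le_rK hx).1
  have h1 := v.mul_cj_mem_zj hk hC.hL hC.hN hC.hZ hC.fix haT hx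
  have hne1 := v.mul_cj_ne_one hk hC.hL hC.hN hC.hZ hC.fix haT haR hx hxZ
  have hm : x * cj a x = w := (huniq _ h1.1 h1.2).resolve_left hne1
  have h2 := v'.mul_cj_mem_zj hk' hC.hL hC.hN hC.hZ hC.fix hxT ha
  have hai : a⁻¹ = a := inv_eq_of_mul_eq_one_right (v'.wOf_mul_self ha)
  have hxi : x⁻¹ = x := inv_eq_of_mul_eq_one_right (v.wOf_mul_self hx)
  have e : x * cj a x = (a * cj x a)⁻¹ := by simp only [cj_apply, hai, hxi, mul_inv_rev, mul_assoc]
  have hwW' : w ∈ wOf K' := by rw [← hm, e]; exact inv_mem h2.2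
  have hww : w = w' := (huniq' w hwZ hwW').resolve_left hw1
  subst hww
  refine le_antisymm ?_ ?_
  · rintro z ⟨hz, hzW⟩
    rcases huniq z hz hzW with rfl | rfl
    exacts [one_mem _, ⟨hz, hwW'⟩]
  · rintro z ⟨hz, hzW⟩
    rcases huniq' z hz hzW with rfl | rfl
    exacts [one_mem _, ⟨hz, hwW⟩]

theorem rK_inf_eq_zj (hcard : Nat.card (zj T) ≤ 4) : rK T K ⊓ rK T K' = zj T := by
  obtain ⟨a, ha, haR⟩ := SetLike.not_le_iff_exists.mp (v.not_wOf_le_rK hk hC v' hk' hne hcard)
  obtain ⟨b, hb, hbR⟩ := SetLike.not_le_iff_exists.mp (v'.not_wOf_le_rK hk' hC v hk hne.symm hcard)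
  set E := rK T K ⊓ rK T K' with hE
  -- squares
  have hsq : ∀ {K₁ L₁ K₂ L₂ : Subgroup G} {k₁ k₂ : G}, Vertex T K₁ L₁ → CompData K₁ k₁ →
      Vertex T K₂ L₂ → CompData K₂ k₂ → ∀ x ∈ wOf K₁, x ∉ rK T K₂ →
      sqSub (rK T K₁) = sqSub (rK T K₁ ⊓ rK T K₂) := by
    intro K₁ L₁ K₂ L₂ k₁ k₂ v₁ hk₁ v₂ hk₂ x hx hxR
    refine le_antisymm ?_ (closure_mono (by rintro _ ⟨e, he, rfl⟩; exact ⟨e, he.1, rfl⟩))
    rw [sqSub, closure_le]
    rintro _ ⟨r, hr, rfl⟩
    by_cases hrR : r ∈ rK T K₂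
    · exact sq_mem_sqSub ⟨hr, hrR⟩
    have hxr : r * x = x * r := (mem_centralizer_iff.mp hr.2 x hx).symm
    have heE : x * r ∈ rK T K₁ ⊓ rK T K₂ := ⟨mul_mem (v₁.wOf_le_rK hx) hr,
      v₂.mul_mem_rK hk₂ hC.hL hC.hN hC.hZ hC.fix (v₁.wOf_le_rK hx).1 hr.1 hxR hrR⟩
    have e : x * r * (x * r) = r * r := by
      rw [mul_assoc, ← mul_assoc r x, hxr, mul_assoc x r r, ← mul_assoc x x,
        v₁.wOf_mul_self hx, one_mul]
    exact e ▸ sq_mem_sqSub heE
  have h1 : sqSub (rK T K) = sqSub E := hsq v hk v' hk' b hb hbR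
  have h2 : sqSub (rK T K') = sqSub E := by
    rw [hE, inf_comm]; exact hsq v' hk' v hk a ha haR
  have hbot : sqSub E = ⊥ := v.no_common hk hC v' hk' hne
    ((sqSub_le E).trans (inf_le_left.trans inf_le_left))
    (v.le_normalizer_sqSub_inf hk hC v' hk' hne)
    (h1 ▸ normalizer_le_normalizer_sqSub _ (v.rK_normalizes hk hC).2)
    (h2 ▸ normalizer_le_normalizer_sqSub _ (v'.rK_normalizes hk' hC).2)
  refine le_antisymm (fun e he => ?_) (le_inf (v.zj_le_rK hk hC.hL hC.hN hC.hZ hC.fix)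
    (v'.zj_le_rK hk' hC.hL hC.hN hC.hZ hC.fix))
  have he2 : e * e = 1 := mem_bot.mp (hbot ▸ sq_mem_sqSub he)
  have hE2 : ∀ {f : G}, f ∈ E → f * f = 1 := fun hf => mem_bot.mp (hbot ▸ sq_mem_sqSub hf)
  refine mem_zj he.1.1 (mem_centralizer_iff.mpr fun t ht => ?_) he2
  have htT := Thompson.thompsonSubgroupOf_le T ht
  -- `t` is a product of `E` and the two four-groups
  have hea : a * e = e * a := mem_centralizer_iff.mp he.2.2 a ha
  have heb : b * e = e * b := mem_centralizer_iff.mp he.1.2 b hb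
  have hR : ∀ r ∈ rK T K, r * e = e * r := by
    intro r hr
    by_cases hrR : r ∈ rK T K'
    · exact four_comm (W := E) (fun f hf => hE2 hf) ⟨hr, hrR⟩ he
    · have hf : b * r ∈ E := ⟨mul_mem (v.wOf_le_rK hb) hr,
        v'.mul_mem_rK hk' hC.hL hC.hN hC.hZ hC.fix (v.wOf_le_rK hb).1 hr.1 hbR hrR⟩
      have h3 : b * r * e = e * (b * r) := four_comm (W := E) (fun f hf => hE2 hf) hf he
      calc r * e = b * (b * r * e) := by
            rw [← mul_assoc, ← mul_assoc, v.wOf_mul_self hb, one_mul]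
        _ = b * (e * (b * r)) := by rw [h3]
        _ = (b * e) * (b * r) := by rw [mul_assoc]
        _ = e * r := by rw [heb, mul_assoc, ← mul_assoc b b, v.wOf_mul_self hb, one_mul]
  by_cases htR : t ∈ rK T K
  · exact hR t htR
  · have h4 := hR _ (v.mul_mem_rK hk hC.hL hC.hN hC.hZ hC.fix (v'.wOf_le_rK ha).1 htT haR htR)
    calc t * e = a * (a * t * e) := by
          rw [← mul_assoc, ← mul_assoc, v'.wOf_mul_self ha, one_mul]
      _ = a * (e * (a * t)) := by rw [h4]
      _ = (a * e) * (a * t) := by rw [mul_assoc]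
      _ = e * t := by rw [hea, mul_assoc, ← mul_assoc a a, v'.wOf_mul_self ha, one_mul]

/-- `C_T(W) = W Ω₁(Z(J(T)))`, an elementary abelian group. -/
theorem rK_eq (hcard : Nat.card (zj T) ≤ 4) :
    rK T K = wOf K ⊔ zj T ∧ IsElementaryAbelian 2 (rK T K) := by
  obtain ⟨b, hb, hbR⟩ := SetLike.not_le_iff_exists.mp (v'.not_wOf_le_rK hk' hC v hk hne.symm hcard)
  have heq : rK T K = wOf K ⊔ zj T := by
    refine le_antisymm (fun r hr => ?_) (sup_le v.wOf_le_rK (v.zj_le_rK hk hC.hL hC.hN hC.hZ hC.fix))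
    by_cases hrR : r ∈ rK T K'
    · exact mem_sup_right (v.rK_inf_eq_zj hk hC v' hk' hne hcard ▸ (⟨hr, hrR⟩ : r ∈ rK T K ⊓ rK T K'))
    · have hf : b * r ∈ rK T K ⊓ rK T K' := ⟨mul_mem (v.wOf_le_rK hb) hr,
        v'.mul_mem_rK hk' hC.hL hC.hN hC.hZ hC.fix (v.wOf_le_rK hb).1 hr.1 hbR hrR⟩
      rw [v.rK_inf_eq_zj hk hC v' hk' hne hcard] at hf
      have := (wOf K ⊔ zj T).mul_mem (mem_sup_left hb) (mem_sup_right hf)
      rwa [← mul_assoc, v.wOf_mul_self hb, one_mul] at this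
  refine ⟨heq, heq ▸ Thompson.isElementaryAbelian_sup ?_ (isElementaryAbelian_omegaCenterOf _) ?_⟩
  · exact Thompson.isElementaryAbelian_of_le (isElementaryAbelian_omegaCenterOf _)
      (wOf_le_omegaCenterOf K)
  · exact (v.wOf_le_rK.trans inf_le_left).trans hC.fix

end Vertex

end Cfsg.Agent.LocalEven64
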