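import Mathlib
import Cfsg.Agent.LocalEven64.AmalgamMain

/-!
# Pairs of vertices

Two vertices with the same Sylow subgroup force `|Ω₁(Z(J(T)))| ≤ 4` and make `T` centralize it.
-/

set_option autoImplicit false
set_option linter.unusedSectionVars false
set_option linter.style.haveILetI false

namespace Cfsg.Agent.LocalEven64

open Subgroup Cfsg
open scoped commutatorElement Pointwise

variable {G : Type*} [Group G] [Finite G]

theorem centralizer_singleton_eq_map {x y t : G} (h : cj t x = y) :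
    centralizer ({y} : Set G) = (centralizer ({x} : Set G)).map (cj t) := by
  rw [conj_centralizer_singleton, h]

theorem two_eq_of_card_two {H : Subgroup G} (h : Nat.card H = 2) {a : G} (ha : a ∈ H) (ha1 : a ≠ 1)
    {x : G} (hx : x ∈ H) : x = 1 ∨ x = a := by
  rw [Nat.card_eq_two_iff' (1 : ↥H)] at h
  obtain ⟨u, -, huniq⟩ := h
  by_cases hx1 : x = 1
  · exact Or.inl hx1
  · exact Or.inr (congrArg Subtype.val ((huniq ⟨x, hx⟩ fun e => hx1 (congrArg Subtype.val e)).trans
      (huniq ⟨a, ha⟩ fun e => ha1 (congrArg Subtype.val e)).symm))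

/-- A maximal 2-local subgroup is its own normalizer. -/
theorem normalizer_eq_of_maximal (hL : IsCharacteristicTwoType G) {L : Subgroup G}
    (hm : IsMaximalTwoLocal L) : normalizer (L : Set G) = L := by
  refine le_antisymm ?_ le_normalizer
  obtain ⟨X, hX, hX1, hLX⟩ := id hm.1
  have hXO : X ≤ pCoreOf 2 L := by
    refine le_pCoreOf ?_ ?_ hX
    · rw [hLX]; exact Subgroup.le_normalizer
    · rw [hLX]
  have hne : pCoreOf 2 L ≠ ⊥ := fun h => hX1 (le_bot_iff.mp (h ▸ hXO))
  have h2 : IsTwoLocal (normalizer (pCoreOf 2 L : Set G)) := ⟨_, isPGroup_pCoreOf L, hne, rfl⟩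
  intro g hg
  rw [← hm.2 _ h2 (le_normalizer_pCoreOf L)]
  rw [← map_cj_eq_self_iff, pCoreOf_map (cj_injective g), map_cj_eq_self_iff.mpr hg]

namespace Vertex

section One

variable {T K L : Subgroup G} (v : Vertex T K L)
include v

theorem omega_le_zj (hL : IsCharacteristicTwoType G) (S : Sylow 2 G) (hTS : T ≤ (S : Subgroup G)) :
    omegaCenterOf (S : Subgroup G) ≤ zj T := fun x hx => by
  have hxc := omegaCenterOf_le_centralizer _ hx
  have hxT : x ∈ T := pCoreOf_le_sylowTwoIn v.sylow (v.centralizer_pCoreOf hL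
    (Subgroup.centralizer_le ((pCoreOf_le_sylowTwoIn v.sylow).trans hTS) hxc))
  exact mem_zj hxT (Subgroup.centralizer_le
    ((Thompson.thompsonSubgroupOf_le T).trans hTS) hxc) (mul_self_of_mem_omegaCenterOf hx)

/-- `Ω₁(Z(S))` is not centralized by a component of a subgroup of `S`. -/
theorem not_omega_le_cK (hZ : ZHyp G) (S : Sylow 2 G) {T₀ : Subgroup G}
    (hTS : T₀ ≤ (S : Subgroup G))
    (hJ : thompsonSubgroupOf 2 T = thompsonSubgroupOf 2 T₀) (hcardT : Nat.card T = Nat.card T₀)
    (hsub : omegaCenterOf (S : Subgroup G) ≤ cK T K) : False := by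
  have hKS : K ≤ normalizer ((S : Subgroup G) : Set G) := fun g hg => hZ S
    (mem_centralizer_iff.mpr fun x hx => (mem_centralizer_iff.mp (hsub hx).2 g hg).symm)
  by_cases hSL : (S : Subgroup G) ≤ T₀
  · have hTS' : T₀ = (S : Subgroup G) := le_antisymm hTS hSL
    have hKJ : K ≤ thompsonSubgroupOf 2 T := by
      refine v.comp.2.1.symm.le.trans ?_
      rw [commutator_comm]
      refine Thompson.commutator_le_of_le_normalizer (hKS.trans ?_)
      rw [← hTS', hJ]
      exact Thompson.normalizer_le_normalizer_thompsonSubgroupOf T₀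
    exact not_isPGroup_component v.comp ((isPGroup_thompsonSubgroupOf v.isPGroup).to_le hKJ)
  · have hS1 : (S : Subgroup G) ≠ ⊥ := fun h0 => hSL (by rw [h0]; exact bot_le)
    have hN2 : IsTwoLocal (normalizer ((S : Subgroup G) : Set G)) := ⟨_, S.isPGroup', hS1, rfl⟩
    have hle2 := v.hover _ hN2 (sup_le hKS (by
      rw [hJ]; exact ((Thompson.thompsonSubgroupOf_le T₀).trans hTS).trans Subgroup.le_normalizer))
    obtain ⟨S', hS', hSS'⟩ := exists_isSylowTwoIn_ge S.isPGroup' (Subgroup.le_normalizer.trans hle2)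
    have h1 := card_le_of_le hSS'
    rw [sylowTwoIn_card_eq hS' v.sylow, hcardT] at h1
    exact hSL (Subgroup.eq_of_le_of_card_ge hTS h1).ge

end One

variable {T K L : Subgroup G} (v : Vertex T K L) {k : G} (hk : CompData K k)
include v hk

theorem card_cK_pos_bound {n : ℕ} (hn : Nat.card (zj T) = n) : Nat.card (cK T K) * 2 = n := by
  rw [← hn, v.card_zj hk, mul_comm]

theorem cK_eq_pair (hcard : Nat.card (zj T) = 4) : ∃ c, c ∈ cK T K ∧ c ≠ 1 ∧
    ∀ x ∈ cK T K, x = 1 ∨ x = c := by
  have h := v.card_cK_pos_bound hk hcard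
  have h2 : Nat.card (cK T K) = 2 := by omega
  obtain ⟨c, hc, hc1⟩ : ∃ c ∈ cK T K, c ≠ 1 := by
    rcases (cK T K).bot_or_exists_ne_one with h' | h'
    · rw [h', Subgroup.card_bot] at h2
      exact absurd h2 (by norm_num)
    · exact h'
  exact ⟨c, hc, hc1, fun x hx => two_eq_of_card_two h2 hc hc1 hx⟩

variable {T' K' L' : Subgroup G} (v' : Vertex T' K' L') {k' : G} (hk' : CompData K' k')
  (hJ : thompsonSubgroupOf 2 T' = thompsonSubgroupOf 2 T) (hne : L ≠ L')
include v' hk' hJ hne

omit hk hk' in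
theorem zj_eq : zj T' = zj T := by rw [zj, zj, hJ]

omit hk hk' in
theorem cK_inf : cK T K ⊓ cK T' K' = ⊥ := by
  rw [eq_bot_iff]
  rintro c ⟨hc, hc'⟩
  by_contra hc1
  exact hne (v'.eq_of_maximal v.maxl ((v'.le_centralizer_cK hc').trans
    (v.centralizer_le_of_mem_cK hc fun h => hc1 (mem_bot.mpr h))))

theorem card_zj_le : Nat.card (zj T) ≤ 4 := by
  have hle : cK T K ⊔ cK T' K' ≤ zj T := sup_le inf_le_left
    ((inf_le_left : cK T' K' ≤ zj T').trans (v.zj_eq v' hJ hne).le)
  have hn : cK T' K' ≤ normalizer (cK T K : Set G) := fun x hx => centralizer_le_normalizer _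
    (mem_centralizer_iff.mpr fun y hy => Thompson.elemAb_comm
      (isElementaryAbelian_omegaCenterOf _).1 hy.1
      ((v.zj_eq v' hJ hne).le hx.1))
  have h := Thompson.card_sup_mul_card_inf hn
  rw [v.cK_inf v' hJ hne, Subgroup.card_bot, mul_one] at h
  have h1 := card_le_of_le hle
  rw [h] at h1
  have h2 := v.card_zj hk
  have h3 := v'.card_zj hk'
  rw [v.zj_eq v' hJ hne] at h3
  have hpos : 0 < Nat.card (zj T) := Nat.card_pos
  nlinarith

/-- `T` fixes `Ω₁(Z(J(T)))`. -/
theorem fix_zj (hL : IsCharacteristicTwoType G) (hZ : ZHyp G) (S : Sylow 2 G)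
    (hTS : T ≤ (S : Subgroup G)) (hcardT : Nat.card T' = Nat.card T) :
    T ≤ centralizer (zj T : Set G) := by
  classical
  intro t ht
  rw [mem_centralizer_iff]
  by_contra hcon
  push Not at hcon
  obtain ⟨z₀, hz₀, hz₀t⟩ := hcon
  have hcard := v.card_zj_le hk v' hk' hJ hne
  have h2 := v.card_zj hk
  have hzT : T ≤ normalizer (zj T : Set G) :=
    Subgroup.le_normalizer.trans ((Thompson.normalizer_le_normalizer_thompsonSubgroupOf T).trans
      (normalizer_le_normalizer_omegaCenterOf _))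
  have hzjt : ∀ {x : G}, x ∈ zj T → cj t x ∈ zj T := fun hx => cj_mem_of_le_normalizer (hzT ht) hx
  have hz₀1 : z₀ ≠ 1 := fun h => hz₀t (by rw [h, one_mul, mul_one])
  have hmove : cj t z₀ ≠ z₀ := fun h => hz₀t (cj_eq_self_iff.mp h).symm
  have hne1 : ∀ {x : G}, x ≠ 1 → cj t x ≠ 1 := fun hx h =>
    hx (cj_injective t (h.trans (map_one _).symm))
  have h4 : Nat.card (zj T) = 4 := by
    by_contra h4
    have hpos := Nat.card_pos (α := cK T K)
    rcases two_eq_of_card_two (by omega) hz₀ hz₀1 (hzjt hz₀) with h | h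
    · exact hne1 hz₀1 h
    · exact hmove h
  obtain ⟨c, hc, hc1, hcu⟩ := v.cK_eq_pair hk h4
  obtain ⟨c', hc', hc'1, hcu'⟩ := v'.cK_eq_pair hk' (by rw [v.zj_eq v' hJ hne, h4])
  have hc'Z : c' ∈ zj T := (v.zj_eq v' hJ hne).le hc'.1
  have hcc : c ≠ c' := by
    intro h
    have hm : c ∈ cK T K ⊓ cK T' K' := ⟨hc, h ▸ hc'⟩
    rw [v.cK_inf v' hJ hne] at hm
    exact hc1 (mem_bot.mp hm)
  have hall : ∀ x ∈ zj T, x = 1 ∨ x = c ∨ x = c' ∨ x = c * c' := fun x hx =>
    four_mem h4 (fun w hw => zj_mul_self hw) hc.1 hc'Z hc1 hc'1 hcc hx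
  -- `t` cannot map `c` to `c'`
  have htc' : cj t c ≠ c' := by
    intro h
    refine hne (v'.eq_of_maximal v.maxl ((v'.le_centralizer_cK hc').trans ?_))
    rw [centralizer_singleton_eq_map h]
    refine (Subgroup.map_mono (v.centralizer_le_of_mem_cK hc hc1)).trans (le_of_eq ?_)
    exact map_cj_eq_self_of_mem (v.sylow.1 ht)
  -- two fixed involutions would fix everything
  have hfix2 : cj t c = c → cj t c' = c' → False := fun h h' => by
    refine hmove ?_
    rcases hall z₀ hz₀ with rfl | rfl | rfl | rfl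
    exacts [map_one _, h, h', by rw [map_mul, h, h']]
  have hZle := v.omega_le_zj hL S hTS
  have hZfix : ∀ {x : G}, x ∈ omegaCenterOf (S : Subgroup G) → cj t x = x := fun hx =>
    cj_eq_self_iff.mpr (mem_centralizer_iff.mp (omegaCenterOf_le_centralizer _ hx) t (hTS ht))
  have hcomm : c * c' = c' * c :=
    Thompson.elemAb_comm (isElementaryAbelian_omegaCenterOf _).1 hc.1 hc'Z
  by_cases hcZ : cj t c = c
  · refine v.not_omega_le_cK hZ S hTS rfl rfl fun x hx => ?_
    rcases hall x (hZle hx) with rfl | rfl | rfl | rfl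
    · exact one_mem _
    · exact hc
    · exact (hfix2 hcZ (hZfix hx)).elim
    · have := hZfix hx
      rw [map_mul, hcZ, mul_right_inj] at this
      exact (hfix2 hcZ this).elim
  have htce : cj t c = c * c' := by
    rcases hall _ (hzjt hc.1) with h | h | h | h
    · exact absurd h (hne1 hc1)
    · exact absurd h hcZ
    · exact absurd h htc'
    · exact h
  refine v'.not_omega_le_cK hZ S hTS hJ hcardT fun x hx => ?_
  rcases hall x (hZle hx) with rfl | rfl | rfl | rfl
  · exact one_mem _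
  · exact absurd (hZfix hx) hcZ
  · exact hc'
  · exact absurd ((cj_injective t (htce.trans (hZfix hx).symm))) fun h => hc'1 (left_eq_mul.mp h)

end Vertex

end Cfsg.Agent.LocalEven64
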