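import Mathlib
import Cfsg.Agent.LocalEven64.VertexPair

/-!
# A component beside an element whose centralizer is small
-/

set_option autoImplicit false
set_option linter.unusedSectionVars false
set_option linter.style.haveILetI false

namespace Cfsg.Agent.LocalEven64

open Subgroup Cfsg
open scoped commutatorElement Pointwise

variable {G : Type*} [Group G] [Finite G]

namespace Vertex

variable {T K L : Subgroup G} (v : Vertex T K L) {k : G} (hk : CompData K k)
include v hk

theorem zj_split {e : G} (he : e ∈ zj T) {w : G} (hwZ : w ∈ zj T) (hwW : w ∈ wOf K) (hw1 : w ≠ 1) :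
    e ∈ cK T K ∨ e * w ∈ cK T K := by
  have hwc : w ∉ cK T K := fun h =>
    hw1 (hk.fpf w hwW (cj_eq_self_iff.mpr (mem_centralizer_iff.mp h.2 k hk.mem)))
  have h2 := v.card_zj hk
  have h3 := two_mul_card_le_of_lt (le_sup_left : cK T K ≤ cK T K ⊔ zpowers w)
    (mem_sup_right (mem_zpowers w)) hwc
  have heq : cK T K ⊔ zpowers w = zj T :=
    Subgroup.eq_of_le_of_card_ge (sup_le inf_le_left (zpowers_le.mpr hwZ)) (by omega)
  rw [← heq] at he
  exact mem_sup_zpowers (fun y hy => Thompson.elemAb_comm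
    (isElementaryAbelian_omegaCenterOf _).1 hwZ hy.1) (zj_mul_self hwZ) he

/-- The kick: no element of `C_T(W)` whose centralizer lies in a subgroup containing a Sylow subgroup larger
than `T`, the components being outside that subgroup, is congruent to an element of `W` modulo `Z(J(T))`. -/
theorem kick_false (hC : AmCtx G T) {K' L' : Subgroup G} (v' : Vertex T K' L') {k' : G}
    (hk' : CompData K' k') (hne : L ≠ L') (hcard : Nat.card (zj T) ≤ 4)
    {Lz : Subgroup G} (hLz : IsMaximalTwoLocal Lz) {P : Subgroup G} (hP : IsSylowTwoIn P Lz)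
    (hlt : Nat.card T < Nat.card P) (hTL : T ≤ Lz) (hKL : ¬ K ≤ Lz)
    {V : Subgroup G} (hV : ∀ x ∈ V, x ≠ 1 → centralizer ({x} : Set G) ≤ Lz)
    {w : G} (hwZ : w ∈ zj T) (hwW : w ∈ wOf K) (hwW' : w ∈ wOf K') (hw1 : w ≠ 1) (hwV : w ∈ V)
    (hk_mem : ∀ {y : G}, cj y w ∈ V → y ∈ Lz)
    {u : G} (huV : u ∈ V) (hu1 : u ≠ 1) (huw : u ≠ w) (hu : u ∈ rK T K) : False := by
  classical
  obtain ⟨hR, -⟩ := v.rK_eq hk hC v' hk' hne hcard
  rw [hR] at hu
  have hu' : u ∈ (wOf K : Set G) * (zj T : Set G) := by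
    rw [← Subgroup.coe_mul_of_right_le_normalizer_left (wOf K) (zj T)
      (fun y hy => centralizer_le_normalizer _ (mem_centralizer_iff.mpr fun a ha =>
        mem_centralizer_iff.mp (omegaCenterOf_le_centralizer _ hy) a (v.wOf_le_thompson ha)))]
    exact hu
  obtain ⟨a, ha, e, he, hae⟩ := hu'
  have hae : a * e = u := hae
  obtain ⟨b, c, hb, hc, hubc⟩ : ∃ b c, b ∈ wOf K ∧ c ∈ cK T K ∧ u = b * c := by
    rcases v.zj_split hk he hwZ hwW hw1 with h | h
    · exact ⟨a, e, ha, h, hae.symm⟩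
    · refine ⟨a * w, e * w, mul_mem ha hwW, h, ?_⟩
      rw [← hae, mul_assoc a w, ← mul_assoc w e,
        Thompson.elemAb_comm (isElementaryAbelian_omegaCenterOf _).1 hwZ he, mul_assoc e,
        zj_mul_self hwZ, mul_one]
  have hcK : ∀ y ∈ K, cj y c = c := fun y hy =>
    cj_eq_self_iff.mpr (mem_centralizer_iff.mp hc.2 y hy)
  have hkL : k ∈ Lz → False := fun hkL => hKL fun y hy => by
    obtain ⟨i, hi⟩ := hk.gen y hy
    have := mul_mem (hTL (v.pCoreOf_le_sylow hk hC.hL hC.hN hC.hZ hi)) (Lz.pow_mem hkL i)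
    rwa [inv_mul_cancel_right] at this
  by_cases hc1 : c = 1
  · -- then `k w` is in `V`
    rw [hc1, mul_one] at hubc
    subst hubc
    refine hkL (hk_mem ?_)
    rcases four_mem v.wOf_card (fun z hz => v.wOf_mul_self hz) hwW hb hw1 hu1 (Ne.symm huw)
      (hk.cj_mem v.comp hwW) with h | h | h | h
    · rw [h]; exact one_mem _
    · rw [h]; exact hwV
    · rw [h]; exact huV
    · rw [h]; exact mul_mem hwV huV
  by_cases hb1 : b = 1
  · rw [hb1, one_mul] at hubc
    exact hkL (hV u huV hu1 (mem_centralizer_singleton_iff.mpr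
      (hubc ▸ mem_centralizer_iff.mp hc.2 k hk.mem)))
  obtain ⟨m, hm⟩ : ∃ m : ℕ, b = cj (k ^ m) w := by
    rcases hk.w_cases v.comp hwW hw1 hb with h | h | h | h
    · exact absurd h hb1
    · exact ⟨0, by rw [h]; simp [cj]⟩
    · exact ⟨1, by rw [h, pow_one]⟩
    · exact ⟨2, by rw [h, sq, cj_mul, v.cube_fix hk hC hwW hw1]⟩
  -- the other central involution
  have hcw : c * w ∈ cK T K' := by
    have hcn : c ∉ cK T K' := fun h => hc1 (by
      have hm' : c ∈ cK T K ⊓ cK T K' := ⟨hc, h⟩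
      rwa [v.cK_inf v' rfl hne, mem_bot] at hm')
    exact (v'.zj_split hk' hc.1 hwZ hwW' hw1).resolve_left hcn
  have hcw1 : c * w ≠ 1 := fun h => by
    have hcwW : c ∈ cK T K ⊓ wOf K := ⟨hc, by
      rw [eq_inv_of_mul_eq_one_left h]; exact (wOf K).inv_mem hwW⟩
    rw [v.inf_wOf_eq_bot hk] at hcwW
    exact hc1 (mem_bot.mp hcwW)
  have hu3 : cj (k ^ m) (c * w) = u := by
    rw [map_mul, ← hm, hcK _ (K.pow_mem hk.mem m), hubc]
    exact (mem_centralizer_iff.mp (hC.fix (v.wOf_le_rK hb).1) _ hc.1)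
  have hle := (v'.map (k ^ m))
  have h1 : K'.map (cj (k ^ m)) ⊔ thompsonSubgroupOf 2 (T.map (cj (k ^ m))) ≤ Lz := by
    refine le_trans ?_ (hV u huV hu1)
    rw [← hu3, ← conj_centralizer_singleton, ← Thompson.thompsonSubgroupOf_conj, ← Subgroup.map_sup]
    exact Subgroup.map_mono (v'.le_centralizer_cK hcw)
  have heq := hle.eq_of_maximal hLz h1
  have hs := hle.sylow
  rw [← heq] at hs
  have := sylowTwoIn_card_eq hs hP
  rw [Subgroup.card_map_of_injective (cj_injective (k ^ m))] at this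
  omega

end Vertex

end Cfsg.Agent.LocalEven64
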