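import Mathlib
import Cfsg.Agent.LocalEven64.StraddleKick
import Cfsg.Agent.S1225

/-!
# A maximal straddling subgroup is the Sylow subgroup of two vertices
-/

set_option autoImplicit false
set_option linter.unusedSectionVars false
set_option linter.style.haveILetI false

namespace Cfsg.Agent.LocalEven64

open Subgroup Cfsg
open scoped commutatorElement Pointwise

variable {G : Type*} [Group G] [Finite G]

/-- The conjugate Sylow subgroup. -/
theorem exists_sylow_map (S : Sylow 2 G) (g : G) :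
    ∃ S' : Sylow 2 G, (S' : Subgroup G) = (S : Subgroup G).map (cj g) :=
  ⟨(MulAut.conj g : MulAut G) • S, rfl⟩

theorem thompson_map_normalizer {T : Subgroup G} {g : G}
    (hg : g ∈ normalizer (thompsonSubgroupOf 2 T : Set G)) :
    thompsonSubgroupOf 2 (T.map (cj g)) = thompsonSubgroupOf 2 T := by
  rw [← Thompson.thompsonSubgroupOf_conj]
  exact map_cj_eq_self_iff.mpr hg

/-- The vertex given by a component outside `M`. -/
theorem exists_vertex (S : Sylow 2 G) {M : Subgroup G}
    (hMJ : normalizer (thompsonSubgroupOf 2 (S : Subgroup G) : Set G) ≤ M)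
    (hL : IsCharacteristicTwoType G) (hN : NHyp G) (hZ : ZHyp G) {T : Subgroup G}
    (hT : T ∈ maxStraddlingTwoSubgroups M) {K : Subgroup G} (hK : K ∈ jComponentsOutside M T) :
    ∃ L, Vertex T K L ∧ T ≤ L := by
  obtain ⟨hmax, hKT, hover, hTs⟩ := unique_maximal S hMJ hL hN hZ hT hK
  exact ⟨_, ⟨hK.1.1, hmax, hTs, le_sup_left.trans hKT, hover⟩, le_sup_right.trans hKT⟩

theorem sylow_mem_maxStraddling (S : Sylow 2 G) {L : Subgroup G} (hSL : (S : Subgroup G) ≤ L)
    (hstr : (S : Subgroup G) ∈ straddlingTwoSubgroups L) :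
    (S : Subgroup G) ∈ maxStraddlingTwoSubgroups L := by
  refine ⟨hstr, fun T hT => ?_⟩
  obtain ⟨T', hT', hTT'⟩ := exists_isSylowTwoIn_ge hT.1 hT.2.2.1
  obtain ⟨n, -, rfl⟩ := sylowTwoIn_conj (isSylowTwoIn_sylow S hSL) hT'
  have hcard := Subgroup.card_map_of_injective (K := (S : Subgroup G)) (cj_injective n)
  have hJle : thompsonSubgroupOf 2 T ≤ (S : Subgroup G).map (cj n) :=
    (Thompson.thompsonSubgroupOf_le T).trans hTT'
  refine ⟨(maxElemAbelianOrder_le_of_le hJle).trans (maxElemAbelianOrder_map (G' := G) _ n).le,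
    fun he => ⟨?_, fun _ => ?_⟩⟩
  · have h1 := thompson_le_of_order_eq hJle (he.trans (maxElemAbelianOrder_map (G' := G) _ n).symm)
    exact (card_le_of_le h1).trans (card_thompson_map _ n).le
  · exact hcard ▸ card_le_of_le hTT'

/-- Straddling is invariant under conjugation by elements of `L`. -/
theorem maxStraddling_map {L T : Subgroup G} (hT : T ∈ maxStraddlingTwoSubgroups L) {g : G}
    (hg : g ∈ L) : T.map (cj g) ∈ maxStraddlingTwoSubgroups L := by
  obtain ⟨⟨hT2, hT1, hTL, L', hL', hTL', hL'L⟩, hmax⟩ := hT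
  have hgL : L.map (cj g) = L := map_cj_eq_self_of_mem hg
  refine ⟨⟨hT2.map _, fun h => hT1 ((Subgroup.map_eq_bot_iff_of_injective _ (cj_injective g)).mp h),
    hgL ▸ Subgroup.map_mono hTL, L'.map (cj g), isTwoLocal_map hL' g, Subgroup.map_mono hTL',
    fun h => hL'L ?_⟩, fun T' hT' => ?_⟩
  · have := Subgroup.map_mono (f := cj g⁻¹) h
    rwa [map_cj_inv_cancel, map_cj_eq_self_of_mem (inv_mem hg)] at this
  · rw [maxElemAbelianOrder_map (G' := G), card_thompson_map,
      Subgroup.card_map_of_injective (cj_injective g)]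
    exact hmax T' hT'

theorem maxStraddling_nonempty {L : Subgroup G} (h : (straddlingTwoSubgroups L).Nonempty) :
    (maxStraddlingTwoSubgroups L).Nonempty := by
  classical
  set key : Subgroup G → ℕ := fun T => (maxElemAbelianOrder T * (Nat.card G + 1) +
    Nat.card (thompsonSubgroupOf 2 T)) * (Nat.card G + 1) + Nat.card T with hkey
  obtain ⟨T₀, hT₀, hmax⟩ := Set.exists_max_image (straddlingTwoSubgroups L) key
    (Set.toFinite _) h
  refine ⟨T₀, hT₀, fun T hT => ?_⟩
  have hle := hmax T hT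
  simp only [hkey] at hle
  have hb : ∀ H : Subgroup G, Nat.card H < Nat.card G + 1 :=
    fun H => Nat.lt_succ_of_le (Subgroup.card_le_card_group H)
  have hJ0 := hb (thompsonSubgroupOf 2 T₀)
  have hT0' := hb T₀
  have h1 : maxElemAbelianOrder T * (Nat.card G + 1) + Nat.card (thompsonSubgroupOf 2 T) ≤
      maxElemAbelianOrder T₀ * (Nat.card G + 1) + Nat.card (thompsonSubgroupOf 2 T₀) := by
    by_contra hlt
    push Not at hlt
    nlinarith
  have h2 : maxElemAbelianOrder T ≤ maxElemAbelianOrder T₀ := by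
    by_contra hlt
    push Not at hlt
    nlinarith
  refine ⟨h2, fun he => ?_⟩
  rw [he] at h1
  refine ⟨by omega, fun hj => ?_⟩
  rw [he, hj] at hle
  omega

section Pair

variable (hL : IsCharacteristicTwoType G) (hN : NHyp G) (hZ : ZHyp G)
include hL hN hZ

/-- A proper subgroup of a Sylow subgroup gives a second vertex by conjugation. -/
theorem exists_pair_of_lt (S : Sylow 2 G) {T K L : Subgroup G} (v : Vertex T K L)
    (hlt : T < (S : Subgroup G)) :
    ∃ g ∈ (S : Subgroup G), g ∈ normalizer (T : Set G) ∧ L ≠ L.map (cj g) ∧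
      Vertex T (K.map (cj g)) (L.map (cj g)) := by
  obtain ⟨g, hgS, hgN, hgT⟩ := exists_normalizing_not_mem S.isPGroup' hlt
  have hTg : T.map (cj g) = T := map_cj_eq_self_iff.mpr hgN
  refine ⟨g, hgS, hgN, fun h => ?_, ?_⟩
  · have hgL : g ∈ L := by
      rw [← normalizer_eq_of_maximal hL v.maxl, ← map_cj_eq_self_iff, ← h]
    have hP : IsPGroup 2 (T ⊔ zpowers g : Subgroup G) :=
      S.isPGroup'.to_le (sup_le hlt.le (zpowers_le.mpr hgS))
    exact hgT ((sylowTwoIn_eq_of_le v.sylow hP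
      (sup_le v.sylow.1 (zpowers_le.mpr hgL)) le_sup_left).le (mem_sup_right (mem_zpowers g)))
  · have := v.map g
    rwa [hTg] at this

/-- The amalgam context of a pair. -/
theorem ctx_of_pair (S : Sylow 2 G) {T K L K' L' : Subgroup G} (v : Vertex T K L)
    (v' : Vertex T K' L') (hne : L ≠ L') (hTS : T ≤ (S : Subgroup G)) :
    AmCtx G T ∧ Nat.card (zj T) ≤ 4 := by
  obtain ⟨k, hk⟩ := exists_compData v.comp
  obtain ⟨k', hk'⟩ := exists_compData v'.comp
  exact ⟨⟨hL, hN, hZ, v.fix_zj hk v' hk' rfl hne hL hZ S hTS rfl⟩, v.card_zj_le hk v' hk' rfl hne⟩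

/-- Key lemma: a straddling subgroup properly inside `S` cannot exist beside a Sylow vertex. -/
theorem straddling_false (S : Sylow 2 G) {K L : Subgroup G}
    (v : Vertex (S : Subgroup G) K L)
    (hNJ : normalizer (thompsonSubgroupOf 2 (S : Subgroup G) : Set G) ≤ L)
    (hstr : (S : Subgroup G) ∉ straddlingTwoSubgroups L) {T₁ : Subgroup G}
    (hT₁ : T₁ ∈ maxStraddlingTwoSubgroups L) (hT₁S : T₁ ≤ (S : Subgroup G)) : False := by
  classical
  obtain ⟨K₁, hK₁⟩ := outside_nonempty S hNJ hL hN hZ hT₁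
  obtain ⟨L₁, v₁, -⟩ := exists_vertex S hNJ hL hN hZ hT₁ hK₁
  have hlt : T₁ < (S : Subgroup G) := lt_of_le_of_ne hT₁S fun h => hstr (h ▸ hT₁.1)
  obtain ⟨g, hgS, hgN, hne, v₁'⟩ := exists_pair_of_lt hL hN hZ S v₁ hlt
  obtain ⟨hC, hcard⟩ := ctx_of_pair hL hN hZ S v₁ v₁' hne hT₁S
  obtain ⟨k₁, hk₁⟩ := exists_compData v₁.comp
  obtain ⟨k₁', hk₁'⟩ := exists_compData v₁'.comp
  set R₁ := rK T₁ K₁ with hR₁
  set R₁' := rK T₁ (K₁.map (cj g)) with hR₁'
  have hR₁e := (v₁.rK_eq hk₁ hC v₁' hk₁' hne hcard)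
  have hR₁'e := (v₁'.rK_eq hk₁' hC v₁ hk₁ hne.symm hcard)
  have hweq := v₁.zj_inf_wOf_eq hk₁ hC v₁' hk₁' hne hcard
  have hSL : (S : Subgroup G) ≤ L := v.sylow.1
  obtain ⟨w, hwZ, hwW, hw1, hwu⟩ := v₁.exists_w
  have hwW' : w ∈ wOf (K₁.map (cj g)) :=
    (show w ∈ zj T₁ ⊓ wOf (K₁.map (cj g)) from hweq ▸ ⟨hwZ, hwW⟩).2
  -- `g` fixes `w`
  have hgw : cj g w = w := by
    have hgJ : g ∈ normalizer (thompsonSubgroupOf 2 T₁ : Set G) :=
      Thompson.normalizer_le_normalizer_thompsonSubgroupOf T₁ hgN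
    have h1 : cj g w ∈ zj T₁ :=
      cj_mem_of_le_normalizer (normalizer_le_normalizer_omegaCenterOf _ hgJ) hwZ
    have h2 : cj g w ∈ wOf (K₁.map (cj g)) := by
      rw [← wOf_map (cj_injective g)]; exact mem_map_of_mem _ hwW
    have h3 : cj g w ∈ zj T₁ ⊓ wOf K₁ := hweq.symm ▸ ⟨h1, h2⟩
    rcases hwu _ h3.1 h3.2 with h | h
    · exact absurd (cj_injective g (h.trans (map_one _).symm)) hw1
    · exact h
  -- `Ω₁(Z(S)) = ⟨w⟩`
  have hZle := v₁.omega_le_zj hL S hT₁S
  have hZw : ∀ x ∈ omegaCenterOf (S : Subgroup G), x = 1 ∨ x = w := by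
    intro x hx
    have hxg : cj g x = x := cj_eq_self_iff.mpr
      (mem_centralizer_iff.mp (omegaCenterOf_le_centralizer _ hx) g hgS)
    have hxmem : ∀ y ∈ cK T₁ K₁, cj g y = y → y = 1 := fun y hy hyg => by
      have h1 : y ∈ cK T₁ (K₁.map (cj g)) := by
        refine ⟨hy.1, mem_centralizer_iff.mpr ?_⟩
        rintro _ ⟨a, ha, rfl⟩
        rw [← hyg, ← map_mul, ← map_mul, mem_centralizer_iff.mp hy.2 a ha]
      have h2 : y ∈ cK T₁ K₁ ⊓ cK T₁ (K₁.map (cj g)) := ⟨hy, h1⟩
      rw [v₁.cK_inf v₁' rfl hne] at h2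
      exact mem_bot.mp h2
    obtain ⟨-, hsup, -⟩ := omega_center_split v₁.isPGroup v₁.comp
    have hx' : x ∈ ((cK T₁ K₁ : Subgroup G) : Set G) * ((zj T₁ ⊓ wOf K₁ : Subgroup G) : Set G) := by
      rw [← Subgroup.coe_mul_of_right_le_normalizer_left]
      · have hmem := hZle hx
        rw [zj, ← hsup] at hmem
        refine (sup_le_sup_right ?_ (zj T₁ ⊓ wOf K₁) : _ ≤ _) hmem
        rintro y ⟨hy, -, hyc⟩
        exact ⟨hy, Subgroup.centralizer_le
          (show (K₁ : Set G) ⊆ ((K₁ ⊔ thompsonSubgroupOf 2 T₁ : Subgroup G) : Set G) from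
            fun a ha => mem_sup_left (show a ∈ K₁ from ha)) hyc⟩
      · intro y hy
        exact centralizer_le_normalizer _ (mem_centralizer_iff.mpr fun a ha =>
          Thompson.elemAb_comm (isElementaryAbelian_omegaCenterOf _).1 ha.1 hy.1)
    obtain ⟨c, hc, u, hu, rfl⟩ := hx'
    have hug : cj g u = u := by
      rcases hwu u hu.1 hu.2 with rfl | rfl
      exacts [map_one _, hgw]
    have hcg : cj g c = c := by
      have h' : cj g (c * u) = c * u := hxg
      rw [map_mul, hug, mul_left_inj] at h'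
      exact h'
    show c * u = 1 ∨ c * u = w
    rw [hxmem c hc hcg, one_mul]
    exact hwu u hu.1 hu.2
  have hSne : (S : Subgroup G) ≠ ⊥ := fun h => hT₁.1.2.1 (le_bot_iff.mp (hT₁S.trans h.le))
  have hwS : w ∈ omegaCenterOf (S : Subgroup G) := by
    obtain ⟨r, hr, hr1, hrc⟩ := exists_ne_one_centralized S.isPGroup' S.isPGroup' Subgroup.le_normalizer hSne
    obtain ⟨i, hi⟩ := IsPGroup.iff_orderOf.mp S.isPGroup' ⟨r, hr⟩
    rw [← Subgroup.orderOf_coe] at hi
    have hi0 : i ≠ 0 := fun h => hr1 (orderOf_eq_one_iff.mp (by simpa [h] using hi))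
    set z := r ^ 2 ^ (i - 1) with hz
    have hz2 : z * z = 1 := by
      rw [hz, ← pow_add, ← two_mul, ← pow_succ', Nat.sub_add_cancel (by omega), ← hi,
        pow_orderOf_eq_one]
    have hz1 : z ≠ 1 := fun h => by
      have h1 : orderOf r ∣ 2 ^ (i - 1) := orderOf_dvd_of_pow_eq_one h
      rw [hi] at h1
      have := (Nat.pow_dvd_pow_iff_le_right (by norm_num : 1 < 2)).mp h1
      omega
    have hzZ : z ∈ omegaCenterOf (S : Subgroup G) := mem_omegaCenterOf ((S : Subgroup G).pow_mem hr _)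
      (mem_centralizer_iff.mpr fun s hs =>
        ((Commute.pow_left (mem_centralizer_singleton_iff.mp (hrc hs)).symm _).eq).symm) hz2
    rcases hZw z hzZ with h | h
    · exact absurd h hz1
    · exact h ▸ hzZ
  -- `C(w) ≤ L`
  have hwL : centralizer ({w} : Set G) ≤ L := by
    intro x hx
    refine hNJ (Thompson.normalizer_le_normalizer_thompsonSubgroupOf _
      (hZ S (mem_centralizer_iff.mpr fun z hz => ?_)))
    rcases hZw z hz with rfl | rfl
    · simp
    · exact (mem_centralizer_singleton_iff.mp hx).symm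
  obtain ⟨k, hk⟩ := exists_compData v.comp
  -- a small normal subgroup of `S` in which all centralizers lie in `L`
  have hwzj : w ∈ zj (S : Subgroup G) := omegaCenterOf_le_zj _ hwS
  have hwnc : w ∉ cK (S : Subgroup G) K := fun h =>
    v.not_omega_le_cK hZ S le_rfl rfl rfl fun x hx => by
      rcases hZw x hx with rfl | rfl
      exacts [one_mem _, h]
  have hSn : (S : Subgroup G) ≤ normalizer (zj (S : Subgroup G) : Set G) :=
    Subgroup.le_normalizer.trans ((Thompson.normalizer_le_normalizer_thompsonSubgroupOf _).trans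
      (normalizer_le_normalizer_omegaCenterOf _))
  obtain ⟨V, hVe, hVS, hVn, hwV, hV4, hVL⟩ : ∃ V : Subgroup G, IsElementaryAbelian 2 V ∧
      V ≤ (S : Subgroup G) ∧ (S : Subgroup G) ≤ normalizer (V : Set G) ∧ w ∈ V ∧ 4 ≤ Nat.card V ∧
      ∀ x ∈ V, x ≠ 1 → centralizer ({x} : Set G) ≤ L := by
    by_cases h4 : 4 ≤ Nat.card (zj (S : Subgroup G))
    · refine ⟨zj (S : Subgroup G), isElementaryAbelian_omegaCenterOf _,
        (omegaCenterOf_le _).trans (Thompson.thompsonSubgroupOf_le _), hSn, hwzj, h4, fun x hx hx1 => ?_⟩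
      by_cases hxw : x = w
      · exact hxw ▸ hwL
      by_cases hex : ∃ s ∈ (S : Subgroup G), cj s x ∈ cK (S : Subgroup G) K
      · obtain ⟨s, hs, hsx⟩ := hex
        have h1 := v.centralizer_le_of_mem_cK hsx fun h => hx1 (cj_injective s (h.trans (map_one _).symm))
        rw [← conj_centralizer_singleton] at h1
        have h2 := Subgroup.map_mono (f := cj s⁻¹) h1
        rwa [map_cj_inv_cancel, map_cj_eq_self_of_mem (inv_mem (hSL hs))] at h2
      push Not at hex
      exfalso
      -- then `x w` has all its conjugates in `C₀`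
      set D := closure {y : G | ∃ s ∈ (S : Subgroup G), y = cj s (x * w)} with hD
      have hkey : ∀ a ∈ zj (S : Subgroup G), a ∉ cK (S : Subgroup G) K →
          a * w ∈ cK (S : Subgroup G) K := by
        intro a ha hanc
        by_contra hc
        have h2 := card_le_two_mul (P := zj (S : Subgroup G)) (H := cK (S : Subgroup G) K) inf_le_left
        have hcard2 := v.card_zj hk
        have hlt : cK (S : Subgroup G) K ⊔ zpowers w = zj (S : Subgroup G) := by
          refine Subgroup.eq_of_le_of_card_ge (sup_le inf_le_left (zpowers_le.mpr hwzj)) ?_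
          have := two_mul_card_le_of_lt (le_sup_left : cK (S : Subgroup G) K ≤
            cK (S : Subgroup G) K ⊔ zpowers w) (mem_sup_right (mem_zpowers w)) hwnc
          omega
        rw [← hlt] at ha
        rcases mem_sup_zpowers (C := cK (S : Subgroup G) K) (fun y hy => Thompson.elemAb_comm
          (isElementaryAbelian_omegaCenterOf _).1 hwzj hy.1) (zj_mul_self hwzj) ha with h | h
        · exact hanc h
        · exact hc h
      have hDc : D ≤ cK (S : Subgroup G) K := by
        rw [hD, closure_le]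
        rintro _ ⟨s, hs, rfl⟩
        rw [map_mul, cj_eq_self_iff.mpr (mem_centralizer_iff.mp
          (omegaCenterOf_le_centralizer _ hwS) s hs)]
        exact hkey _ (cj_mem_of_le_normalizer (hSn hs) hx) (hex s hs)
      have hDn : (S : Subgroup G) ≤ normalizer (D : Set G) :=
        FF.le_normalizer_closure fun a ha y hy => by
          obtain ⟨s, hs, rfl⟩ := hy
          exact ⟨a * s, mul_mem ha hs, (cj_mul a s _).symm⟩
      have hD1 : D ≠ ⊥ := fun h => by
        have h1 : x * w ∈ D := subset_closure ⟨1, one_mem _, by simp [cj]⟩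
        rw [h, mem_bot] at h1
        exact hxw ((eq_inv_of_mul_eq_one_left h1).trans (inv_eq_of_mul_eq_one_right (zj_mul_self hwzj)))
      obtain ⟨r, hr, hr1, hrc⟩ := exists_ne_one_centralized
        ((isPGroup_thompsonSubgroupOf S.isPGroup').to_le
          (hDc.trans (inf_le_left.trans (omegaCenterOf_le _)))) S.isPGroup' hDn hD1
      have hrS : r ∈ omegaCenterOf (S : Subgroup G) := by
        refine mem_omegaCenterOf (Thompson.thompsonSubgroupOf_le _ (omegaCenterOf_le _ (hDc hr).1))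
          (mem_centralizer_iff.mpr fun s hs => mem_centralizer_singleton_iff.mp (hrc hs))
          (zj_mul_self (hDc hr).1)
      rcases hZw r hrS with h | h
      · exact hr1 h
      · exact hwnc (h ▸ hDc hr)
    · push Not at h4
      have hcard2 := v.card_zj hk
      have hpos := Nat.card_pos (α := cK (S : Subgroup G) K)
      have hzj2 : Nat.card (zj (S : Subgroup G)) = 2 := by omega
      have hfix : (S : Subgroup G) ≤ centralizer (zj (S : Subgroup G) : Set G) := by
        intro s hs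
        rw [mem_centralizer_iff]
        intro z hz
        rcases two_eq_of_card_two hzj2 hwzj hw1 hz with rfl | rfl
        · simp
        · exact (mem_centralizer_iff.mp (omegaCenterOf_le_centralizer _ hwS) s hs).symm
      obtain ⟨u, hu, huW, hu1, -⟩ := v.exists_w
      have huw : u = w := (two_eq_of_card_two hzj2 hwzj hw1 hu).resolve_left hu1
      subst huw
      refine ⟨wOf K, Thompson.isElementaryAbelian_of_le (isElementaryAbelian_omegaCenterOf _)
        (wOf_le_omegaCenterOf K), v.wOf_le_thompson.trans (Thompson.thompsonSubgroupOf_le _),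
        (v.le_normalizer hL hN hZ hfix).trans (normalizer_le_normalizer_wOf K), huW,
        v.wOf_card.ge, fun x hx hx1 => ?_⟩
      obtain ⟨m, rfl⟩ : ∃ m : ℕ, x = cj (k ^ m) u := by
        rcases hk.w_cases v.comp huW hu1 hx with h | h | h | h
        · exact absurd h hx1
        · exact ⟨0, by rw [h]; simp [cj]⟩
        · exact ⟨1, by rw [h, pow_one]⟩
        · exact ⟨2, by rw [h, sq, cj_mul, v.cube_fix hk ⟨hL, hN, hZ, hfix⟩ huW hu1]⟩
      rw [← conj_centralizer_singleton]
      refine (Subgroup.map_mono hwL).trans (le_of_eq ?_)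
      exact map_cj_eq_self_of_mem (L.pow_mem (v.le hk.mem) m)
  -- an element of `V` central modulo `⟨w⟩`
  obtain ⟨u, huV, huw, hucomm⟩ : ∃ u ∈ V, (u ≠ 1 ∧ u ≠ w) ∧
      ∀ s ∈ (S : Subgroup G), cj s u = u ∨ cj s u = u * w := by
    haveI : Fact (Nat.Prime 2) := ⟨Nat.prime_two⟩
    haveI := S.isPGroup'.isNilpotent
    set Z' := (zpowers w).subgroupOf (S : Subgroup G) with hZ'
    have hwc : ∀ s ∈ (S : Subgroup G), s * w = w * s := fun s hs =>
      mem_centralizer_iff.mp (omegaCenterOf_le_centralizer _ hwS) s hs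
    haveI hZn : Z'.Normal := ⟨fun n hn g => by
      rw [mem_subgroupOf] at hn ⊢
      obtain ⟨i, hi⟩ := hn
      refine ⟨i, ?_⟩
      show w ^ i = ((g * n * g⁻¹ : ↥(S : Subgroup G)) : G)
      simp only [Subgroup.coe_mul, InvMemClass.coe_inv]
      rw [← (show w ^ i = (n : G) from hi), ((show Commute (g : G) w from hwc g g.2).zpow_right i).eq,
        mul_inv_cancel_right]⟩
    set π := QuotientGroup.mk' Z' with hπ
    haveI : ((V.subgroupOf (S : Subgroup G)).map π).Normal :=
      Subgroup.Normal.map (normal_subgroupOf_of_le_normalizer hVn) π (QuotientGroup.mk'_surjective _)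
    have hne' : (V.subgroupOf (S : Subgroup G)).map π ≠ ⊥ := by
      intro h
      rw [Subgroup.map_eq_bot_iff, hπ, QuotientGroup.ker_mk'] at h
      have hle : V ≤ zpowers w := fun x hx => mem_subgroupOf.mp (h (show (⟨x, hVS hx⟩ : ↥(S : Subgroup G)) ∈
        V.subgroupOf (S : Subgroup G) from hx))
      have := card_le_of_le hle
      rw [Nat.card_zpowers, orderOf_eq_prime (p := 2) (by rw [sq, zj_mul_self hwzj]) hw1] at this
      omega
    obtain ⟨q, hq, hq1⟩ := (Subgroup.bot_or_exists_ne_one _).resolve_left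
      (Fitting.inf_center_ne_bot hne')
    obtain ⟨⟨u, huS⟩, hu, rfl⟩ := hq.1
    have hwz : ∀ {y : G}, y ∈ zpowers w → y = 1 ∨ y = w := fun {y} hy => by
      obtain ⟨i, rfl⟩ := hy
      rcases Int.even_or_odd i with ⟨j, rfl⟩ | ⟨j, rfl⟩
      · left
        show w ^ (j + j) = 1
        rw [zpow_add, ← (Commute.refl w).mul_zpow, zj_mul_self hwzj, one_zpow]
      · right
        show w ^ (2 * j + 1) = w
        rw [zpow_add, zpow_mul, zpow_ofNat, sq, zj_mul_self hwzj, one_zpow, one_mul, zpow_one]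
    refine ⟨u, hu, ⟨fun h => hq1 ?_, fun h => hq1 ?_⟩, fun s hs => ?_⟩
    · subst h; exact map_one π
    · subst h
      exact (QuotientGroup.eq_one_iff _).mpr (mem_subgroupOf.mpr (mem_zpowers u))
    · have h1 := mem_center_iff.mp hq.2 (π ⟨s, hs⟩)
      rw [hπ, QuotientGroup.mk'_apply, QuotientGroup.mk'_apply, ← QuotientGroup.mk_mul,
        ← QuotientGroup.mk_mul, QuotientGroup.eq] at h1
      have h2 : ((⟨s, hs⟩ * ⟨u, huS⟩)⁻¹ * (⟨u, huS⟩ * ⟨s, hs⟩) : ↥(S : Subgroup G)) ∈ Z' := h1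
      rw [mem_subgroupOf] at h2
      simp only [Subgroup.coe_mul, InvMemClass.coe_inv, mul_inv_rev] at h2
      rcases hwz h2 with h3 | h3
      · left
        rw [cj_apply]
        have h4 : u⁻¹ * s⁻¹ * (u * s) = 1 := h3
        rw [mul_inv_eq_iff_eq_mul]
        rw [← mul_inv_rev, inv_mul_eq_one] at h4
        exact h4
      · right
        have h4 : u⁻¹ * s⁻¹ * (u * s) = w := h3
        rw [cj_apply, mul_inv_eq_iff_eq_mul, mul_assoc u w s, ← hwc s hs]
        rw [← mul_inv_rev, inv_mul_eq_iff_eq_mul] at h4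
        calc s * u = s * u * w * w := by rw [mul_assoc _ w w, zj_mul_self hwzj, mul_one]
          _ = u * s * w := by rw [h4]
          _ = u * (s * w) := mul_assoc u s w
  have hu2 : u * u = 1 := by rw [← sq]; exact hVe.2 _ huV
  have hwR₁ : w ∈ R₁ := v₁.wOf_le_rK hwW
  -- `u` lies in `T₁`
  have huT₁ : u ∈ T₁ := by
    have hun : u ∈ normalizer (R₁ : Set G) := by
      refine mem_normalizer_iff.mpr fun x => ?_
      have hfwd : ∀ y ∈ R₁, u * y * u⁻¹ ∈ R₁ := by
        intro y hy
        have hui : u⁻¹ = u := inv_eq_of_mul_eq_one_right hu2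
        rcases hucomm y (hT₁S hy.1) with h | h
        · rw [mul_inv_eq_iff_eq_mul.mpr (cj_eq_self_iff.mp h).symm]
          exact hy
        · have h5 : y * u = u * w * y := mul_inv_eq_iff_eq_mul.mp h
          have h6 : u * y * u⁻¹ = w * y := by
            rw [hui, mul_assoc, h5, ← mul_assoc, ← mul_assoc, hu2, one_mul]
          rw [h6]
          exact mul_mem hwR₁ hy
      refine ⟨hfwd x, fun h => ?_⟩
      have := hfwd _ h
      rw [inv_eq_of_mul_eq_one_right hu2] at this
      rwa [show u * (u * x * u) * u = x by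
        rw [← mul_assoc u, ← mul_assoc u, hu2, one_mul, mul_assoc, hu2, mul_one]] at this
    have hR₁ne : R₁ ≠ ⊥ := fun h => hw1 (mem_bot.mp (h ▸ hwR₁))
    have huL₁ : u ∈ L₁ := v₁.hover _ ⟨R₁, v₁.isPGroup.to_le inf_le_left, hR₁ne, rfl⟩
      (sup_le (v₁.le_normalizer_rK hk₁ hL hN hZ hC.fix)
        ((Thompson.thompsonSubgroupOf_le _).trans (v₁.le_normalizer_rK_sylow hL hN hZ hC.fix))) hun
    exact (sylowTwoIn_eq_of_le v₁.sylow (S.isPGroup'.to_le (sup_le hT₁S (zpowers_le.mpr (hVS huV))))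
      (sup_le v₁.sylow.1 (zpowers_le.mpr huL₁)) le_sup_left).le (mem_sup_right (mem_zpowers u))
  -- `K₁` and its conjugate are outside `L`
  have hK₁L : ¬ K₁ ≤ L := hK₁.2.1
  have hK₁'L : ¬ K₁.map (cj g) ≤ L := fun h => hK₁L (by
    have := Subgroup.map_mono (f := cj g⁻¹) h
    rwa [map_cj_inv_cancel, map_cj_eq_self_of_mem (inv_mem (hSL hgS))] at this)
  have hkmem : ∀ {y : G}, cj y w ∈ V → y ∈ L := by
    intro y hy
    have hy1 : cj y w ≠ 1 := fun h => hw1 (cj_injective y (h.trans (map_one _).symm))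
    have hkS : (S : Subgroup G).map (cj y) ≤ L := by
      refine le_trans ?_ (hVL _ hy hy1)
      rw [← conj_centralizer_singleton]
      exact Subgroup.map_mono fun s hs => mem_centralizer_singleton_iff.mpr
        (mem_centralizer_iff.mp (omegaCenterOf_le_centralizer _ hwS) s hs)
    obtain ⟨S', hS'⟩ := exists_sylow_map S y
    obtain ⟨l, hl, hle⟩ := sylowTwoIn_conj (isSylowTwoIn_sylow S hSL)
      (isSylowTwoIn_sylow S' (hS' ▸ hkS))
    have hn : l⁻¹ * y ∈ normalizer ((S : Subgroup G) : Set G) := by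
      rw [← map_cj_eq_self_iff, ← map_cj_map_cj, ← hS', ← hle, map_cj_inv_cancel]
    have := mul_mem hl (hNJ (Thompson.normalizer_le_normalizer_thompsonSubgroupOf _ hn))
    rwa [mul_inv_cancel_left] at this
  have hPs : IsSylowTwoIn (S : Subgroup G) L := v.sylow
  have hlt' : Nat.card T₁ < Nat.card (S : Subgroup G) := by
    obtain ⟨a, ha, haT⟩ := SetLike.exists_of_lt hlt
    have := two_mul_card_le_of_lt hlt.le ha haT
    have hpos : 0 < Nat.card T₁ := Nat.card_pos
    omega
  by_cases hu₁ : u ∈ R₁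
  · exact v₁.kick_false hk₁ hC v₁' hk₁' hne hcard v.maxl hPs hlt' (hT₁S.trans hSL) hK₁L hVL hwZ hwW
      hwW' hw1 hwV hkmem huV huw.1 huw.2 hu₁
  by_cases hu₁' : u ∈ R₁'
  · exact v₁'.kick_false hk₁' hC v₁ hk₁ hne.symm hcard v.maxl hPs hlt' (hT₁S.trans hSL) hK₁'L hVL
      hwZ hwW' hwW hw1 hwV hkmem huV huw.1 huw.2 hu₁'
  obtain ⟨x, hx, hxZ, -⟩ := v₁.exists_x hk₁ hC
  have hxR : x ∉ R₁' := fun h => hxZ (by
    rw [← v₁.rK_inf_eq_zj hk₁ hC v₁' hk₁' hne hcard]; exact ⟨v₁.wOf_le_rK hx, h⟩)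
  have hxu : x * u ∈ R₁' :=
    v₁'.mul_mem_rK hk₁' hL hN hZ hC.fix (v₁.wOf_le_rK hx).1 huT₁ hxR hu₁'
  have hx2 : x * x = 1 := v₁.wOf_mul_self hx
  have h2 : (x * u) * (x * u) = 1 := by rw [← sq]; exact hR₁'e.2.2 _ hxu
  refine v₁.mul_cj_ne_one hk₁ hL hN hZ hC.fix huT₁ hu₁ hx hxZ ?_
  rw [cj_apply, inv_eq_of_mul_eq_one_right hu2]
  simpa [mul_assoc] using h2

/-- Every maximal straddling subgroup is the Sylow subgroup of a second vertex. -/
theorem exists_pair (hO : pCore 2 G = ⊥) (S : Sylow 2 G) {M : Subgroup G}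
    (hMJ : normalizer (thompsonSubgroupOf 2 (S : Subgroup G) : Set G) ≤ M) {T : Subgroup G}
    (hTS : T ≤ (S : Subgroup G)) {K L : Subgroup G} (v : Vertex T K L) :
    ∃ K' L', Vertex T K' L' ∧ L ≠ L' := by
  classical
  haveI : Fact (Nat.Prime 2) := ⟨Nat.prime_two⟩
  rcases lt_or_eq_of_le hTS with hlt | heq
  · obtain ⟨g, -, -, hne, v'⟩ := exists_pair_of_lt hL hN hZ S v hlt
    exact ⟨_, _, v', hne⟩
  subst heq
  obtain ⟨k, hk⟩ := exists_compData v.comp
  by_cases hNJ : normalizer (thompsonSubgroupOf 2 (S : Subgroup G) : Set G) ≤ L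
  swap
  · -- an element of `N(J(S))` outside `L` may be chosen in `N(S)`
    obtain ⟨n, hn, hnL⟩ := SetLike.not_le_iff_exists.mp hNJ
    have hne : L ≠ L.map (cj n) := fun h => hnL (by
      rw [← normalizer_eq_of_maximal hL v.maxl, ← map_cj_eq_self_iff, ← h])
    obtain ⟨k', hk'⟩ := exists_compData (v.map n).comp
    have hfix := v.fix_zj hk (v.map n) hk' (thompson_map_normalizer hn) hne hL hZ S le_rfl
      (Subgroup.card_map_of_injective (cj_injective n))
    have hZeq : zj (S : Subgroup G) ≤ omegaCenterOf (S : Subgroup G) := zj_le_omegaCenterOf hfix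
    have hnZ : n ∈ normalizer (zj (S : Subgroup G) : Set G) :=
      normalizer_le_normalizer_omegaCenterOf _ hn
    have hS' : (S : Subgroup G).map (cj n) ≤ normalizer ((S : Subgroup G) : Set G) := by
      rintro _ ⟨s, hs, rfl⟩
      refine hZ S (mem_centralizer_iff.mpr fun z hz => ?_)
      have hzj : z ∈ zj (S : Subgroup G) := omegaCenterOf_le_zj _ hz
      have h1 : cj n⁻¹ z ∈ omegaCenterOf (S : Subgroup G) :=
        hZeq (cj_mem_of_le_normalizer (inv_mem hnZ) hzj)
      have h2 := congrArg (cj n) (mem_centralizer_iff.mp (omegaCenterOf_le_centralizer _ h1) s hs)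
      rw [map_mul, map_mul, cj_cj_inv] at h2
      exact h2.symm
    have hnS : n ∈ normalizer ((S : Subgroup G) : Set G) := by
      rw [← map_cj_eq_self_iff]
      obtain ⟨S'', hS''⟩ := exists_sylow_map S n
      have hP : IsPGroup 2 ((S : Subgroup G) ⊔ (S : Subgroup G).map (cj n) : Subgroup G) :=
        IsPGroup.to_sup_of_normal_left' S.isPGroup' (S.isPGroup'.map _) hS'
      have h1 := S.is_maximal' hP le_sup_left
      refine Subgroup.eq_of_le_of_card_ge (le_sup_right.trans h1.le)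
        (le_of_eq (Subgroup.card_map_of_injective (cj_injective n)).symm)
    have v' := v.map n
    rw [map_cj_eq_self_iff.mpr hnS] at v'
    exact ⟨_, _, v', hne⟩
  have hSL : (S : Subgroup G) ≤ L := v.sylow.1
  by_cases hstr : (S : Subgroup G) ∈ straddlingTwoSubgroups L
  · have hmax := sylow_mem_maxStraddling S hSL hstr
    obtain ⟨K', hK'⟩ := outside_nonempty S hNJ hL hN hZ hmax
    obtain ⟨L', v', -⟩ := exists_vertex S hNJ hL hN hZ hmax hK'
    exact ⟨K', L', v', fun h => hK'.2.1 (h ▸ v'.le)⟩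
  exfalso
  by_cases hempty : straddlingTwoSubgroups L = ∅
  · -- `L` is strongly embedded
    have hSE := (stronglyEmbedded_iff hL hO S v.maxl.1 hNJ).mpr hempty
    obtain ⟨A, t, hA, htA, htR⟩ : ∃ A t, Thompson.IsMaxEAIn 2 A (S : Subgroup G) ∧ t ∈ A ∧
        t ∉ pCoreOf 2 L := by
      by_contra h
      push Not at h
      have hle : thompsonSubgroupOf 2 (S : Subgroup G) ≤ centralizer (wOf K : Set G) := by
        refine le_trans ?_ (pCoreOf_le_centralizer_wOf v.comp hk v.le
          (component_isSubnormal hN hZ (v.centralizer_pCoreOf hL) v.sylow v.comp v.le))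
        rw [Thompson.thompsonSubgroupOf_eq]
        exact sSup_le fun A hA x hx => h A x hA hx
      have h2 := (omega_center_split v.isPGroup v.comp).1
      have hW : wOf K ≤ zj (S : Subgroup G) := fun x hx => mem_omegaCenterOf (v.wOf_le_thompson hx)
        (mem_centralizer_iff.mpr fun j hj => (mem_centralizer_iff.mp (hle hj) x hx).symm)
        (v.wOf_mul_self hx)
      rw [inf_eq_right.mpr hW, v.wOf_card] at h2
      exact absurd h2 (by norm_num)
    obtain ⟨z, hzO, hz2⟩ : ∃ z ∈ pCoreOf 2 L, orderOf z = 2 := by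
      have hne : pCoreOf 2 L ≠ ⊥ := fun h => by
        obtain ⟨w, -, hwW, hw1, -⟩ := v.exists_w
        refine hw1 (mem_bot.mp (h ▸ v.centralizer_pCoreOf hL ?_))
        rw [h, mem_centralizer_iff]
        intro y hy
        rw [show y = 1 from mem_bot.mp hy, one_mul, mul_one]
      obtain ⟨i, hi⟩ := IsPGroup.iff_card.mp (isPGroup_pCoreOf (p := 2) L)
      have hi0 : i ≠ 0 := by
        rintro rfl
        exact hne (Subgroup.card_eq_one.mp (by simpa using hi))
      obtain ⟨⟨z, hz⟩, hz2⟩ := exists_prime_orderOf_dvd_card' (G := ↥(pCoreOf 2 L)) 2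
        (hi ▸ dvd_pow_self 2 hi0)
      exact ⟨z, hz, by rwa [Subgroup.orderOf_mk] at hz2⟩
    have ht2 : orderOf t = 2 := orderOf_eq_prime (by rw [sq, ← sq]; exact hA.2.1.2 t htA)
      (fun h => htR (h ▸ one_mem _))
    -- an involution outside `L`
    obtain ⟨u, hu2, huL⟩ : ∃ u : G, orderOf u = 2 ∧ u ∉ L := by
      by_contra h
      push Not at h
      obtain ⟨g, hg⟩ : ∃ g : G, g ∉ L := by
        by_contra h'
        push Not at h'
        exact ne_top_of_twoLocal hO v.maxl.1 ((Subgroup.eq_top_iff' L).mpr h')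
      have hzg : z ∈ L.map (cj g) := ⟨cj g⁻¹ z, h _ (by
        rw [orderOf_injective (cj g⁻¹) (cj_injective _), hz2]), cj_cj_inv g z⟩
      have h2 : 2 ∣ Nat.card ↥(L ⊓ L.map (cj g)) := by
        rw [← hz2, ← Subgroup.orderOf_mk z (show z ∈ L ⊓ L.map (cj g) from ⟨pCoreOf_le L hzO, hzg⟩)]
        exact orderOf_dvd_natCard _
      exact (Nat.not_odd_iff_even.mpr (even_iff_two_dvd.mpr h2)) (hSE.2.2 g hg)
    obtain ⟨⟨d, hd, hde⟩, -⟩ := Cfsg.Agent.S1225.result L hSE u hu2 huL z t hz2 (pCoreOf_le L hzO) ht2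
      (hSL (hA.1 htA))
    exact htR (hde ▸ cj_mem_of_le_normalizer (le_normalizer_pCoreOf L hd.1) hzO)
  · obtain ⟨T₁, hT₁, hT₁S⟩ : ∃ T₁ ∈ maxStraddlingTwoSubgroups L, T₁ ≤ (S : Subgroup G) := by
      obtain ⟨T₀, hT₀⟩ : (maxStraddlingTwoSubgroups L).Nonempty :=
        maxStraddling_nonempty (Set.nonempty_iff_ne_empty.mpr hempty)
      obtain ⟨P, hP, hle⟩ := exists_isSylowTwoIn_ge hT₀.1.1 hT₀.1.2.2.1
      obtain ⟨l, hl, rfl⟩ := sylowTwoIn_conj (isSylowTwoIn_sylow S hSL) hP
      refine ⟨_, maxStraddling_map hT₀ (inv_mem hl), ?_⟩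
      have := Subgroup.map_mono (f := cj l⁻¹) hle
      rwa [map_cj_inv_cancel] at this
    exact straddling_false hL hN hZ S v hNJ hstr hT₁ hT₁S

end Pair

end Cfsg.Agent.LocalEven64
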