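import Mathlib
import Cfsg.Agent.LocalEven64.StraddlePair

/-!
# Consequences of the amalgam for maximal straddling subgroups
-/

set_option autoImplicit false
set_option linter.unusedSectionVars false
set_option linter.style.haveILetI false

namespace Cfsg.Agent.LocalEven64

open Subgroup Cfsg
open scoped commutatorElement Pointwise

variable {G : Type*} [Group G] [Finite G]

theorem omegaCenterOf_ne_bot {S : Subgroup G} (hS : IsPGroup 2 S) (hne : S ≠ ⊥) :
    omegaCenterOf S ≠ ⊥ := by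
  obtain ⟨r, hr, hr1, hrc⟩ := exists_ne_one_centralized hS hS Subgroup.le_normalizer hne
  obtain ⟨i, hi⟩ := IsPGroup.iff_orderOf.mp hS ⟨r, hr⟩
  rw [← Subgroup.orderOf_coe] at hi
  have hi0 : i ≠ 0 := fun h => hr1 (orderOf_eq_one_iff.mp (by simpa [h] using hi))
  set z := r ^ 2 ^ (i - 1) with hz
  have hz2 : z * z = 1 := by
    rw [hz, ← pow_add, ← two_mul, ← pow_succ', Nat.sub_add_cancel (by omega), ← hi,
      pow_orderOf_eq_one]
  have hz1 : z ≠ 1 := fun h => by
    have h1 : orderOf r ∣ 2 ^ (i - 1) := orderOf_dvd_of_pow_eq_one h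
    rw [hi] at h1
    have := (Nat.pow_dvd_pow_iff_le_right (by norm_num : 1 < 2)).mp h1
    omega
  intro h
  have hzZ : z ∈ omegaCenterOf S := mem_omegaCenterOf (S.pow_mem hr _)
    (mem_centralizer_iff.mpr fun s hs =>
      ((Commute.pow_left (mem_centralizer_singleton_iff.mp (hrc hs)).symm _).eq).symm) hz2
  exact hz1 (mem_bot.mp (h ▸ hzZ))

/-- A Sylow subgroup of `G` in `M` above `T`. -/
theorem exists_sylow_above (S : Sylow 2 G) {M : Subgroup G}
    (hMJ : normalizer (thompsonSubgroupOf 2 (S : Subgroup G) : Set G) ≤ M) {T : Subgroup G}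
    (hT : IsPGroup 2 T) (hTM : T ≤ M) :
    ∃ S' : Sylow 2 G, T ≤ (S' : Subgroup G) ∧
      normalizer (thompsonSubgroupOf 2 (S' : Subgroup G) : Set G) ≤ M := by
  obtain ⟨P, hP, hle⟩ := exists_isSylowTwoIn_ge hT hTM
  obtain ⟨g, hg, rfl⟩ := sylowTwoIn_conj (isSylowTwoIn_sylow S (sylow_le S hMJ)) hP
  obtain ⟨S', hS'⟩ := exists_sylow_map S g
  exact ⟨S', hS' ▸ hle, hS' ▸ normalizer_thompson_le_of_isSylowTwoIn S hMJ hP⟩

variable (hL : IsCharacteristicTwoType G) (hN : NHyp G) (hZ : ZHyp G)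
include hL hN hZ

/-- The two vertices of a maximal straddling subgroup. -/
theorem straddle_setup (hO : pCore 2 G = ⊥) (S : Sylow 2 G) {M : Subgroup G}
    (hMJ : normalizer (thompsonSubgroupOf 2 (S : Subgroup G) : Set G) ≤ M) {T : Subgroup G}
    (hT : T ∈ maxStraddlingTwoSubgroups M) (hTS : T ≤ (S : Subgroup G)) {K : Subgroup G}
    (hK : K ∈ jComponentsOutside M T) :
    ∃ L K' L' : Subgroup G, Vertex T K L ∧ T ≤ L ∧ Vertex T K' L' ∧ L ≠ L' ∧ AmCtx G T ∧
      Nat.card (zj T) ≤ 4 := by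
  obtain ⟨L, v, hTL⟩ := exists_vertex S hMJ hL hN hZ hT hK
  obtain ⟨K', L', v', hne⟩ := exists_pair hL hN hZ hO S hMJ hTS v
  obtain ⟨hC, hcard⟩ := ctx_of_pair hL hN hZ S v v' hne hTS
  exact ⟨L, K', L', v, hTL, v', hne, hC, hcard⟩

/-- The cases for the centre. -/
theorem center_cases (hO : pCore 2 G = ⊥) (S : Sylow 2 G) {M : Subgroup G}
    (hMJ : normalizer (thompsonSubgroupOf 2 (S : Subgroup G) : Set G) ≤ M) {T : Subgroup G}
    (hT : T ∈ maxStraddlingTwoSubgroups M) (hTS : T ≤ (S : Subgroup G)) {K : Subgroup G}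
    (hK : K ∈ jComponentsOutside M T) {L : Subgroup G} (hLmax : IsMaximalTwoLocal L)
    (hKL : K ⊔ thompsonSubgroupOf 2 T ≤ L) :
    zj T ⊓ wOf K ≠ ⊥ ∧
      ((omegaCenterOf (S : Subgroup G) = zj T ∧ Nat.card (zj T) = 2) ∨
        (omegaCenterOf (S : Subgroup G) = zj T ∧ Nat.card (zj T) = 4 ∧ T = (S : Subgroup G)) ∨
        (omegaCenterOf T = zj T ∧ Nat.card (zj T) = 4 ∧
          (L ⊓ centralizer (zj T : Set G)).relIndex (normalizer (zj T : Set G)) = 2)) := by
  classical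
  obtain ⟨L₀, K₀, L₀', v, -, v₀, hne₀, hC, hcard⟩ := straddle_setup hL hN hZ hO S hMJ hT hTS hK
  obtain rfl := v.eq_of_maximal hLmax hKL
  obtain ⟨k, hk⟩ := exists_compData v.comp
  obtain ⟨w, hwZ, hwW, hw1, hwu⟩ := v.exists_w
  refine ⟨fun h => hw1 (mem_bot.mp (h ▸ ⟨hwZ, hwW⟩)), ?_⟩
  have hn := v.card_zj hk
  have hpos := Nat.card_pos (α := cK T K)
  have hZle := v.omega_le_zj hL S hTS
  have hSne : (S : Subgroup G) ≠ ⊥ := fun h => hT.1.2.1 (le_bot_iff.mp (hTS.trans h.le))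
  by_cases h2 : Nat.card (zj T) = 2
  · refine Or.inl ⟨le_antisymm hZle fun x hx => ?_, h2⟩
    obtain ⟨z, hz, hz1⟩ := (Subgroup.bot_or_exists_ne_one _).resolve_left
      (omegaCenterOf_ne_bot S.isPGroup' hSne)
    rcases two_eq_of_card_two h2 (hZle hz) hz1 hx with rfl | rfl
    exacts [one_mem _, hz]
  have h4 : Nat.card (zj T) = 4 := by omega
  by_cases hTeq : T = (S : Subgroup G)
  · subst hTeq
    exact Or.inr (Or.inl ⟨le_antisymm hZle (zj_le_omegaCenterOf hC.fix), h4, rfl⟩)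
  refine Or.inr (Or.inr ⟨le_antisymm (omegaCenterOf_le_zj T) (zj_le_omegaCenterOf hC.fix), h4, ?_⟩)
  obtain ⟨g, hgS, hgN, hne, v'⟩ := exists_pair_of_lt hL hN hZ S v (lt_of_le_of_ne hTS hTeq)
  obtain ⟨k', hk'⟩ := exists_compData v'.comp
  have hweq := v.zj_inf_wOf_eq hk hC v' hk' hne hcard
  have hgJ : g ∈ normalizer (thompsonSubgroupOf 2 T : Set G) :=
    Thompson.normalizer_le_normalizer_thompsonSubgroupOf T hgN
  have hgZ : g ∈ normalizer (zj T : Set G) := normalizer_le_normalizer_omegaCenterOf _ hgJ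
  have hgw : cj g w = w := by
    have h3 : cj g w ∈ zj T ⊓ wOf K := hweq.symm ▸ ⟨cj_mem_of_le_normalizer hgZ hwZ, by
      rw [← wOf_map (cj_injective g)]; exact mem_map_of_mem _ hwW⟩
    rcases hwu _ h3.1 h3.2 with h | h
    · exact absurd (cj_injective g (h.trans (map_one _).symm)) hw1
    · exact h
  obtain ⟨c, hc, hc1, hcu⟩ := v.cK_eq_pair hk h4
  obtain ⟨c', hc', hc'1, hcu'⟩ := v'.cK_eq_pair hk' h4
  have hgc : cj g c = c' := by
    have h1 : cj g c ∈ cK T (K.map (cj g)) := by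
      refine ⟨cj_mem_of_le_normalizer hgZ hc.1, mem_centralizer_iff.mpr ?_⟩
      rintro _ ⟨a, ha, rfl⟩
      rw [← map_mul, ← map_mul, mem_centralizer_iff.mp hc.2 a ha]
    rcases hcu' _ h1 with h | h
    · exact absurd (cj_injective g (h.trans (map_one _).symm)) hc1
    · exact h
  have hwc : w ≠ c := fun h => hw1 (mem_bot.mp (v.inf_wOf_eq_bot hk ▸ ⟨h ▸ hc, hwW⟩))
  have hwc' : w ≠ c' := fun h => by
    have hwW' : w ∈ zj T ⊓ wOf (K.map (cj g)) := hweq ▸ ⟨hwZ, hwW⟩
    exact hw1 (mem_bot.mp (v'.inf_wOf_eq_bot hk' ▸ ⟨h ▸ hc', hwW'.2⟩))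
  have hcc : c ≠ c' := by
    intro h
    have hm : c ∈ cK T K ⊓ cK T (K.map (cj g)) := ⟨hc, h ▸ hc'⟩
    rw [v.cK_inf v' rfl hne] at hm
    exact hc1 (mem_bot.mp hm)
  have hall : ∀ x ∈ zj T, x = 1 ∨ x = c ∨ x = c' ∨ x = w := by
    intro x hx
    have hwe : w = c * c' := by
      rcases four_mem h4 (fun a ha => zj_mul_self ha) hc.1 hc'.1 hc1 hc'1 hcc hwZ with h | h | h | h
      · exact absurd h hw1
      · exact absurd h hwc
      · exact absurd h hwc'
      · exact h
    rw [hwe]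
    exact four_mem h4 (fun a ha => zj_mul_self ha) hc.1 hc'.1 hc1 hc'1 hcc hx
  -- `N(Z₀)` fixes `w`
  have hbig : T ⊔ zpowers g ≤ centralizer ({w} : Set G) :=
    sup_le (fun t ht => mem_centralizer_singleton_iff.mpr
      (mem_centralizer_iff.mp (hC.fix ht) w hwZ).symm)
      (zpowers_le.mpr (mem_centralizer_singleton_iff.mpr (cj_eq_self_iff.mp hgw)))
  have hP : IsPGroup 2 (T ⊔ zpowers g : Subgroup G) :=
    S.isPGroup'.to_le (sup_le hTS (zpowers_le.mpr hgS))
  have hgT : g ∉ T := fun h => hne (by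
    rw [map_cj_eq_self_of_mem (v.sylow.1 h)])
  have hnofuse : ∀ {n : G} {K₂ L₂ : Subgroup G} {y : G}, Vertex T K₂ L₂ → y ∈ cK T K₂ → y ≠ 1 →
      cj n w ≠ y := by
    intro n K₂ L₂ y v₂ hy hy1 hny
    have hle : (T ⊔ zpowers g).map (cj n) ≤ L₂ := by
      refine (Subgroup.map_mono hbig).trans ?_
      rw [conj_centralizer_singleton, hny]
      exact v₂.centralizer_le_of_mem_cK hy hy1
    obtain ⟨P, hPs, hle2⟩ := exists_isSylowTwoIn_ge (hP.map _) hle
    have h1 := card_le_of_le hle2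
    rw [Subgroup.card_map_of_injective (cj_injective n), sylowTwoIn_card_eq hPs v₂.sylow] at h1
    exact hgT ((Subgroup.eq_of_le_of_card_ge (le_sup_left : T ≤ T ⊔ zpowers g) h1).ge
      (mem_sup_right (mem_zpowers g)))
  set N := normalizer (zj T : Set G) with hNdef
  have hNw : ∀ {n : G}, n ∈ N → cj n w = w := by
    intro n hn
    rcases hall _ (cj_mem_of_le_normalizer hn hwZ) with h | h | h | h
    · exact absurd (cj_injective n (h.trans (map_one _).symm)) hw1
    · exact absurd h (hnofuse v hc hc1)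
    · exact absurd h (hnofuse v' hc' hc'1)
    · exact h
  have hNc : ∀ {n : G}, n ∈ N → cj n c = c ∨ cj n c = c' := by
    intro n hn
    rcases hall _ (cj_mem_of_le_normalizer hn hc.1) with h | h | h | h
    · exact absurd (cj_injective n (h.trans (map_one _).symm)) hc1
    · exact Or.inl h
    · exact Or.inr h
    · exact absurd (cj_injective n (h.trans (hNw hn).symm)) (Ne.symm hwc)
  have hfixC : ∀ {n : G}, n ∈ N → (n ∈ L ⊓ centralizer (zj T : Set G) ↔ cj n c = c) := by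
    intro n hn
    refine ⟨fun h => cj_eq_self_iff.mpr (mem_centralizer_iff.mp h.2 c hc.1).symm, fun h => ?_⟩
    refine ⟨v.centralizer_le_of_mem_cK hc hc1
      (mem_centralizer_singleton_iff.mpr (cj_eq_self_iff.mp h)), mem_centralizer_iff.mpr fun x hx => ?_⟩
    refine (cj_eq_self_iff.mp ?_).symm
    rcases hall x hx with rfl | rfl | rfl | rfl
    · exact map_one _
    · exact h
    · rcases hall _ (cj_mem_of_le_normalizer hn hc'.1) with h' | h' | h' | h'
      · exact absurd (cj_injective n (h'.trans (map_one _).symm)) hc'1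
      · exact absurd (cj_injective n (h'.trans h.symm)) (Ne.symm hcc)
      · exact h'
      · exact absurd (cj_injective n (h'.trans (hNw hn).symm)) (Ne.symm hwc')
    · exact hNw hn
  show ((L ⊓ centralizer (zj T : Set G)).subgroupOf N).index = 2
  rw [Subgroup.index_eq_two_iff]
  refine ⟨⟨g, hgZ⟩, fun b => ?_⟩
  have hb := hfixC b.2
  have hbg := hfixC (N.mul_mem b.2 hgZ)
  have hbg' : cj ((b : G) * g) c = c ↔ ¬ cj (b : G) c = c := by
    rw [cj_mul, hgc]
    constructor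
    · intro h h'
      exact hcc (cj_injective (b : G) (h'.trans h.symm))
    · intro h
      have hbc : cj (b : G) c = c' := (hNc b.2).resolve_left h
      rcases hall _ (cj_mem_of_le_normalizer b.2 hc'.1) with h' | h' | h' | h'
      · exact absurd (cj_injective (b : G) (h'.trans (map_one _).symm)) hc'1
      · exact h'
      · exact absurd (cj_injective (b : G) (h'.trans hbc.symm)) (Ne.symm hcc)
      · exact absurd (cj_injective (b : G) (h'.trans (hNw b.2).symm)) (Ne.symm hwc')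
  simp only [mem_subgroupOf, Subgroup.coe_mul]
  rw [hbg, hb, hbg']
  by_cases h : cj (b : G) c = c
  · exact Or.inr ⟨h, fun h' => h' h⟩
  · exact Or.inl ⟨h, h⟩

end Cfsg.Agent.LocalEven64
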