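import Mathlib
import Cfsg.Agent.LocalEven64.StraddleMain

/-!
# The group `⟨K, T⟩` of a vertex in an amalgam
-/

set_option autoImplicit false
set_option linter.unusedSectionVars false
set_option linter.style.haveILetI false

namespace Cfsg.Agent.LocalEven64

open Subgroup Cfsg
open scoped commutatorElement Pointwise

variable {G : Type*} [Group G] [Finite G]

namespace Vertex

variable {T K L : Subgroup G} (v : Vertex T K L) {k : G} (hk : CompData K k) (hC : AmCtx G T)
include v hk hC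

theorem sup_le_maximal : K ⊔ T ≤ L := sup_le v.le v.sylow.1

theorem isSylowTwoIn_sup : IsSylowTwoIn T (K ⊔ T) := by
  refine ⟨le_sup_right, v.isPGroup, ?_⟩
  have h := Subgroup.relIndex_mul_relIndex T (K ⊔ T) L le_sup_right (sup_le v.le v.sylow.1)
  exact Nat.Odd.of_mul_left (h ▸ v.sylow.2.2)

theorem pCoreOf_sup : pCoreOf 2 (K ⊔ T) = rK T K := by
  have hsn : (K.subgroupOf (K ⊔ T)).IsSubnormal := by
    haveI : (K.subgroupOf (K ⊔ T)).Normal := normal_subgroupOf_of_le_normalizer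
      (sup_le Subgroup.le_normalizer (v.le_normalizer hC.hL hC.hN hC.hZ hC.fix))
    exact Subgroup.Normal.isSubnormal inferInstance
  refine le_antisymm (le_inf (pCoreOf_le_sylowTwoIn (v.isSylowTwoIn_sup hk hC))
    (pCoreOf_le_centralizer_wOf v.comp hk le_sup_left hsn)) ?_
  exact le_pCoreOf (inf_le_left.trans le_sup_right)
    (sup_le (v.le_normalizer_rK hk hC.hL hC.hN hC.hZ hC.fix)
      (v.le_normalizer_rK_sylow hC.hL hC.hN hC.hZ hC.fix)) (v.isPGroup.to_le inf_le_left)

theorem relIndex_rK_sylow : (rK T K).relIndex T = 2 := by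
  have h1 := Subgroup.card_mul_index ((rK T K).subgroupOf T)
  rw [Nat.card_congr (Subgroup.subgroupOfEquivOfLe (show rK T K ≤ T from inf_le_left)).toEquiv] at h1
  have h2 := card_le_two_mul (P := T) (H := rK T K) inf_le_left fun a ha b hb h h' =>
    v.mul_mem_rK hk hC.hL hC.hN hC.hZ hC.fix ha hb h h'
  have hne : (rK T K).relIndex T ≠ 1 := fun h =>
    v.rK_ne hC.hL hC.hN hC.hZ hC.fix (le_antisymm inf_le_left (relIndex_eq_one.mp h))
  have hr : ((rK T K).subgroupOf T).index = (rK T K).relIndex T := rfl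
  rw [hr] at h1
  have hpos := Nat.card_pos (α := rK T K)
  rcases Nat.lt_or_ge ((rK T K).relIndex T) 3 with h | h
  · have h0 : (rK T K).relIndex T ≠ 0 := fun h0 => by
      rw [h0, mul_zero] at h1
      exact absurd h1.symm (Nat.card_pos).ne'
    omega
  · nlinarith

theorem relIndex_sylow_sup : T.relIndex (K ⊔ T) = 3 := by
  have hTn := v.le_normalizer hC.hL hC.hN hC.hZ hC.fix
  have hP := Thompson.card_sup_mul_card_inf (H := K) (K := T) hTn
  have hKT : K ⊓ T = pCoreOf 2 K := by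
    refine le_antisymm ?_ (le_inf (pCoreOf_le K) (v.pCoreOf_le_sylow hk hC.hL hC.hN hC.hZ))
    refine le_pCoreOf inf_le_left ?_ (v.isPGroup.to_le inf_le_right)
    by_contra hcon
    have hQ : pCoreOf 2 K < K ⊓ T := lt_of_le_of_ne
      (le_inf (pCoreOf_le K) (v.pCoreOf_le_sylow hk hC.hL hC.hN hC.hZ)) fun h =>
        hcon (h ▸ le_normalizer_pCoreOf K)
    have h1 := Subgroup.relIndex_mul_relIndex _ _ _ hQ.le (inf_le_left : K ⊓ T ≤ K)
    rw [v.comp.2.2.1] at h1
    rcases (Nat.dvd_prime Nat.prime_three).mp (Dvd.intro _ h1) with h | h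
    · exact hQ.not_ge (relIndex_eq_one.mp h)
    · obtain ⟨i, hi⟩ := IsPGroup.iff_card.mp (v.isPGroup.to_le (inf_le_right : K ⊓ T ≤ T))
      have hd : 3 ∣ 2 ^ i := by
        rw [← hi, ← h]
        exact relIndex_dvd_card _ _
      exact absurd (Nat.prime_three.dvd_of_dvd_pow hd) (by norm_num)
  rw [hKT] at hP
  have hQ : Nat.card (pCoreOf 2 K) * 3 = Nat.card K := by
    have h1 := Subgroup.card_mul_index ((pCoreOf 2 K).subgroupOf K)
    rw [Nat.card_congr (Subgroup.subgroupOfEquivOfLe (pCoreOf_le (p := 2) K)).toEquiv,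
      show ((pCoreOf 2 K).subgroupOf K).index = (pCoreOf 2 K).relIndex K from rfl, v.comp.2.2.1] at h1
    exact h1
  have hT := Subgroup.card_mul_index (T.subgroupOf (K ⊔ T))
  rw [Nat.card_congr (Subgroup.subgroupOfEquivOfLe (le_sup_right : T ≤ K ⊔ T)).toEquiv,
    show (T.subgroupOf (K ⊔ T)).index = T.relIndex (K ⊔ T) from rfl] at hT
  rw [← hT, ← hQ] at hP
  have hpos := Nat.card_pos (α := pCoreOf 2 K)
  have hposT := Nat.card_pos (α := T)
  have h3 : Nat.card (pCoreOf 2 K) * Nat.card T * T.relIndex (K ⊔ T) =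
      Nat.card (pCoreOf 2 K) * Nat.card T * 3 := by
    linarith
  exact Nat.eq_of_mul_eq_mul_left (Nat.mul_pos hpos hposT) h3

theorem relIndex_rK_sup : (rK T K).relIndex (K ⊔ T) = 6 := by
  rw [← Subgroup.relIndex_mul_relIndex (rK T K) T (K ⊔ T) inf_le_left le_sup_right,
    v.relIndex_rK_sylow hk hC, v.relIndex_sylow_sup hk hC]

theorem not_commutator_le : ¬ ⁅K ⊔ T, K ⊔ T⁆ ≤ rK T K := fun h =>
  not_isPGroup_component v.comp (v.isPGroup.to_le
    ((v.comp.2.1.symm.le.trans (commutator_mono le_sup_left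
      ((Thompson.thompsonSubgroupOf_le T).trans le_sup_right))).trans (h.trans inf_le_left)))

theorem commutator_omega_ne_bot : ⁅omegaCenterOf T, K ⊔ T⁆ ≠ ⊥ := by
  intro h
  obtain ⟨w, hwZ, hwW, hw1, -⟩ := v.exists_w
  refine hw1 (hk.fpf w hwW (cj_eq_self_iff.mpr ?_))
  have h1 := commutator_mem_commutator (zj_le_omegaCenterOf hC.fix hwZ)
    (mem_sup_left hk.mem : k ∈ K ⊔ T)
  rw [h, mem_bot, commutatorElement_eq_one_iff_mul_comm] at h1
  exact h1.symm

variable {K' L' : Subgroup G} (v' : Vertex T K' L') {k' : G} (hk' : CompData K' k') (hne : L ≠ L')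
  (hcard : Nat.card (zj T) ≤ 4)
include v' hk' hne hcard

theorem pCoreOf_maximal : pCoreOf 2 L = rK T K := by
  have hle : pCoreOf 2 L ≤ rK T K := le_inf (pCoreOf_le_sylowTwoIn v.sylow)
    (pCoreOf_le_centralizer_wOf v.comp hk v.le
      (component_isSubnormal hC.hN hC.hZ (v.centralizer_pCoreOf hC.hL) v.sylow v.comp v.le))
  refine le_antisymm hle (le_trans ?_ (v.centralizer_pCoreOf hC.hL))
  exact (Thompson.le_centralizer_self (v.rK_eq hk hC v' hk' hne hcard).2.1).trans
    (Subgroup.centralizer_le hle)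

theorem centralizer_rK_le : centralizer (rK T K : Set G) ≤ rK T K := by
  rw [← v.pCoreOf_maximal hk hC v' hk' hne hcard]
  exact v.centralizer_pCoreOf hC.hL

theorem pCoreOf_join : pCoreOf 2 ((K ⊔ T) ⊔ (K' ⊔ T)) = ⊥ := by
  by_contra h
  set X := pCoreOf 2 ((K ⊔ T) ⊔ (K' ⊔ T)) with hX
  have hn := le_normalizer_pCoreOf (p := 2) ((K ⊔ T) ⊔ (K' ⊔ T))
  rw [← hX] at hn
  have hJ : thompsonSubgroupOf 2 T ≤ T := Thompson.thompsonSubgroupOf_le T
  have h1 := v.hover _ ⟨X, isPGroup_pCoreOf _, h, rfl⟩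
    ((sup_le (le_sup_left.trans le_sup_left) (hJ.trans (le_sup_right.trans le_sup_left))).trans hn)
  exact hne (v'.eq_of_maximal v.maxl (((sup_le (le_sup_left.trans le_sup_right)
    (hJ.trans (le_sup_right.trans le_sup_right))).trans hn).trans h1))

end Vertex

end Cfsg.Agent.LocalEven64
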