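import Mathlib
import Cfsg.Agent.LocalEven64.VertexGroup

/-!
# The maximal 2-local subgroup of a vertex is `S₄` or `S₄ × 2`
-/

set_option autoImplicit false
set_option linter.unusedSectionVars false
set_option linter.style.haveILetI false

namespace Cfsg.Agent.LocalEven64

open Subgroup Cfsg
open scoped commutatorElement Pointwise

variable {G : Type*} [Group G] [Finite G]

namespace Vertex

variable {T K L : Subgroup G} (v : Vertex T K L) {k : G} (hk : CompData K k) (hC : AmCtx G T)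
variable {K' L' : Subgroup G} (v' : Vertex T K' L') {k' : G} (hk' : CompData K' k') (hne : L ≠ L')
  (hcard : Nat.card (zj T) ≤ 4)
include v hk hC v' hk' hne hcard

/-- `C_T(W) = W C₀`. -/
theorem rK_decomp {r : G} (hr : r ∈ rK T K) : ∃ b ∈ wOf K, ∃ e ∈ cK T K, r = b * e := by
  obtain ⟨hR, -⟩ := v.rK_eq hk hC v' hk' hne hcard
  rw [hR] at hr
  have hr' : r ∈ (wOf K : Set G) * (zj T : Set G) := by
    rw [← Subgroup.coe_mul_of_right_le_normalizer_left (wOf K) (zj T)
      (fun y hy => centralizer_le_normalizer _ (mem_centralizer_iff.mpr fun a ha =>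
        mem_centralizer_iff.mp (omegaCenterOf_le_centralizer _ hy) a (v.wOf_le_thompson ha)))]
    exact hr
  obtain ⟨a, ha, z, hz, haz⟩ := hr'
  have haz : a * z = r := haz
  obtain ⟨w, hwZ, hwW, hw1, -⟩ := v.exists_w
  rcases v.zj_split hk hz hwZ hwW hw1 with h | h
  · exact ⟨a, ha, z, h, haz.symm⟩
  · refine ⟨a * w, mul_mem ha hwW, z * w, h, ?_⟩
    rw [← haz, mul_assoc a w, ← mul_assoc w z,
      Thompson.elemAb_comm (isElementaryAbelian_omegaCenterOf _).1 hwZ hz, mul_assoc z,
      zj_mul_self hwZ, mul_one]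

theorem card_rK : Nat.card (rK T K) = 4 * Nat.card (cK T K) := by
  have hle : wOf K ⊔ cK T K = rK T K := by
    refine le_antisymm (sup_le v.wOf_le_rK
      ((inf_le_left : cK T K ≤ zj T).trans (v.zj_le_rK hk hC.hL hC.hN hC.hZ hC.fix))) fun r hr => ?_
    obtain ⟨b, hb, e, he, rfl⟩ := v.rK_decomp hk hC v' hk' hne hcard hr
    exact mul_mem (mem_sup_left hb) (mem_sup_right he)
  have h := Thompson.card_sup_mul_card_inf (H := wOf K) (K := cK T K) (fun y hy =>
    centralizer_le_normalizer _ (mem_centralizer_iff.mpr fun a ha =>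
      mem_centralizer_iff.mp (omegaCenterOf_le_centralizer _ hy.1) a (v.wOf_le_thompson ha)))
  rw [hle, inf_comm, v.inf_wOf_eq_bot hk, Subgroup.card_bot, mul_one, v.wOf_card] at h
  exact h

/-- `L` centralizes `C₀`. -/
theorem maximal_le_centralizer_cK : L ≤ centralizer (cK T K : Set G) := by
  classical
  obtain ⟨-, hRe⟩ := v.rK_eq hk hC v' hk' hne hcard
  intro l hl
  rw [mem_centralizer_iff]
  intro c hc
  by_cases hc1 : c = 1
  · simp [hc1]
  have hh : Nat.card (zj T) = 4 := by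
    have h := v.card_zj hk
    have h2 : Nat.card (cK T K) ≠ 1 := fun h1 =>
      hc1 (mem_bot.mp ((Subgroup.card_eq_one.mp h1) ▸ hc))
    have := Nat.card_pos (α := cK T K)
    omega
  obtain ⟨w, hwZ, hwW, hw1, hwu⟩ := v.exists_w
  have hwW' : w ∈ wOf K' :=
    (show w ∈ zj T ⊓ wOf K' from v.zj_inf_wOf_eq hk hC v' hk' hne hcard ▸ ⟨hwZ, hwW⟩).2
  have hcn : c ∉ cK T K' := fun h => hc1 (by
    have hm : c ∈ cK T K ⊓ cK T K' := ⟨hc, h⟩
    rwa [v.cK_inf v' rfl hne, mem_bot] at hm)
  have hcw : c * w ∈ cK T K' := (v'.zj_split hk' hc.1 hwZ hwW' hw1).resolve_left hcn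
  obtain ⟨c₀, hc₀, hc₀1, hcu⟩ := v.cK_eq_pair hk hh
  have hcu' : ∀ e ∈ cK T K, e = 1 ∨ e = c := by
    intro e he
    have hcc : c = c₀ := (hcu c hc).resolve_left hc1
    rcases hcu e he with h | h
    · exact Or.inl h
    · exact Or.inr (h.trans hcc.symm)
  have hwne : ∀ {i : ℕ}, cj (k ^ i) w ≠ c := fun {i} h => hw1 (cj_injective (k ^ i) (by
    rw [map_one, h]
    have hm : c ∈ cK T K ⊓ wOf K := ⟨hc, h ▸ cj_mem_of_le_normalizer
      (component_le_normalizer_wOf K (K.pow_mem hk.mem i)) hwW⟩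
    rw [v.inf_wOf_eq_bot hk] at hm
    exact mem_bot.mp hm))
  have hkc : ∀ i : ℕ, cj (k ^ i) c = c := fun i =>
    cj_eq_self_iff.mpr (mem_centralizer_iff.mp hc.2 _ (K.pow_mem hk.mem i))
  letI : MulAction ↥L G := MulAction.compHom G ((MulAut.conj (G := G)).comp L.subtype)
  have hsmul : ∀ (a : ↥L) (y : G), a • y = cj (a : G) y := fun _ _ => rfl
  -- the orbit of `c`
  have horb : ∀ a : ↥L, cj (a : G) c = c ∨ ∃ i : ℕ, i < 3 ∧ cj (a : G) c = cj (k ^ i) w := by
    intro a
    have hmem : cj (a : G) c ∈ rK T K := by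
      rw [← v.pCoreOf_maximal hk hC v' hk' hne hcard]
      exact cj_mem_of_le_normalizer (le_normalizer_pCoreOf L a.2) (by
        rw [v.pCoreOf_maximal hk hC v' hk' hne hcard]
        exact v.zj_le_rK hk hC.hL hC.hN hC.hZ hC.fix hc.1)
    obtain ⟨b, hb, e, he, hbe⟩ := v.rK_decomp hk hC v' hk' hne hcard hmem
    have hb' : b = 1 ∨ ∃ i : ℕ, i < 3 ∧ b = cj (k ^ i) w := by
      rcases hk.w_cases v.comp hwW hw1 hb with h | h | h | h
      · exact Or.inl h
      · exact Or.inr ⟨0, by norm_num, by rw [h]; simp [cj]⟩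
      · exact Or.inr ⟨1, by norm_num, by rw [h, pow_one]⟩
      · exact Or.inr ⟨2, by norm_num, by rw [h, sq, cj_mul, v.cube_fix hk hC hwW hw1]⟩
    rcases hb' with rfl | ⟨i, hi, rfl⟩
    · rcases hcu' e he with rfl | rfl
      · rw [mul_one] at hbe
        exact absurd (cj_injective (a : G) (hbe.trans (map_one _).symm)) hc1
      · rw [one_mul] at hbe
        exact Or.inl hbe
    · rcases hcu' e he with rfl | rfl
      · rw [mul_one] at hbe
        exact Or.inr ⟨i, hi, hbe⟩
      · exfalso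
        -- then the other central involution has its centralizer in `L`
        have h1 : cj ((k ^ i)⁻¹ * (a : G)) e = e * w := by
          rw [cj_mul, hbe]
          have h2 : cj (k ^ i) (e * w) = cj (k ^ i) w * e := by
            rw [map_mul, hkc i]
            exact mem_centralizer_iff.mp (hC.fix ((v.wOf_le_rK
              (cj_mem_of_le_normalizer (component_le_normalizer_wOf K (K.pow_mem hk.mem i)) hwW)).1))
              e hc.1
          rw [← h2, cj_inv_cj]
        refine hne (v'.eq_of_maximal v.maxl ((v'.le_centralizer_cK hcw).trans ?_))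
        rw [centralizer_singleton_eq_map h1]
        refine (Subgroup.map_mono (v.centralizer_le_of_mem_cK hc hc1)).trans (le_of_eq ?_)
        exact map_cj_eq_self_of_mem (L.mul_mem (L.inv_mem (L.pow_mem (v.le hk.mem) i)) a.2)
  by_contra hne'
  have hmove : cj l c ≠ c := fun h => hne' (cj_eq_self_iff.mp h).symm
  obtain ⟨i, hi, hli⟩ := (horb ⟨l, hl⟩).resolve_left hmove
  have horbit : MulAction.orbit ↥L c = ({c, w, cj k w, w * cj k w} : Set G) := by
    refine Set.Subset.antisymm ?_ ?_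
    · rintro _ ⟨a, rfl⟩
      show cj (a : G) c ∈ _
      rcases horb a with h | ⟨j, hj, h⟩
      · rw [h]; exact Set.mem_insert _ _
      · rw [h]
        interval_cases j
        · simp [cj]
        · simp [pow_one]
        · rw [sq, cj_mul, v.cube_fix hk hC hwW hw1]; simp
    · have hreach : ∀ j : ℕ, cj (k ^ j) w ∈ MulAction.orbit ↥L c := by
        intro j
        refine ⟨⟨k ^ j * ((k ^ i)⁻¹ * l),
          L.mul_mem (L.pow_mem (v.le hk.mem) j) (L.mul_mem (L.inv_mem (L.pow_mem (v.le hk.mem) i)) hl)⟩, ?_⟩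
        show cj (k ^ j * ((k ^ i)⁻¹ * l)) c = _
        have hli' : cj l c = cj (k ^ i) w := hli
        rw [cj_mul, cj_mul, hli', cj_inv_cj]
      rintro z (rfl | rfl | rfl | rfl)
      · exact MulAction.mem_orbit_self _
      · simpa [cj] using hreach 0
      · simpa [pow_one] using hreach 1
      · have := hreach 2
        rwa [sq, cj_mul, v.cube_fix hk hC hwW hw1] at this
  have hidx := MulAction.index_stabilizer ↥L c
  have hdvd : (MulAction.stabilizer ↥L c).index ∣ T.relIndex L := by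
    refine Subgroup.index_dvd_of_le fun a ha => ?_
    rw [MulAction.mem_stabilizer_iff, hsmul]
    exact cj_eq_self_iff.mpr (mem_centralizer_iff.mp (hC.fix (mem_subgroupOf.mp ha)) c hc.1).symm
  have hkw : cj k w ≠ w := fun h => hw1 (hk.fpf w hwW h)
  have hkw1 : cj k w ≠ 1 := fun h => hw1 (cj_injective k (h.trans (map_one _).symm))
  have hcW : ∀ y ∈ wOf K, c ≠ y := fun y hy h => hc1 (by
    have hm : c ∈ cK T K ⊓ wOf K := ⟨hc, h ▸ hy⟩
    rw [v.inf_wOf_eq_bot hk] at hm
    exact mem_bot.mp hm)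
  have h4 : ({c, w, cj k w, w * cj k w} : Set G).ncard = 4 := by
    have hkwW := hk.cj_mem v.comp hwW
    rw [Set.ncard_insert_of_notMem (by
        simp only [Set.mem_insert_iff, Set.mem_singleton_iff, not_or]
        exact ⟨hcW _ hwW, hcW _ hkwW, hcW _ (mul_mem hwW hkwW)⟩) (Set.toFinite _),
      Set.ncard_insert_of_notMem (by
        simp only [Set.mem_insert_iff, Set.mem_singleton_iff, not_or]
        exact ⟨Ne.symm hkw, fun h => hkw1 (left_eq_mul.mp h)⟩) (Set.toFinite _),
      Set.ncard_pair (fun h => hw1 (right_eq_mul.mp h))]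
  rw [horbit, h4] at hidx
  rw [hidx] at hdvd
  exact (Nat.not_odd_iff_even.mpr (even_iff_two_dvd.mpr (dvd_trans (by norm_num) hdvd))) v.sylow.2.2

theorem card_maximal_le : Nat.card L ≤ 6 * Nat.card (rK T K) := by
  classical
  set R := rK T K with hR
  obtain ⟨-, hRe⟩ := v.rK_eq hk hC v' hk' hne hcard
  have hO : pCoreOf 2 L = R := v.pCoreOf_maximal hk hC v' hk' hne hcard
  have hLR : ∀ {l x : G}, l ∈ L → x ∈ R → cj l x ∈ R := fun hl hx => by
    have := cj_mem_of_le_normalizer (le_normalizer_pCoreOf (p := 2) L hl) (hO.ge hx)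
    exact hO.le this
  have hfix : ∀ {l e : G}, l ∈ L → e ∈ cK T K → cj l e = e := fun hl he =>
    cj_eq_self_iff.mpr (mem_centralizer_iff.mp
      (v.maximal_le_centralizer_cK hk hC v' hk' hne hcard hl) _ he).symm
  have hR2 : ∀ {x : G}, x ∈ R → x * x = 1 := fun hx => by rw [← sq]; exact hRe.2 _ hx
  have hRc : ∀ {x y : G}, x ∈ R → y ∈ R → x * y = y * x := fun hx hy =>
    Thompson.elemAb_comm hRe.1 hx hy
  have hcR : cK T K ≤ R := (inf_le_left : cK T K ≤ zj T).trans (v.zj_le_rK hk hC.hL hC.hN hC.hZ hC.fix)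
  have hWR : wOf K ≤ R := v.wOf_le_rK
  obtain ⟨w, hwZ, hwW, hw1, hwu⟩ := v.exists_w
  set x := cj k w with hx
  have hxW : x ∈ wOf K := hk.cj_mem v.comp hwW
  -- the kernel of the action on `R / C₀`
  have hmod : ∀ {l : G}, l ∈ L → w * cj l w ∈ cK T K → x * cj l x ∈ cK T K → l ∈ R := by
    let K0 : Subgroup G :=
      { carrier := {l | l ∈ L ∧ ∀ z ∈ R, z * cj l z ∈ cK T K}
        one_mem' := ⟨one_mem _, fun z hz => by simp [cj, hR2 hz]⟩
        mul_mem' := by
          rintro a b ⟨ha, ha'⟩ ⟨hb, hb'⟩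
          refine ⟨L.mul_mem ha hb, fun z hz => ?_⟩
          have h1 := hb' z hz
          have h2 := ha' z hz
          have h3 : cj a (z * cj b z) = z * cj b z := hfix ha h1
          rw [map_mul, ← cj_mul] at h3
          have e : z * cj (a * b) z = (z * cj a z) * (cj a z * cj (a * b) z) := by
            rw [mul_assoc, ← mul_assoc (cj a z), hR2 (hLR ha hz), one_mul]
          rw [e, h3]
          exact mul_mem h2 h1
        inv_mem' := by
          rintro a ⟨ha, ha'⟩
          refine ⟨L.inv_mem ha, fun z hz => ?_⟩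
          have hz' := hLR (L.inv_mem ha) hz
          have h1 := ha' _ hz'
          rw [cj_cj_inv, hRc hz' hz] at h1
          exact h1 }
    have hK0n : L ≤ normalizer (K0 : Set G) := by
      refine Coprime.le_normalizer_of_conj_mem fun a ha l hl => ?_
      obtain ⟨hl1, hl2⟩ := (hl : l ∈ L ∧ ∀ z ∈ R, z * cj l z ∈ cK T K)
      refine ⟨L.mul_mem (L.mul_mem ha hl1) (L.inv_mem ha), fun z hz => ?_⟩
      have h1 := hl2 _ (hLR (L.inv_mem ha) hz)
      have h2 := hfix ha h1
      rw [map_mul, cj_cj_inv] at h2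
      have e : cj (a * l * a⁻¹) z = cj a (cj l (cj a⁻¹ z)) := by rw [cj_mul, cj_mul]
      rw [e, h2]
      exact h1
    have hK0p : IsPGroup 2 K0 := by
      rintro ⟨l, hl, hl'⟩
      have hll : l * l ∈ R := by
        refine v.centralizer_rK_le hk hC v' hk' hne hcard (mem_centralizer_iff.mpr fun z hz => ?_)
        refine (cj_eq_self_iff.mp ?_).symm
        have h1 := hl' z hz
        have h2 := hfix hl h1
        rw [map_mul, hRc hz (hLR hl hz), mul_right_inj] at h2
        rw [cj_mul]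
        exact h2
      refine ⟨2, Subtype.ext ?_⟩
      show l ^ 2 ^ 2 = 1
      rw [show (2 : ℕ) ^ 2 = 2 * 2 by norm_num, pow_mul, sq, sq, hR2 hll]
    have hK0R : K0 ≤ R := (le_pCoreOf (fun l (hl : l ∈ K0) => hl.1) hK0n hK0p).trans hO.le
    intro l hl h1 h2
    refine hK0R ⟨hl, fun z hz => ?_⟩
    obtain ⟨b, hb, e, he, rfl⟩ := v.rK_decomp hk hC v' hk' hne hcard hz
    have hbe : b * cj l b ∈ cK T K := by
      rcases hk.w_cases v.comp hwW hw1 hb with rfl | rfl | rfl | rfl
      · simp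
      · exact h1
      · exact h2
      · have := mul_mem h1 h2
        rw [map_mul]
        convert this using 1
        rw [mul_assoc w, ← mul_assoc (cj k w), hRc (hWR hxW) (hLR hl (hWR hwW))]
        simp only [mul_assoc]
        rfl
    have e1 : b * e * cj l (b * e) = b * cj l b := by
      rw [map_mul, hfix hl he, mul_assoc b e, ← mul_assoc e, hRc (hcR he) (hLR hl (hWR hb)),
        mul_assoc (cj l b), hR2 (hcR he), mul_one]
    rw [e1]
    exact hbe
  -- the images of `w` and `x` modulo `C₀`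
  let el : Fin 3 → G := ![w, x, w * x]
  have hel : ∀ z ∈ R, z ∈ cK T K ∨ ∃ i : Fin 3, el i * z ∈ cK T K := by
    intro z hz
    obtain ⟨b, hb, e, he, rfl⟩ := v.rK_decomp hk hC v' hk' hne hcard hz
    rcases hk.w_cases v.comp hwW hw1 hb with h | h | h | h
    · subst h; left; rwa [one_mul]
    · right; refine ⟨0, ?_⟩
      show w * (b * e) ∈ cK T K
      rwa [h, ← mul_assoc, hR2 (hWR hwW), one_mul]
    · right; refine ⟨1, ?_⟩
      show x * (b * e) ∈ cK T K
      rwa [h, ← mul_assoc, hR2 (hWR hxW), one_mul]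
    · right; refine ⟨2, ?_⟩
      show w * x * (b * e) ∈ cK T K
      rwa [h, ← hx, ← mul_assoc, hR2 (hWR (mul_mem hwW hxW)), one_mul]
  have himg : ∀ (a : L) (y : G), y ∈ wOf K → y ≠ 1 → ∃ i : Fin 3, el i * cj (a : G) y ∈ cK T K := by
    intro a y hy hy1
    refine (hel _ (hLR a.2 (hWR hy))).resolve_left fun h => hy1 ?_
    have h1 := hfix (L.inv_mem a.2) h
    rw [cj_inv_cj] at h1
    have hm : y ∈ cK T K ⊓ wOf K := ⟨h1.symm ▸ h, hy⟩
    rw [v.inf_wOf_eq_bot hk] at hm
    exact mem_bot.mp hm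
  have hx1 : x ≠ 1 := fun h => hw1 (cj_injective k (h.trans (map_one _).symm))
  choose f hf using fun a : L => himg a w hwW hw1
  choose g hg using fun a : L => himg a x hxW hx1
  have helR : ∀ i, el i ∈ R := by
    intro i
    fin_cases i
    exacts [hWR hwW, hWR hxW, hWR (mul_mem hwW hxW)]
  have hfg : ∀ a : L, f a ≠ g a := by
    intro a h
    have h1 := mul_mem (hf a) (hg a)
    rw [h, mul_assoc, ← mul_assoc (cj (a : G) w), hRc (hLR a.2 (hWR hwW)) (helR (g a)), ← mul_assoc,
      ← mul_assoc, hR2 (helR (g a)), one_mul, ← map_mul] at h1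
    have h2 := hfix (L.inv_mem a.2) h1
    rw [cj_inv_cj] at h2
    have hm : w * x ∈ cK T K ⊓ wOf K := ⟨h2.symm ▸ h1, mul_mem hwW hxW⟩
    rw [v.inf_wOf_eq_bot hk] at hm
    exact hw1 (hk.fpf w hwW
      ((eq_inv_of_mul_eq_one_right (mem_bot.mp hm)).trans (inv_eq_of_mul_eq_one_right (hR2 (hWR hwW)))))
  have hdiff : ∀ {a b : L} {y : G} {i : Fin 3}, y ∈ wOf K → el i * cj (a : G) y ∈ cK T K →
      el i * cj (b : G) y ∈ cK T K → y * cj ((a : G)⁻¹ * (b : G)) y ∈ cK T K := by
    intro a b y i hy ha hb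
    have h1 := mul_mem ha hb
    rw [mul_assoc, ← mul_assoc (cj (a : G) y), hRc (hLR a.2 (hWR hy)) (helR i), ← mul_assoc,
      ← mul_assoc, hR2 (helR i), one_mul] at h1
    have h2 := hfix (L.inv_mem a.2) h1
    rw [map_mul, cj_inv_cj, ← cj_mul] at h2
    rw [h2]
    exact h1
  let F : ↥L ⧸ R.subgroupOf L → {p : Fin 3 × Fin 3 // p.1 ≠ p.2} := fun q =>
    ⟨(f q.out, g q.out), hfg q.out⟩
  have hF : Function.Injective F := by
    intro q r hqr
    have h1 : f q.out = f r.out := congrArg (fun p => p.1.1) hqr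
    have h2 : g q.out = g r.out := congrArg (fun p => p.1.2) hqr
    rw [← QuotientGroup.out_eq' q, ← QuotientGroup.out_eq' r, QuotientGroup.eq, mem_subgroupOf,
      Subgroup.coe_mul, Subgroup.coe_inv]
    exact hmod (L.mul_mem (L.inv_mem q.out.2) r.out.2) (hdiff hwW (hf q.out) (h1 ▸ hf r.out))
      (hdiff hxW (hg q.out) (h2 ▸ hg r.out))
  have hle := Nat.card_le_card_of_injective F hF
  have h6 : Nat.card {p : Fin 3 × Fin 3 // p.1 ≠ p.2} = 6 := by
    rw [Nat.card_eq_fintype_card]; rfl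
  rw [h6] at hle
  have h := Subgroup.card_mul_index (R.subgroupOf L)
  rw [Nat.card_congr (Subgroup.subgroupOfEquivOfLe (show R ≤ L from fun r hr => v.sylow.1 hr.1)).toEquiv,
    Subgroup.index_eq_card] at h
  rw [← h, mul_comm 6]
  exact Nat.mul_le_mul_left _ hle

theorem sup_eq_maximal : K ⊔ T = L := by
  refine Subgroup.eq_of_le_of_card_ge (v.sup_le_maximal hk hC) ?_
  refine (v.card_maximal_le hk hC v' hk' hne hcard).trans ?_
  have h := Subgroup.card_mul_index ((rK T K).subgroupOf (K ⊔ T))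
  rw [Nat.card_congr (Subgroup.subgroupOfEquivOfLe
    (show rK T K ≤ K ⊔ T from inf_le_left.trans le_sup_right)).toEquiv,
    show ((rK T K).subgroupOf (K ⊔ T)).index = (rK T K).relIndex (K ⊔ T) from rfl,
    v.relIndex_rK_sup hk hC] at h
  rw [← h, mul_comm]

end Vertex

end Cfsg.Agent.LocalEven64
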