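import Mathlib
import Cfsg.Agent.LocalEven64.VertexFour

/-!
# Isomorphism with `S₄` and `S₄ × 2`
-/

set_option autoImplicit false
set_option linter.unusedSectionVars false
set_option linter.style.haveILetI false

namespace Cfsg.Agent.LocalEven64

open Subgroup Cfsg
open scoped commutatorElement Pointwise

variable {G : Type*} [Group G] [Finite G]

namespace Vertex

variable {T K L : Subgroup G} (v : Vertex T K L) {k : G} (hk : CompData K k) (hC : AmCtx G T)
variable {K' L' : Subgroup G} (v' : Vertex T K' L') {k' : G} (hk' : CompData K' k') (hne : L ≠ L')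
  (hcard : Nat.card (zj T) ≤ 4)
include v hk hC v' hk' hne hcard

theorem exists_four :
    ∃ P₀ : Subgroup G, P₀ ≤ K ⊔ T ∧ Nonempty (↥P₀ ≃* Equiv.Perm (Fin 4)) ∧ P₀ ⊓ cK T K = ⊥ ∧
      Nat.card P₀ = 24 := by
  classical
  haveI : Fact (Nat.Prime 3) := ⟨Nat.prime_three⟩
  obtain ⟨hRsup, hRe⟩ := v.rK_eq hk hC v' hk' hne hcard
  obtain ⟨hTR, hkR⟩ := v.rK_normalizes hk hC
  set R := rK T K with hR
  set P := K ⊔ T with hP
  obtain ⟨t, ht, htZ, -⟩ := v'.exists_x hk' hC
  have htT : t ∈ T := (v'.wOf_le_rK ht).1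
  have htR : t ∉ R := fun h => htZ (by
    rw [← v.rK_inf_eq_zj hk hC v' hk' hne hcard]; exact ⟨h, v'.wOf_le_rK ht⟩)
  have ht2 : t * t = 1 := v'.wOf_mul_self ht
  have hti : t⁻¹ = t := inv_eq_of_mul_eq_one_right ht2
  have hkP : k ∈ P := mem_sup_left hk.mem
  have htP : t ∈ P := mem_sup_right htT
  set q := cj t k * k with hq
  have hqR : q ∈ R := v.pCoreOf_le_rK hk hC.hL hC.hN hC.hZ
    (v.inverts hk hC.hL hC.hN hC.hZ hC.fix htT htR)
  set d := t * cj k t with hd
  have hdP : d ∈ P := P.mul_mem htP (P.mul_mem (P.mul_mem hkP htP) (P.inv_mem hkP))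
  have hdq : d = q * (k * k)⁻¹ := by
    rw [hd, hq, cj_apply, cj_apply, hti]; group
  have hdinv : cj t d = d⁻¹ := by
    have hki : (cj k t)⁻¹ = cj k t := by rw [← map_inv, hti]
    rw [hd, mul_inv_rev, hki, hti, cj_apply, hti, ← mul_assoc t t, ht2, one_mul]
  have hRconj : ∀ {r : G}, r ∈ R → cj k r ∈ R ∧ cj k⁻¹ r ∈ R := fun hr =>
    ⟨v.cj_mem_rK hk hC hr, v.cj_inv_mem_rK hk hC hr⟩
  have hk3 : k ^ 3 ∈ R := v.cube_mem hk hC
  have hd3 : d * d * d ∈ R := by
    have e : d * d * d = q * cj k⁻¹ (cj k⁻¹ q) * cj k⁻¹ (cj k⁻¹ (cj k⁻¹ (cj k⁻¹ q))) *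
        ((k ^ 3)⁻¹ * (k ^ 3)⁻¹) := by
      rw [hdq, pow_three]; simp only [cj_apply]; group
    rw [e]
    exact R.mul_mem (R.mul_mem (R.mul_mem hqR (hRconj (hRconj hqR).2).2)
      (hRconj (hRconj (hRconj (hRconj hqR).2).2).2).2) (R.mul_mem (R.inv_mem hk3) (R.inv_mem hk3))
  have hd6 : (d * d * d) * (d * d * d) = 1 := by rw [← sq]; exact hRe.2 _ hd3
  have hkT : k ∉ T := by
    intro h
    obtain ⟨w, -, hw, hw1, -⟩ := v.exists_w
    obtain ⟨n, hn⟩ := IsPGroup.iff_orderOf.mp v.isPGroup ⟨k, h⟩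
    rw [← Subgroup.orderOf_coe] at hn
    have hodd := hk.odd
    rw [show orderOf k = 2 ^ n from hn] at hodd
    rcases Nat.eq_zero_or_pos n with rfl | hn0
    · rw [pow_zero, orderOf_eq_one_iff] at hn
      have hk1 : k = 1 := hn
      exact hw1 (hk.fpf w hw (by rw [hk1]; simp [cj]))
    · exact (Nat.not_odd_iff_even.mpr ((Nat.even_pow' hn0.ne').mpr even_two)) hodd
  set d₂ := d * d with hd₂
  have hd₂P : d₂ ∈ P := P.mul_mem hdP hdP
  have hd₂q : d₂ = q * cj k⁻¹ (cj k⁻¹ q) * ((k * k) * (k * k))⁻¹ := by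
    rw [hd₂, hdq]; simp only [cj_apply]; group
  have hd₂R : d₂ ∉ R := by
    intro h
    rw [hd₂q] at h
    have h1 : ((k * k) * (k * k))⁻¹ ∈ R := by
      have := R.mul_mem (R.inv_mem (R.mul_mem hqR (hRconj (hRconj hqR).2).2)) h
      rwa [inv_mul_cancel_left] at this
    have h2 := R.mul_mem (R.inv_mem_iff.mp h1) (R.inv_mem hk3)
    rw [show k * k * (k * k) * (k ^ 3)⁻¹ = k by rw [pow_three]; group] at h2
    exact hkT h2.1
  have hd₂3 : d₂ ^ 3 = 1 := by
    rw [pow_three, hd₂]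
    calc d * d * (d * d * (d * d)) = (d * d * d) * (d * d * d) := by simp only [mul_assoc]
      _ = 1 := hd6
  have hord : orderOf d₂ = 3 := orderOf_eq_prime hd₂3 fun h => hd₂R (h ▸ one_mem _)
  have hd₂inv : cj t d₂ = d₂⁻¹ := by rw [hd₂, map_mul, hdinv]; exact (mul_inv_rev d d).symm
  set A := zpowers d₂ with hA
  have hAcard : Nat.card A = 3 := by rw [hA, Nat.card_zpowers, hord]
  have htA : zpowers t ≤ normalizer (A : Set G) := zpowers_le.mpr (by
    rw [← map_cj_eq_self_iff, hA, MonoidHom.map_zpowers, hd₂inv, zpowers_inv])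
  have htord : orderOf t = 2 := orderOf_eq_prime (by rw [sq, ht2]) fun h => htR (h ▸ one_mem _)
  have htcases : ∀ {b : G}, b ∈ zpowers t → b = 1 ∨ b = t := fun {b} hb => by
    obtain ⟨i, rfl⟩ := hb
    rcases Int.even_or_odd i with ⟨j, rfl⟩ | ⟨j, rfl⟩
    · left
      show t ^ (j + j) = 1
      rw [zpow_add, ← (Commute.refl t).mul_zpow, ht2, one_zpow]
    · right
      show t ^ (2 * j + 1) = t
      rw [zpow_add, zpow_mul, zpow_ofNat, sq, ht2, one_zpow, one_mul, zpow_one]
  have hAT : ∀ {a : G}, a ∈ A → a ∈ T → a = 1 := by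
    intro a ha haT
    rw [← orderOf_eq_one_iff]
    obtain ⟨n, hn⟩ := IsPGroup.iff_orderOf.mp v.isPGroup ⟨a, haT⟩
    rw [← Subgroup.orderOf_coe] at hn
    have h3 : orderOf a ∣ 3 := by
      rw [← hAcard, ← Subgroup.orderOf_mk a ha]; exact orderOf_dvd_natCard _
    rw [show orderOf a = 2 ^ n from hn] at h3 ⊢
    rcases (Nat.dvd_prime Nat.prime_three).mp h3 with h | h
    · exact h
    · rcases Nat.eq_zero_or_pos n with rfl | hn0
      · rfl
      · exact absurd ((Nat.even_pow' hn0.ne').mpr even_two : Even (2 ^ n)) (by rw [h]; decide)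
  set H₀ := A ⊔ zpowers t with hH₀
  have hH₀P : H₀ ≤ P := sup_le (zpowers_le.mpr hd₂P) (zpowers_le.mpr htP)
  have hH₀mem : ∀ {h : G}, h ∈ H₀ → ∃ a ∈ A, h = a ∨ h = a * t := by
    intro h hh
    have hh' : h ∈ (A : Set G) * ((zpowers t : Subgroup G) : Set G) := by
      rw [← Subgroup.coe_mul_of_right_le_normalizer_left A _ htA]; exact hh
    obtain ⟨a, ha, b, hb, hab⟩ := hh'
    have hab : a * b = h := hab
    rcases htcases hb with rfl | rfl
    · exact ⟨a, ha, Or.inl (by rw [← hab, mul_one])⟩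
    · exact ⟨a, ha, Or.inr hab.symm⟩
  have hH₀R : H₀ ⊓ R = ⊥ := by
    rw [eq_bot_iff]
    rintro h ⟨hh, hhR⟩
    obtain ⟨a, ha, rfl | rfl⟩ := hH₀mem hh
    · exact mem_bot.mpr (hAT ha hhR.1)
    · exfalso
      have haT : a ∈ T := by
        have := T.mul_mem hhR.1 htT
        rwa [mul_assoc, ht2, mul_one] at this
      rw [hAT ha haT, one_mul] at hhR
      exact htR hhR
  have hH₀card : Nat.card H₀ = 6 := by
    have h := Thompson.card_sup_mul_card_inf (H := A) (K := zpowers t) htA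
    have hinf : A ⊓ zpowers t = ⊥ := by
      rw [eq_bot_iff]
      rintro a ⟨ha, hb⟩
      exact mem_bot.mpr (hAT ha (zpowers_le.mpr htT hb))
    rw [← hH₀, hinf, Subgroup.card_bot, mul_one, hAcard, Nat.card_zpowers, htord] at h
    exact h
  have hPW : P ≤ normalizer (wOf K : Set G) := sup_le (component_le_normalizer_wOf K)
    ((v.le_normalizer hC.hL hC.hN hC.hZ hC.fix).trans (normalizer_le_normalizer_wOf K))
  set P₀ := wOf K ⊔ H₀ with hP₀
  have hWinf : wOf K ⊓ H₀ = ⊥ :=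
    le_bot_iff.mp (le_trans (le_inf inf_le_right (inf_le_left.trans v.wOf_le_rK)) hH₀R.le)
  have hP₀card : Nat.card P₀ = 24 := by
    have h := Thompson.card_sup_mul_card_inf (H := wOf K) (K := H₀) (hH₀P.trans hPW)
    rw [← hP₀, hWinf, Subgroup.card_bot, mul_one, v.wOf_card, hH₀card] at h
    exact h
  have hP₀P : P₀ ≤ P := sup_le ((v.wOf_le_rK.trans inf_le_left).trans le_sup_right) hH₀P
  -- faithful action on the four cosets of `H₀`
  set H' := H₀.subgroupOf P₀ with hH'
  have hidx : H'.index = 4 := by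
    have h := Subgroup.card_mul_index H'
    rw [hH', Nat.card_congr (Subgroup.subgroupOfEquivOfLe (le_sup_right : H₀ ≤ P₀)).toEquiv, hP₀card,
      hH₀card] at h
    rw [hH']
    omega
  have hcore : H'.normalCore = ⊥ := by
    rw [eq_bot_iff]
    intro n hn
    have hnW : ∀ m ∈ H'.normalCore, ∀ y ∈ wOf K, cj (m : G) y = y := by
      intro m hm y hy
      have hy' : y ∈ P₀ := mem_sup_left hy
      have h1 := (Subgroup.normalCore_normal H').conj_mem m hm ⟨y, hy'⟩
      have hm' : (m : G) ∈ H₀ := mem_subgroupOf.mp (Subgroup.normalCore_le H' hm)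
      have h2 : y * m * y⁻¹ ∈ H₀ := by
        have := mem_subgroupOf.mp (Subgroup.normalCore_le H' h1)
        simpa using this
      have h3 : y * cj (m : G) y⁻¹ ∈ wOf K ⊓ H₀ := ⟨(wOf K).mul_mem hy
        (cj_mem_of_le_normalizer (hPW (hH₀P hm')) ((wOf K).inv_mem hy)), by
        have := H₀.mul_mem h2 (H₀.inv_mem hm')
        simpa [cj, mul_assoc] using this⟩
      rw [hWinf, mem_bot, map_inv, mul_inv_eq_one] at h3
      exact h3.symm
    have hno : ∀ a : G, a ∈ A → (∀ y ∈ wOf K, cj a y = y) → a = 1 := by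
      intro a ha hfix
      by_contra ha1
      have hgen : d₂ ∈ zpowers a := by
        have h1 : zpowers a = A := Subgroup.eq_of_le_of_card_ge (zpowers_le.mpr ha) (by
          rw [hAcard, Nat.card_zpowers]
          have h3 : orderOf a ∣ 3 := by
            rw [← hAcard, ← Subgroup.orderOf_mk a ha]; exact orderOf_dvd_natCard _
          rcases (Nat.dvd_prime Nat.prime_three).mp h3 with h | h
          · exact absurd (orderOf_eq_one_iff.mp h) ha1
          · exact h.ge)
        rw [h1]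
        exact mem_zpowers d₂
      obtain ⟨i, hi⟩ := hgen
      obtain ⟨w, -, hw, hw1, -⟩ := v.exists_w
      have hdw : cj d₂ w = w := by
        have hsub : zpowers a ≤ centralizer (wOf K : Set G) := zpowers_le.mpr
          (mem_centralizer_iff.mpr fun y hy => (cj_eq_self_iff.mp (hfix y hy)).symm)
        exact cj_eq_self_iff.mpr (mem_centralizer_iff.mp (hsub ⟨i, hi⟩) w hw).symm
      have hRfix : ∀ {r y : G}, r ∈ R → y ∈ wOf K → cj r y = y := fun hr hy =>
        cj_eq_self_iff.mpr (mem_centralizer_iff.mp hr.2 _ hy).symm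
      have hkk : k * k * (k * k) = k ^ 3 * k := by rw [pow_three]; group
      have h4 : cj ((k * k) * (k * k))⁻¹ w = w := by
        rw [hd₂q, cj_mul] at hdw
        have hmem : cj ((k * k) * (k * k))⁻¹ w ∈ wOf K := cj_mem_of_le_normalizer
          (component_le_normalizer_wOf K (K.inv_mem (K.mul_mem (K.mul_mem hk.mem hk.mem)
            (K.mul_mem hk.mem hk.mem)))) hw
        rwa [hRfix (R.mul_mem hqR (hRconj (hRconj hqR).2).2) hmem] at hdw
      have h5 := congrArg (cj ((k * k) * (k * k))) h4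
      rw [cj_cj_inv, hkk, cj_mul, hRfix hk3 (hk.cj_mem v.comp hw)] at h5
      exact hw1 (hk.fpf w hw h5.symm)
    have hn' : (n : G) ∈ H₀ := mem_subgroupOf.mp (Subgroup.normalCore_le H' hn)
    obtain ⟨a, ha, hna | hna⟩ := hH₀mem hn'
    · have := hno a ha fun y hy => hna ▸ hnW n hn y hy
      exact mem_bot.mpr (Subtype.ext (hna.trans this))
    · exfalso
      -- conjugation by `d₂` gives an element of the core in `A`
      have hd₂0 : d₂ ∈ P₀ := mem_sup_right (mem_sup_left (mem_zpowers d₂))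
      have hm := H'.normalCore.mul_mem ((Subgroup.normalCore_normal H').conj_mem n hn ⟨d₂, hd₂0⟩)
        (H'.normalCore.inv_mem hn)
      have hcomm : a * d₂ = d₂ * a := by
        obtain ⟨i, rfl⟩ := ha
        exact ((Commute.refl d₂).zpow_left i).eq
      have htd : t * d₂⁻¹ * t = d₂ := by
        have h1 := congrArg (fun z : G => z⁻¹) hd₂inv
        simp only [cj_apply, mul_inv_rev, inv_inv, hti] at h1
        rw [mul_assoc]
        exact h1
      have hval : d₂ * (a * t) * d₂⁻¹ * (a * t)⁻¹ = d₂ * d₂ := by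
        calc d₂ * (a * t) * d₂⁻¹ * (a * t)⁻¹ = d₂ * a * (t * d₂⁻¹ * t⁻¹) * a⁻¹ := by group
          _ = d₂ * (a * d₂) * a⁻¹ := by rw [hti, htd, mul_assoc d₂]
          _ = d₂ * d₂ := by rw [hcomm]; group
      have hfix2 : ∀ y ∈ wOf K, cj (d₂ * d₂) y = y := by
        intro y hy
        have h1 := hnW _ hm y hy
        simp only [Subgroup.coe_mul, Subgroup.coe_inv, hna] at h1
        rwa [hval] at h1
      have h2 := hno (d₂ * d₂) (mul_mem (mem_zpowers d₂) (mem_zpowers d₂)) hfix2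
      have h3 : d₂ ^ 2 = 1 := by rw [sq]; exact h2
      have h4 := orderOf_dvd_of_pow_eq_one h3
      rw [hord] at h4
      norm_num at h4
  have hinj : Function.Injective (MulAction.toPermHom ↥P₀ (↥P₀ ⧸ H')) := by
    rw [← MonoidHom.ker_eq_bot_iff, ← Subgroup.normalCore_eq_ker, hcore]
  have hqcard : Nat.card (↥P₀ ⧸ H') = 4 := by rw [← Subgroup.index_eq_card, hidx]
  have hbij : Function.Bijective (MulAction.toPermHom ↥P₀ (↥P₀ ⧸ H')) :=
    hinj.bijective_of_nat_card_le (by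
      rw [Nat.card_perm, hqcard, hP₀card]
      rfl)
  refine ⟨P₀, hP₀P, ⟨(MulEquiv.ofBijective _ hbij).trans
    (Equiv.permCongrHom (Finite.equivFinOfCardEq hqcard))⟩, ?_, hP₀card⟩
  rw [eq_bot_iff]
  rintro y ⟨hy, hyc⟩
  have hyR : y ∈ R :=
    v.zj_le_rK hk hC.hL hC.hN hC.hZ hC.fix hyc.1
  have hy' : y ∈ (wOf K : Set G) * (H₀ : Set G) := by
    rw [← Subgroup.coe_mul_of_right_le_normalizer_left _ _ (hH₀P.trans hPW)]; exact hy
  obtain ⟨a, ha, h, hh, hah⟩ := hy'
  have hah : a * h = y := hah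
  have hhR : h ∈ H₀ ⊓ R := ⟨hh, by
    have := R.mul_mem (R.inv_mem (v.wOf_le_rK ha)) hyR
    rwa [← hah, inv_mul_cancel_left] at this⟩
  rw [hH₀R, mem_bot] at hhR
  rw [hhR, mul_one] at hah
  have hm : y ∈ cK T K ⊓ wOf K := ⟨hyc, hah ▸ ha⟩
  rwa [v.inf_wOf_eq_bot hk] at hm

/-- `L ≅ S₄` or `L ≅ S₄ × 2`, according to the order of `Ω₁(Z(J(T)))`. -/
theorem maximal_iso :
    (Nat.card (zj T) = 2 → Nonempty (↥L ≃* Equiv.Perm (Fin 4))) ∧
      (Nat.card (zj T) = 4 → Nonempty (↥L ≃* Equiv.Perm (Fin 4) × Multiplicative (ZMod 2))) := by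
  obtain ⟨P₀, hP₀, ⟨e⟩, hinf, hcard₀⟩ := v.exists_four hk hC v' hk' hne hcard
  have hLe := v.sup_eq_maximal hk hC v' hk' hne hcard
  have hLcard : Nat.card L = 24 * Nat.card (cK T K) := by
    have h := Subgroup.card_mul_index ((rK T K).subgroupOf (K ⊔ T))
    rw [Nat.card_congr (Subgroup.subgroupOfEquivOfLe
      (show rK T K ≤ K ⊔ T from inf_le_left.trans le_sup_right)).toEquiv,
      show ((rK T K).subgroupOf (K ⊔ T)).index = (rK T K).relIndex (K ⊔ T) from rfl,
      v.relIndex_rK_sup hk hC, v.card_rK hk hC v' hk' hne hcard, hLe] at h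
    omega
  have hn := v.card_zj hk
  constructor
  · intro h2
    have hc1 : Nat.card (cK T K) = 1 := by omega
    have hPL : P₀ = L := Subgroup.eq_of_le_of_card_ge (hP₀.trans hLe.le) (by rw [hLcard, hcard₀, hc1])
    exact ⟨(MulEquiv.subgroupCongr hPL).symm.trans e⟩
  · intro h4
    have hc2 : Nat.card (cK T K) = 2 := by omega
    have hcL : cK T K ≤ L := fun c hc =>
      v.sylow.1 (Thompson.thompsonSubgroupOf_le T (omegaCenterOf_le _ hc.1))
    have hcomm : ∀ (a : ↥P₀) (c : ↥(cK T K)), (a : G) * c = c * a := fun a c =>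
      (mem_centralizer_iff.mp (v.maximal_le_centralizer_cK hk hC v' hk' hne hcard (hLe.le (hP₀ a.2)))
        c c.2).symm
    let f : ↥P₀ × ↥(cK T K) →* ↥L :=
      MonoidHom.noncommCoprod (Subgroup.inclusion (hP₀.trans hLe.le)) (Subgroup.inclusion hcL)
        fun a c => Subtype.ext (hcomm a c)
    have hf : Function.Injective f := by
      rw [← MonoidHom.ker_eq_bot_iff, eq_bot_iff]
      rintro ⟨a, c⟩ hac
      have h1 : (a : G) * c = 1 := congrArg Subtype.val hac
      have hc1 : (c : G) = 1 := by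
        have : (c : G) ∈ P₀ ⊓ cK T K := ⟨by
          rw [eq_inv_of_mul_eq_one_right h1]; exact P₀.inv_mem a.2, c.2⟩
        rw [hinf] at this
        exact mem_bot.mp this
      rw [hc1, mul_one] at h1
      exact mem_bot.mpr (Prod.ext (Subtype.ext h1) (Subtype.ext hc1))
    have hbij : Function.Bijective f := hf.bijective_of_nat_card_le (by
      rw [Nat.card_prod, hcard₀, hc2, hLcard, hc2])
    haveI : Fact (Nat.Prime 2) := ⟨Nat.prime_two⟩
    exact ⟨(MulEquiv.ofBijective f hbij).symm.trans (MulEquiv.prodCongr e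
      (mulEquivOfPrimeCardEq (p := 2) hc2 (by simp [Nat.card_eq_fintype_card])))⟩

end Vertex

end Cfsg.Agent.LocalEven64
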