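import Mathlib
import Cfsg.Agent.S0215
import Cfsg.Agent.Lib.Involution.IndexTwo

/-!
# Isolated `2`-elements are central modulo a normal subgroup of odd order
-/

set_option autoImplicit false
set_option linter.unusedSectionVars false
set_option linter.style.haveILetI false

namespace Cfsg.Agent.LocalEven64

open Subgroup
open scoped commutatorElement Pointwise

universe u

/-- `t` is a `2`-element commuting with none of its other conjugates. -/
def IsIsolatedTwo {G : Type u} [Group G] (t : G) : Prop :=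
  (∃ m, orderOf t = 2 ^ m) ∧ ∀ g : G, Commute t (g * t * g⁻¹) → g * t * g⁻¹ = t

variable {G : Type u} [Group G] [Finite G]

theorem isPGroup_two_zpowers {t : G} (h : ∃ m, orderOf t = 2 ^ m) : IsPGroup 2 (zpowers t) := by
  obtain ⟨m, hm⟩ := h
  exact IsPGroup.of_card (n := m) (by rw [Nat.card_zpowers, hm])

omit [Finite G] in
theorem IsIsolatedTwo.pow_conj {t : G} (h : IsIsolatedTwo t) (g : G) :
    ∃ m, orderOf (g * t * g⁻¹) = 2 ^ m := by
  obtain ⟨m, hm⟩ := h.1
  exact ⟨m, by rw [← hm, show g * t * g⁻¹ = MulAut.conj g t from rfl, MulEquiv.orderOf_eq]⟩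

/-- An isolated element is central in every `2`-subgroup containing it. -/
theorem IsIsolatedTwo.commute_of_mem {t : G} (h : IsIsolatedTwo t) {S : Subgroup G}
    (hS : IsPGroup 2 S) (ht : t ∈ S) : ∀ s ∈ S, Commute t s := by
  haveI : Fact (Nat.Prime 2) := ⟨Nat.prime_two⟩
  haveI := hS.isNilpotent
  set C : Subgroup S := centralizer ({(⟨t, ht⟩ : S)} : Set S) with hC
  by_contra hcon
  have hne : C < ⊤ := lt_top_iff_ne_top.mpr fun e => hcon fun s hs => by
    have : (⟨s, hs⟩ : S) ∈ C := e ▸ mem_top _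
    exact (congrArg Subtype.val (mem_centralizer_singleton_iff.mp this)).symm
  obtain ⟨y, hy, hyC⟩ := SetLike.exists_of_lt (Group.normalizerCondition_of_isNilpotent C hne)
  have hty : y * ⟨t, ht⟩ * y⁻¹ ∈ C :=
    (mem_normalizer_iff.mp hy _).mp (mem_centralizer_singleton_iff.mpr rfl)
  have h1 : (y : G) * t * (y : G)⁻¹ = t := h.2 y
    (congrArg Subtype.val (mem_centralizer_singleton_iff.mp hty)).symm
  exact hyC (mem_centralizer_singleton_iff.mpr (Subtype.ext (mul_inv_eq_iff_eq_mul.mp h1)))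

/-- Conjugating a `2`-element of a subgroup next to an isolated one. -/
theorem IsIsolatedTwo.exists_commute {t : G} (h : IsIsolatedTwo t) {U : Subgroup G} (ht : t ∈ U)
    {y : G} (hy : y ∈ U) (hy2 : ∃ m, orderOf y = 2 ^ m) : ∃ c ∈ U, Commute t (c * y * c⁻¹) := by
  haveI : Fact (Nat.Prime 2) := ⟨Nat.prime_two⟩
  obtain ⟨P, hP⟩ := ((isPGroup_two_zpowers h.1).comap_of_injective U.subtype
    U.subtype_injective).exists_le_sylow
  obtain ⟨Q, hQ⟩ := ((isPGroup_two_zpowers hy2).comap_of_injective U.subtype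
    U.subtype_injective).exists_le_sylow
  obtain ⟨c, hc⟩ := MulAction.exists_smul_eq U Q P
  have hm : c * ⟨y, hy⟩ * c⁻¹ ∈ (P : Subgroup U) := by
    rw [← hc, Sylow.coe_subgroup_smul]
    exact ⟨_, hQ (mem_zpowers y), rfl⟩
  exact ⟨c, c.2, h.commute_of_mem (P.isPGroup'.map U.subtype)
    ⟨⟨t, ht⟩, hP (mem_zpowers t), rfl⟩ _ ⟨_, hm, rfl⟩⟩

/-- Powers of an isolated element are isolated. -/
theorem IsIsolatedTwo.pow {t : G} (h : IsIsolatedTwo t) (k : ℕ) : IsIsolatedTwo (t ^ k) := by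
  refine ⟨?_, fun g hg => ?_⟩
  · obtain ⟨m, hm⟩ := h.1
    obtain ⟨j, -, hj⟩ := (Nat.dvd_prime_pow Nat.prime_two).mp (hm ▸ orderOf_pow_dvd k)
    exact ⟨j, hj⟩
  set z := t ^ k with hz
  have hzc : ∀ {c : G}, Commute t c → Commute z c := fun hc => hc.pow_left k
  set C := centralizer ({z} : Set G) with hC
  have htC : t ∈ C := mem_centralizer_singleton_iff.mpr (hzc (Commute.refl t)).symm.eq
  have hgC : g * z * g⁻¹ ∈ C := mem_centralizer_singleton_iff.mpr hg.symm.eq
  obtain ⟨c, hc, hcomm⟩ := h.exists_commute htC hgC (by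
    obtain ⟨m, hm⟩ := h.1
    obtain ⟨j, -, hj⟩ := (Nat.dvd_prime_pow Nat.prime_two).mp (hm ▸ orderOf_pow_dvd k)
    exact ⟨j, by rw [← hj, show g * z * g⁻¹ = MulAut.conj g z from rfl, MulEquiv.orderOf_eq]⟩)
  have hcz : c * z * c⁻¹ = z := by
    rw [mem_centralizer_singleton_iff.mp hc]; group
  set v := c * (g * z * g⁻¹) * c⁻¹ with hv
  suffices hvz : v = z by
    rw [hv] at hvz
    calc g * z * g⁻¹ = c⁻¹ * (c * (g * z * g⁻¹) * c⁻¹) * c := by group
      _ = c⁻¹ * (c * z * c⁻¹) * c := by rw [hvz, hcz]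
      _ = z := by group
  set D := centralizer ({v} : Set G) with hD
  have htD : t ∈ D := mem_centralizer_singleton_iff.mpr hcomm.eq
  have hconjD : c * g * t * (c * g)⁻¹ ∈ D := mem_centralizer_singleton_iff.mpr (by
    rw [hv]
    calc c * g * t * (c * g)⁻¹ * (c * (g * z * g⁻¹) * c⁻¹) = c * g * (t * z) * (c * g)⁻¹ := by group
      _ = c * g * (z * t) * (c * g)⁻¹ := by rw [(hzc (Commute.refl t)).symm.eq]
      _ = c * (g * z * g⁻¹) * c⁻¹ * (c * g * t * (c * g)⁻¹) := by group)
  obtain ⟨d, hd, hdcomm⟩ := h.exists_commute htD hconjD (h.pow_conj _)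
  have h1 := h.2 (d * (c * g)) (by
    rwa [show d * (c * g) * t * (d * (c * g))⁻¹ = d * (c * g * t * (c * g)⁻¹) * d⁻¹ by group])
  calc v = d * v * d⁻¹ := by rw [mem_centralizer_singleton_iff.mp hd]; group
    _ = (d * (c * g) * t * (d * (c * g))⁻¹) ^ k := by rw [conj_pow, ← hz, hv]; group
    _ = z := by rw [h1]

/-- Isolation passes to quotients. -/
theorem IsIsolatedTwo.map_mk {t : G} (h : IsIsolatedTwo t) (M : Subgroup G) [M.Normal] :
    IsIsolatedTwo (t : G ⧸ M) := by
  refine ⟨?_, fun gb hgb => ?_⟩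
  · obtain ⟨m, hm⟩ := h.1
    obtain ⟨j, -, hj⟩ := (Nat.dvd_prime_pow Nat.prime_two).mp
      (hm ▸ orderOf_map_dvd (QuotientGroup.mk' M) t)
    exact ⟨j, hj⟩
  induction gb using QuotientGroup.induction_on with
  | H g =>
  simp only [← QuotientGroup.mk_mul, ← QuotientGroup.mk_inv] at hgb ⊢
  set gens : Set G := {t, g * t * g⁻¹}
  obtain ⟨w, hw, hcomm⟩ := h.exists_commute (U := Subgroup.closure gens ⊔ M)
    (mem_sup_left (subset_closure (Or.inl rfl))) (mem_sup_left (subset_closure (Or.inr rfl)))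
    (h.pow_conj g)
  have h1 := h.2 (w * g) (by
    rwa [show w * g * t * (w * g)⁻¹ = w * (g * t * g⁻¹) * w⁻¹ by group])
  have hwc : (w : G ⧸ M) ∈ centralizer ({((g * t * g⁻¹ : G) : G ⧸ M)} : Set (G ⧸ M)) := by
    have hle : Subgroup.closure gens ⊔ M ≤
        (centralizer ({((g * t * g⁻¹ : G) : G ⧸ M)} : Set (G ⧸ M))).comap (QuotientGroup.mk' M) := by
      refine sup_le ((closure_le _).mpr ?_) fun m hm => ?_
      · rintro _ (rfl | rfl)
        · exact mem_centralizer_singleton_iff.mpr hgb.eq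
        · exact mem_centralizer_singleton_iff.mpr rfl
      · rw [mem_comap, show QuotientGroup.mk' M m = 1 from (QuotientGroup.eq_one_iff m).mpr hm]
        exact one_mem _
    exact hle hw
  have h2 : ((w * g * t * (w * g)⁻¹ : G) : G ⧸ M) = ((g * t * g⁻¹ : G) : G ⧸ M) := by
    have := mem_centralizer_singleton_iff.mp hwc
    rw [show w * g * t * (w * g)⁻¹ = w * (g * t * g⁻¹) * w⁻¹ by group, QuotientGroup.mk_mul,
      QuotientGroup.mk_mul, QuotientGroup.mk_inv, this, mul_inv_cancel_right]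
  rw [h1] at h2
  exact h2.symm

/-- An isolated `2`-element is central modulo a normal subgroup of odd order. -/
theorem IsIsolatedTwo.exists_odd_normal : ∀ {G : Type u} [Group G] [Finite G] {t : G},
    IsIsolatedTwo t → ∃ X : Subgroup G, X.Normal ∧ Odd (Nat.card X) ∧
      ∀ g : G, t * g * t⁻¹ * g⁻¹ ∈ X := by
  suffices key : ∀ m, ∀ {G : Type u} [Group G] [Finite G] {t : G}, IsIsolatedTwo t →
      orderOf t ∣ 2 ^ m → ∃ X : Subgroup G, X.Normal ∧ Odd (Nat.card X) ∧
        ∀ g : G, t * g * t⁻¹ * g⁻¹ ∈ X by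
    intro G _ _ t h
    obtain ⟨m, hm⟩ := h.1
    exact key m h (hm ▸ dvd_rfl)
  intro m
  induction m with
  | zero =>
    intro G _ _ t h hm
    have ht : t = 1 := by simpa using hm
    subst ht
    exact ⟨⊥, inferInstance, by simp, fun g => by simp⟩
  | succ m ih =>
    intro G _ _ t h hm
    by_cases hz1 : t ^ 2 ^ m = 1
    · exact ih h (orderOf_dvd_of_pow_eq_one hz1)
    haveI : Fact (Nat.Prime 2) := ⟨Nat.prime_two⟩
    set z := t ^ 2 ^ m with hz
    have hz2 : orderOf z = 2 := orderOf_eq_prime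
      (by rw [hz, ← pow_mul, ← pow_succ]; exact orderOf_dvd_iff_pow_eq_one.mp hm) hz1
    have hzi := h.pow (2 ^ m)
    rw [← hz] at hzi
    obtain ⟨P, hP⟩ := (isPGroup_two_zpowers hzi.1).exists_le_sylow
    obtain ⟨X₀, hX₀n, hX₀, hX₀c⟩ := Cfsg.Agent.S0215.result P z hz2 (hP (mem_zpowers z))
      fun g hg => hzi.2 g (hzi.commute_of_mem P.isPGroup' (hP (mem_zpowers z)) _ hg)
    haveI := hX₀n
    set M := X₀ ⊔ zpowers z with hM
    haveI hMn : M.Normal := by
      refine ⟨fun x hx g => ?_⟩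
      have hle : M.map (MulAut.conj g).toMonoidHom ≤ M := by
        rw [hM, Subgroup.map_sup, MonoidHom.map_zpowers]
        refine sup_le (le_trans ?_ le_sup_left)
          (zpowers_le.mpr ?_)
        · rintro _ ⟨a, ha, rfl⟩
          exact hX₀n.conj_mem a ha g
        have h1 : g * z * g⁻¹ * z⁻¹ ∈ X₀ := by
          have := X₀.inv_mem (hX₀c g)
          rwa [show (z * g * z⁻¹ * g⁻¹)⁻¹ = g * z * g⁻¹ * z⁻¹ by group] at this
        have h2 : g * z * g⁻¹ = g * z * g⁻¹ * z⁻¹ * z := by group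
        show g * z * g⁻¹ ∈ _
        rw [h2]
        exact mul_mem (mem_sup_left h1) (mem_sup_right (mem_zpowers z))
      exact hle ⟨x, hx, rfl⟩
    obtain ⟨Y, hYn, hY, hYc⟩ := ih (h.map_mk M) (orderOf_dvd_of_pow_eq_one (by
      rw [← QuotientGroup.mk_pow, QuotientGroup.eq_one_iff]
      exact mem_sup_right (mem_zpowers z)))
    set X' := Y.comap (QuotientGroup.mk' M) with hX'
    haveI : X'.Normal := hYn.comap _
    have hMcard : Nat.card M = 2 * Nat.card X₀ := by
      have hzX : z ∉ X₀ := fun e => by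
        have := (X₀.orderOf_coe ⟨z, e⟩) ▸ orderOf_dvd_natCard (⟨z, e⟩ : X₀)
        rw [hz2] at this
        exact (Nat.not_even_iff_odd.mpr hX₀) (even_iff_two_dvd.mpr this)
      have h1 : Nat.card M = Nat.card X₀ * (X₀.subgroupOf M).index := by
        rw [← Subgroup.card_mul_index (X₀.subgroupOf M),
          Nat.card_congr (Subgroup.subgroupOfEquivOfLe (le_sup_left : X₀ ≤ M)).toEquiv]
      have h2 : (X₀.subgroupOf M).index = 2 := by
        show X₀.relIndex M = 2
        rw [hM, sup_comm, Subgroup.relIndex_sup_right]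
        have h3 := Subgroup.card_mul_index (X₀.subgroupOf (zpowers z))
        rw [Nat.card_zpowers, hz2] at h3
        rcases (Nat.dvd_prime Nat.prime_two).mp (Dvd.intro_left _ h3) with e | e
        · exact absurd ((Subgroup.relIndex_eq_one.mp e) (mem_zpowers z)) hzX
        · exact e
      rw [h1, h2, mul_comm]
    have hX'card : Nat.card X' = Nat.card M * Nat.card Y :=
      QuotientGroup.card_preimage_mk M (Y : Set (G ⧸ M))
    -- the subgroup of index two
    obtain ⟨T⟩ := (inferInstance : Nonempty (Sylow 2 X'))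
    have hTc : IsCyclic (T : Subgroup X') := by
      obtain ⟨j, hj⟩ := T.isPGroup'.exists_card_eq
      have hd : Nat.card T ∣ Nat.card X' := Subgroup.card_subgroup_dvd_card _
      rw [hX'card, hMcard, hj] at hd
      rcases Nat.lt_or_ge j 2 with hj2 | hj2
      · rcases (show j = 0 ∨ j = 1 by omega) with rfl | rfl
        · exact isCyclic_of_card_dvd_prime (p := 2) (by rw [hj]; norm_num)
        · exact isCyclic_of_prime_card (p := 2) (by rw [hj]; norm_num)
      · exfalso
        have h4 : 2 * 2 ∣ 2 * (Nat.card X₀ * Nat.card Y) :=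
          (pow_dvd_pow 2 hj2).trans (by rwa [mul_assoc] at hd)
        exact (Nat.not_even_iff_odd.mpr (hX₀.mul hY))
          (even_iff_two_dvd.mpr ((Nat.mul_dvd_mul_iff_left (by norm_num)).mp h4))
    obtain ⟨H, hH⟩ := Cfsg.Agent.Involution.exists_index_two_of_cyclic_sylow
      (by rw [hX'card, hMcard]; exact ((even_two.mul_right _).mul_right _)) T hTc
    have hHcard : Odd (Nat.card H) := by
      have := H.card_mul_index
      rw [hH, hX'card, hMcard, mul_assoc, mul_comm _ 2] at this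
      rw [Nat.eq_of_mul_eq_mul_left (by norm_num) this]
      exact hX₀.mul hY
    have hHn : H.Normal := Subgroup.normal_of_index_eq_two hH
    have hodd : ∀ x : X', Odd (orderOf x) → x ∈ H := by
      intro x hx
      have h2 : x ^ 2 ∈ H := by simpa [hH] using H.pow_index_mem x
      obtain ⟨a, ha⟩ := hx
      have : x = (x ^ 2) ^ (a + 1) := by
        rw [← pow_mul, show 2 * (a + 1) = orderOf x + 1 by omega, pow_succ, pow_orderOf_eq_one, one_mul]
      rw [this]
      exact H.pow_mem h2 _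
    haveI hXn : (H.map X'.subtype).Normal := by
      refine ⟨?_⟩
      rintro _ ⟨x, hx, rfl⟩ g
      refine ⟨⟨g * x * g⁻¹, (inferInstance : X'.Normal).conj_mem _ x.2 g⟩, hodd _ ?_, rfl⟩
      rw [← Subgroup.orderOf_coe]
      show Odd (orderOf (MulAut.conj g (x : G)))
      rw [MulEquiv.orderOf_eq, Subgroup.orderOf_coe, ← Subgroup.orderOf_mk x hx]
      exact hHcard.of_dvd_nat (orderOf_dvd_natCard _)
    refine ⟨H.map X'.subtype, hXn, by rwa [Subgroup.card_map_of_injective X'.subtype_injective],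
      fun g => ?_⟩
    set X := H.map X'.subtype
    -- in `G ⧸ X` the image of `t` has conjugates `t` and `t z`, which commute
    have hd' : ⟨t * g * t⁻¹ * g⁻¹, show (t * g * t⁻¹ * g⁻¹) ∈ X' from hYc g⟩ ∈ H ∨
        ∃ y ∈ X, t * g * t⁻¹ * g⁻¹ = y * z := by
      by_cases hin : (⟨t * g * t⁻¹ * g⁻¹, show (t * g * t⁻¹ * g⁻¹) ∈ X' from hYc g⟩ : X') ∈ H
      · exact Or.inl hin
      · right
        have hzX' : z ∈ X' := by
          rw [hX', mem_comap, show QuotientGroup.mk' M z = 1 from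
            (QuotientGroup.eq_one_iff z).mpr (mem_sup_right (mem_zpowers z))]
          exact one_mem _
        have hznot : (⟨z, hzX'⟩ : X') ∉ H := fun e => by
          have h5 := orderOf_dvd_natCard (⟨_, e⟩ : H)
          rw [← Subgroup.orderOf_coe, ← Subgroup.orderOf_coe] at h5
          rw [hz2] at h5
          exact (Nat.not_even_iff_odd.mpr hHcard) (even_iff_two_dvd.mpr h5)
        have h6 := (Subgroup.mul_mem_iff_of_index_two hH (a := ⟨_, hYc g⟩) (b := (⟨z, hzX'⟩ : X')⁻¹)).mpr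
          (by rw [inv_mem_iff]; exact iff_of_false hin hznot)
        refine ⟨_, ⟨_, h6, rfl⟩, ?_⟩
        simp
    rcases hd' with hin | ⟨y, hy, hyz⟩
    · exact ⟨_, hin, rfl⟩
    exfalso
    have hbar : ((g * t * g⁻¹ : G) : G ⧸ X) = ((t : G) : G ⧸ X) * ((z⁻¹ : G) : G ⧸ X) := by
      have e : g * t * g⁻¹ = z⁻¹ * y⁻¹ * t := by
        rw [show z⁻¹ * y⁻¹ = (t * g * t⁻¹ * g⁻¹)⁻¹ by rw [hyz, mul_inv_rev]]; group
      rw [e, QuotientGroup.mk_mul, QuotientGroup.mk_mul,
        (QuotientGroup.eq_one_iff _).mpr (X.inv_mem hy), mul_one, ← QuotientGroup.mk_mul,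
        ← QuotientGroup.mk_mul]
      congr 1
      rw [hz]
      exact ((Commute.refl t).pow_left _).inv_left.eq
    have hcomm : Commute ((t : G) : G ⧸ X) ((g : G ⧸ X) * (t : G ⧸ X) * (g : G ⧸ X)⁻¹) := by
      rw [← QuotientGroup.mk_mul, ← QuotientGroup.mk_inv, ← QuotientGroup.mk_mul, hbar]
      refine (Commute.refl _).mul_right ?_
      rw [Commute, SemiconjBy, ← QuotientGroup.mk_mul, ← QuotientGroup.mk_mul]
      congr 1
      rw [hz]
      exact ((Commute.refl t).pow_right _).inv_right.eq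
    have h7 := (h.map_mk X).2 _ hcomm
    rw [← QuotientGroup.mk_mul, ← QuotientGroup.mk_inv, ← QuotientGroup.mk_mul, hbar,
      mul_eq_left, QuotientGroup.eq_one_iff, inv_mem_iff] at h7
    obtain ⟨⟨_, hzX'⟩, hzH, rfl⟩ := h7
    have h5 := orderOf_dvd_natCard (⟨_, hzH⟩ : H)
    rw [← Subgroup.orderOf_coe, ← Subgroup.orderOf_coe] at h5
    rw [show orderOf z = 2 from hz2] at h5
    exact (Nat.not_even_iff_odd.mpr hHcard) (even_iff_two_dvd.mpr h5)

/-- The commutator with a non-abelian complement has odd order. -/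
theorem odd_card_commutator_of_isolated (N Q : Subgroup G) [N.Normal] (hG : Q ⊔ N = ⊤)
    (hQ : IsPGroup 2 Q) (hdisj : Q ⊓ N = ⊥) (t : G) (htZ : t ∈ Q ⊓ centralizer (Q : Set G))
    (htQ : t ∈ ⁅Q, Q⁆)
    (hC : N ⊓ centralizer (Q : Set G) = N ⊓ centralizer ({t} : Set G)) :
    Odd (Nat.card ↥⁅N, Q⁆) := by
  haveI : Fact (Nat.Prime 2) := ⟨Nat.prime_two⟩
  obtain ⟨htQ', htc⟩ := htZ
  have hqt : ∀ q ∈ Q, Commute q t := fun q hq => mem_centralizer_iff.mp htc q hq
  have hfix : ∀ y ∈ N, Commute t y → ∀ q ∈ Q, Commute q y := fun y hy hty q hq => by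
    have : y ∈ N ⊓ centralizer (Q : Set G) := hC.ge ⟨hy, mem_centralizer_singleton_iff.mpr hty.symm.eq⟩
    exact mem_centralizer_iff.mp this.2 q hq
  have key : ∀ g ∈ N, Commute t (g * t * g⁻¹) → g * t * g⁻¹ = t := by
    intro g hg hcomm
    set v := g * t * g⁻¹ with hv
    have hconj : ∀ y ∈ N, Commute v y → ∀ q ∈ Q, Commute (g * q * g⁻¹) y := by
      intro y hy hvy q hq
      have h1 : Commute t (g⁻¹ * y * g) := by
        have := hvy.map (MulAut.conj g⁻¹)
        simpa [hv, mul_assoc] using this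
      have h2 := (hfix _ (by simpa using (inferInstance : N.Normal).conj_mem y hy g⁻¹) h1 q hq).map
        (MulAut.conj g)
      simpa [mul_assoc] using h2
    set x := t⁻¹ * v with hx
    have hxN : x ∈ N := by
      have h1 := N.mul_mem ((inferInstance : N.Normal).conj_mem g hg t⁻¹) (N.inv_mem hg)
      rwa [inv_inv, show t⁻¹ * g * t * g⁻¹ = x by rw [hx, hv]; group] at h1
    have htx : Commute t x := ((Commute.refl t).inv_right).mul_right hcomm
    have hvx : Commute v x := (hcomm.symm.inv_right).mul_right (Commute.refl v)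
    have hqx := hfix x hxN htx
    have hqx' := hconj x hxN hvx
    have hqv : ∀ q ∈ Q, Commute q v := fun q hq => by
      rw [show v = t * x by rw [hx]; group]
      exact (hqt q hq).mul_right (hqx q hq)
    have hgv : ∀ q ∈ Q, Commute (g * q * g⁻¹) v := fun q hq => (hqt q hq).map (MulAut.conj g)
    have hgt : ∀ q ∈ Q, Commute (g * q * g⁻¹) t := fun q hq => by
      rw [show t = v * x⁻¹ by rw [hx]; group]
      exact (hgv q hq).mul_right (hqx' q hq).inv_right
    let n : Q → G := fun q => (g * q * g⁻¹)⁻¹ * q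
    have hnN : ∀ q, n q ∈ N := fun q => by
      have h1 := N.mul_mem hg ((inferInstance : N.Normal).conj_mem g⁻¹ (N.inv_mem hg) (q : G)⁻¹)
      have e : n q = g * ((q : G)⁻¹ * g⁻¹ * (q : G)⁻¹⁻¹) := by simp only [n]; group
      rwa [e]
    have hnQ : ∀ q, ∀ q' ∈ Q, Commute q' (n q) ∧ Commute (g * q' * g⁻¹) (n q) := fun q q' hq' => by
      have ht' : Commute t (n q) := (hgt q q.2).symm.inv_right.mul_right (hqt q q.2).symm
      have hv' : Commute v (n q) := (hgv q q.2).symm.inv_right.mul_right (hqv q q.2).symm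
      exact ⟨hfix _ (hnN q) ht' q' hq', hconj _ (hnN q) hv' q' hq'⟩
    have hncomm : ∀ q q' : Q, Commute (n q) (n q') := fun q q' =>
      ((hnQ q' q q.2).2.inv_left).mul_left (hnQ q' q q.2).1
    let f : Q →* G :=
      { toFun := n
        map_one' := by simp [n]
        map_mul' := fun q q' => by
          calc n (q * q') = (g * q' * g⁻¹)⁻¹ * n q * q' := by
                simp only [n, Subgroup.coe_mul]; group
            _ = (g * q' * g⁻¹)⁻¹ * (n q * q') := mul_assoc _ _ _
            _ = (g * q' * g⁻¹)⁻¹ * (q' * n q) := by rw [(hnQ q q' q'.2).1.eq]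
            _ = n q' * n q := by simp only [n]; group
            _ = n q * n q' := (hncomm q' q).eq }
    have hker : ⁅(⊤ : Subgroup Q), ⊤⁆ ≤ f.ker := by
      rw [Subgroup.commutator_le]
      intro a _ b _
      rw [MonoidHom.mem_ker, map_commutatorElement, commutatorElement_eq_one_iff_commute]
      exact hncomm a b
    have ht1 : f ⟨t, htQ'⟩ = 1 := hker (by
      have hm : t ∈ Subgroup.map Q.subtype ⁅(⊤ : Subgroup Q), (⊤ : Subgroup Q)⁆ := by
        rwa [Subgroup.map_commutator, ← MonoidHom.range_eq_map, Subgroup.range_subtype]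
      obtain ⟨s, hs, hse⟩ := hm
      rwa [show (⟨t, htQ'⟩ : Q) = s from Subtype.ext hse.symm])
    have ht1' : v⁻¹ * t = 1 := ht1
    exact (inv_mul_eq_one.mp ht1')
  have hiso : IsIsolatedTwo t := by
    refine ⟨?_, fun g hg => ?_⟩
    · obtain ⟨m, hm⟩ := IsPGroup.iff_orderOf.mp hQ ⟨t, htQ'⟩
      exact ⟨m, by rw [← hm, ← Subgroup.orderOf_coe]⟩
    have hg' : g ∈ (Q : Set G) * (N : Set G) := by
      rw [← Subgroup.mul_normal, hG]; trivial
    obtain ⟨q, hq, n, hn, rfl⟩ := hg'
    have hqc : q * t * q⁻¹ = t := by rw [(hqt q hq).eq]; group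
    have h1 : q * n * t * (q * n)⁻¹ = MulAut.conj q (n * t * n⁻¹) := by
      simp [mul_assoc]
    have h2 : Commute t (n * t * n⁻¹) := by
      have h3 : Commute (MulAut.conj q t) (MulAut.conj q (n * t * n⁻¹)) := by
        rw [← h1, MulAut.conj_apply, hqc]; exact hg
      have h4 := h3.map (MulAut.conj q⁻¹)
      simp only [MulAut.conj_apply] at h4
      convert h4 using 1 <;> group
    rw [h1, key n hn h2, MulAut.conj_apply, hqc]
  obtain ⟨X, hXn, hX, hXc⟩ := IsIsolatedTwo.exists_odd_normal hiso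
  haveI := hXn
  refine hX.of_dvd_nat (Subgroup.card_dvd_of_le ?_)
  have hXN : X ≤ N := by
    intro x hx
    have hp : IsPGroup 2 (G ⧸ N) := by
      refine hQ.of_surjective ((QuotientGroup.mk' N).comp Q.subtype) fun y => ?_
      obtain ⟨y, rfl⟩ := QuotientGroup.mk'_surjective N y
      have hy : y ∈ (Q : Set G) * (N : Set G) := by rw [← Subgroup.mul_normal, hG]; trivial
      obtain ⟨q, hq, n, hn, rfl⟩ := hy
      exact ⟨⟨q, hq⟩, by simp [(QuotientGroup.eq_one_iff n).mpr hn]⟩
    obtain ⟨k, hk⟩ := hp (x : G ⧸ N)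
    have hodd : Odd (orderOf (x : G ⧸ N)) :=
      hX.of_dvd_nat ((orderOf_map_dvd (QuotientGroup.mk' N) x).trans (Subgroup.orderOf_dvd_natCard X hx))
    obtain ⟨j, -, hj⟩ := (Nat.dvd_prime_pow Nat.prime_two).mp (orderOf_dvd_of_pow_eq_one hk)
    rcases Nat.eq_zero_or_pos j with rfl | hj0
    · exact (QuotientGroup.eq_one_iff x).mp (orderOf_eq_one_iff.mp (by simpa using hj))
    · rw [hj] at hodd
      exact absurd ((Nat.even_pow' hj0.ne').mpr even_two) (Nat.not_even_iff_odd.mpr hodd)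
  rw [Subgroup.commutator_le]
  intro n hn q hq
  -- `n = y c` with `y` in `X` and `c` centralizing `t`
  have htX : IsPGroup 2 (zpowers t) := isPGroup_two_zpowers hiso.1
  set U := X ⊔ zpowers t with hU
  have hnt : n * t * n⁻¹ ∈ U := by
    have h1 := X.inv_mem (hXc n)
    rw [show n * t * n⁻¹ = (t * n * t⁻¹ * n⁻¹)⁻¹ * t by group]
    exact mul_mem (mem_sup_left h1) (mem_sup_right (mem_zpowers t))
  obtain ⟨c, hc, hcc⟩ := hiso.exists_commute (U := U) (mem_sup_right (mem_zpowers t)) hnt (hiso.pow_conj n)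
  have hc' : c ∈ (X : Set G) * ((zpowers t : Subgroup G) : Set G) := by
    rw [← Subgroup.normal_mul]; exact hc
  obtain ⟨y, hy, s, hs, rfl⟩ := hc'
  have h4 := hiso.2 (y * s * n) (by
    rwa [show y * s * n * t * (y * s * n)⁻¹ = y * s * (n * t * n⁻¹) * (y * s)⁻¹ by group])
  -- `y s n` centralizes `t`; move the power of `t` to the front
  have hs' : Commute s t := by
    obtain ⟨i, rfl⟩ := hs
    exact (Commute.refl t).zpow_left i
  set y' := s⁻¹ * y * s with hy'
  have hy'X : y' ∈ X := by simpa [hy'] using hXn.conj_mem y hy s⁻¹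
  have h5 : Commute (y' * n) t := by
    have h6 : Commute (y * s * n) t := mul_inv_eq_iff_eq_mul.mp h4
    have := (hs'.inv_left).mul_left h6
    rwa [show s⁻¹ * (y * s * n) = y' * n by rw [hy']; group] at this
  have h7 : Commute q (y' * n) := hfix _ (N.mul_mem (hXN hy'X) hn) h5.symm q hq
  have e : ⁅n, q⁆ = y'⁻¹ * (q * y' * q⁻¹) := by
    rw [commutatorElement_def]
    calc n * q * n⁻¹ * q⁻¹ = y'⁻¹ * (y' * n) * q * (y' * n)⁻¹ * y' * q⁻¹ := by group
      _ = y'⁻¹ * (q * (y' * n)) * (y' * n)⁻¹ * y' * q⁻¹ := by rw [mul_assoc y'⁻¹, h7.symm.eq]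
      _ = y'⁻¹ * (q * y' * q⁻¹) := by group
  rw [e]
  exact X.mul_mem (X.inv_mem hy'X) (hXn.conj_mem _ hy'X q)

end Cfsg.Agent.LocalEven64

namespace Cfsg.Agent.LocalEven64

universe v

/-- The previous result together with solvability of groups of odd order, taken as a parameter. -/
theorem solvable_odd_commutator_of_isolated
    (hodd : ∀ (X : Type v) [Group X] [Finite X], Odd (Nat.card X) → Group.IsSolvable X)
    {G : Type v} [Group G] [Finite G] (N Q : Subgroup G) [N.Normal] (hG : Q ⊔ N = ⊤)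
    (hQ : IsPGroup 2 Q) (hdisj : Q ⊓ N = ⊥) (t : G)
    (htZ : t ∈ Q ⊓ Subgroup.centralizer (Q : Set G)) (htQ : t ∈ ⁅Q, Q⁆)
    (hC : N ⊓ Subgroup.centralizer (Q : Set G) = N ⊓ Subgroup.centralizer ({t} : Set G)) :
    Group.IsSolvable ↥⁅N, Q⁆ ∧ Odd (Nat.card ↥⁅N, Q⁆) :=
  have h := odd_card_commutator_of_isolated N Q hG hQ hdisj t htZ htQ hC
  ⟨hodd _ h, h⟩

end Cfsg.Agent.LocalEven64
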