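import Cfsg.Agent.LocalEven64.CharP
import Cfsg.Agent.Lib.Components.GenFitting

/-!
# `F*(G) = O_p(G)` and characteristic `p`
-/

set_option autoImplicit false

namespace Cfsg.Agent.LocalEven64

open Subgroup

variable {G : Type*} [Group G] [Finite G] {p : ℕ} [hp : Fact p.Prime]

theorem generalizedFitting_eq_pCore_iff :
    Cfsg.generalizedFittingSubgroup G = Cfsg.pCore p G ↔
      centralizer (Cfsg.pCore p G : Set G) ≤ Cfsg.pCore p G := by
  constructor
  · intro h
    rw [← h]
    exact Components.centralizer_generalizedFitting_le
  · intro h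
    have hP : Cfsg.pCore p G ≤ Cfsg.fittingSubgroup G := Fitting.pCore_le_fitting p
    have hlayer : Cfsg.layer G = ⊥ := by
      rw [Components.layer_eq_bot_iff]
      intro L hL
      have hLC : L ≤ centralizer (Cfsg.pCore p G : Set G) :=
        ((Components.component_le_layer hL).trans Components.layer_le_centralizer_fitting).trans
          (centralizer_le hP)
      haveI : Group.IsNilpotent (Cfsg.pCore p G) := Thompson.isPGroup_pCore.isNilpotent
      exact Components.component_not_le_isSolvable hL inferInstance (hLC.trans h)
    rw [Cfsg.generalizedFittingSubgroup, hlayer, bot_sup_eq]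
    refine le_antisymm ?_ hP
    rw [Fitting.fitting_eq_iSup_pCore]
    refine iSup_le fun q => ?_
    by_cases hq : (q : ℕ) = p
    · rw [hq]
    · haveI : Fact (q : ℕ).Prime := ⟨q.2⟩
      refine le_trans ?_ h
      intro x hx
      exact mem_centralizer_iff.mpr fun y hy => (Fitting.pCore_commute (Ne.symm hq) hy hx).eq

theorem charPOf_iff_generalizedFitting {M : Subgroup G} :
    CharPOf p M ↔ Cfsg.generalizedFittingSubgroup ↥M = Cfsg.pCore p ↥M :=
  generalizedFitting_eq_pCore_iff.symm

end Cfsg.Agent.LocalEven64
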