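import Mathlib
import Cfsg.Agent.KSG55.Pres.AltOn

/-!
# Growing alternating subgroups inside a permutation group
-/

set_option autoImplicit false
set_option linter.unusedSectionVars false
set_option linter.style.haveILetI false

namespace Cfsg.Agent.LocalEven64

open Equiv Cfsg.Agent.KSG55.Pres

variable {α : Type*} [Fintype α] [DecidableEq α]

theorem cyc3_glue {a b c d e : α} (hab : a ≠ b) (hac : a ≠ c) (hbc : b ≠ c) (had : a ≠ d)
    (hae : a ≠ e) (hde : d ≠ e) (hbd : b ≠ d) (hbe : b ≠ e) (hcd : c ≠ d) (hce : c ≠ e) :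
    cyc3 a d e * cyc3 a b c * (cyc3 a d e)⁻¹ * (cyc3 a b c)⁻¹ = cyc3 a d b := by
  rw [cyc3_conj, cyc3_left had hae, cyc3_of_ne hab.symm hbd hbe, cyc3_of_ne hac.symm hcd hce,
    cyc3_inv hab hac hbc]
  ext x
  rw [Perm.mul_apply]
  by_cases h1 : x = a
  · subst h1; rw [cyc3_mid hbc hac, cyc3_right, cyc3_left had hab]
  by_cases h2 : x = b
  · subst h2; rw [cyc3_left hab.symm hbc, cyc3_of_ne had hab hac, cyc3_right]
  by_cases h3 : x = c
  · subst h3; rw [cyc3_right, cyc3_mid hcd.symm hbc, cyc3_of_ne hac.symm hcd hbc.symm]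
  rw [cyc3_of_ne h2 h1 h3]
  by_cases h4 : x = d
  · subst h4; rw [cyc3_left hbd.symm hcd.symm, cyc3_mid hab hbd.symm]
  rw [cyc3_of_ne h4 h2 h3, cyc3_of_ne h1 h4 h2]

/-- Two alternating groups on overlapping sets generate the one on the union. -/
theorem altOn_union_le {H : Subgroup (Perm α)} {A B : Finset α} (hA : 3 ≤ A.card) (hB : 3 ≤ B.card)
    (hAB : (A ∩ B).Nonempty) (hAH : altOn A ≤ H) (hBH : altOn B ≤ H) : altOn (A ∪ B) ≤ H := by
  obtain ⟨o, ho⟩ := hAB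
  rw [Finset.mem_inter] at ho
  by_cases h2 : ∃ b ∈ A ∩ B, b ≠ o
  · obtain ⟨b, hb, hbo⟩ := h2
    rw [Finset.mem_inter] at hb
    refine altOn_le hbo.symm fun j hj hjo hjb => ?_
    rcases Finset.mem_union.mp hj with h | h
    · exact hAH (cyc3_mem_altOn hbo.symm (Ne.symm hjb) ho.1 hb.1 h)
    · exact hBH (cyc3_mem_altOn hbo.symm (Ne.symm hjb) ho.2 hb.2 h)
  push Not at h2
  have hout : ∀ x ∈ B, x ≠ o → x ∉ A := fun x hx hxo hxA =>
    hxo (h2 x (Finset.mem_inter.mpr ⟨hxA, hx⟩))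
  have hsel : ∀ (C : Finset α), 3 ≤ C.card → ∀ a b : α, ∃ c ∈ C, c ≠ a ∧ c ≠ b := fun C hC a b => by
    obtain ⟨c, hc, hc'⟩ := Finset.exists_mem_notMem_of_card_lt_card (s := ({a, b} : Finset α)) (t := C)
      (lt_of_le_of_lt Finset.card_le_two (by omega))
    exact ⟨c, hc, fun e => hc' (by simp [e]), fun e => hc' (by simp [e])⟩
  obtain ⟨b, hb, hbo, -⟩ := hsel A hA o o
  refine altOn_le hbo.symm fun j hj hjo hjb => ?_
  by_cases hjA : j ∈ A
  · exact hAH (cyc3_mem_altOn hbo.symm (Ne.symm hjb) ho.1 hb hjA)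
  have hjB : j ∈ B := (Finset.mem_union.mp hj).resolve_left hjA
  obtain ⟨u, hu, huo, huj⟩ := hsel B hB o j
  obtain ⟨c, hc, hco, hcb⟩ := hsel A hA o b
  have hg : cyc3 o j u ∈ H := hBH (cyc3_mem_altOn (Ne.symm hjo) huj.symm ho.2 hjB hu)
  have ha : cyc3 o b c ∈ H := hAH (cyc3_mem_altOn hbo.symm hcb.symm ho.1 hb hc)
  have hbu : b ≠ u := fun e => hout u hu huo (e ▸ hb)
  have h := H.mul_mem (H.mul_mem (H.mul_mem hg ha) (H.inv_mem hg)) (H.inv_mem ha)
  rw [cyc3_glue hbo.symm hco.symm hcb.symm (Ne.symm hjo) huo.symm huj.symm (Ne.symm hjb) hbu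
    (fun e => hjA (e ▸ hc)) (fun e => hout u hu huo (e ▸ hc))] at h
  have h' := H.inv_mem h
  rw [cyc3_inv (Ne.symm hjo) hbo.symm hjb] at h'
  rw [cyc3_cycle hbo.symm (Ne.symm hjo) (Ne.symm hjb), cyc3_cycle (Ne.symm hjb) hbo hjo] 
  exact h'

/-- `A` is maximal among the sets whose alternating group lies in `H`. -/
def IsMaxAlt (H : Subgroup (Perm α)) (A : Finset α) : Prop :=
  3 ≤ A.card ∧ Maximal (fun A : Finset α => altOn A ≤ H) A

theorem exists_isMaxAlt {H : Subgroup (Perm α)} {A : Finset α} (hA : 3 ≤ A.card) (hAH : altOn A ≤ H) :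
    ∃ A', A ⊆ A' ∧ IsMaxAlt H A' := by
  obtain ⟨A', hle, hmax⟩ := Set.Finite.exists_le_maximal
    (s := {A : Finset α | altOn A ≤ H}) (Set.toFinite _) hAH
  exact ⟨A', hle, hA.trans (Finset.card_le_card hle), hmax⟩

theorem IsMaxAlt.absorb {H : Subgroup (Perm α)} {A B : Finset α} (hA : IsMaxAlt H A) (hB : 3 ≤ B.card)
    (hBH : altOn B ≤ H) (h : (A ∩ B).Nonempty) : B ⊆ A :=
  Finset.subset_union_right.trans (hA.2.2 (altOn_union_le hA.1 hB h hA.2.1 hBH) Finset.subset_union_left)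

theorem altOn_image_le {H : Subgroup (Perm α)} {g : Perm α} (hg : g ∈ H) {A : Finset α}
    (hA : altOn A ≤ H) : altOn (A.image g) ≤ H := by
  intro σ hσ
  have h : g⁻¹ * σ * g ∈ altOn A := by
    refine ⟨by simp [hσ.1, Perm.sign_inv], fun x hx => ?_⟩
    have h1 : σ (g x) = g x := hσ.2 (g x) fun hm => hx (by
      obtain ⟨y, hy, hyx⟩ := Finset.mem_image.mp hm
      exact g.injective hyx ▸ hy)
    rw [Perm.mul_apply, Perm.mul_apply, h1, Perm.inv_eq_iff_eq]
  have h2 := H.mul_mem (H.mul_mem hg (hA h)) (H.inv_mem hg)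
  have e : g * (g⁻¹ * σ * g) * g⁻¹ = σ := by group
  rwa [e] at h2

theorem IsMaxAlt.image {H : Subgroup (Perm α)} {A : Finset α} (hA : IsMaxAlt H A) {g : Perm α}
    (hg : g ∈ H) (h : (A ∩ A.image g).Nonempty) : A.image g = A :=
  Finset.eq_of_subset_of_card_le
    (hA.absorb (by rw [Finset.card_image_of_injective _ g.injective]; exact hA.1)
      (altOn_image_le hg hA.2.1) h)
    (by rw [Finset.card_image_of_injective _ g.injective])

theorem altOn_le_triple {x y z : α} (hxy : x ≠ y) (hyz : y ≠ z) {H : Subgroup (Perm α)}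
    (h : cyc3 x y z ∈ H) : altOn {x, y, z} ≤ H := by
  refine altOn_le hxy fun j hj hjx hjy => ?_
  simp only [Finset.mem_insert, Finset.mem_singleton] at hj
  rcases hj with rfl | rfl | rfl
  exacts [absurd rfl hjx, absurd rfl hjy, h]

end Cfsg.Agent.LocalEven64
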