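import Mathlib
import Cfsg.Agent.LocalEven64.AltGrow

/-!
# Alternating groups with a unique maximal subgroup over a `3`-subgroup
-/

set_option autoImplicit false
set_option linter.unusedSectionVars false
set_option linter.style.haveILetI false

namespace Cfsg.Agent.LocalEven64

open Equiv Subgroup Cfsg.Agent.KSG55.Pres
open scoped Pointwise

variable {α : Type*} [Fintype α] [DecidableEq α]

/-- The even permutations preserving a family of sets. -/
def evenStab (F : Finset (Finset α)) : Subgroup (Perm α) :=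
  alternatingGroup α ⊓ MulAction.stabilizer (Perm α) F

theorem smul_finset_eq_image (σ : Perm α) (B : Finset α) : σ • B = B.image σ := rfl

theorem mem_evenStab {F : Finset (Finset α)} {σ : Perm α} (h1 : Perm.sign σ = 1)
    (h2 : ∀ B ∈ F, B.image σ ∈ F) : σ ∈ evenStab F := by
  refine ⟨Perm.mem_alternatingGroup.mpr h1, MulAction.mem_stabilizer_iff.mpr ?_⟩
  refine Finset.eq_of_subset_of_card_le ?_ (by rw [Finset.card_smul_finset])
  intro C hC
  obtain ⟨B, hB, rfl⟩ := Finset.mem_smul_finset.mp hC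
  exact smul_finset_eq_image σ B ▸ h2 B hB

theorem image_mem_of_mem_evenStab {F : Finset (Finset α)} {σ : Perm α} (h : σ ∈ evenStab F)
    {B : Finset α} (hB : B ∈ F) : B.image σ ∈ F := by
  have h2 := MulAction.mem_stabilizer_iff.mp h.2
  rw [← smul_finset_eq_image, ← h2]
  exact Finset.smul_mem_smul_finset hB

theorem altOn_le_evenStab {F : Finset (Finset α)} {A : Finset α}
    (h : ∀ B ∈ F, A ⊆ B ∨ Disjoint A B) : altOn A ≤ evenStab F := by
  intro σ hσ
  refine mem_evenStab hσ.1 fun B hB => ?_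
  suffices hs : B.image σ = B by rwa [hs]
  refine Finset.eq_of_subset_of_card_le ?_ (by rw [Finset.card_image_of_injective _ σ.injective])
  intro y hy
  obtain ⟨x, hx, rfl⟩ := Finset.mem_image.mp hy
  by_cases hxA : x ∈ A
  · rcases h B hB with hs | hd
    · by_contra hc
      have hout : σ x ∉ A := fun h' => hc (hs h')
      have := σ.injective (hσ.2 _ hout)
      exact hout (by rw [this]; exact hxA)
    · exact absurd hx (Finset.disjoint_left.mp hd hxA)
  · rw [hσ.2 x hxA]; exact hx

variable (P : Subgroup (Perm α))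

/-- The block of a point under a subgroup of `P`. -/
noncomputable def blockOf (R : Subgroup P) (x : α) : Finset α := by
  classical exact (Finset.univ : Finset R).image fun r : R => ((r : P) : Perm α) x

/-- All translates of a set. -/
noncomputable def translates (B : Finset α) : Finset (Finset α) := by
  classical exact (Finset.univ : Finset P).image fun p : P => B.image ((p : Perm α))

variable {P}

theorem mem_blockOf {R : Subgroup P} {x y : α} :
    y ∈ blockOf P R x ↔ ∃ r ∈ R, ((r : P) : Perm α) x = y := by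
  simp [blockOf]

theorem self_mem_blockOf (R : Subgroup P) (x : α) : x ∈ blockOf P R x :=
  mem_blockOf.mpr ⟨1, R.one_mem, rfl⟩

theorem mem_translates {B C : Finset α} :
    C ∈ translates P B ↔ ∃ p : P, B.image ((p : Perm α)) = C := by
  simp only [translates, Finset.mem_image, Finset.mem_univ, true_and]

theorem translates_invariant {B C : Finset α} (hC : C ∈ translates P B) {σ : Perm α} (hσ : σ ∈ P) :
    C.image σ ∈ translates P B := by
  obtain ⟨p, rfl⟩ := mem_translates.mp hC
  exact mem_translates.mpr ⟨⟨σ, hσ⟩ * p, by rw [Finset.image_image]; rfl⟩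

theorem blockOf_mono {R R' : Subgroup P} (h : R ≤ R') (x : α) : blockOf P R x ⊆ blockOf P R' x :=
  fun y hy => by
    obtain ⟨r, hr, e⟩ := mem_blockOf.mp hy
    exact mem_blockOf.mpr ⟨r, h hr, e⟩

theorem image_blockOf_eq {R : Subgroup P} {x : α} {p q : P} (h : p⁻¹ * q ∈ R) :
    (blockOf P R x).image ((p : Perm α)) = (blockOf P R x).image ((q : Perm α)) := by
  ext y
  simp only [Finset.mem_image, mem_blockOf]
  constructor
  · rintro ⟨z, ⟨r, hr, rfl⟩, rfl⟩
    exact ⟨_, ⟨(p⁻¹ * q)⁻¹ * r, R.mul_mem (R.inv_mem h) hr, rfl⟩, by simp⟩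
  · rintro ⟨z, ⟨r, hr, rfl⟩, rfl⟩
    exact ⟨_, ⟨(p⁻¹ * q) * r, R.mul_mem h hr, rfl⟩, by simp⟩

theorem translates_eq_or_disjoint {R : Subgroup P} {x : α} (hR : MulAction.stabilizer P x ≤ R)
    {C D : Finset α} (hC : C ∈ translates P (blockOf P R x)) (hD : D ∈ translates P (blockOf P R x)) :
    C = D ∨ Disjoint C D := by
  obtain ⟨p, rfl⟩ := mem_translates.mp hC
  obtain ⟨q, rfl⟩ := mem_translates.mp hD
  refine (em (Disjoint ((blockOf P R x).image ((p : Perm α)))
    ((blockOf P R x).image ((q : Perm α))))).symm.imp (fun h => ?_) id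
  obtain ⟨y, hy1, hy2⟩ := Finset.not_disjoint_iff.mp h
  simp only [Finset.mem_image, mem_blockOf] at hy1 hy2
  obtain ⟨-, ⟨r, hr, rfl⟩, e1⟩ := hy1
  obtain ⟨-, ⟨r', hr', rfl⟩, e2⟩ := hy2
  refine image_blockOf_eq ?_
  have hfix : r⁻¹ * p⁻¹ * q * r' ∈ MulAction.stabilizer P x := by
    rw [MulAction.mem_stabilizer_iff]
    change ((r⁻¹ * p⁻¹ * q * r' : P) : Perm α) x = x
    simp only [Subgroup.coe_mul, Subgroup.coe_inv, Perm.mul_apply, e2, ← e1]
    simp
  have := R.mul_mem (R.mul_mem hr (hR hfix)) (R.inv_mem hr')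
  have e : r * (r⁻¹ * p⁻¹ * q * r') * r'⁻¹ = p⁻¹ * q := by group
  rwa [e] at this

theorem exists_translate_mem {R : Subgroup P} {x y : α} (hy : y ∈ MulAction.orbit P x) :
    ∃ C ∈ translates P (blockOf P R x), y ∈ C := by
  obtain ⟨p, rfl⟩ := hy
  exact ⟨_, mem_translates.mpr ⟨p, rfl⟩, Finset.mem_image_of_mem _ (self_mem_blockOf R x)⟩

theorem translate_subset_orbit {R : Subgroup P} {x : α} {C : Finset α}
    (hC : C ∈ translates P (blockOf P R x)) {y : α} (hy : y ∈ C) : y ∈ MulAction.orbit P x := by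
  obtain ⟨p, rfl⟩ := mem_translates.mp hC
  simp only [Finset.mem_image, mem_blockOf] at hy
  obtain ⟨-, ⟨r, -, rfl⟩, rfl⟩ := hy
  exact ⟨p * r, rfl⟩

theorem card_blockOf {R : Subgroup P} {x : α} (hR : MulAction.stabilizer P x ≤ R) :
    (blockOf P R x).card * Nat.card (MulAction.stabilizer P x) = Nat.card R := by
  classical
  have h1 : (blockOf P R x : Set α) = MulAction.orbit R x := by
    ext y
    rw [Finset.mem_coe, mem_blockOf]
    exact ⟨fun ⟨r, hr, e⟩ => ⟨⟨r, hr⟩, e⟩, fun ⟨r, e⟩ => ⟨r, r.2, e⟩⟩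
  have h2 : (blockOf P R x).card = Nat.card (MulAction.orbit R x) := by
    rw [← h1, Nat.card_eq_fintype_card]
    exact (Fintype.card_coe _).symm
  have h3 : MulAction.stabilizer R x = (MulAction.stabilizer P x).subgroupOf R := by
    ext r; rfl
  have h4 := Subgroup.card_mul_index (MulAction.stabilizer R x)
  rw [h2, Nat.card_congr (MulAction.orbitEquivQuotientStabilizer R x), ← Subgroup.index_eq_card,
    ← h4, h3, Nat.card_congr (Subgroup.subgroupOfEquivOfLe hR).toEquiv, mul_comm]

/-- A subgroup of index `3` over a point stabilizer. -/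
theorem exists_over_stabilizer (hP : IsPGroup 3 P) {x : α}
    (hx : Nat.card (MulAction.orbit P x) ≠ 1) :
    ∃ R : Subgroup P, MulAction.stabilizer P x ≤ R ∧ (blockOf P R x).card = 3 := by
  haveI : Fact (Nat.Prime 3) := ⟨Nat.prime_three⟩
  obtain ⟨m, hm⟩ := IsPGroup.iff_card.mp (hP.to_subgroup (MulAction.stabilizer P x))
  have hc := Subgroup.card_mul_index (MulAction.stabilizer P x)
  rw [Subgroup.index_eq_card, ← Nat.card_congr (MulAction.orbitEquivQuotientStabilizer P x), hm] at hc
  obtain ⟨j, hj⟩ := hP.card_orbit x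
  have hj0 : j ≠ 0 := by rintro rfl; exact hx (by simpa using hj)
  have hdvd : 3 ^ (m + 1) ∣ Nat.card P := by
    rw [← hc, hj, ← pow_add]
    exact pow_dvd_pow 3 (by omega)
  obtain ⟨R, hR, hle⟩ := Sylow.exists_subgroup_card_pow_succ hdvd hm
  refine ⟨R, hle, ?_⟩
  have h := card_blockOf hle
  rw [hR, hm, pow_succ] at h
  exact Nat.eq_of_mul_eq_mul_left (by positivity : 0 < 3 ^ m) (by rw [mul_comm] at h; exact h)

variable {M : Subgroup (Perm α)}

/-- The even permutation exchanging two disjoint triples. -/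
theorem exists_exchange {T U : Finset α} (hT : T.card = 3) (hU : U.card = 3) (hd : Disjoint T U) :
    ∃ g : Perm α, Perm.sign g = 1 ∧ T.image g = U ∧ U.image g = T ∧
      ∀ x, x ∉ T → x ∉ U → g x = x := by
  obtain ⟨a, b, c, hab, hac, hbc, rfl⟩ := Finset.card_eq_three.mp hT
  obtain ⟨a', b', c', hab', hac', hbc', rfl⟩ := Finset.card_eq_three.mp hU
  simp only [Finset.disjoint_insert_left, Finset.disjoint_singleton_left, Finset.mem_insert,
    Finset.mem_singleton, not_or] at hd
  obtain ⟨⟨haa, hab2, hac2⟩, ⟨hba, hbb, hbc2⟩, hca, hcb, hcc⟩ := hd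
  refine ⟨swap a a' * swap b b' * swap c c' * swap a b, ?_, ?_, ?_, ?_⟩
  · simp [Perm.sign_swap haa, Perm.sign_swap hbb, Perm.sign_swap hcc, Perm.sign_swap hab]
  · ext y
    simp only [Finset.image_insert, Finset.image_singleton, Finset.mem_insert, Finset.mem_singleton,
      Perm.mul_apply]
    rw [swap_apply_left, swap_apply_of_ne_of_ne hbc hbc2, swap_apply_left,
      swap_apply_of_ne_of_ne (Ne.symm hab2) hab'.symm, swap_apply_right,
      swap_apply_of_ne_of_ne hac hac2, swap_apply_of_ne_of_ne hab hab2, swap_apply_left,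
      swap_apply_of_ne_of_ne hac.symm hbc.symm, swap_apply_left,
      swap_apply_of_ne_of_ne (Ne.symm hbc2) hbc'.symm, swap_apply_of_ne_of_ne (Ne.symm hac2) hac'.symm]
    tauto
  · ext y
    simp only [Finset.image_insert, Finset.image_singleton, Finset.mem_insert, Finset.mem_singleton,
      Perm.mul_apply]
    rw [swap_apply_of_ne_of_ne (Ne.symm haa) (Ne.symm hba), swap_apply_of_ne_of_ne (Ne.symm hca) hac',
      swap_apply_of_ne_of_ne (Ne.symm hba) hab', swap_apply_right,
      swap_apply_of_ne_of_ne (Ne.symm hab2) (Ne.symm hbb), swap_apply_of_ne_of_ne (Ne.symm hcb) hbc',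
      swap_apply_right, swap_apply_of_ne_of_ne hab.symm hba,
      swap_apply_of_ne_of_ne (Ne.symm hac2) (Ne.symm hbc2), swap_apply_right,
      swap_apply_of_ne_of_ne hbc.symm hcb, swap_apply_of_ne_of_ne hac.symm hca]
  · intro x hx hx'
    simp only [Finset.mem_insert, Finset.mem_singleton, not_or] at hx hx'
    simp only [Perm.mul_apply]
    rw [swap_apply_of_ne_of_ne hx.1 hx.2.1, swap_apply_of_ne_of_ne hx.2.2 hx'.2.2,
      swap_apply_of_ne_of_ne hx.2.1 hx'.2.1, swap_apply_of_ne_of_ne hx.1 hx'.1]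

variable (hPA : P ≤ alternatingGroup α) (hMA : ¬ alternatingGroup α ≤ M)
  (huniq : ∀ U : Subgroup (Perm α), P ≤ U → U ≤ alternatingGroup α → U ≠ alternatingGroup α → U ≤ M)
include hPA hMA huniq

theorem evenStab_le {F : Finset (Finset α)} (hF : ∀ σ ∈ P, ∀ B ∈ F, B.image σ ∈ F)
    (hne : ∃ σ ∈ alternatingGroup α, ∃ B ∈ F, B.image σ ∉ F) : evenStab F ≤ M := by
  refine huniq _ (fun σ hσ => mem_evenStab (Perm.mem_alternatingGroup.mp (hPA hσ)) (hF σ hσ))
    inf_le_left fun h => ?_
  obtain ⟨σ, hσ, B, hB, hn⟩ := hne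
  exact hn (image_mem_of_mem_evenStab (h.ge hσ) hB)

/-- A triple partition and one alternating subgroup on two of the triples generate everything. -/
theorem false_of_triples {F : Finset (Finset α)} (hF : ∀ σ ∈ P, ∀ B ∈ F, B.image σ ∈ F)
    (h3 : ∀ B ∈ F, B.card = 3) (hdis : ∀ B ∈ F, ∀ C ∈ F, B = C ∨ Disjoint B C)
    (hcov : ∀ x, ∃ B ∈ F, x ∈ B) {A : Finset α} (hA : altOn A ≤ M) {T T' : Finset α} (hT : T ∈ F)
    (hT' : T' ∈ F) (hne : T ≠ T') (hTA : T ⊆ A) (hT'A : T' ⊆ A) : False := by
  have hTT : Disjoint T T' := (hdis T hT T' hT').resolve_left hne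
  have hA3 : 3 ≤ A.card := (h3 T hT).ge.trans (Finset.card_le_card hTA)
  obtain ⟨x, hx, y, hy, hxy⟩ := Finset.one_lt_card.mp (show 1 < T.card by rw [h3 T hT]; omega)
  obtain ⟨z, hz, w, hw, hzw⟩ := Finset.one_lt_card.mp (show 1 < T'.card by rw [h3 T' hT']; omega)
  have hW : evenStab F ≤ M := by
    refine evenStab_le hPA hMA huniq hF ⟨cyc3 x z w, ?_, T, hT, fun hmem => ?_⟩
    · exact Perm.mem_alternatingGroup.mpr (sign_cyc3 (fun e => Finset.disjoint_left.mp hTT hx (e ▸ hz))
        hzw)
    · have hxz : x ≠ z := fun e => Finset.disjoint_left.mp hTT hx (e ▸ hz)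
      have hxw : x ≠ w := fun e => Finset.disjoint_left.mp hTT hx (e ▸ hw)
      have hyi : y ∈ T.image (cyc3 x z w) := Finset.mem_image.mpr ⟨y, hy, cyc3_of_ne hxy.symm
        (fun e => Finset.disjoint_left.mp hTT hy (e ▸ hz)) (fun e => Finset.disjoint_left.mp hTT hy (e ▸ hw))⟩
      have hzi : z ∈ T.image (cyc3 x z w) := Finset.mem_image.mpr ⟨x, hx, cyc3_left hxz hxw⟩
      rcases hdis _ hmem T hT with h | h
      · exact Finset.disjoint_left.mp hTT (h ▸ hzi) hz
      · exact Finset.disjoint_left.mp h hyi hy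
  obtain ⟨A', hAA', hmax⟩ := exists_isMaxAlt hA3 hA
  refine hMA ?_
  have huniv : A' = Finset.univ := by
    refine Finset.eq_univ_of_forall fun v => ?_
    obtain ⟨U, hU, hvU⟩ := hcov v
    rcases hdis U hU T hT with rfl | hUT
    · exact hAA' (hTA hvU)
    rcases hdis U hU T' hT' with rfl | hUT'
    · exact hAA' (hT'A hvU)
    obtain ⟨g, hg1, hgT, hgU, hgfix⟩ := exists_exchange (h3 T hT) (h3 U hU) hUT.symm
    have hgM : g ∈ M := hW (mem_evenStab hg1 fun B hB => by
      rcases hdis B hB T hT with rfl | h1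
      · rwa [hgT]
      rcases hdis B hB U hU with rfl | h2
      · rwa [hgU]
      suffices hs : B.image g = B by rwa [hs]
      conv_rhs => rw [← Finset.image_id (s := B)]
      exact Finset.image_congr fun b hb =>
        hgfix b (Finset.disjoint_left.mp h1 hb) (Finset.disjoint_left.mp h2 hb))
    have heq : A'.image g = A' := hmax.image hgM ⟨z, Finset.mem_inter.mpr ⟨hAA' (hT'A hz),
      Finset.mem_image.mpr ⟨z, hAA' (hT'A hz), hgfix z (Finset.disjoint_right.mp hTT hz)
        (Finset.disjoint_right.mp hUT' hz)⟩⟩⟩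
    rw [← hgT] at hvU
    exact heq ▸ Finset.image_subset_image (hTA.trans hAA') hvU
  rw [← altOn_univ, ← huniv]
  exact hmax.2.1

/-- The alternating subgroups off an invariant set lie in `M`. -/
theorem altOn_le_of_invariant (hn : 3 ≤ Fintype.card α) {U : Finset α}
    (hU : ∀ σ ∈ P, U.image σ = U) (h0 : U.Nonempty) (h1 : U ≠ Finset.univ) :
    altOn U ≤ M ∧ altOn Uᶜ ≤ M := by
  obtain ⟨u, hu⟩ := h0
  obtain ⟨z, hz⟩ : ∃ z, z ∉ U := by
    by_contra h
    push Not at h
    exact h1 (Finset.eq_univ_of_forall h)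
  have huz : u ≠ z := fun e => hz (e ▸ hu)
  obtain ⟨w, -, hw⟩ := Finset.exists_mem_notMem_of_card_lt_card (s := ({u, z} : Finset α))
    (t := Finset.univ) (lt_of_le_of_lt Finset.card_le_two (by simp; omega))
  simp only [Finset.mem_insert, Finset.mem_singleton, not_or] at hw
  have hle : evenStab {U} ≤ M := evenStab_le hPA hMA huniq
    (fun σ hσ B hB => by rw [Finset.mem_singleton.mp hB, hU σ hσ]; exact Finset.mem_singleton_self U)
    ⟨cyc3 u z w, Perm.mem_alternatingGroup.mpr (sign_cyc3 huz (Ne.symm hw.2)), U,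
      Finset.mem_singleton_self U, fun h => hz (by
        rw [← Finset.mem_singleton.mp h]
        exact Finset.mem_image.mpr ⟨u, hu, cyc3_left huz (Ne.symm hw.1)⟩)⟩
  exact ⟨(altOn_le_evenStab fun B hB => Or.inl (Finset.mem_singleton.mp hB).ge).trans hle,
    (altOn_le_evenStab fun B hB => Or.inr (by
      rw [Finset.mem_singleton.mp hB]; exact disjoint_compl_left)).trans hle⟩

theorem false_of_three_parts (hn : 5 ≤ Fintype.card α) {U V W : Finset α}
    (hU : ∀ σ ∈ P, U.image σ = U) (hV : ∀ σ ∈ P, V.image σ = V) (hW : ∀ σ ∈ P, W.image σ = W)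
    (hU0 : U.Nonempty) (hV0 : V.Nonempty) (hW0 : W.Nonempty) (hUV : Disjoint U V)
    (hUW : Disjoint U W) (hVW : Disjoint V W) : False := by
  -- two of the complements have at least three points
  have key : ∀ {U V W : Finset α}, (∀ σ ∈ P, U.image σ = U) → (∀ σ ∈ P, V.image σ = V) →
      U.Nonempty → V.Nonempty → W.Nonempty → Disjoint U V → Disjoint U W → Disjoint V W →
      3 ≤ Uᶜ.card → 3 ≤ Vᶜ.card → False := by
    intro U V W hU hV hU0 hV0 hW0 hUV hUW hVW hu hv
    have h1 := (altOn_le_of_invariant hPA hMA huniq (by omega) hU hU0 fun e => by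
      obtain ⟨v, hv'⟩ := hV0
      exact Finset.disjoint_left.mp hUV (e ▸ Finset.mem_univ v) hv').2
    have h2 := (altOn_le_of_invariant hPA hMA huniq (by omega) hV hV0 fun e => by
      obtain ⟨u, hu'⟩ := hU0
      exact Finset.disjoint_left.mp hUV hu' (e ▸ Finset.mem_univ u)).2
    obtain ⟨w, hw⟩ := hW0
    have h3 := altOn_union_le hu hv ⟨w, Finset.mem_inter.mpr
      ⟨Finset.mem_compl.mpr (Finset.disjoint_right.mp hUW hw),
        Finset.mem_compl.mpr (Finset.disjoint_right.mp hVW hw)⟩⟩ h1 h2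
    refine hMA ?_
    rw [← altOn_univ]
    refine le_trans (altOn_mono fun x _ => ?_) h3
    by_cases hx : x ∈ U
    · exact Finset.mem_union_right _ (Finset.mem_compl.mpr (Finset.disjoint_left.mp hUV hx))
    · exact Finset.mem_union_left _ (Finset.mem_compl.mpr hx)
  have := hU0.card_pos
  have := hV0.card_pos
  have := hW0.card_pos
  have hsum : U.card + V.card + W.card ≤ Fintype.card α := by
    rw [← Finset.card_union_of_disjoint hUV, ← Finset.card_union_of_disjoint
      (Finset.disjoint_union_left.mpr ⟨hUW, hVW⟩)]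
    exact Finset.card_le_univ _
  have := Finset.card_compl U
  have := Finset.card_compl V
  have := Finset.card_compl W
  by_cases h1 : 3 ≤ Uᶜ.card
  · by_cases h2 : 3 ≤ Vᶜ.card
    · exact key hU hV hU0 hV0 hW0 hUV hUW hVW h1 h2
    · exact key hU hW hU0 hW0 hV0 hUW hUV hVW.symm h1 (by omega)
  · exact key hV hW hV0 hW0 hU0 hVW hUV.symm hUW.symm (by omega) (by omega)

theorem card_cases_of_unique (hn : 5 ≤ Fintype.card α) (hP : IsPGroup 3 P) :
    Fintype.card α = 6 ∨ Fintype.card α = 9 ∨ ∃ a, 2 ≤ a ∧ Fintype.card α = 3 ^ a + 1 := by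
  classical
  haveI : Fact (Nat.Prime 3) := ⟨Nat.prime_three⟩
  set orb : α → Finset α := fun x => blockOf P ⊤ x with horb
  have horbmem : ∀ {x y : α}, y ∈ orb x ↔ y ∈ MulAction.orbit P x := fun {x y} => by
    rw [horb, mem_blockOf]
    exact ⟨fun ⟨r, _, e⟩ => ⟨r, e⟩, fun ⟨r, e⟩ => ⟨r, mem_top _, e⟩⟩
  have horbinv : ∀ x, ∀ σ ∈ P, (orb x).image σ = orb x := fun x σ hσ =>
    (image_blockOf_eq (p := ⟨σ, hσ⟩) (q := 1) (mem_top _)).trans (by simp [horb])
  have horbcard : ∀ x, ∃ j, (orb x).card = 3 ^ j := fun x => by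
    obtain ⟨j, hj⟩ := hP.card_orbit x
    refine ⟨j, ?_⟩
    rw [← hj, show MulAction.orbit P x = (orb x : Set α) from (Set.ext fun y => horbmem.symm),
      Nat.card_eq_fintype_card]
    exact (Fintype.card_coe _).symm
  have horbne : ∀ x, (orb x).Nonempty := fun x => ⟨x, self_mem_blockOf ⊤ x⟩
  have horbdis : ∀ x y, x ∉ orb y → Disjoint (orb x) (orb y) := fun x y hxy =>
    Finset.disjoint_left.mpr fun w h1 h2 => hxy (horbmem.mpr (by
      rw [← MulAction.orbit_eq_iff] at *
      exact (MulAction.orbit_eq_iff.mpr (horbmem.mp h1)).symm.trans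
        (MulAction.orbit_eq_iff.mpr (horbmem.mp h2))))
  have hone : ∀ x, (orb x).card ≠ 1 → Nat.card (MulAction.orbit P x) ≠ 1 := fun x h h' => h (by
    rw [← h', show MulAction.orbit P x = (orb x : Set α) from (Set.ext fun y => horbmem.symm),
      Nat.card_eq_fintype_card]
    exact (Fintype.card_coe _).symm)
  obtain ⟨x⟩ : Nonempty α := Fintype.card_pos_iff.mp (by omega)
  by_cases h1 : orb x = Finset.univ
  · -- transitive
    obtain ⟨j, hj⟩ := horbcard x
    rw [h1, Finset.card_univ] at hj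
    by_cases hj2 : j = 2
    · exact Or.inr (Or.inl (by rw [hj, hj2]; norm_num))
    exfalso
    have hj3 : 3 ≤ j := by
      by_contra h
      have : j = 0 ∨ j = 1 := by omega
      rcases this with rfl | rfl <;> simp at hj <;> omega
    obtain ⟨R, hR, hRc⟩ := exists_over_stabilizer hP (hone x (by rw [h1, Finset.card_univ]; omega))
    obtain ⟨r, hrc⟩ := IsPGroup.iff_card.mp (hP.to_subgroup R)
    obtain ⟨N, hN⟩ := IsPGroup.iff_card.mp hP
    -- a subgroup of index `3` over `R`
    have hstab := card_blockOf (R := (⊤ : Subgroup P)) (x := x) le_top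
    rw [show blockOf P ⊤ x = Finset.univ from h1, Finset.card_univ, Subgroup.card_top, hN, hj] at hstab
    have hRs := card_blockOf hR
    rw [hRc, hrc] at hRs
    have hrN : r + 1 ≤ N - 1 + 1 ∧ r < N := by
      have h9 : 3 ^ r * 3 ^ j = 3 * 3 ^ N := by rw [← hRs, ← hstab]; ring
      rw [← pow_add, ← pow_succ'] at h9
      have := Nat.pow_right_injective (by norm_num : 2 ≤ 3) h9
      omega
    obtain ⟨R', hR', hRR'⟩ := Sylow.exists_subgroup_card_pow_prime_le 3
      (show 3 ^ (N - 1) ∣ Nat.card P by rw [hN]; exact pow_dvd_pow 3 (by omega)) R hrc (by omega)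
    have hS' := hR.trans hRR'
    set B := blockOf P R' x with hB
    have hBs := card_blockOf hS'
    rw [← hB, hR'] at hBs
    have hBcard : B.card * 3 = Fintype.card α := by
      apply Nat.eq_of_mul_eq_mul_right (Nat.card_pos (α := MulAction.stabilizer P x))
      rw [mul_right_comm, hBs, hj, hstab, ← pow_succ, Nat.sub_add_cancel (by omega)]
    have hBlarge : 3 < B.card := by
      have : 3 ^ 3 ≤ 3 ^ j := Nat.pow_le_pow_right (by norm_num) hj3
      omega
    obtain ⟨z, hz⟩ : ∃ z, z ∉ B := by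
      by_contra h
      push Not at h
      have := Finset.eq_univ_of_forall h
      rw [this, Finset.card_univ] at hBcard
      omega
    obtain ⟨y, hy, hyx⟩ := Finset.exists_mem_ne (show 1 < B.card by omega) x
    have hxB : x ∈ B := self_mem_blockOf R' x
    obtain ⟨u, hu, hu'⟩ := Finset.exists_mem_notMem_of_card_lt_card (s := ({x, y} : Finset α)) (t := B)
      (lt_of_le_of_lt Finset.card_le_two (by omega))
    simp only [Finset.mem_insert, Finset.mem_singleton, not_or] at hu'
    have hBF : B ∈ translates P B := mem_translates.mpr ⟨1, by simp⟩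
    have hW : evenStab (translates P B) ≤ M := by
      refine evenStab_le hPA hMA huniq (fun σ hσ C hC => translates_invariant hC hσ)
        ⟨cyc3 x z y, Perm.mem_alternatingGroup.mpr (sign_cyc3 (fun e : x = z => hz (e ▸ hxB))
          (fun e : z = y => hz (e ▸ hy))), B, hBF, fun hm => ?_⟩
      have hxz : x ≠ z := fun e => hz (e ▸ hxB)
      have hzy : z ≠ y := fun e => hz (e ▸ hy)
      have hzi : z ∈ B.image (cyc3 x z y) := Finset.mem_image.mpr ⟨x, hxB, cyc3_left hxz hyx.symm⟩
      have hui : u ∈ B.image (cyc3 x z y) := Finset.mem_image.mpr ⟨u, hu,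
        cyc3_of_ne hu'.1 (fun e => hz (e ▸ hu)) hu'.2⟩
      rcases translates_eq_or_disjoint hS' hm hBF with h | h
      · exact hz (h ▸ hzi)
      · exact Finset.disjoint_left.mp h hui hu
    have hAB : altOn B ≤ M := (altOn_le_evenStab fun C hC =>
      (translates_eq_or_disjoint hS' hBF hC).imp (fun h => h.le) id).trans hW
    obtain ⟨v, hv, hv'⟩ := Finset.exists_mem_notMem_of_card_lt_card (s := blockOf P R x) (t := B)
      (by omega)
    obtain ⟨rv, hrv, rfl⟩ := mem_blockOf.mp hv
    refine false_of_triples hPA hMA huniq (F := translates P (blockOf P R x))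
      (fun σ hσ C hC => translates_invariant hC hσ) ?_
      (fun C hC D hD => translates_eq_or_disjoint hR hC hD)
      (fun w => exists_translate_mem (horbmem.mp (by rw [h1]; exact Finset.mem_univ w))) hAB
      (T := blockOf P R x) (T' := (blockOf P R x).image ((rv : Perm α)))
      (mem_translates.mpr ⟨1, by simp⟩) (mem_translates.mpr ⟨rv, rfl⟩) ?_ (blockOf_mono hRR' x) ?_
    · intro C hC
      obtain ⟨p, rfl⟩ := mem_translates.mp hC
      rw [Finset.card_image_of_injective _ (p : Perm α).injective, hRc]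
    · intro e
      exact hv' (by rw [e]; exact Finset.mem_image_of_mem _ (self_mem_blockOf R x))
    · intro w hw
      simp only [Finset.mem_image, mem_blockOf] at hw
      obtain ⟨-, ⟨t, ht, rfl⟩, rfl⟩ := hw
      exact mem_blockOf.mpr ⟨rv * t, R'.mul_mem hrv (hRR' ht), rfl⟩
  obtain ⟨y, hy⟩ : ∃ y, y ∉ orb x := by
    by_contra h
    push Not at h
    exact h1 (Finset.eq_univ_of_forall h)
  by_cases h2 : orb x ∪ orb y = Finset.univ
  swap
  · obtain ⟨z, hz⟩ : ∃ z, z ∉ orb x ∪ orb y := by
      by_contra h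
      push Not at h
      exact h2 (Finset.eq_univ_of_forall h)
    rw [Finset.mem_union, not_or] at hz
    exact (false_of_three_parts hPA hMA huniq hn (horbinv x) (horbinv y) (horbinv z) (horbne x)
      (horbne y) (horbne z) (horbdis y x hy).symm (horbdis z x hz.1).symm (horbdis z y hz.2).symm).elim
  -- two orbits
  suffices key : ∀ u v, orb u ∪ orb v = Finset.univ → Disjoint (orb u) (orb v) →
      (orb v).card ≤ (orb u).card →
      Fintype.card α = 6 ∨ Fintype.card α = 9 ∨ ∃ a, 2 ≤ a ∧ Fintype.card α = 3 ^ a + 1 by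
    rcases le_total (orb y).card (orb x).card with h | h
    · exact key x y h2 (horbdis y x hy).symm h
    · exact key y x (by rw [Finset.union_comm]; exact h2) (horbdis y x hy) h
  intro u v huv hd hle
  obtain ⟨a, ha⟩ := horbcard u
  obtain ⟨b, hb⟩ := horbcard v
  have hsum : Fintype.card α = 3 ^ a + 3 ^ b := by
    rw [← Finset.card_univ, ← huv, Finset.card_union_of_disjoint hd, ha, hb]
  rw [ha, hb] at hle
  have hba : b ≤ a := (Nat.pow_le_pow_iff_right (by norm_num)).mp hle
  have ha1 : a ≠ 0 := by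
    rintro rfl
    have : b = 0 := by omega
    subst this
    norm_num at hsum
    omega
  by_cases ha2 : a = 1
  · subst ha2
    rcases (show b = 0 ∨ b = 1 by omega) with rfl | rfl
    · norm_num at hsum; omega
    · exact Or.inl (by norm_num at hsum; omega)
  rcases Nat.eq_zero_or_pos b with rfl | hb0
  · exact Or.inr (Or.inr ⟨a, by omega, by simpa using hsum⟩)
  exfalso
  have h9 : 9 ≤ 3 ^ a := le_trans (by norm_num) (Nat.pow_le_pow_right (by norm_num) (show 2 ≤ a by omega))
  obtain ⟨R, hR, hRc⟩ := exists_over_stabilizer hP (hone u (by omega))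
  obtain ⟨S, hS, hSc⟩ := exists_over_stabilizer hP (hone v (by
    rw [hb]; exact (Nat.one_lt_pow hb0.ne' (by norm_num)).ne'))
  set F := translates P (blockOf P R u) ∪ translates P (blockOf P S v) with hF
  have hu_in : ∀ {C : Finset α}, C ∈ translates P (blockOf P R u) → C ⊆ orb u := fun hC w hw =>
    horbmem.mpr (translate_subset_orbit hC hw)
  have hv_in : ∀ {C : Finset α}, C ∈ translates P (blockOf P S v) → C ⊆ orb v := fun hC w hw =>
    horbmem.mpr (translate_subset_orbit hC hw)
  have hA : altOn (orb u) ≤ M := (altOn_le_of_invariant hPA hMA huniq (by omega) (horbinv u)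
    (horbne u) fun e => by
      rw [e, Finset.card_univ] at ha
      have : 0 < 3 ^ b := by positivity
      omega).1
  obtain ⟨w, hw, hw'⟩ := Finset.exists_mem_notMem_of_card_lt_card (s := blockOf P R u) (t := orb u)
    (by omega)
  obtain ⟨C, hC, hwC⟩ := exists_translate_mem (R := R) (horbmem.mp hw)
  refine false_of_triples hPA hMA huniq (F := F) ?_ ?_ ?_ ?_ hA (T := blockOf P R u) (T' := C)
    (Finset.mem_union_left _ (mem_translates.mpr ⟨1, by simp⟩)) (Finset.mem_union_left _ hC)
    (fun e => hw' (e ▸ hwC)) (hu_in (mem_translates.mpr ⟨1, by simp⟩)) (hu_in hC)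
  · intro σ hσ B hB
    rcases Finset.mem_union.mp hB with h | h
    · exact Finset.mem_union_left _ (translates_invariant h hσ)
    · exact Finset.mem_union_right _ (translates_invariant h hσ)
  · intro B hB
    rcases Finset.mem_union.mp hB with h | h <;> obtain ⟨p, rfl⟩ := mem_translates.mp h <;>
      rw [Finset.card_image_of_injective _ (p : Perm α).injective]
    exacts [hRc, hSc]
  · intro B hB D hD
    rcases Finset.mem_union.mp hB with h | h <;> rcases Finset.mem_union.mp hD with h' | h'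
    · exact translates_eq_or_disjoint hR h h'
    · exact Or.inr (hd.mono (hu_in h) (hv_in h'))
    · exact Or.inr (hd.symm.mono (hv_in h) (hu_in h'))
    · exact translates_eq_or_disjoint hS h h'
  · intro z
    rcases Finset.mem_union.mp (huv.symm ▸ Finset.mem_univ z) with h | h
    · obtain ⟨B, hB, hzB⟩ := exists_translate_mem (R := R) (horbmem.mp h)
      exact ⟨B, Finset.mem_union_left _ hB, hzB⟩
    · obtain ⟨B, hB, hzB⟩ := exists_translate_mem (R := S) (horbmem.mp h)
      exact ⟨B, Finset.mem_union_right _ hB, hzB⟩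

end Cfsg.Agent.LocalEven64
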