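import Cfsg.Agent.LocalEven64.GenFittingCharP
import Cfsg.Agent.Lib.Coprime.Action

/-!
# Cores of involution centralizers when no component is present and one centralizer has characteristic 2
-/

set_option autoImplicit false

namespace Cfsg.Agent.LocalEven64

open Subgroup
open scoped commutatorElement

variable {G : Type*} [Group G]

/-- Characteristic `p` is invariant under isomorphism. -/
theorem charP_of_equiv {p : ℕ} {A B : Type*} [Group A] [Group B] (e : A ≃* B)
    (h : centralizer (Cfsg.pCore p A : Set A) ≤ Cfsg.pCore p A) :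
    centralizer (Cfsg.pCore p B : Set B) ≤ Cfsg.pCore p B := by
  intro b hb
  have hm := Thompson.map_pCore_equiv (p := p) e
  have ha : e.symm b ∈ centralizer (Cfsg.pCore p A : Set A) := by
    rw [mem_centralizer_iff]
    intro a ha
    apply e.injective
    simpa using mem_centralizer_iff.mp hb (e a) (hm ▸ ⟨a, ha, rfl⟩)
  rw [← hm]
  exact ⟨e.symm b, h ha, by simp⟩

theorem CharPOf.subgroupOf {p : ℕ} {H L : Subgroup G} (hLH : L ≤ H) (h : CharPOf p L) :
    CharPOf p (L.subgroupOf H) := charP_of_equiv (subgroupOfEquivOfLe hLH).symm h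

/-- The `p'`-core of a subgroup, seen in `G`. -/
def pPCoreOf (p : ℕ) (H : Subgroup G) : Subgroup G := (Cfsg.pPrimeCore p ↥H).map H.subtype

theorem pPCoreOf_le {p : ℕ} (H : Subgroup G) : pPCoreOf p H ≤ H := map_subtype_le _

theorem le_normalizer_pPCoreOf {p : ℕ} (H : Subgroup G) : H ≤ normalizer (pPCoreOf p H : Set G) := by
  refine le_trans ?_ (le_normalizer_map H.subtype)
  rw [normalizer_eq_top_iff.mpr Thompson.instPPrimeCoreNormal, ← MonoidHom.range_eq_map, range_subtype]

theorem card_pPCoreOf_coprime [Finite G] {p : ℕ} (H : Subgroup G) :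
    (Nat.card (pPCoreOf p H)).Coprime p := by
  rw [pPCoreOf, card_map_of_injective H.subtype_injective]
  exact Thompson.card_pPrimeCore_coprime

theorem le_pPCoreOf [Finite G] {p : ℕ} {N H : Subgroup G} (hNH : N ≤ H)
    (hn : H ≤ normalizer (N : Set G)) (hN : (Nat.card N).Coprime p) : N ≤ pPCoreOf p H := by
  intro x hx
  refine ⟨⟨x, hNH hx⟩, Thompson.le_pPrimeCore ((normal_subgroupOf_iff_le_normalizer hNH).mpr hn)
    ?_ (show (⟨x, hNH hx⟩ : H) ∈ N.subgroupOf H from hx), rfl⟩
  rwa [Nat.card_congr (subgroupOfEquivOfLe hNH).toEquiv]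

/-- A group of characteristic `p` has no nontrivial normal `p'`-subgroup. -/
theorem CharPOf.eq_bot_of_coprime [Finite G] {p : ℕ} [Fact p.Prime] {L N : Subgroup G}
    (hL : CharPOf p L) (hNL : N ≤ L) (hn : L ≤ normalizer (N : Set G))
    (hN : (Nat.card N).Coprime p) : N = ⊥ := by
  rw [eq_bot_iff]
  intro x hx
  refine hL.eq_one (hNL hx) (hN.coprime_dvd_left (orderOf_dvd_natCard N hx)) ?_
  rw [mem_centralizer_iff]
  intro y hy
  have hc1 : ⁅x, y⁆ ∈ N := by
    rw [commutatorElement_def]
    have := (mem_normalizer_iff.mp (hn (pCoreOf_le L hy)) x⁻¹).mp (inv_mem hx)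
    simpa [mul_assoc] using mul_mem hx this
  have hc2 : ⁅x, y⁆ ∈ Cfsg.pCoreOf p L := by
    rw [commutatorElement_def]
    exact mul_mem ((mem_normalizer_iff.mp (le_normalizer_pCoreOf L (hNL hx)) y).mp hy) (inv_mem hy)
  have h1 : ⁅x, y⁆ = 1 := eq_one_of_mem_pGroup (isPGroup_pCoreOf L) hc2
    (hN.coprime_dvd_left (orderOf_dvd_natCard N hc1))
  exact (commutatorElement_eq_one_iff_mul_comm.mp h1).symm

/-- A fixed-point-free involution on a finite group inverts it. -/
theorem inverts_of_fpf [Finite G] {z : G} (hz : z ^ 2 = 1) {K : Subgroup G}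
    (hzK : z ∈ normalizer (K : Set G)) (hfix : ∀ k ∈ K, z * k * z⁻¹ = k → k = 1) :
    ∀ k ∈ K, z * k * z⁻¹ = k⁻¹ := by
  let σ : K → K := fun k => ⟨z * k * z⁻¹, (mem_normalizer_iff.mp hzK _).mp k.2⟩
  let f : K → K := fun k => k⁻¹ * σ k
  have hinj : Function.Injective f := by
    intro a b hab
    have h := congrArg Subtype.val hab
    simp only [f, σ, Subgroup.coe_mul, InvMemClass.coe_inv] at h
    have h' : (b : G) * (a : G)⁻¹ = 1 := by
      refine hfix _ (mul_mem b.2 (inv_mem a.2)) ?_
      calc z * ((b : G) * (a : G)⁻¹) * z⁻¹ = (z * b * z⁻¹) * (z * a * z⁻¹)⁻¹ := by group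
        _ = (b : G) * ((b : G)⁻¹ * (z * b * z⁻¹)) * (z * a * z⁻¹)⁻¹ := by group
        _ = (b : G) * ((a : G)⁻¹ * (z * a * z⁻¹)) * (z * a * z⁻¹)⁻¹ := by rw [h]
        _ = _ := by group
    exact Subtype.ext (mul_inv_eq_one.mp h').symm
  intro k hk
  obtain ⟨a, ha⟩ := Finite.surjective_of_injective hinj ⟨k, hk⟩
  have ha' : (a : G)⁻¹ * (z * a * z⁻¹) = k := congrArg Subtype.val ha
  have hzz : z * z = 1 := by rw [← sq]; exact hz
  have hzi : z⁻¹ = z := inv_eq_of_mul_eq_one_left hzz
  calc z * k * z⁻¹ = z * ((a : G)⁻¹ * (z * a * z⁻¹)) * z⁻¹ := by rw [ha']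
    _ = (z * (a : G)⁻¹ * z⁻¹) * ((z * z) * a * (z⁻¹ * z⁻¹)) := by group
    _ = (z * (a : G)⁻¹ * z⁻¹) * a := by rw [hzi, hzz, one_mul, mul_one]
    _ = k⁻¹ := by rw [← ha']; group

/-- `O(C(b))` absorbs `C(b)`-centralizing parts of a group of odd order once `C(b)/O(C(b))` has
characteristic 2. -/
theorem charP_quotient_oddCore [Finite G] {z : G} (hz : z ^ 2 = 1) (hE : Cfsg.layer G = ⊥)
    (hzc : CharPOf 2 (centralizer ({z} : Set G)))
    (hinv : ∀ k ∈ Cfsg.pPrimeCore 2 G, z * k * z⁻¹ = k⁻¹) :
    centralizer (Cfsg.pCore 2 (G ⧸ Cfsg.pPrimeCore 2 G) : Set (G ⧸ Cfsg.pPrimeCore 2 G)) ≤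
      Cfsg.pCore 2 (G ⧸ Cfsg.pPrimeCore 2 G) := by
  haveI : Fact (Nat.Prime 2) := ⟨Nat.prime_two⟩
  set K := Cfsg.pPrimeCore 2 G with hK
  set π := QuotientGroup.mk' K with hπ
  set F := centralizer (K : Set G) with hF
  haveI : F.Normal := by
    rw [← normalizer_eq_top_iff, ← top_le_iff]
    exact (normalizer_eq_top_iff.mpr (inferInstance : K.Normal)).ge.trans
      (normalizer_le_normalizer_centralizer K)
  have hKodd : ∀ k ∈ K, k * k = 1 → k = 1 := fun k hk h => by
    have h1 : orderOf k ∣ 2 := orderOf_dvd_of_pow_eq_one (by rw [sq]; exact h)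
    have h2 : (orderOf k).Coprime 2 :=
      Thompson.card_pPrimeCore_coprime.coprime_dvd_left (orderOf_dvd_natCard K hk)
    exact orderOf_eq_one_iff.mp (Nat.eq_one_of_dvd_coprimes h2 dvd_rfl h1)
  have hKab : ∀ a ∈ K, ∀ b ∈ K, a * b = b * a := by
    intro a ha b hb
    have h1 := hinv _ (mul_mem ha hb)
    rw [show z * (a * b) * z⁻¹ = (z * a * z⁻¹) * (z * b * z⁻¹) by group, hinv a ha, hinv b hb] at h1
    have h2 := congrArg (·⁻¹) h1
    simp at h2
    exact h2.symm
  have hKF : K ≤ F := fun a ha => mem_centralizer_iff.mpr fun b hb => hKab b hb a ha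
  have hzF : ∀ h : G, ⁅h, z⁆ ∈ F := by
    intro h
    rw [mem_centralizer_iff]
    intro k hk
    have e : ⁅h, z⁆ * k * ⁅h, z⁆⁻¹ = k := by
      have hk1 : h⁻¹ * (z⁻¹ * k * z) * h = (h⁻¹ * k * h)⁻¹ := by
        have h0 := hinv _ ((inferInstance : K.Normal).conj_mem k hk z⁻¹)
        rw [show z * (z⁻¹ * k * z⁻¹⁻¹) * z⁻¹ = k by group] at h0
        have h0' : z⁻¹ * k * z = k⁻¹ := by
          rw [show z⁻¹ * k * z = ((z⁻¹ * k * z⁻¹⁻¹)⁻¹)⁻¹ by group, ← h0]
        rw [h0']; group
      calc ⁅h, z⁆ * k * ⁅h, z⁆⁻¹ = h * (z * (h⁻¹ * (z⁻¹ * k * z) * h) * z⁻¹) * h⁻¹ := by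
            rw [commutatorElement_def]; group
        _ = h * (z * (h⁻¹ * k * h)⁻¹ * z⁻¹) * h⁻¹ := by rw [hk1]
        _ = h * ((z * (h⁻¹ * k * h) * z⁻¹)⁻¹) * h⁻¹ := by group
        _ = h * (((h⁻¹ * k * h)⁻¹)⁻¹) * h⁻¹ := by
            rw [hinv (h⁻¹ * k * h) (by simpa using (inferInstance : K.Normal).conj_mem k hk h⁻¹)]
        _ = k := by group
    exact (mul_inv_eq_iff_eq_mul.mp e).symm
  have hlayer : Cfsg.layer (G ⧸ K) = ⊥ := by
    rw [Components.layer_eq_bot_iff]
    intro L hL
    have hLn : ⁅L, L⁆ = L := Components.component_commutator_eq_self hL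
    by_cases hzL : ∀ l ∈ L, l * π z = π z * l
    · -- `L` lifts into `C(z)`
      let C := centralizer ({z} : Set G)
      let f : ↥C →* G ⧸ K := π.comp C.subtype
      have hf : Function.Injective f := by
        rw [← f.ker_eq_bot_iff, eq_bot_iff]
        intro x hx
        have hxK : (x : G) ∈ K := (QuotientGroup.eq_one_iff _).mp hx
        have h1 := hinv _ hxK
        rw [show z * (x : G) = (x : G) * z from (mem_centralizer_singleton_iff.mp x.2).symm,
          mul_inv_cancel_right] at h1
        refine Subtype.ext (hKodd _ hxK ?_)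
        calc (x : G) * x = (x : G)⁻¹ * x := congrArg (· * (x : G)) h1
          _ = 1 := inv_mul_cancel _
      have hrange : L ≤ f.range := by
        intro l hl
        obtain ⟨h, rfl⟩ := QuotientGroup.mk'_surjective K l
        have hh : ∀ a ∈ zpowers z, a * h * a⁻¹ * h⁻¹ ∈ K := by
          intro a ha
          obtain ⟨i, rfl⟩ := Subgroup.mem_zpowers_iff.mp ha
          rw [← QuotientGroup.eq_one_iff, ← QuotientGroup.mk'_apply K, map_mul, map_mul, map_mul,
            map_inv, map_inv, map_zpow]
          have := (Commute.zpow_right (show Commute (π h) (π z) from hzL _ hl) i).eq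
          have h2 : (π z) ^ i * π h * ((π z) ^ i)⁻¹ * (π h)⁻¹ = 1 := by rw [← this]; group
          exact h2
        have hcop : (Nat.card (zpowers z)).Coprime (Nat.card K) := by
          rw [Nat.card_zpowers]
          exact (Thompson.card_pPrimeCore_coprime.symm).coprime_dvd_left (orderOf_dvd_of_pow_eq_one hz)
        obtain ⟨k, hk, hfix⟩ := Coprime.exists_fixed_in_coset_of_normal (zpowers z) K
          (fun g _ => by rw [normalizer_eq_top_iff.mpr (inferInstance : K.Normal)]; exact mem_top g)
          hcop (Or.inl (Group.isSolvable_of_comm fun a b => mul_comm' a b)) h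
          (by rw [normalizer_eq_top_iff.mpr (inferInstance : K.Normal)]; exact mem_top h) hh
        refine ⟨⟨h * k, mem_centralizer_singleton_iff.mpr
          (mem_centralizer_iff.mp hfix z (mem_zpowers z)).symm⟩, ?_⟩
        show π (h * k) = π h
        rw [map_mul, (QuotientGroup.eq_one_iff k).mpr hk |> fun e => show π k = 1 from e, mul_one]
      have hLr := Components.component_subgroupOf hL hrange
      have hcomp := Components.component_map_equiv (MonoidHom.ofInjective hf).symm hLr
      have hbot : Cfsg.layer ↥C = ⊥ := by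
        have h1 := generalizedFitting_eq_pCore_iff.mpr hzc
        rw [Components.layer_eq_bot_iff]
        intro M hM
        have h2 := (Components.component_le_generalizedFitting hM).trans h1.le
        haveI : Group.IsNilpotent (Cfsg.pCore 2 ↥C) := Thompson.isPGroup_pCore.isNilpotent
        exact Components.component_not_le_isSolvable hM inferInstance h2
      exact (Components.layer_eq_bot_iff.mp hbot) _ hcomp
    · -- `L` lifts to a component centralizing `K`
      have hLF : L ≤ F.map π := by
        haveI : (F.map π).Normal := Normal.map inferInstance π (QuotientGroup.mk'_surjective K)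
        refine (Components.component_le_or_commutator_eq_bot_of_normal hL (F.map π)).resolve_right ?_
        intro hb
        apply hzL
        have hcz : ⁅L, zpowers (π z)⁆ ≤ F.map π := by
          rw [commutator_le]
          rintro l - _ ⟨i, rfl⟩
          obtain ⟨h, rfl⟩ := QuotientGroup.mk'_surjective K l
          have hzi : ∀ i : ℤ, ⁅h, z ^ i⁆ ∈ F := by
            intro i
            have hFn : F.Normal := inferInstance
            rcases Int.emod_two_eq_zero_or_one i with hi | hi
            · obtain ⟨j, rfl⟩ := Int.dvd_of_emod_eq_zero hi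
              rw [zpow_mul, zpow_ofNat, hz, one_zpow, commutatorElement_one_right]
              exact one_mem _
            · obtain ⟨j, rfl⟩ : ∃ j, i = 2 * j + 1 := ⟨i / 2, by omega⟩
              rw [zpow_add_one, zpow_mul, zpow_ofNat, hz, one_zpow, one_mul]
              exact hzF h
          exact ⟨_, hzi i, by rw [map_commutatorElement, map_zpow]⟩
        intro l hl
        have h3 : ⁅⁅L, zpowers (π z)⁆, L⁆ = ⊥ := by
          rw [eq_bot_iff, ← hb]
          rw [commutator_comm L (F.map π)]
          exact commutator_mono hcz le_rfl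
        have h4 : ⁅⁅L, L⁆, zpowers (π z)⁆ = ⊥ :=
          commutator_commutator_eq_bot_of_rotate h3 (by rw [commutator_comm (zpowers (π z)) L]; exact h3)
        rw [hLn] at h4
        exact (mem_centralizer_iff.mp (le_centralizer_iff.mp
          (commutator_eq_bot_iff_le_centralizer.mp h4) (mem_zpowers (π z))) l hl)
      set M := L.comap π ⊓ F with hM
      have hMsn : M.IsSubnormal := by
        have h1 : (L.comap π).IsSubnormal := hL.1.comap π
        exact h1.inf (inferInstance : F.Normal).isSubnormal
      have hMmap : M.map π = L := by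
        refine le_antisymm ?_ ?_
        · rintro _ ⟨x, hx, rfl⟩; exact hx.1
        · intro l hl
          obtain ⟨x, hx, rfl⟩ := hLF hl
          exact ⟨x, ⟨hl, hx⟩, rfl⟩
      set N := ⁅M, M⁆ with hN
      have hNmap : N.map π = L := by rw [hN, map_commutator, hMmap, hLn]
      have hMNK : M ≤ N ⊔ K := by
        have h1 : M ≤ (N.map π).comap π := by
          rw [hNmap, ← hMmap]; exact le_comap_map π M
        rwa [comap_map_eq, QuotientGroup.ker_mk'] at h1
      have hKM : ⁅K, M⁆ = ⊥ := by
        rw [commutator_eq_bot_iff_le_centralizer, le_centralizer_iff]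
        exact inf_le_right
      have hNM : N ≤ M := commutator_le_self M
      have hMN : N ≤ ⁅N, N⁆ := by
        rw [hN, commutator_le]
        intro a ha b hb
        have ha' : a ∈ (↑(N ⊔ K) : Set G) := hMNK ha
        have hb' : b ∈ (↑(N ⊔ K) : Set G) := hMNK hb
        rw [mul_normal] at ha' hb'
        obtain ⟨a₁, ha₁, ka, hka, rfl⟩ := ha'
        obtain ⟨b₁, hb₁, kb, hkb, rfl⟩ := hb'
        have hcomm : ∀ k ∈ K, ∀ m ∈ M, k * m = m * k := fun k hk m hm =>
          mem_centralizer_iff.mp (inf_le_right (a := L.comap π) hm) k hk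
        have ka_b : Commute ka b₁ := hcomm ka hka b₁ (hNM hb₁)
        have kb_a : Commute kb a₁ := hcomm kb hkb a₁ (hNM ha₁)
        have kk : Commute ka kb := hKab ka hka kb hkb
        have e : ⁅a₁ * ka, b₁ * kb⁆ = ⁅a₁, b₁⁆ := by
          rw [commutatorElement_mul_left_eq_conj_mul]
          have h1 : ⁅ka, b₁ * kb⁆ = 1 :=
            commutatorElement_eq_one_iff_mul_comm.mpr (ka_b.mul_right kk).eq
          rw [h1, mul_one, mul_inv_cancel, one_mul, commutatorElement_mul_right_eq_mul_conj,
            show ⁅a₁, kb⁆ = 1 from commutatorElement_eq_one_iff_mul_comm.mpr kb_a.symm.eq]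
          group
        rw [e]
        exact commutator_mem_commutator ha₁ hb₁
      have hperf : Group.IsPerfect ↥N :=
        Subgroup.isPerfect_iff.mpr (le_antisymm (commutator_le_self N) hMN)
      have hsurj : ∀ l ∈ L, ∃ n ∈ N, π n = l := fun l hl => by rwa [← hNmap] at hl
      haveI := hperf
      haveI : Nontrivial ↥N := by
        rw [nontrivial_iff_ne_bot]
        intro hb
        rw [hb, Subgroup.map_bot] at hNmap
        exact Components.component_ne_bot hL hNmap.symm
      have hq : Cfsg.IsQuasisimple ↥N := by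
        refine Components.isQuasisimple_of_forall_normal fun R hR => ?_
        let g : ↥N →* ↥L := (π.comp N.subtype).codRestrict L
          (fun n => hNmap.le ⟨n, n.2, rfl⟩)
        have hg : Function.Surjective g := fun l => by
          obtain ⟨n, hn, e⟩ := hsurj l l.2
          exact ⟨⟨n, hn⟩, Subtype.ext e⟩
        have hker : g.ker ≤ center ↥N := by
          intro n hn
          rw [mem_center_iff]
          intro m
          have hnK : (n : G) ∈ K := (QuotientGroup.eq_one_iff _).mp (congrArg Subtype.val hn)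
          exact Subtype.ext (mem_centralizer_iff.mp ((hNM m.2).2) _ hnK).symm
        haveI : (R.map g).Normal := hR.map g hg
        rcases Components.normal_eq_top_or_le_center hL.2 (R.map g) with h | h
        · left
          haveI := hR
          rw [eq_top_iff]
          have hsup : R ⊔ g.ker = ⊤ := by
            rw [← comap_map_eq, h, comap_top]
          calc (⊤ : Subgroup ↥N) = ⁅(⊤ : Subgroup ↥N), ⊤⁆ := hperf.1.symm
            _ ≤ R := by
              rw [commutator_le]
              intro a _ b _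
              have ha : a ∈ (↑(R ⊔ g.ker) : Set ↥N) := hsup.ge (mem_top a)
              have hb : b ∈ (↑(R ⊔ g.ker) : Set ↥N) := hsup.ge (mem_top b)
              rw [normal_mul] at ha hb
              obtain ⟨r, hr, c, hc, rfl⟩ := ha
              obtain ⟨s, hs, d, hd, rfl⟩ := hb
              have hcc : Commute c (s * d) := (mem_center_iff.mp (hker hc) (s * d)).symm
              have hdd : Commute r d := (mem_center_iff.mp (hker hd) r)
              rw [commutatorElement_mul_left_eq_conj_mul,
                show ⁅c, s * d⁆ = 1 from commutatorElement_eq_one_iff_mul_comm.mpr hcc.eq, mul_one,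
                mul_inv_cancel, one_mul, commutatorElement_mul_right_eq_mul_conj,
                show ⁅r, d⁆ = 1 from commutatorElement_eq_one_iff_mul_comm.mpr hdd.eq]
              simp only [mul_one, mul_assoc, mul_inv_cancel]
              rw [commutatorElement_def]
              exact mul_mem (mul_mem (mul_mem hr hs) (inv_mem hr)) (inv_mem hs)
        · right
          have h1 : ⁅⁅R, (⊤ : Subgroup ↥N)⁆, (⊤ : Subgroup ↥N)⁆ = ⊥ := by
            rw [commutator_top_right_eq_bot_iff_le_center]
            refine le_trans ?_ hker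
            rw [← Subgroup.map_eq_bot_iff, map_commutator, map_top_of_surjective _ hg,
              commutator_top_right_eq_bot_iff_le_center]
            exact h
          have h2 : ⁅⁅(⊤ : Subgroup ↥N), R⁆, (⊤ : Subgroup ↥N)⁆ = ⊥ := by rwa [commutator_comm ⊤ R]
          have h3 := commutator_commutator_eq_bot_of_rotate h2 h1
          rw [show ⁅(⊤ : Subgroup ↥N), (⊤ : Subgroup ↥N)⁆ = ⊤ from hperf.1, commutator_comm] at h3
          exact commutator_top_right_eq_bot_iff_le_center.mp h3
      have hNsn : N.IsSubnormal := by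
        have h1 : (N.subgroupOf M).Normal :=
          (normal_subgroupOf_iff_le_normalizer hNM).mpr (normalizer_commutator_ge_left M M)
        exact Subgroup.IsSubnormal.step N M hNM hMsn h1
      exact (Components.layer_eq_bot_iff.mp hE) N ⟨hNsn, hq⟩
  refine generalizedFitting_eq_pCore_iff.mp ?_
  rw [Cfsg.generalizedFittingSubgroup, hlayer, bot_sup_eq]
  refine le_antisymm ?_ (Fitting.pCore_le_fitting 2)
  rw [Fitting.fitting_eq_iSup_pCore]
  refine iSup_le fun q => ?_
  by_cases hq : (q : ℕ) = 2
  · rw [hq]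
  · haveI : Fact (q : ℕ).Prime := ⟨q.2⟩
    refine le_trans ?_ bot_le
    rw [← Thompson.pPrimeCore_quotient_pPrimeCore (p := 2) (G := G)]
    obtain ⟨m, hm⟩ := IsPGroup.iff_card.mp (Thompson.isPGroup_pCore (p := (q : ℕ)) (G := G ⧸ K))
    refine Thompson.le_pPrimeCore inferInstance ?_
    rw [hm]
    exact ((Nat.coprime_primes q.2 Nat.prime_two).mpr hq).pow_left m

end Cfsg.Agent.LocalEven64
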