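import Mathlib
import Cfsg.Prelude.Def_SylowControl

/-!
# Chains of Sylow subgroups linked by a family

`Step p 𝓕 D S T` is one link of a chain in the definition of control of Sylow intersections.
-/

set_option autoImplicit false

namespace Cfsg.Agent.LocalEven64

open Subgroup
open scoped Pointwise

variable {G : Type*} [Group G] {p : ℕ}

theorem mem_conjR {X : Subgroup G} {g x : G} :
    x ∈ Cfsg.subgroupConjRight g X ↔ g * x * g⁻¹ ∈ X := by
  constructor
  · rintro ⟨y, hy, rfl⟩; simpa [mul_assoc] using hy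
  · intro h; exact ⟨_, h, by simp [mul_assoc]⟩

theorem conjR_mul (X : Subgroup G) (g h : G) :
    Cfsg.subgroupConjRight h (Cfsg.subgroupConjRight g X) = Cfsg.subgroupConjRight (g * h) X := by
  ext x; simp only [mem_conjR, mul_inv_rev, mul_assoc]

theorem conjR_one (X : Subgroup G) : Cfsg.subgroupConjRight 1 X = X := by
  ext x; simp [mem_conjR]

theorem conjR_mono {X Y : Subgroup G} (h : X ≤ Y) (g : G) :
    Cfsg.subgroupConjRight g X ≤ Cfsg.subgroupConjRight g Y := Subgroup.map_mono h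

theorem conjR_inf (X Y : Subgroup G) (g : G) :
    Cfsg.subgroupConjRight g (X ⊓ Y) = Cfsg.subgroupConjRight g X ⊓ Cfsg.subgroupConjRight g Y := by
  ext x; simp [mem_conjR, Subgroup.mem_inf]

theorem conjR_injective (g : G) : Function.Injective (Cfsg.subgroupConjRight (G := G) g) :=
  fun X Y h => by
    simpa [conjR_mul, conjR_one] using congrArg (Cfsg.subgroupConjRight g⁻¹) h

theorem conjR_eq_self_of_mem {X : Subgroup G} {g : G} (hg : g ∈ X) :
    Cfsg.subgroupConjRight g X = X := by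
  ext x
  rw [mem_conjR]
  constructor
  · intro h; simpa [mul_assoc] using X.mul_mem (X.mul_mem (X.inv_mem hg) h) hg
  · intro h; exact X.mul_mem (X.mul_mem hg h) (X.inv_mem hg)

theorem conjR_eq_self_iff {X : Subgroup G} {g : G} :
    Cfsg.subgroupConjRight g X = X ↔ g ∈ normalizer (X : Set G) := by
  rw [mem_normalizer_iff, SetLike.ext_iff]
  simp only [mem_conjR]
  exact ⟨fun h x => (h x).symm, fun h x => (h x).symm⟩

/-- The Sylow subgroup `S^g`. -/
def sylowConjR (g : G) (S : Sylow p G) : Sylow p G := (MulAut.conj g⁻¹ : MulAut G) • S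

theorem coe_sylowConjR (g : G) (S : Sylow p G) :
    (sylowConjR g S : Subgroup G) = Cfsg.subgroupConjRight g (S : Subgroup G) := rfl

theorem sylowConjR_one (S : Sylow p G) : sylowConjR 1 S = S :=
  Sylow.ext (by rw [coe_sylowConjR, conjR_one])

theorem sylowConjR_mul (S : Sylow p G) (g h : G) :
    sylowConjR h (sylowConjR g S) = sylowConjR (g * h) S :=
  Sylow.ext (by simp only [coe_sylowConjR, conjR_mul])

theorem exists_conjR_eq [Finite G] [Fact p.Prime] (S T : Sylow p G) :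
    ∃ g : G, sylowConjR g S = T := by
  obtain ⟨g, hg⟩ := MulAction.exists_smul_eq G S T
  refine ⟨g⁻¹, ?_⟩
  rw [sylowConjR, inv_inv]
  exact hg

/-- Sylow subgroups of a subgroup, seen in the ambient group. -/
theorem exists_sylow_map_iff [Finite G] [Fact p.Prime] {X P : Subgroup G} :
    (∃ Q : Sylow p ↥X, (Q : Subgroup ↥X).map X.subtype = P) ↔
      P ≤ X ∧ IsPGroup p P ∧ ¬ p ∣ P.relIndex X := by
  constructor
  · rintro ⟨Q, rfl⟩
    refine ⟨map_subtype_le _, Q.isPGroup'.map _, ?_⟩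
    rw [relIndex, subgroupOf, comap_map_eq_self_of_injective X.subtype_injective]
    exact Q.not_dvd_index
  · rintro ⟨hle, hp, hidx⟩
    refine ⟨(hp.comap_subtype (K := X)).toSylow hidx, ?_⟩
    show (P.subgroupOf X).map X.subtype = P
    exact map_subgroupOf_eq_of_le hle

theorem relIndex_conjR (H K : Subgroup G) (g : G) :
    (Cfsg.subgroupConjRight g H).relIndex (Cfsg.subgroupConjRight g K) = H.relIndex K :=
  relIndex_map_map_of_injective _ _ (MulAut.conj g⁻¹).injective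

theorem sylowMembers_conjR [Finite G] [Fact p.Prime] {𝓕 : Set (Subgroup G)}
    (h𝓕 : Cfsg.IsNormalSet 𝓕) {S X : Subgroup G} (hX : X ∈ Cfsg.sylowMembers p 𝓕 S) (g : G) :
    Cfsg.subgroupConjRight g X ∈
      Cfsg.sylowMembers p 𝓕 (Cfsg.subgroupConjRight g S) := by
  obtain ⟨hXF, hP⟩ := hX
  obtain ⟨h1, h2, h3⟩ := exists_sylow_map_iff.mp hP
  refine ⟨h𝓕 X hXF g, exists_sylow_map_iff.mpr ⟨inf_le_right, ?_, ?_⟩⟩
  · rw [← conjR_inf]; exact h2.map _
  · rw [← conjR_inf, relIndex_conjR]; exact h3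

/-- One link of a chain carrying `D`. -/
def Step (p : ℕ) (𝓕 : Set (Subgroup G)) (D : Subgroup G) (S T : Sylow p G) : Prop :=
  ∃ X : Subgroup G, ∃ x ∈ X,
    X ∈ Cfsg.sylowMembers p 𝓕 (S : Subgroup G) ∧ X ∈ Cfsg.sylowMembers p 𝓕 (T : Subgroup G) ∧
      sylowConjR x T = S ∧ D ≤ (T : Subgroup G) ⊓ X

/-- A chain of links carrying `D`. -/
abbrev Linked (p : ℕ) (𝓕 : Set (Subgroup G)) (D : Subgroup G) : Sylow p G → Sylow p G → Prop :=
  Relation.ReflTransGen (Step p 𝓕 D)

theorem Step.mono {𝓕 𝓕' : Set (Subgroup G)} {D D' : Subgroup G} {S T : Sylow p G}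
    (h : Step p 𝓕 D S T) (hF : 𝓕 ⊆ 𝓕') (hD : D' ≤ D) : Step p 𝓕' D' S T := by
  obtain ⟨X, x, hx, h1, h2, h3, h4⟩ := h
  exact ⟨X, x, hx, ⟨hF h1.1, h1.2⟩, ⟨hF h2.1, h2.2⟩, h3, hD.trans h4⟩

theorem Linked.mono {𝓕 𝓕' : Set (Subgroup G)} {D D' : Subgroup G} {S T : Sylow p G}
    (h : Linked p 𝓕 D S T) (hF : 𝓕 ⊆ 𝓕') (hD : D' ≤ D) : Linked p 𝓕' D' S T :=
  Relation.ReflTransGen.mono (fun _ _ h => h.mono hF hD) _ _ h

theorem Linked.conjR [Finite G] [Fact p.Prime] {𝓕 : Set (Subgroup G)} (h𝓕 : Cfsg.IsNormalSet 𝓕)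
    {D : Subgroup G} {S T : Sylow p G} (h : Linked p 𝓕 D S T) (g : G) :
    Linked p 𝓕 (Cfsg.subgroupConjRight g D) (sylowConjR g S) (sylowConjR g T) := by
  refine h.lift (sylowConjR g) ?_
  rintro a b ⟨X, x, hx, h1, h2, h3, h4⟩
  refine ⟨Cfsg.subgroupConjRight g X, g⁻¹ * x * g, ?_, sylowMembers_conjR h𝓕 h1 g,
    sylowMembers_conjR h𝓕 h2 g, ?_, ?_⟩
  · rw [mem_conjR]; simpa [mul_assoc] using hx
  · rw [sylowConjR_mul, ← h3, sylowConjR_mul]; congr 1; group
  · rw [coe_sylowConjR, ← conjR_inf]; exact conjR_mono h4 g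

theorem linked_iff {𝓕 : Set (Subgroup G)} {D : Subgroup G} {S T : Sylow p G} :
    Linked p 𝓕 D S T ↔ ∃ (n : ℕ) (c : Fin (n + 1) → Sylow p G) (X : Fin n → Subgroup G)
      (x : Fin n → G), c 0 = S ∧ c (Fin.last n) = T ∧
      ∀ i : Fin n,
        X i ∈ Cfsg.sylowMembers p 𝓕 (c i.castSucc : Subgroup G) ∧
        X i ∈ Cfsg.sylowMembers p 𝓕 (c i.succ : Subgroup G) ∧
        x i ∈ X i ∧
        Cfsg.subgroupConjRight (x i) (c i.succ : Subgroup G) = (c i.castSucc : Subgroup G) ∧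
        D ≤ (c i.succ : Subgroup G) ⊓ X i := by
  constructor
  · intro h
    induction h with
    | refl => exact ⟨0, fun _ => S, Fin.elim0, Fin.elim0, rfl, rfl, fun i => i.elim0⟩
    | @tail b c _ hbc ih =>
      obtain ⟨n, cs, Xs, xs, h0, hl, hall⟩ := ih
      obtain ⟨X, x, hx, h1, h2, h3, h4⟩ := hbc
      refine ⟨n + 1, Fin.snoc cs c, Fin.snoc Xs X, Fin.snoc xs x, ?_, Fin.snoc_last _ _, ?_⟩
      · rw [show (0 : Fin (n + 1 + 1)) = (0 : Fin (n + 1)).castSucc from rfl, Fin.snoc_castSucc]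
        exact h0
      intro i
      induction i using Fin.lastCases with
      | last =>
        simp only [Fin.snoc_last, Fin.snoc_castSucc, Fin.succ_last, hl]
        exact ⟨h1, h2, hx, congrArg (fun P : Sylow p G => (P : Subgroup G)) h3, h4⟩
      | cast j =>
        simp only [Fin.snoc_castSucc, Fin.succ_castSucc]
        exact hall j
  · rintro ⟨n, c, X, x, h0, hl, hall⟩
    suffices ∀ i : Fin (n + 1), Linked p 𝓕 D S (c i) from hl ▸ this _
    intro i
    induction i using Fin.induction with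
    | zero => exact h0 ▸ Relation.ReflTransGen.refl
    | succ i ih =>
      obtain ⟨h1, h2, h3, h4, h5⟩ := hall i
      exact ih.tail ⟨X i, x i, h3, h1, h2, Sylow.ext h4, h5⟩

theorem controls_iff {𝓕 : Set (Subgroup G)} :
    Cfsg.ControlsSylowIntersections p 𝓕 ↔
      ∀ S T : Sylow p G, S ≠ T → (S : Subgroup G) ⊓ (T : Subgroup G) ≠ ⊥ →
        Linked p 𝓕 ((S : Subgroup G) ⊓ (T : Subgroup G)) S T :=
  forall_congr' fun _ => forall_congr' fun _ => forall_congr' fun _ => forall_congr' fun _ =>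
    linked_iff.symm

theorem controls_linked {𝓕 : Set (Subgroup G)} (h : Cfsg.ControlsSylowIntersections p 𝓕)
    (S T : Sylow p G) (hne : (S : Subgroup G) ⊓ (T : Subgroup G) ≠ ⊥) :
    Linked p 𝓕 ((S : Subgroup G) ⊓ (T : Subgroup G)) S T := by
  by_cases hST : S = T
  · subst hST; exact Relation.ReflTransGen.refl
  · exact controls_iff.mp h S T hST hne

end Cfsg.Agent.LocalEven64
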