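import Mathlib
import Cfsg.Agent.LocalEven64.AltGrow
import Cfsg.Agent.Lib.Components.GenFitting
import Cfsg.Agent.SylowNum.Swaps

/-!
# Subgroups of symmetric groups with a Sylow `3`-subgroup
-/

set_option autoImplicit false
set_option linter.unusedSectionVars false
set_option linter.style.haveILetI false

namespace Cfsg.Agent.LocalEven64

open Equiv Subgroup Cfsg.Agent.KSG55.Pres Cfsg.Agent.Components
open scoped commutatorElement

variable {α : Type*} [Fintype α] [DecidableEq α]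

theorem altOn_equiv (A : Finset α) :
    Nonempty (↥(alternatingGroup {x // x ∈ A}) ≃* ↥(altOn A)) :=
  ⟨(Subgroup.equivMapOfInjective (alternatingGroup {x // x ∈ A}) _
    Perm.ofSubtype_injective).trans (MulEquiv.subgroupCongr (map_ofSubtype_alt A))⟩

theorem altOn_isQuasisimple {A : Finset α} (hA : 5 ≤ A.card) : Cfsg.IsQuasisimple ↥(altOn A) := by
  obtain ⟨e⟩ := altOn_equiv A
  haveI : IsSimpleGroup ↥(alternatingGroup {x // x ∈ A}) :=
    alternatingGroup.isSimpleGroup (by simpa [Nat.card_eq_fintype_card] using hA)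
  haveI : IsSimpleGroup ↥(altOn A) := (e.symm).isSimpleGroup
  refine isQuasisimple_of_isSimpleGroup fun hc => ?_
  have h : altOn A ≤ centralizer (altOn A : Set (Perm α)) := fun x hx => mem_centralizer_iff.mpr
    fun y hy => congrArg Subtype.val (hc.is_comm.comm ⟨y, hy⟩ ⟨x, hx⟩)
  have h' := commutator_altOn hA
  rw [commutator_eq_bot_iff_le_centralizer.mpr h] at h'
  exact (Subgroup.nontrivial_iff_ne_bot _).mp (inferInstance : Nontrivial ↥(altOn A)) h'.symm

theorem altOn_isSolvable {A : Finset α} (hA : A.card ≤ 4) : Group.IsSolvable ↥(altOn A) := by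
  obtain ⟨e⟩ := altOn_equiv A
  haveI : Group.IsSolvable (Perm {x // x ∈ A}) :=
    Cfsg.Agent.SylowNum.isSolvable_perm_of_card_le_four (by simpa [Nat.card_eq_fintype_card] using hA)
  haveI : Group.IsSolvable ↥(alternatingGroup {x // x ∈ A}) := inferInstance
  exact Group.isSolvable_of_isSolvable_injective
    (f := e.symm.toMonoidHom) e.symm.injective

/-- A maximal alternating subgroup is subnormal. -/
theorem IsMaxAlt.isSubnormal {H : Subgroup (Perm α)} {A : Finset α} (hA : IsMaxAlt H A) :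
    ((altOn A).subgroupOf H).IsSubnormal := by
  set K₀ := (altOn A).subgroupOf H with hK₀
  set D := Subgroup.normalClosure (K₀ : Set H) with hD
  have hle : D ≤ normalizer (K₀ : Set H) := by
    rw [hD, Subgroup.normalClosure, Subgroup.closure_le]
    intro x hx
    obtain ⟨a, ha, hax⟩ := Group.mem_conjugatesOfSet_iff.mp hx
    obtain ⟨h, rfl⟩ := isConj_iff.mp hax
    have ha' : (a : Perm α) ∈ altOn A := ha
    have hxi : ((h * a * h⁻¹ : H) : Perm α) ∈ altOn (A.image (h : Perm α)) := by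
      refine ⟨by simp [ha'.1, Perm.sign_inv], fun y hy => ?_⟩
      have h1 : (a : Perm α) ((h : Perm α)⁻¹ y) = (h : Perm α)⁻¹ y := ha'.2 _ fun hm =>
        hy (Finset.mem_image.mpr ⟨_, hm, by simp⟩)
      simp only [Subgroup.coe_mul, Subgroup.coe_inv, Perm.mul_apply, h1]
      simp
    by_cases hd : (A ∩ A.image (h : Perm α)).Nonempty
    · rw [hA.image h.2 hd] at hxi
      exact Subgroup.le_normalizer (show (h * a * h⁻¹ : H) ∈ K₀ from hxi)
    · rw [Finset.not_nonempty_iff_eq_empty, ← Finset.disjoint_iff_inter_eq_empty] at hd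
      refine Subgroup.centralizer_le_normalizer (s := (K₀ : Set H)) ?_
      rw [mem_centralizer_iff]
      exact fun k hk => Subtype.ext (commute_of_disjoint (show (k : Perm α) ∈ altOn A from hk) hxi hd).eq
  have h1 : (K₀.subgroupOf D).Normal :=
    (normal_subgroupOf_iff_le_normalizer Subgroup.subset_normalClosure).mpr hle
  have hDs : D.IsSubnormal := Subgroup.normalClosure_normal.isSubnormal
  exact Subgroup.IsSubnormal.step _ _ Subgroup.subset_normalClosure hDs h1

theorem exists_cyc3_conj_mem {W : Subgroup (Perm α)} (P : Sylow 3 (Perm α))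
    (hPW : (P : Subgroup (Perm α)) ≤ W) {a b c : α} (hab : a ≠ b) (hac : a ≠ c) (hbc : b ≠ c)
    (hW : cyc3 a b c ∈ W) :
    ∃ g ∈ W, cyc3 (g a) (g b) (g c) ∈ (P : Subgroup (Perm α)) := by
  haveI : Fact (Nat.Prime 3) := ⟨Nat.prime_three⟩
  have h3 : (⟨cyc3 a b c, hW⟩ : W) ^ 3 = 1 := Subtype.ext (cyc3_cube hab hac hbc)
  have hz : IsPGroup 3 (zpowers (⟨cyc3 a b c, hW⟩ : W)) := by
    refine IsPGroup.iff_orderOf.mpr fun x => ?_
    have hx : orderOf x ∣ 3 := (orderOf_dvd_natCard x).trans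
      (Nat.card_zpowers (⟨cyc3 a b c, hW⟩ : W) ▸ orderOf_dvd_of_pow_eq_one h3)
    rcases (Nat.dvd_prime Nat.prime_three).mp hx with h | h
    · exact ⟨0, by simpa using h⟩
    · exact ⟨1, by simpa using h⟩
  obtain ⟨Q, hQ⟩ := hz.exists_le_sylow
  obtain ⟨g, hg⟩ := MulAction.exists_smul_eq W Q (P.subtype hPW)
  have h2 : g * ⟨cyc3 a b c, hW⟩ * g⁻¹ ∈ (P.subtype hPW : Subgroup W) := by
    rw [← hg, Sylow.coe_subgroup_smul]
    exact ⟨_, hQ (mem_zpowers _), rfl⟩
  refine ⟨g, g.2, ?_⟩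
  rw [← cyc3_conj]
  exact h2

/-- A maximal alternating subgroup is the generalized Fitting subgroup. -/
theorem IsMaxAlt.eq_generalizedFitting {H : Subgroup (Perm α)}
    (hF : Cfsg.IsQuasisimple ↥(Cfsg.generalizedFittingSubgroup ↥H)) {A : Finset α}
    (hA : IsMaxAlt H A) :
    5 ≤ A.card ∧ (altOn A).subgroupOf H = Cfsg.generalizedFittingSubgroup ↥H := by
  classical
  set K := Cfsg.generalizedFittingSubgroup ↥H with hK
  have hKn : K.Normal := by rw [hK]; infer_instance
  have hKc : Cfsg.IsComponent K := ⟨hKn.isSubnormal, hF⟩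
  set K₀ := (altOn A).subgroupOf H with hK₀
  have e₀ : ↥K₀ ≃* ↥(altOn A) := Subgroup.subgroupOfEquivOfLe hA.2.1
  by_cases h5 : 5 ≤ A.card
  · have hc : Cfsg.IsComponent K₀ :=
      ⟨hA.isSubnormal, isQuasisimple_of_mulEquiv e₀.symm (altOn_isQuasisimple h5)⟩
    exact ⟨h5, component_eq_of_le hc hKc (component_le_generalizedFitting hc)⟩
  exfalso
  haveI := altOn_isSolvable (A := A) (by omega)
  haveI hsol : Group.IsSolvable ↥K₀ :=
    Group.isSolvable_of_isSolvable_injective (f := e₀.toMonoidHom) e₀.injective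
  have hcen : K ≤ centralizer (K₀ : Set H) := by
    refine (commutator_eq_bot_iff_le_centralizer).mp ?_
    exact (component_le_or_commutator_eq_bot hKc hA.isSubnormal).resolve_left
      (component_not_le_isSolvable hKc hsol)
  have hK₀K : K₀ ≤ K := fun x hx => centralizer_generalizedFitting_le (G := H)
    (mem_centralizer_iff.mpr fun k hk => (mem_centralizer_iff.mp (hcen hk) x hx).symm)
  obtain ⟨a, ha, b, hb, c, hc, hab, hac, hbc⟩ := Finset.two_lt_card.mp (by have := hA.1; omega : 2 < A.card)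
  set σ := cyc3 a b c with hσ
  have hσA : σ ∈ altOn A := cyc3_mem_altOn hab hbc ha hb hc
  set s : H := ⟨σ, hA.2.1 hσA⟩ with hs
  have hsK₀ : s ∈ K₀ := hσA
  -- every element of `K` acts on the orbit of `σ` as a power of `σ`
  have hcom : ∀ k ∈ K, (k : Perm α) * σ = σ * k := fun k hk =>
    congrArg Subtype.val (mem_centralizer_iff.mp (hcen hk) s hsK₀).symm
  have horb : ∀ k ∈ K, ∃ i : ℕ, (k : Perm α) a = (σ ^ i) a := by
    intro k hk
    have hmv : σ ((k : Perm α) a) ≠ (k : Perm α) a := by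
      intro h
      rw [← Perm.mul_apply, ← hcom k hk, Perm.mul_apply, (k : Perm α).injective.eq_iff, hσ,
        cyc3_left hab hac] at h
      exact hab h.symm
    have hin : (k : Perm α) a = a ∨ (k : Perm α) a = b ∨ (k : Perm α) a = c := by
      by_contra h
      push Not at h
      exact hmv (cyc3_of_ne h.1 h.2.1 h.2.2)
    rcases hin with h | h | h
    · exact ⟨0, by simpa using h⟩
    · exact ⟨1, by rw [pow_one, hσ, cyc3_left hab hac, h]⟩
    · exact ⟨2, by rw [sq, Perm.mul_apply, hσ, cyc3_left hab hac, cyc3_mid hac hbc, h]⟩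
  have hpw : ∀ k ∈ K, ∀ i : ℕ, ∀ x, (k : Perm α) ((σ ^ i) x) = (σ ^ i) ((k : Perm α) x) :=
    fun k hk i x => by
      have := ((show Commute (k : Perm α) σ from hcom k hk).pow_right i).eq
      rw [← Perm.mul_apply, this, Perm.mul_apply]
  have hfix : ∀ k₁ ∈ K, ∀ k₂ ∈ K, (((k₁ * k₂ : H)) : Perm α) a = ((k₂ * k₁ : H) : Perm α) a := by
    intro k₁ h₁ k₂ h₂
    obtain ⟨i, hi⟩ := horb k₁ h₁
    obtain ⟨j, hj⟩ := horb k₂ h₂
    simp only [Subgroup.coe_mul, Perm.mul_apply]
    rw [hj, hpw k₁ h₁, hi, hpw k₂ h₂, hj, ← Perm.mul_apply, ← Perm.mul_apply, ← pow_add, ← pow_add,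
      add_comm]
  have hperf := component_commutator_eq_self hKc
  have hle : ⁅K, K⁆ ≤ (MulAction.stabilizer (Perm α) a).subgroupOf H := by
    rw [Subgroup.commutator_le]
    intro k₁ h₁ k₂ h₂
    rw [mem_subgroupOf, MulAction.mem_stabilizer_iff, Perm.smul_def]
    have h3 := hfix k₁ h₁ k₂ h₂
    have e : ⁅k₁, k₂⁆ = (k₁ * k₂) * (k₂ * k₁)⁻¹ := by rw [commutatorElement_def]; group
    have h4 : ((k₂ * k₁)⁻¹ : H) ∈ K := inv_mem (mul_mem h₂ h₁)
    obtain ⟨i, hi⟩ := horb _ h4
    rw [e, Subgroup.coe_mul, Perm.mul_apply, hi, hpw _ (mul_mem h₁ h₂), h3,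
      ← hpw _ (mul_mem h₂ h₁), ← hi, ← Perm.mul_apply, ← Subgroup.coe_mul, mul_inv_cancel,
      Subgroup.coe_one, Perm.one_apply]
  rw [hperf] at hle
  have h5 := hle (hK₀K hsK₀)
  rw [mem_subgroupOf, MulAction.mem_stabilizer_iff, Perm.smul_def] at h5
  rw [show ((s : H) : Perm α) a = b from cyc3_left hab hac] at h5
  exact hab h5.symm

/-- Any two maximal sets coincide. -/
theorem IsMaxAlt.unique {H : Subgroup (Perm α)}
    (hF : Cfsg.IsQuasisimple ↥(Cfsg.generalizedFittingSubgroup ↥H)) {A B : Finset α}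
    (hA : IsMaxAlt H A) (hB : IsMaxAlt H B) : B = A := by
  obtain ⟨h5, hAK⟩ := hA.eq_generalizedFitting hF
  obtain ⟨hB5, hBK⟩ := hB.eq_generalizedFitting hF
  have he : altOn B = altOn A := by
    rw [← map_subgroupOf_eq_of_le hB.2.1, hBK, ← hAK, map_subgroupOf_eq_of_le hA.2.1]
  have hs : ∀ {B A : Finset α}, 5 ≤ B.card → altOn B ≤ altOn A → B ⊆ A := by
    intro B A hB h x hx
    by_contra hxA
    obtain ⟨y, hy, z, hz, hyz⟩ := Finset.one_lt_card.mp
      (show 1 < (B.erase x).card by rw [Finset.card_erase_of_mem hx]; omega)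
    simp only [Finset.mem_erase] at hy hz
    have := (h (cyc3_mem_altOn (Ne.symm hy.1) hyz hx hy.2 hz.2)).2 x hxA
    rw [cyc3_left (Ne.symm hy.1) (Ne.symm hz.1)] at this
    exact hy.1 this
  exact subset_antisymm (hs hB5 he.le) (hs h5 he.ge)

theorem IsMaxAlt.map_eq {H : Subgroup (Perm α)}
    (hF : Cfsg.IsQuasisimple ↥(Cfsg.generalizedFittingSubgroup ↥H)) {A : Finset α}
    (hA : IsMaxAlt H A) : (Cfsg.generalizedFittingSubgroup ↥H).map H.subtype = altOn A := by
  rw [← (hA.eq_generalizedFitting hF).2, map_subgroupOf_eq_of_le hA.2.1]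

theorem IsMaxAlt.image_eq {H : Subgroup (Perm α)}
    (hF : Cfsg.IsQuasisimple ↥(Cfsg.generalizedFittingSubgroup ↥H)) {A : Finset α}
    (hA : IsMaxAlt H A) {σ : Perm α} (hσ : σ ∈ H) : A.image σ = A := by
  refine hA.unique hF ⟨by rw [Finset.card_image_of_injective _ σ.injective]; exact hA.1,
    altOn_image_le hσ hA.2.1, ?_⟩
  intro B hB hle
  have h1 : altOn (B.image (⇑(σ⁻¹ : Perm α))) ≤ H := altOn_image_le (H.inv_mem hσ) hB
  have h2 : A ⊆ B.image (⇑(σ⁻¹ : Perm α)) := fun v hv =>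
    Finset.mem_image.mpr ⟨σ v, hle (Finset.mem_image_of_mem _ hv), by simp⟩
  have h3 := hA.2.2 h1 h2
  intro v hv
  exact Finset.mem_image.mpr ⟨σ⁻¹ v, h3 (Finset.mem_image_of_mem _ hv), by simp⟩

/-- The generalized Fitting subgroup is the alternating group on all but at most two points. -/
theorem exists_altOn_of_sylow_three (hn : 3 ≤ Fintype.card α) (H : Subgroup (Perm α))
    (hF : Cfsg.IsQuasisimple ↥(Cfsg.generalizedFittingSubgroup ↥H)) (P : Sylow 3 (Perm α))
    (hP : (P : Subgroup (Perm α)) ≤ H) :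
    ∃ A : Finset α, 5 ≤ A.card ∧ Fintype.card α ≤ A.card + 2 ∧
      (Cfsg.generalizedFittingSubgroup ↥H).map H.subtype = altOn A := by
  classical
  obtain ⟨a, -, b, -, c, -, hab, hac, hbc⟩ :=
    Finset.two_lt_card.mp (show 2 < (Finset.univ : Finset α).card by simp; omega)
  obtain ⟨g, -, hg⟩ := exists_cyc3_conj_mem (W := ⊤) P le_top hab hac hbc trivial
  have hgab : g a ≠ g b := g.injective.ne hab
  have hgbc : g b ≠ g c := g.injective.ne hbc
  obtain ⟨A, hsub, hA⟩ := exists_isMaxAlt (H := H) (A := {g a, g b, g c})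
    (by rw [Finset.card_insert_of_notMem (by simp [hab, hac]), Finset.card_pair hgbc])
    (altOn_le_triple hgab hgbc (hP hg))
  obtain ⟨h5, -⟩ := hA.eq_generalizedFitting hF
  refine ⟨A, h5, ?_, hA.map_eq hF⟩
  have huniq : ∀ {B : Finset α}, IsMaxAlt H B → B = A := fun hB => hA.unique hF hB
  by_contra hcard
  push Not at hcard
  obtain ⟨x, hx, y, hy, z, hz, hxy, hxz, hyz⟩ :=
    Finset.two_lt_card.mp (show 2 < Aᶜ.card by rw [Finset.card_compl]; omega)
  rw [Finset.mem_compl] at hx hy hz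
  let W : Subgroup (Perm α) :=
    { carrier := {σ | ∀ w, σ w ∈ A ↔ w ∈ A}
      one_mem' := fun w => Iff.rfl
      mul_mem' := fun {σ τ} hσ hτ w => by rw [Perm.mul_apply]; exact (hσ _).trans (hτ w)
      inv_mem' := fun {σ} hσ w => by simpa using (hσ (σ⁻¹ w)).symm }
  have hPW : (P : Subgroup (Perm α)) ≤ W := by
    intro σ hσ w
    have himg : A.image σ = A := hA.image_eq hF (hP hσ)
    constructor
    · intro h
      rw [← himg, Finset.mem_image] at h
      obtain ⟨v, hv, e⟩ := h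
      exact σ.injective e ▸ hv
    · exact fun h => himg ▸ Finset.mem_image_of_mem _ h
  obtain ⟨g', hg'W, hg'⟩ := exists_cyc3_conj_mem (W := W) P hPW hxy hxz hyz (fun w => by
    by_cases hw : w ∈ A
    · simp [cyc3_of_ne (fun e : w = x => hx (e ▸ hw)) (fun e : w = y => hy (e ▸ hw))
        (fun e : w = z => hz (e ▸ hw))]
    · refine iff_of_false ?_ hw
      by_cases h1 : w = x
      · subst h1; rwa [cyc3_left hxy hxz]
      by_cases h2 : w = y
      · subst h2; rwa [cyc3_mid hxz hyz]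
      by_cases h3 : w = z
      · subst h3; rwa [cyc3_right]
      · rwa [cyc3_of_ne h1 h2 h3])
  have h' : g' x ≠ g' y := g'.injective.ne hxy
  obtain ⟨B, hsubB, hB⟩ := exists_isMaxAlt (H := H) (A := {g' x, g' y, g' z})
    (by rw [Finset.card_insert_of_notMem (by simp [hxy, hxz]), Finset.card_pair (g'.injective.ne hyz)])
    (altOn_le_triple h' (g'.injective.ne hyz) (hP hg'))
  exact hx ((hg'W x).mp (huniq hB ▸ hsubB (by simp)))

end Cfsg.Agent.LocalEven64
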