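import Mathlib
import Cfsg.Agent.LocalEven64.SymSylowThree

/-!
# Subgroups of symmetric groups with a Sylow `2`-subgroup of the alternating group
-/

set_option autoImplicit false
set_option linter.unusedSectionVars false
set_option linter.style.haveILetI false

namespace Cfsg.Agent.LocalEven64

open Equiv Subgroup Cfsg.Agent.KSG55.Pres Cfsg.Agent.Components
open scoped commutatorElement

variable {α : Type*} [Fintype α] [DecidableEq α]

/-- `H` has all products of two transpositions of the fixed-point-sparse involution `t`. -/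
structure PairData (H : Subgroup (Perm α)) (t : Perm α) : Prop where
  invol : ∀ x, t (t x) = x
  fix_unique : ∀ x y, t x = x → t y = y → x = y
  mem : ∀ x y, t x ≠ x → t y ≠ y → x ≠ y → t x ≠ y → swap x (t x) * swap y (t y) ∈ H

/-- `S` contains exactly one point of every pair and nothing else. -/
def IsTransversal (t : Perm α) (S : Finset α) : Prop :=
  ∀ p, p ∈ S ↔ (t p ≠ p ∧ t p ∉ S)

/-- `S` consists of pairs. -/
def IsUnionType (t : Perm α) (S : Finset α) : Prop :=
  ∀ p ∈ S, t p ≠ p ∧ t p ∈ S

variable {H : Subgroup (Perm α)} {t : Perm α}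

theorem PairData.conj_involution (h : PairData H t) {d : Perm α} (hd : d ∈ H) {x : α}
    (hx : d x ≠ x) (htx : d (t x) = t x) (hxt : t x ≠ x) {p : α} (hp : t p ≠ p) (hdp : d p = p)
    (hdtp : d (t p) = t p) :
    ∃ a b c : α, a ≠ b ∧ a ≠ c ∧ b ≠ c ∧ cyc3 a b c ∈ H := by
  have hxp : x ≠ p := fun e => hx (e ▸ hdp)
  have htxp : t x ≠ p := fun e => by
    have : x = t p := by rw [← e, h.invol]
    exact hx (this ▸ hdtp)
  have he := h.mem x p hxt hp hxp htxp
  have hconj := H.mul_mem (H.mul_mem (H.mul_mem hd he) (H.inv_mem hd)) he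
  have hne1 : d x ≠ t x := fun e => hxt (d.injective (by rw [htx, e]))
  refine ⟨t x, x, d x, hxt, hne1.symm, Ne.symm hx, ?_⟩
  suffices heq : d * (swap x (t x) * swap p (t p)) * d⁻¹ * (swap x (t x) * swap p (t p)) =
      cyc3 (t x) x (d x) by
    rwa [heq] at hconj
  have hpx : p ≠ d x := fun e => hxp (d.injective (e.symm.trans hdp.symm))
  have htpx : t p ≠ d x := fun e => htxp (by
    have : x = t p := d.injective (e.symm.trans hdtp.symm)
    rw [this, h.invol])
  have hc : d * (swap x (t x) * swap p (t p)) * d⁻¹ = swap (d x) (t x) * swap p (t p) := by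
    rw [show d * (swap x (t x) * swap p (t p)) * d⁻¹ = (d * swap x (t x) * d⁻¹) * (d * swap p (t p) * d⁻¹)
      by group, ← swap_apply_apply, ← swap_apply_apply, htx, hdp, hdtp]
  have htptx : t p ≠ t x := t.injective.ne hxp.symm
  have htpx' : t p ≠ x := fun e => htxp (by rw [← e, h.invol])
  have hcomm : Commute (swap p (t p)) (swap x (t x)) := by
    refine Perm.Disjoint.commute fun z => ?_
    by_cases h1 : z = p
    · exact Or.inr (by subst h1; exact swap_apply_of_ne_of_ne hxp.symm htxp.symm)
    by_cases h2 : z = t p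
    · exact Or.inr (by subst h2; exact swap_apply_of_ne_of_ne htpx' htptx)
    exact Or.inl (swap_apply_of_ne_of_ne h1 h2)
  rw [hc, mul_assoc, ← mul_assoc (swap p (t p)), hcomm.eq, mul_assoc (swap x (t x)), swap_mul_self,
    mul_one]
  ext z
  by_cases h1 : z = t x
  · subst h1
    rw [cyc3_left hxt hne1.symm, Perm.mul_apply, swap_apply_right,
      swap_apply_of_ne_of_ne (Ne.symm hx) hxt.symm]
  by_cases h2 : z = x
  · subst h2
    rw [cyc3_mid hne1.symm (Ne.symm hx), Perm.mul_apply, swap_apply_left, swap_apply_right]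
  by_cases h3 : z = d x
  · subst h3
    rw [cyc3_right, Perm.mul_apply, swap_apply_of_ne_of_ne hx hne1, swap_apply_left]
  rw [cyc3_of_ne h1 h2 h3, Perm.mul_apply, swap_apply_of_ne_of_ne h2 h1,
    swap_apply_of_ne_of_ne h3 h1]

variable (hno : ∀ a b c : α, a ≠ b → a ≠ c → b ≠ c → cyc3 a b c ∉ H)
include hno

/-- Without three-cycles, a double transposition respects the pairs or is transversal. -/
theorem PairData.dichotomy (h : PairData H t) (hn : 8 ≤ Fintype.card α) {d : Perm α} (hd : d ∈ H)
    (h4 : d.support.card = 4) :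
    IsUnionType t d.support ∨ IsTransversal t d.support := by
  classical
  by_contra hcon
  rw [not_or] at hcon
  set S := d.support with hS
  obtain ⟨x, hxS, hx⟩ : ∃ x ∈ S, t x = x ∨ t x ∉ S := by
    by_contra h'
    push Not at h'
    exact hcon.1 fun p hp => h' p hp
  -- some point with its partner outside
  obtain ⟨y, hyS, hyt, hty⟩ : ∃ y ∈ S, t y ≠ y ∧ t y ∉ S := by
    rcases hx with hx | hx
    · by_contra h'
      push Not at h'
      have hmap : ∀ y ∈ S.erase x, t y ∈ S.erase x := fun y hy => by
        rw [Finset.mem_erase] at hy ⊢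
        have hty : t y ≠ y := fun e => hy.1 (h.fix_unique y x e hx)
        exact ⟨fun e => hy.1 (by rw [← h.invol y, e, hx]), h' y hy.2 hty⟩
      have hodd : ∀ (S : Finset α), (∀ y ∈ S, t y ∈ S ∧ t y ≠ y) → Even S.card := by
        intro S
        induction S using Finset.strongInduction with
        | H S ih =>
          intro hS
          rcases S.eq_empty_or_nonempty with rfl | ⟨y, hy⟩
          · simp
          have hty := hS y hy
          have hlt : (S.erase y).erase (t y) ⊂ S :=
            lt_of_le_of_lt (Finset.erase_subset _ _) (Finset.erase_ssubset hy)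
          have := ih _ hlt fun z hz => by
            simp only [Finset.mem_erase] at hz ⊢
            refine ⟨⟨fun e => hz.2.1 (t.injective e), fun e => hz.1 ?_, (hS z hz.2.2).1⟩, (hS z hz.2.2).2⟩
            rw [← e, h.invol]
          rw [Finset.card_erase_of_mem (Finset.mem_erase.mpr ⟨hty.2, hty.1⟩),
            Finset.card_erase_of_mem hy] at this
          have h2 : 2 ≤ S.card := Finset.one_lt_card.mpr ⟨_, hty.1, _, hy, hty.2⟩
          rw [Nat.even_iff] at this ⊢
          omega
      have := hodd _ fun y hy => ⟨hmap y hy, fun e => (Finset.mem_erase.mp hy).1 (h.fix_unique y x e hx)⟩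
      rw [Finset.card_erase_of_mem hxS, h4] at this
      exact absurd this (by decide)
    · exact ⟨x, hxS, fun e => hx (by rw [e]; exact hxS), hx⟩
  obtain ⟨p, hp, hpS, htpS⟩ : ∃ p, t p ≠ p ∧ p ∉ S ∧ t p ∉ S := by
    by_contra h'
    push Not at h'
    -- every pair meets `S`
    set Mv := (Finset.univ : Finset α).filter (fun p => t p ≠ p) with hMv
    have hMS : ∀ p ∈ Mv, p ∈ S ∨ t p ∈ S := fun p hp => by
      simp only [hMv, Finset.mem_filter] at hp
      by_cases hpS : p ∈ S
      · exact Or.inl hpS
      · exact Or.inr (h' p hp.2 hpS)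
    have hsub : Mv ⊆ (S ∩ Mv) ∪ (S ∩ Mv).image t := fun p hp => by
      have hp' : t p ∈ Mv := by
        simp only [hMv, Finset.mem_filter, Finset.mem_univ, true_and] at hp ⊢
        rw [h.invol]; exact Ne.symm hp
      rcases hMS p hp with h1 | h1
      · exact Finset.mem_union_left _ (Finset.mem_inter.mpr ⟨h1, hp⟩)
      · exact Finset.mem_union_right _ (Finset.mem_image.mpr
          ⟨t p, Finset.mem_inter.mpr ⟨h1, hp'⟩, h.invol p⟩)
    have hfix : (Finset.univ.filter (fun p => t p = p)).card ≤ 1 := Finset.card_le_one.mpr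
      fun a ha b hb => h.fix_unique a b (Finset.mem_filter.mp ha).2 (Finset.mem_filter.mp hb).2
    have hsum : (Finset.univ.filter (fun p => t p = p)).card + Mv.card = Fintype.card α := by
      rw [← Finset.card_univ]
      exact Finset.card_filter_add_card_filter_not (s := (Finset.univ : Finset α)) (p := fun p => t p = p)
    have hle : Mv.card ≤ 2 * (S ∩ Mv).card := by
      refine (Finset.card_le_card hsub).trans ((Finset.card_union_le _ _).trans ?_)
      rw [Finset.card_image_of_injective _ t.injective]; omega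
    have hSM : (S ∩ Mv).card ≤ 4 := h4 ▸ Finset.card_le_card Finset.inter_subset_left
    have hMv8 : 8 ≤ Mv.card := by
      have : Even Mv.card := by
        have hM : ∀ p ∈ Mv, t p ∈ Mv := fun p hp => by
          simp only [hMv, Finset.mem_filter, Finset.mem_univ, true_and] at hp ⊢
          rw [h.invol]; exact Ne.symm hp
        have hinv : (∏ _p ∈ Mv, (-1 : ℤ)) = 1 := Finset.prod_involution (fun p _ => t p)
          (fun p _ => by norm_num) (fun p hp _ => (Finset.mem_filter.mp hp).2) hM
          (fun p _ => h.invol p)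
        rw [Finset.prod_const] at hinv
        exact (neg_one_pow_eq_one_iff_even (by norm_num)).mp hinv
      rw [Nat.even_iff] at this
      omega
    have hfull : S ∩ Mv = S := Finset.eq_of_subset_of_card_le Finset.inter_subset_left (by omega)
    have hdisj : Disjoint (S ∩ Mv) ((S ∩ Mv).image t) := by
      rw [← Finset.card_union_eq_card_add_card]
      refine le_antisymm (Finset.card_union_le _ _) ?_
      refine le_trans ?_ (Finset.card_le_card hsub)
      rw [Finset.card_image_of_injective _ t.injective]; omega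
    rw [hfull] at hdisj
    refine hcon.2 fun q => ⟨fun hq => ⟨?_, fun htq => ?_⟩, fun hq => ?_⟩
    · have : q ∈ S ∩ Mv := hfull.symm ▸ hq
      exact (Finset.mem_filter.mp (Finset.mem_inter.mp this).2).2
    · exact Finset.disjoint_left.mp hdisj htq (Finset.mem_image.mpr ⟨q, hq, rfl⟩)
    · by_contra hqS
      exact hq.2 (h' q hq.1 hqS)
  obtain ⟨a, b, c, hab, hac, hbc, hm⟩ := h.conj_involution hd (Perm.mem_support.mp hyS)
    (Perm.notMem_support.mp hty) hyt hp (Perm.notMem_support.mp hpS) (Perm.notMem_support.mp htpS)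
  exact hno a b c hab hac hbc hm

omit hno in
theorem support_conj_eq (d g : Perm α) : (g * d * g⁻¹).support = d.support.image g := by
  rw [Perm.support_conj, Finset.map_eq_image]
  rfl

omit hno in
theorem support_pair_swap {x y x' y' : α} (hx : x ≠ x') (hy : y ≠ y') (h1 : x ≠ y) (h2 : x ≠ y')
    (h3 : x' ≠ y) (h4 : x' ≠ y') : (swap x x' * swap y y').support = {x, x', y, y'} := by
  have hd : Perm.Disjoint (swap x x') (swap y y') := fun z => by
    by_cases hz1 : z = x
    · exact Or.inr (by subst hz1; exact swap_apply_of_ne_of_ne h1 h2)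
    by_cases hz2 : z = x'
    · exact Or.inr (by subst hz2; exact swap_apply_of_ne_of_ne h3 h4)
    exact Or.inl (swap_apply_of_ne_of_ne hz1 hz2)
  rw [hd.support_mul, Perm.support_swap hx, Perm.support_swap hy]
  ext z; simp only [Finset.mem_union, Finset.mem_insert, Finset.mem_singleton]; tauto

omit hno in
theorem PairData.support_mem (h : PairData H t) {x y : α} (hx : t x ≠ x) (hy : t y ≠ y)
    (hxy : x ≠ y) (htxy : t x ≠ y) :
    ∃ d ∈ H, d * d = 1 ∧ d.support = {x, t x, y, t y} ∧ d.support.card = 4 := by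
  have h2 : x ≠ t y := fun e => htxy (by rw [e, h.invol])
  have hs := support_pair_swap hx.symm hy.symm hxy h2 htxy (t.injective.ne hxy)
  refine ⟨_, h.mem x y hx hy hxy htxy, ?_, hs, ?_⟩
  · have hc : Commute (swap y (t y)) (swap x (t x)) := Perm.Disjoint.commute fun w => by
      by_cases h1 : w = y
      · exact Or.inr (by subst h1; exact swap_apply_of_ne_of_ne hxy.symm htxy.symm)
      by_cases h3 : w = t y
      · exact Or.inr (by subst h3; exact swap_apply_of_ne_of_ne h2.symm (t.injective.ne hxy.symm))
      exact Or.inl (swap_apply_of_ne_of_ne h1 h3)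
    rw [mul_assoc, ← mul_assoc (swap y (t y)), hc.eq, mul_assoc, swap_mul_self, mul_one, swap_mul_self]
  rw [hs, Finset.card_insert_of_notMem (by simp [hx.symm, hxy, h2]),
    Finset.card_insert_of_notMem (by simp [htxy, hxy]), Finset.card_pair hy.symm]

omit hno in
/-- Three pairs. -/
theorem PairData.exists_other (h : PairData H t) (hn : 8 ≤ Fintype.card α) (s : Finset α)
    (hs : s.card ≤ 6) : ∃ y, t y ≠ y ∧ y ∉ s := by
  by_contra h'
  push Not at h'
  have h1 : (Finset.univ : Finset α) ⊆ s ∪ Finset.univ.filter (fun p => t p = p) := fun y _ => by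
    by_cases hy : t y = y
    · exact Finset.mem_union_right _ (by simp [hy])
    · exact Finset.mem_union_left _ (h' y hy)
  have hfix : (Finset.univ.filter (fun p => t p = p)).card ≤ 1 := Finset.card_le_one.mpr
    fun a ha b hb => h.fix_unique a b (Finset.mem_filter.mp ha).2 (Finset.mem_filter.mp hb).2
  have := (Finset.card_le_card h1).trans (Finset.card_union_le _ _)
  rw [Finset.card_univ] at this
  omega

omit hno in
/-- A commutative set moving `x` onto the possible images gives fixed points for perfect groups. -/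
theorem fix_of_perfect {K : Subgroup (Perm α)} (hK : ⁅K, K⁆ = K) {x : α}
    (h : ∀ k₁ ∈ K, ∀ k₂ ∈ K, k₁ (k₂ x) = k₂ (k₁ x)) : ∀ k ∈ K, k x = x := by
  intro k hk
  have hle : ⁅K, K⁆ ≤ MulAction.stabilizer (Perm α) x := by
    rw [Subgroup.commutator_le]
    intro a ha b hb
    rw [MulAction.mem_stabilizer_iff, Perm.smul_def, commutatorElement_def]
    simp only [Perm.mul_apply]
    rw [h a⁻¹ (inv_mem ha) b⁻¹ (inv_mem hb)]
    simp
  rw [hK] at hle
  exact hle hk

omit hno in
/-- A perfect group commuting with the pair structure is trivial. -/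
theorem PairData.perfect_eq_bot (h : PairData H t) {K : Subgroup (Perm α)} (hK : ⁅K, K⁆ = K)
    (hcom : ∀ k ∈ K, ∀ x, t x ≠ x → k x = x ∨ k x = t x) : K = ⊥ := by
  rw [eq_bot_iff]
  intro k hk
  rw [mem_bot]
  have hmv : ∀ x, t x ≠ x → k x = x := by
    intro x hx
    refine fix_of_perfect hK (x := x) ?_ k hk
    have htx : t (t x) ≠ t x := by rw [h.invol]; exact hx.symm
    have hsw : ∀ k ∈ K, (k x = x ∧ k (t x) = t x) ∨ (k x = t x ∧ k (t x) = x) := by
      intro k hk
      rcases hcom k hk x hx with h1 | h1 <;> rcases hcom k hk (t x) htx with h2 | h2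
      · exact Or.inl ⟨h1, h2⟩
      · rw [h.invol] at h2
        exact absurd (k.injective (h2.trans h1.symm)) hx
      · exact absurd (k.injective (h1.trans h2.symm)).symm hx
      · rw [h.invol] at h2; exact Or.inr ⟨h1, h2⟩
    intro a ha b hb
    rcases hsw a ha with ⟨a1, a2⟩ | ⟨a1, a2⟩ <;> rcases hsw b hb with ⟨b1, b2⟩ | ⟨b1, b2⟩ <;>
      simp [a1, a2, b1, b2]
  refine Equiv.ext fun x => ?_
  rw [Perm.one_apply]
  by_cases hx : t x = x
  · by_contra hne
    have h1 : t (k x) ≠ k x := fun e => hne (h.fix_unique _ _ e hx)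
    exact hne (k.injective (hmv _ h1))
  · exact hmv x hx

variable (hF : Cfsg.IsQuasisimple ↥(Cfsg.generalizedFittingSubgroup ↥H))
include hF

omit hno in
/-- An abelian normal subgroup is centralized by the layer. -/
theorem map_generalizedFitting_centralizes (D : Subgroup (Perm α)) (hDH : D ≤ H)
    (hnorm : ∀ g ∈ H, ∀ d ∈ D, g * d * g⁻¹ ∈ D) (hab : ∀ a ∈ D, ∀ b ∈ D, a * b = b * a) :
    ∀ k ∈ (Cfsg.generalizedFittingSubgroup ↥H).map H.subtype, ∀ d ∈ D, k * d = d * k := by
  set K := Cfsg.generalizedFittingSubgroup ↥H with hK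
  have hKn : K.Normal := by rw [hK]; infer_instance
  have hKc : Cfsg.IsComponent K := ⟨hKn.isSubnormal, hF⟩
  haveI hDn : (D.subgroupOf H).Normal := ⟨fun d hd g => hnorm g g.2 d hd⟩
  haveI hDc : IsMulCommutative ↥(D.subgroupOf H) :=
    ⟨⟨fun a b => Subtype.ext (Subtype.ext (hab _ a.2 _ b.2))⟩⟩
  haveI hsol : Group.IsSolvable ↥(D.subgroupOf H) := Group.isSolvable_of_comm fun a b =>
    hDc.is_comm.comm a b
  have h := (commutator_eq_bot_iff_le_centralizer).mp
    ((component_le_or_commutator_eq_bot hKc hDn.isSubnormal).resolve_left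
      (component_not_le_isSolvable hKc hsol))
  rintro _ ⟨k, hk, rfl⟩ d hd
  exact (congrArg Subtype.val (mem_centralizer_iff.mp (h hk) ⟨d, hDH hd⟩ hd)).symm

omit hno in
theorem map_generalizedFitting_perfect :
    ⁅(Cfsg.generalizedFittingSubgroup ↥H).map H.subtype,
      (Cfsg.generalizedFittingSubgroup ↥H).map H.subtype⁆ =
      (Cfsg.generalizedFittingSubgroup ↥H).map H.subtype := by
  rw [← Subgroup.map_commutator, component_commutator_eq_self
    (⟨(inferInstance : (Cfsg.generalizedFittingSubgroup ↥H).Normal).isSubnormal, hF⟩)]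

omit hno in
theorem map_generalizedFitting_ne_bot :
    (Cfsg.generalizedFittingSubgroup ↥H).map H.subtype ≠ ⊥ := by
  rw [Ne, Subgroup.map_eq_bot_iff_of_injective _ H.subtype_injective]
  exact component_ne_bot
    ⟨(inferInstance : (Cfsg.generalizedFittingSubgroup ↥H).Normal).isSubnormal, hF⟩

/-- All double transpositions respecting the pairs is impossible. -/
theorem PairData.exists_transversal (h : PairData H t) (hn : 8 ≤ Fintype.card α) :
    ∃ d ∈ H, d * d = 1 ∧ d.support.card = 4 ∧ IsTransversal t d.support := by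
  classical
  by_contra hcon
  push Not at hcon
  have hU : ∀ d ∈ H, d * d = 1 → d.support.card = 4 → IsUnionType t d.support := fun d hd hd2 h4 =>
    (h.dichotomy hno hn hd h4).resolve_right (hcon d hd hd2 h4)
  have hmove : ∀ g ∈ H, ∀ x, t x ≠ x → t (g x) ≠ g x ∧ t (g x) = g (t x) := by
    intro g hg x hx
    obtain ⟨y, hy, hyn⟩ := h.exists_other hn {x, t x} (le_trans Finset.card_le_two (by omega))
    simp only [Finset.mem_insert, Finset.mem_singleton, not_or] at hyn
    obtain ⟨z, hz, hzn⟩ := h.exists_other hn {x, t x, y, t y} (le_trans Finset.card_le_four (by omega))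
    simp only [Finset.mem_insert, Finset.mem_singleton, not_or] at hzn
    have key : ∀ y, t y ≠ y → y ≠ x → y ≠ t x →
        t (g x) ≠ g x ∧ (t (g x) = g (t x) ∨ t (g x) = g y ∨ t (g x) = g (t y)) := by
      intro y hy hyx hytx
      obtain ⟨d, hd, hd2, hs, hc⟩ := h.support_mem hx hy (Ne.symm hyx) (Ne.symm hytx)
      have hd' := H.mul_mem (H.mul_mem hg hd) (H.inv_mem hg)
      have hU' := hU _ hd' (by
        rw [show g * d * g⁻¹ * (g * d * g⁻¹) = g * (d * d) * g⁻¹ by group, hd2, mul_one,
          mul_inv_cancel]) (by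
        rw [support_conj_eq, Finset.card_image_of_injective _ g.injective, hc])
      rw [support_conj_eq, hs] at hU'
      obtain ⟨h1, h2⟩ := hU' (g x) (Finset.mem_image_of_mem _ (Finset.mem_insert_self _ _))
      refine ⟨h1, ?_⟩
      simp only [Finset.image_insert, Finset.image_singleton, Finset.mem_insert,
        Finset.mem_singleton] at h2
      rcases h2 with h2 | h2 | h2 | h2
      exacts [absurd h2 h1, Or.inl h2, Or.inr (Or.inl h2), Or.inr (Or.inr h2)]
    obtain ⟨h1, h2⟩ := key y hy hyn.1 hyn.2
    obtain ⟨-, h3⟩ := key z hz hzn.1 hzn.2.1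
    refine ⟨h1, ?_⟩
    rcases h2 with h2 | h2 | h2
    · exact h2
    all_goals rcases h3 with h3 | h3 | h3
    all_goals first
      | exact h3
      | exact absurd (g.injective (h3.symm.trans h2)) hzn.2.2.1
      | exact absurd (g.injective (h3.symm.trans h2)) hzn.2.2.2
      | exact absurd (t.injective (g.injective (h3.symm.trans h2))) (fun e => hzn.2.2.1 e)
      | (have e := g.injective (h3.symm.trans h2); exact absurd (by rw [← h.invol z, e]) hzn.2.2.2)
  set D := Subgroup.closure {e : Perm α | ∃ x y, t x ≠ x ∧ t y ≠ y ∧ x ≠ y ∧ t x ≠ y ∧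
    e = swap x (t x) * swap y (t y)} with hD
  have hDH : D ≤ H := (Subgroup.closure_le _).mpr (by
    rintro _ ⟨x, y, hx, hy, h1, h2, rfl⟩; exact h.mem x y hx hy h1 h2)
  have hnorm : ∀ g ∈ H, ∀ d ∈ D, g * d * g⁻¹ ∈ D := by
    intro g hg d hd
    induction hd using Subgroup.closure_induction with
    | mem e he =>
      obtain ⟨x, y, hx, hy, h1, h2, rfl⟩ := he
      refine Subgroup.subset_closure ⟨g x, g y, (hmove g hg x hx).1, (hmove g hg y hy).1,
        g.injective.ne h1, fun e => h2 (g.injective ((hmove g hg x hx).2.symm.trans e)), ?_⟩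
      rw [(hmove g hg x hx).2, (hmove g hg y hy).2, swap_apply_apply, swap_apply_apply]
      group
    | one => simp
    | mul a b _ _ ha hb => rw [show g * (a * b) * g⁻¹ = (g * a * g⁻¹) * (g * b * g⁻¹) by group]; exact D.mul_mem ha hb
    | inv a _ ha => rw [show g * a⁻¹ * g⁻¹ = (g * a * g⁻¹)⁻¹ by group]; exact D.inv_mem ha
  have hsame : ∀ x z, t x ≠ x → t z ≠ z → (z = x ∨ z = t x) → swap z (t z) = swap x (t x) := by
    rintro x z hx hz (rfl | rfl)
    · rfl
    · rw [h.invol, swap_comm]
  have hpair : ∀ x z, t x ≠ x → t z ≠ z → Commute (swap x (t x)) (swap z (t z)) := by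
    intro x z hx hz
    by_cases hsz : z = x ∨ z = t x
    · rw [hsame x z hx hz hsz]
    · rw [not_or] at hsz
      refine Perm.Disjoint.commute fun w => ?_
      by_cases h1 : w = z
      · exact Or.inl (by subst h1; exact swap_apply_of_ne_of_ne hsz.1 hsz.2)
      by_cases h2 : w = t z
      · exact Or.inl (by
          subst h2
          exact swap_apply_of_ne_of_ne (fun e => hsz.2 (by rw [← e, h.invol]))
            (t.injective.ne hsz.1))
      exact Or.inr (swap_apply_of_ne_of_ne h1 h2)
  have hab : ∀ a ∈ D, ∀ b ∈ D, a * b = b * a := by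
    intro a ha b hb
    have hle : D ≤ centralizer (D : Set (Perm α)) := by
      rw [hD, Subgroup.closure_le]
      intro e he
      rw [SetLike.mem_coe, Subgroup.centralizer_closure, mem_centralizer_iff]
      intro f hf
      obtain ⟨x, y, hx, hy, -, -, rfl⟩ := he
      obtain ⟨u, v, hu, hv, -, -, rfl⟩ := hf
      exact (((hpair u x hu hx).mul_right (hpair u y hu hy)).mul_left
        ((hpair v x hv hx).mul_right (hpair v y hv hy))).eq
    exact mem_centralizer_iff.mp (hle hb) a ha
  refine map_generalizedFitting_ne_bot hF (h.perfect_eq_bot (map_generalizedFitting_perfect hF) ?_)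
  intro k hk x hx
  obtain ⟨y, hy, hyn⟩ := h.exists_other hn {x, t x} (le_trans Finset.card_le_two (by omega))
  simp only [Finset.mem_insert, Finset.mem_singleton, not_or] at hyn
  obtain ⟨z, hz, hzn⟩ := h.exists_other hn {x, t x, y, t y} (le_trans Finset.card_le_four (by omega))
  simp only [Finset.mem_insert, Finset.mem_singleton, not_or] at hzn
  have key : ∀ y, t y ≠ y → y ≠ x → y ≠ t x → k x = x ∨ k x = t x ∨ k x = y ∨ k x = t y := by
    intro y hy hyx hytx
    have he : swap x (t x) * swap y (t y) ∈ D :=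
      Subgroup.subset_closure ⟨x, y, hx, hy, Ne.symm hyx, Ne.symm hytx, rfl⟩
    have hs := support_pair_swap hx.symm hy.symm (Ne.symm hyx)
      (fun e => hytx (by rw [e, h.invol])) (Ne.symm hytx) (t.injective.ne (Ne.symm hyx))
    have hc := map_generalizedFitting_centralizes hF D hDH hnorm hab k hk _ he
    have h2 : k x ∈ (swap x (t x) * swap y (t y)).support := by
      rw [Perm.mem_support, ← Perm.mul_apply, ← hc, Perm.mul_apply]
      refine k.injective.ne (Perm.mem_support.mp ?_)
      rw [hs]; simp
    rw [hs] at h2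
    simpa using h2
  rcases key y hy hyn.1 hyn.2 with h1 | h1 | h1 | h1
  · exact Or.inl h1
  · exact Or.inr h1
  all_goals rcases key z hz hzn.1 hzn.2.1 with h2 | h2 | h2 | h2
  all_goals first
    | exact Or.inl h2
    | exact Or.inr h2
    | exact absurd (h2.symm.trans h1) hzn.2.2.1
    | exact absurd (h2.symm.trans h1) hzn.2.2.2
    | exact absurd (t.injective (h2.symm.trans h1)) (fun e => hzn.2.2.1 e)
    | (have e := h2.symm.trans h1; exact absurd (by rw [← h.invol z, e]) hzn.2.2.2)

end Cfsg.Agent.LocalEven64
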