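import Mathlib
import Cfsg.Agent.LocalEven64.SymSylowTwo

/-!
# The transversal case and the final statement for Sylow `2`-subgroups
-/

set_option autoImplicit false
set_option linter.unusedSectionVars false
set_option linter.style.haveILetI false

namespace Cfsg.Agent.LocalEven64

open Equiv Subgroup Cfsg.Agent.KSG55.Pres Cfsg.Agent.Components
open scoped commutatorElement

variable {α : Type*} [Fintype α] [DecidableEq α]

theorem conj_pair_swap (g : Perm α) (a b c d : α) :
    g * (swap a b * swap c d) * g⁻¹ = swap (g a) (g b) * swap (g c) (g d) := by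
  rw [swap_apply_apply, swap_apply_apply]; group

theorem pair_swap_fix {a b c d z : α} (ha : z ≠ a) (hb : z ≠ b) (hc : z ≠ c) (hd : z ≠ d) :
    (swap a b * swap c d) z = z := by
  rw [Perm.mul_apply, swap_apply_of_ne_of_ne hc hd, swap_apply_of_ne_of_ne ha hb]

theorem pair_swap_apply {a b c d : α} (hac : a ≠ c) (had : a ≠ d) (hbc : b ≠ c) (hbd : b ≠ d) :
    (swap a b * swap c d) a = b ∧ (swap a b * swap c d) b = a ∧ (swap a b * swap c d) c = d ∧
      (swap a b * swap c d) d = c := by
  refine ⟨?_, ?_, ?_, ?_⟩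
  · rw [Perm.mul_apply, swap_apply_of_ne_of_ne hac had, swap_apply_left]
  · rw [Perm.mul_apply, swap_apply_of_ne_of_ne hbc hbd, swap_apply_right]
  · rw [Perm.mul_apply, swap_apply_left, swap_apply_of_ne_of_ne had.symm hbd.symm]
  · rw [Perm.mul_apply, swap_apply_right, swap_apply_of_ne_of_ne hac.symm hbc.symm]

/-- An involution moving four points. -/
theorem eq_pair_swap {d : Perm α} (hd2 : d * d = 1) (h4 : d.support.card = 4) {x y : α}
    (hx : x ∈ d.support) (hy : y ∈ d.support) (hyx : y ≠ x) (hydx : y ≠ d x) :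
    d = swap x (d x) * swap y (d y) := by
  have hdd : ∀ z, d (d z) = z := fun z => by rw [← Perm.mul_apply, hd2, Perm.one_apply]
  have h1 : x ≠ d y := fun e => hydx (by rw [e, hdd])
  have h2 : d x ≠ d y := d.injective.ne hyx.symm
  have hs : ({x, d x, y, d y} : Finset α) = d.support := by
    refine Finset.eq_of_subset_of_card_le ?_ ?_
    · intro z hz
      simp only [Finset.mem_insert, Finset.mem_singleton] at hz
      rcases hz with rfl | rfl | rfl | rfl
      exacts [hx, Perm.apply_mem_support.mpr hx, hy, Perm.apply_mem_support.mpr hy]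
    · rw [h4, Finset.card_insert_of_notMem (by simp [(Perm.mem_support.mp hx).symm, hyx.symm, h1]),
        Finset.card_insert_of_notMem (by simp [hydx.symm, h2]),
        Finset.card_pair (Perm.mem_support.mp hy).symm]
  obtain ⟨p1, p2, p3, p4⟩ := pair_swap_apply (a := x) (b := d x) (c := y) (d := d y) hyx.symm h1
    hydx.symm h2
  refine Equiv.ext fun z => ?_
  by_cases hz : z ∈ d.support
  · rw [← hs] at hz
    simp only [Finset.mem_insert, Finset.mem_singleton] at hz
    rcases hz with rfl | rfl | rfl | rfl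
    · exact p1.symm
    · rw [p2, hdd]
    · exact p3.symm
    · rw [p4, hdd]
  · rw [Perm.notMem_support.mp hz]
    rw [← hs] at hz
    simp only [Finset.mem_insert, Finset.mem_singleton, not_or] at hz
    exact (pair_swap_fix hz.1 hz.2.1 hz.2.2.1 hz.2.2.2).symm

variable {H : Subgroup (Perm α)} {t : Perm α}

/-- The set of moved points. -/
def movedSet (t : Perm α) : Finset α := Finset.univ.filter fun p => t p ≠ p

theorem mem_movedSet {t : Perm α} {p : α} : p ∈ movedSet t ↔ t p ≠ p := by simp [movedSet]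

theorem PairData.transversal_parts (h : PairData H t) {S : Finset α} (hS : IsTransversal t S) :
    movedSet t = S ∪ S.image t ∧ Disjoint S (S.image t) := by
  have hd : Disjoint S (S.image t) := Finset.disjoint_left.mpr fun p hp hp' => by
    obtain ⟨q, hq, rfl⟩ := Finset.mem_image.mp hp'
    exact ((hS q).mp hq).2 hp
  refine ⟨?_, hd⟩
  ext p
  rw [mem_movedSet, Finset.mem_union]
  constructor
  · intro hp
    by_cases hps : t p ∈ S
    · exact Or.inr (Finset.mem_image.mpr ⟨t p, hps, h.invol p⟩)
    · exact Or.inl ((hS p).mpr ⟨hp, hps⟩)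
  · rintro (hp | hp)
    · exact ((hS p).mp hp).1
    · obtain ⟨q, hq, rfl⟩ := Finset.mem_image.mp hp
      rw [h.invol]
      exact ((hS q).mp hq).1.symm

/-- The second pairing coming from a transversal involution. -/
theorem PairData.second (h : PairData H t) (hn : 8 ≤ Fintype.card α) {d : Perm α} (hd : d ∈ H)
    (hd2 : d * d = 1) (h4 : d.support.card = 4) (hS : IsTransversal t d.support) :
    t ∈ H ∧ ∃ t₂ : Perm α, PairData H t₂ ∧ t₂ ∈ H ∧ Commute t t₂ ∧ movedSet t₂ = movedSet t ∧
      ∀ x, t x ≠ x → t₂ x ≠ t x := by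
  classical
  set S := d.support with hSdef
  obtain ⟨hM, hdis⟩ := h.transversal_parts hS
  have hdd : ∀ z, d (d z) = z := fun z => by rw [← Perm.mul_apply, hd2, Perm.one_apply]
  have hti : t⁻¹ = t := inv_eq_of_mul_eq_one_right (Equiv.ext fun z => h.invol z)
  have hSd : ∀ {z}, z ∈ S → d z ∈ S ∧ d z ≠ z := fun hz =>
    ⟨Perm.apply_mem_support.mpr hz, Perm.mem_support.mp hz⟩
  have hout : ∀ {z}, z ∈ S → t z ∉ S ∧ t z ≠ z := fun hz => ⟨((hS _).mp hz).2, ((hS _).mp hz).1⟩
  have hfix : ∀ {z}, z ∈ S → d (t z) = t z := fun hz => Perm.notMem_support.mp (hout hz).1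
  have hother : ∀ {x}, x ∈ S → ∃ y ∈ S, y ≠ x ∧ y ≠ d x := fun {x} _ => by
    obtain ⟨y, hy, hy'⟩ := Finset.exists_mem_notMem_of_card_lt_card (s := ({x, d x} : Finset α)) (t := S)
      (lt_of_le_of_lt Finset.card_le_two (by omega))
    simp only [Finset.mem_insert, Finset.mem_singleton, not_or] at hy'
    exact ⟨y, hy, hy'.1, hy'.2⟩
  -- flipping one orbit of `d`
  have hflip : ∀ {x}, x ∈ S → swap x (t x) * swap (d x) (t (d x)) ∈ H := fun {x} hx =>
    h.mem x (d x) (hout hx).2 (hout (hSd hx).1).2 (hSd hx).2.symm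
      (fun e => (hout hx).1 (e ▸ (hSd hx).1))
  have hneq : ∀ {x y}, x ∈ S → y ∈ S → x ≠ t y := fun hx hy e => (hout hy).1 (e ▸ hx)
  have hflip_apply : ∀ {x y}, x ∈ S → y ∈ S → y ≠ x → y ≠ d x →
      (swap x (t x) * swap (d x) (t (d x))) y = y := fun {x y} hx hy h1 h2 =>
    pair_swap_fix h1 (hneq hy hx) h2 (hneq hy (hSd hx).1)
  have hflip_apply' : ∀ {x}, x ∈ S →
      (swap x (t x) * swap (d x) (t (d x))) x = t x ∧
        (swap x (t x) * swap (d x) (t (d x))) (d x) = t (d x) := fun {x} hx => by
    obtain ⟨p1, -, p3, -⟩ := pair_swap_apply (a := x) (b := t x) (c := d x) (d := t (d x))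
      (hSd hx).2.symm (hneq hx (hSd hx).1) (hneq (hSd hx).1 hx).symm
      (t.injective.ne (hSd hx).2.symm)
    exact ⟨p1, p3⟩
  have htH : t ∈ H := by
    obtain ⟨x, hx⟩ := Finset.card_pos.mp (show 0 < S.card by omega)
    obtain ⟨y, hy, hyx, hydx⟩ := hother hx
    have hxy' : x ≠ d y := fun e => hydx (by rw [e, hdd])
    have hprod := H.mul_mem (hflip hx) (hflip hy)
    convert hprod using 1
    refine Equiv.ext fun z => ?_
    have hs : S = {x, d x, y, d y} := by
      have := congrArg Perm.support (eq_pair_swap hd2 h4 hx hy hyx hydx)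
      rwa [support_pair_swap (hSd hx).2.symm (hSd hy).2.symm hyx.symm hxy' hydx.symm
        (d.injective.ne hyx.symm)] at this
    obtain ⟨a1, a2⟩ := hflip_apply' hx
    obtain ⟨b1, b2⟩ := hflip_apply' hy
    set A := swap x (t x) * swap (d x) (t (d x)) with hA
    set B := swap y (t y) * swap (d y) (t (d y)) with hB
    have hBfix : ∀ {u}, u ∈ S → u ≠ y → u ≠ d y → B u = u ∧ B (t u) = t u := fun {u} hu h1 h2 =>
      ⟨hflip_apply hy hu h1 h2, pair_swap_fix (hneq hy hu).symm (t.injective.ne h1)
        (hneq (hSd hy).1 hu).symm (t.injective.ne h2)⟩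
    have hAfix : ∀ {u}, u ∈ S → u ≠ x → u ≠ d x → A u = u ∧ A (t u) = t u := fun {u} hu h1 h2 =>
      ⟨hflip_apply hx hu h1 h2, pair_swap_fix (hneq hx hu).symm (t.injective.ne h1)
        (hneq (hSd hx).1 hu).symm (t.injective.ne h2)⟩
    have hAA : ∀ u, A (A u) = u := fun u => by
      rw [← Perm.mul_apply]
      have hc : Commute (swap (d x) (t (d x))) (swap x (t x)) := Perm.Disjoint.commute fun w => by
        by_cases h1 : w = d x
        · exact Or.inr (by subst h1; exact swap_apply_of_ne_of_ne (hSd hx).2 (hneq (hSd hx).1 hx))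
        by_cases h3 : w = t (d x)
        · exact Or.inr (by
            subst h3
            exact swap_apply_of_ne_of_ne (hneq hx (hSd hx).1).symm (t.injective.ne (hSd hx).2))
        exact Or.inl (swap_apply_of_ne_of_ne h1 h3)
      rw [hA, mul_assoc, ← mul_assoc (swap (d x) (t (d x))), hc.eq, mul_assoc, swap_mul_self, mul_one,
        swap_mul_self, Perm.one_apply]
    have hBB : ∀ u, B (B u) = u := fun u => by
      rw [← Perm.mul_apply]
      have hc : Commute (swap (d y) (t (d y))) (swap y (t y)) := Perm.Disjoint.commute fun w => by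
        by_cases h1 : w = d y
        · exact Or.inr (by subst h1; exact swap_apply_of_ne_of_ne (hSd hy).2 (hneq (hSd hy).1 hy))
        by_cases h3 : w = t (d y)
        · exact Or.inr (by
            subst h3
            exact swap_apply_of_ne_of_ne (hneq hy (hSd hy).1).symm (t.injective.ne (hSd hy).2))
        exact Or.inl (swap_apply_of_ne_of_ne h1 h3)
      rw [hB, mul_assoc, ← mul_assoc (swap (d y) (t (d y))), hc.eq, mul_assoc, swap_mul_self, mul_one,
        swap_mul_self, Perm.one_apply]
    rw [Perm.mul_apply]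
    by_cases hzM : z ∈ movedSet t
    · have hdx := hSd hx
      have hdy := hSd hy
      rw [hM, Finset.mem_union] at hzM
      rcases hzM with hz | hz
      · rw [hs] at hz
        simp only [Finset.mem_insert, Finset.mem_singleton] at hz
        rcases hz with rfl | rfl | rfl | rfl
        · rw [(hBfix hx hyx.symm hxy').1, a1]
        · rw [(hBfix hdx.1 (Ne.symm hydx) (d.injective.ne hyx.symm)).1, a2]
        · rw [b1, (hAfix hy hyx hydx).2]
        · rw [b2, (hAfix hdy.1 hxy'.symm (d.injective.ne hyx)).2]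
      · obtain ⟨u, hu, rfl⟩ := Finset.mem_image.mp hz
        rw [h.invol]
        rw [hs] at hu
        simp only [Finset.mem_insert, Finset.mem_singleton] at hu
        rcases hu with rfl | rfl | rfl | rfl
        · rw [(hBfix hx hyx.symm hxy').2, ← a1, hAA]
        · rw [(hBfix hdx.1 (Ne.symm hydx) (d.injective.ne hyx.symm)).2, ← a2, hAA]
        · rw [← b1, hBB, (hAfix hy hyx hydx).1]
        · rw [← b2, hBB, (hAfix hdy.1 hxy'.symm (d.injective.ne hyx)).1]
    · have hz : t z = z := by simpa [mem_movedSet] using hzM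
      have hne : ∀ {u}, u ∈ S → z ≠ u ∧ z ≠ t u := fun {u} hu =>
        ⟨fun e => (hout hu).2 (e ▸ hz), fun e => (hout hu).2 (by rw [e, h.invol] at hz; exact hz.symm)⟩
      rw [hz, hB, pair_swap_fix (hne hy).1 (hne hy).2 (hne (hSd hy).1).1 (hne (hSd hy).1).2, hA,
        pair_swap_fix (hne hx).1 (hne hx).2 (hne (hSd hx).1).1 (hne (hSd hx).1).2]
  refine ⟨htH, d * (t * d * t⁻¹), ?_, H.mul_mem hd (H.mul_mem (H.mul_mem htH hd) (H.inv_mem htH)), ?_⟩
  rw [hti]
  set t₂ := d * (t * d * t) with ht₂
  have hin : ∀ {z}, z ∈ S → t₂ z = d z := fun {z} hz => by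
    rw [ht₂, Perm.mul_apply, Perm.mul_apply, Perm.mul_apply, hfix hz, h.invol]
  have himg : ∀ {z}, z ∈ S → t₂ (t z) = t (d z) := fun {z} hz => by
    rw [ht₂, Perm.mul_apply, Perm.mul_apply, Perm.mul_apply, h.invol, hfix (hSd hz).1]
  have hfixed : ∀ {z}, t z = z → t₂ z = z := fun {z} hz => by
    have : d z = z := Perm.notMem_support.mp fun e => (hout e).2 hz
    rw [ht₂, Perm.mul_apply, Perm.mul_apply, Perm.mul_apply, hz, this, hz, this]
  have hmv : ∀ z, t z = z ∨ z ∈ S ∨ ∃ u ∈ S, t u = z := fun z => by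
    by_cases hz : t z = z
    · exact Or.inl hz
    · have : z ∈ movedSet t := mem_movedSet.mpr hz
      rw [hM, Finset.mem_union, Finset.mem_image] at this
      exact Or.inr this
  have hinv : ∀ z, t₂ (t₂ z) = z := fun z => by
    rcases hmv z with hz | hz | ⟨u, hu, rfl⟩
    · rw [hfixed hz, hfixed hz]
    · rw [hin hz, hin (hSd hz).1, hdd]
    · rw [himg hu, himg (hSd hu).1, hdd]
  have hmoved : ∀ z, t₂ z ≠ z ↔ t z ≠ z := fun z => by
    refine ⟨fun hz e => hz (hfixed e), fun hz => ?_⟩
    rcases hmv z with h' | h' | ⟨u, hu, rfl⟩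
    · exact absurd h' hz
    · rw [hin h']; exact (hSd h').2
    · rw [himg hu]; exact t.injective.ne (hSd hu).2
  -- products of two of the new transpositions
  have hmixed : ∀ {x y}, x ∈ S → y ∈ S → swap x (d x) * swap (t y) (t (d y)) ∈ H := by
    intro x y hx hy
    by_cases hsame : y = x ∨ y = d x
    · obtain ⟨z, hz, hzx, hzdx⟩ := hother hx
      have h1 : swap (t y) (t (d y)) = swap (t x) (t (d x)) := by
        rcases hsame with rfl | rfl
        · rfl
        · rw [hdd, swap_comm]
      rw [h1]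
      have hd' := H.mul_mem (H.mul_mem (hflip hx) hd) (H.inv_mem (hflip hx))
      have hzd : d z ≠ x := fun e => hzdx (by rw [← e, hdd])
      have heq := conj_pair_swap (swap x (t x) * swap (d x) (t (d x))) x (d x) z (d z)
      rw [← eq_pair_swap hd2 h4 hx hz hzx hzdx, (hflip_apply' hx).1, (hflip_apply' hx).2,
        hflip_apply hx hz hzx hzdx, hflip_apply hx (hSd hz).1 hzd (d.injective.ne hzx)] at heq
      rw [heq] at hd'
      have := H.mul_mem hd hd'
      nth_rewrite 1 [eq_pair_swap hd2 h4 hx hz hzx hzdx] at this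
      have hc : Commute (swap z (d z)) (swap (t x) (t (d x))) := Perm.Disjoint.commute fun w => by
        by_cases h1 : w = z
        · exact Or.inr (by subst h1; exact swap_apply_of_ne_of_ne (hneq hz hx) (hneq hz (hSd hx).1))
        by_cases h2 : w = d z
        · exact Or.inr (by
            subst h2; exact swap_apply_of_ne_of_ne (hneq (hSd hz).1 hx) (hneq (hSd hz).1 (hSd hx).1))
        exact Or.inl (swap_apply_of_ne_of_ne h1 h2)
      rwa [mul_assoc, ← mul_assoc (swap z (d z)), hc.eq, mul_assoc (swap (t x) (t (d x))), swap_mul_self,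
        mul_one] at this
    · rw [not_or] at hsame
      have hxy : x ≠ d y := fun e => hsame.2 (by rw [e, hdd])
      have hd' := H.mul_mem (H.mul_mem (hflip hy) hd) (H.inv_mem (hflip hy))
      have heq := conj_pair_swap (swap y (t y) * swap (d y) (t (d y))) x (d x) y (d y)
      rw [← eq_pair_swap hd2 h4 hx hy hsame.1 hsame.2, hflip_apply hy hx (Ne.symm hsame.1) hxy,
        hflip_apply hy (hSd hx).1 (Ne.symm hsame.2) (d.injective.ne (Ne.symm hsame.1)),
        (hflip_apply' hy).1, (hflip_apply' hy).2] at heq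
      rwa [heq] at hd'
  refine ⟨hinv, fun x y hx hy => h.fix_unique x y (not_not.mp fun e => (hmoved x).mpr e hx)
    (not_not.mp fun e => (hmoved y).mpr e hy), ?_⟩
  intro x y hx hy hxy h2xy
  rcases hmv x with h' | hxS | ⟨u, hu, rfl⟩
  · exact absurd (hfixed h') hx
  · rcases hmv y with h' | hyS | ⟨v, hv, rfl⟩
    · exact absurd (hfixed h') hy
    · rw [hin hxS] at h2xy ⊢
      rw [hin hyS, ← eq_pair_swap hd2 h4 hxS hyS hxy.symm h2xy.symm]
      exact hd
    · rw [hin hxS, himg hv]
      exact hmixed hxS hv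
  · rcases hmv y with h' | hyS | ⟨v, hv, rfl⟩
    · exact absurd (hfixed h') hy
    · rw [himg hu, hin hyS]
      have hm := H.inv_mem (hmixed hyS hu)
      rwa [mul_inv_rev, swap_inv, swap_inv] at hm
    · rw [himg hu] at h2xy ⊢
      rw [himg hv]
      have hm := H.mul_mem (H.mul_mem htH hd) (H.inv_mem htH)
      rwa [eq_pair_swap hd2 h4 hu hv (fun e => hxy (by rw [e])) (fun e => h2xy (by rw [e])),
        conj_pair_swap] at hm
  · rw [hti]
    set t₂ := d * (t * d * t) with ht₂
    have hin : ∀ {z}, z ∈ S → t₂ z = d z := fun {z} hz => by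
      rw [ht₂, Perm.mul_apply, Perm.mul_apply, Perm.mul_apply, hfix hz, h.invol]
    have himg : ∀ {z}, z ∈ S → t₂ (t z) = t (d z) := fun {z} hz => by
      rw [ht₂, Perm.mul_apply, Perm.mul_apply, Perm.mul_apply, h.invol, hfix (hSd hz).1]
    have hfixed : ∀ {z}, t z = z → t₂ z = z := fun {z} hz => by
      have : d z = z := Perm.notMem_support.mp fun e => (hout e).2 hz
      rw [ht₂, Perm.mul_apply, Perm.mul_apply, Perm.mul_apply, hz, this, hz, this]
    have hmv : ∀ z, t z = z ∨ z ∈ S ∨ ∃ u ∈ S, t u = z := fun z => by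
      by_cases hz : t z = z
      · exact Or.inl hz
      · have : z ∈ movedSet t := mem_movedSet.mpr hz
        rw [hM, Finset.mem_union, Finset.mem_image] at this
        exact Or.inr this
    refine ⟨Equiv.ext fun z => ?_, Finset.ext fun z => ?_, fun z hz => ?_⟩
    · simp only [Perm.mul_apply]
      rcases hmv z with h' | h' | ⟨u, hu, rfl⟩
      · rw [hfixed h', h', hfixed h']
      · rw [hin h', himg h']
      · rw [himg hu, h.invol, h.invol, hin hu]
    · rw [mem_movedSet, mem_movedSet]
      rcases hmv z with h' | h' | ⟨u, hu, rfl⟩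
      · simp [hfixed h', h']
      · rw [hin h']; exact iff_of_true (hSd h').2 (hout h').2
      · rw [himg hu, h.invol]; exact iff_of_true (t.injective.ne (hSd hu).2) (hout hu).2.symm
    · rcases hmv z with h' | h' | ⟨u, hu, rfl⟩
      · exact absurd h' hz
      · rw [hin h']; exact hneq (hSd h').1 h'
      · rw [himg hu, h.invol]; exact (hneq hu (hSd hu).1).symm

variable (hno : ∀ a b c : α, a ≠ b → a ≠ c → b ≠ c → cyc3 a b c ∉ H)
  (hF : Cfsg.IsQuasisimple ↥(Cfsg.generalizedFittingSubgroup ↥H))
include hno hF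

theorem PairData.false_of_no_threeCycle (h : PairData H t) (hn : 8 ≤ Fintype.card α) : False := by
  classical
  obtain ⟨d, hd, hd2, h4, hS⟩ := h.exists_transversal hno hF hn
  obtain ⟨htH, t₂, h₂, ht₂H, hcomm, hM₂, hne⟩ := h.second hn hd hd2 h4 hS
  have hM₂' : ∀ x, t₂ x ≠ x ↔ t x ≠ x := fun x => by
    rw [← mem_movedSet, hM₂, mem_movedSet]
  set M := movedSet t with hMdef
  have hM8 : M.card = 8 := by
    obtain ⟨e, hdis⟩ := h.transversal_parts hS
    rw [hMdef, e, Finset.card_union_of_disjoint hdis, Finset.card_image_of_injective _ t.injective, h4]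
  set 𝒟 : Set (Finset α) := {T | ∃ e ∈ H, e.support.card = 4 ∧ e.support = T} with h𝒟
  have htype : ∀ {t : Perm α}, PairData H t → ∀ {T}, T ∈ 𝒟 →
      T.image t = T ∨ T.image t = movedSet t \ T := by
    rintro t h _ ⟨e, he, he4, rfl⟩
    rcases h.dichotomy hno hn he he4 with hu | hu
    · left
      refine Finset.eq_of_subset_of_card_le (fun y hy => ?_)
        (by rw [Finset.card_image_of_injective _ t.injective])
      obtain ⟨x, hx, rfl⟩ := Finset.mem_image.mp hy
      exact (hu x hx).2
    · right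
      obtain ⟨e1, e2⟩ := h.transversal_parts hu
      rw [e1, Finset.union_sdiff_left, Finset.sdiff_eq_self_of_disjoint e2.symm]
  have hsubM : ∀ {T}, T ∈ 𝒟 → T ⊆ M := by
    rintro _ ⟨e, he, he4, rfl⟩ x hx
    rcases h.dichotomy hno hn he he4 with hu | hu
    · exact mem_movedSet.mpr (hu x hx).1
    · exact mem_movedSet.mpr ((hu x).mp hx).1
  have hconj : ∀ {g}, g ∈ H → ∀ {T}, T ∈ 𝒟 → T.image g ∈ 𝒟 := by
    rintro g hg _ ⟨e, he, he4, rfl⟩
    exact ⟨g * e * g⁻¹, H.mul_mem (H.mul_mem hg he) (H.inv_mem hg),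
      by rw [support_conj_eq, Finset.card_image_of_injective _ g.injective, he4], support_conj_eq e g⟩
  have hpairmem : ∀ {t : Perm α}, PairData H t → ∀ {x y}, t x ≠ x → t y ≠ y → x ≠ y → t x ≠ y →
      ({x, t x, y, t y} : Finset α) ∈ 𝒟 := fun {t} h {x y} hx hy h1 h2 => by
    obtain ⟨e, he, -, hs, hc⟩ := h.support_mem hx hy h1 h2
    exact ⟨e, he, hc, hs⟩
  have hinvM : ∀ {g}, g ∈ H → M.image g = M := by
    intro g hg
    refine Finset.eq_of_subset_of_card_le (fun y hy => ?_)
      (by rw [Finset.card_image_of_injective _ g.injective])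
    obtain ⟨x, hx, rfl⟩ := Finset.mem_image.mp hy
    rw [hMdef, mem_movedSet] at hx
    obtain ⟨z, hz, hzn⟩ := h.exists_other hn {x, t x} (le_trans Finset.card_le_two (by omega))
    simp only [Finset.mem_insert, Finset.mem_singleton, not_or] at hzn
    exact hsubM (hconj hg (hpairmem h hx hz (Ne.symm hzn.1) (Ne.symm hzn.2)))
      (Finset.mem_image_of_mem _ (Finset.mem_insert_self _ _))
  -- supports separate points
  have hsep : ∀ {g}, g ∈ H → (∀ T ∈ 𝒟, T.image g = T) → g = 1 := by
    intro g hg hfix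
    refine Equiv.ext fun x => ?_
    rw [Perm.one_apply]
    by_cases hx : t x = x
    · by_contra hne'
      have hgm : t (g x) ≠ g x := fun e => hne' (h.fix_unique _ _ e hx)
      have : g x ∈ M.image g := (hinvM hg).symm ▸ mem_movedSet.mpr hgm
      obtain ⟨y, hy, e⟩ := Finset.mem_image.mp this
      exact (mem_movedSet.mp hy) (g.injective e ▸ hx)
    · have key : ∀ {t : Perm α}, PairData H t → t x ≠ x → g x = x ∨ g x = t x := by
        intro t h hx
        obtain ⟨y, hy, hyn⟩ := h.exists_other hn {x, t x} (le_trans Finset.card_le_two (by omega))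
        simp only [Finset.mem_insert, Finset.mem_singleton, not_or] at hyn
        obtain ⟨z, hz, hzn⟩ :=
          h.exists_other hn {x, t x, y, t y} (le_trans Finset.card_le_four (by omega))
        simp only [Finset.mem_insert, Finset.mem_singleton, not_or] at hzn
        have h1 := hfix _ (hpairmem h hx hy (Ne.symm hyn.1) (Ne.symm hyn.2))
        have h2 := hfix _ (hpairmem h hx hz (Ne.symm hzn.1) (Ne.symm hzn.2.1))
        have e1 : g x ∈ ({x, t x, y, t y} : Finset α) := h1 ▸ Finset.mem_image_of_mem _ (by simp)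
        have e2 : g x ∈ ({x, t x, z, t z} : Finset α) := h2 ▸ Finset.mem_image_of_mem _ (by simp)
        simp only [Finset.mem_insert, Finset.mem_singleton] at e1 e2
        rcases e1 with e1 | e1 | e1 | e1
        · exact Or.inl e1
        · exact Or.inr e1
        all_goals rcases e2 with e2 | e2 | e2 | e2
        all_goals first
          | exact Or.inl e2
          | exact Or.inr e2
          | exact absurd (e2.symm.trans e1) hzn.2.2.1
          | exact absurd (e2.symm.trans e1) hzn.2.2.2
          | exact absurd (t.injective (e2.symm.trans e1)) hzn.2.2.1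
          | exact absurd (by rw [← h.invol z, e2.symm.trans e1]) hzn.2.2.2
      rcases key h hx with h1 | h1
      · exact h1
      rcases key h₂ ((hM₂' x).mpr hx) with h2 | h2
      · exact h2
      · exact absurd (h2.symm.trans h1) (hne x hx)
  -- the subgroup fixing all classes
  set Wc : Set (Perm α) := {σ | σ ∈ H ∧ ∀ T ∈ 𝒟, T.image σ = T ∨ T.image σ = M \ T} with hWc
  have hcompl : ∀ {σ}, σ ∈ H → ∀ {T}, T ⊆ M → (M \ T).image σ = M \ T.image σ := fun {σ} hσ {T} _ => by
    rw [Finset.image_sdiff _ _ σ.injective, hinvM hσ]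
  have hsq : ∀ {σ}, σ ∈ Wc → σ * σ = 1 := fun {σ} hσ => hsep (H.mul_mem hσ.1 hσ.1) fun T hT => by
    rw [Perm.coe_mul, ← Finset.image_image]
    rcases hσ.2 T hT with e | e
    · rw [e, e]
    · rw [e, hcompl hσ.1 (hsubM hT), e, Finset.sdiff_sdiff_eq_self (hsubM hT)]
  let W : Subgroup (Perm α) :=
    { carrier := Wc
      one_mem' := ⟨H.one_mem, fun T _ => Or.inl (by simp)⟩
      mul_mem' := fun {σ τ} hσ hτ => ⟨H.mul_mem hσ.1 hτ.1, fun T hT => by
        rw [Perm.coe_mul, ← Finset.image_image]
        rcases hτ.2 T hT with e | e <;> rw [e]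
        · exact hσ.2 T hT
        · rw [hcompl hσ.1 (hsubM hT)]
          rcases hσ.2 T hT with e' | e' <;> rw [e']
          · exact Or.inr rfl
          · exact Or.inl (Finset.sdiff_sdiff_eq_self (hsubM hT))⟩
      inv_mem' := fun {σ} hσ => by rwa [inv_eq_of_mul_eq_one_right (hsq hσ)] }
  have htW : t ∈ W := ⟨htH, fun T hT => htype h hT⟩
  have ht₂W : t₂ ∈ W := ⟨ht₂H, fun T hT => by
    have := htype h₂ hT
    rwa [hM₂] at this⟩
  have hnorm : ∀ g ∈ H, ∀ σ ∈ W, g * σ * g⁻¹ ∈ W := by
    intro g hg σ hσ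
    refine ⟨H.mul_mem (H.mul_mem hg hσ.1) (H.inv_mem hg), fun T hT => ?_⟩
    have hT' := hconj (H.inv_mem hg) hT
    have hback : (T.image (⇑(g⁻¹ : Perm α))).image g = T := by
      rw [Finset.image_image, ← Perm.coe_mul, mul_inv_cancel]; simp
    rw [Perm.coe_mul, Perm.coe_mul, ← Finset.image_image, ← Finset.image_image]
    rcases hσ.2 _ hT' with e | e <;> rw [e]
    · exact Or.inl hback
    · right; rw [hcompl hg (hsubM hT'), hback]
  have hab : ∀ a ∈ W, ∀ b ∈ W, a * b = b * a := fun a ha b hb => by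
    have h1 := hsq (W.mul_mem ha hb)
    rw [mul_eq_one_iff_eq_inv, mul_inv_rev, inv_eq_of_mul_eq_one_right (hsq ha),
      inv_eq_of_mul_eq_one_right (hsq hb)] at h1
    exact h1
  have hcent := map_generalizedFitting_centralizes hF W (fun σ hσ => hσ.1) hnorm hab
  set K := (Cfsg.generalizedFittingSubgroup ↥H).map H.subtype with hKdef
  have hKH : K ≤ H := Subgroup.map_subtype_le _
  have hKt : ∀ k ∈ K, ∀ z, k (t z) = t (k z) := fun k hk z => by
    rw [← Perm.mul_apply, hcent k hk t htW, Perm.mul_apply]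
  have hKt₂ : ∀ k ∈ K, ∀ z, k (t₂ z) = t₂ (k z) := fun k hk z => by
    rw [← Perm.mul_apply, hcent k hk t₂ ht₂W, Perm.mul_apply]
  have hct : ∀ z, t (t₂ z) = t₂ (t z) := fun z => by
    rw [← Perm.mul_apply, hcomm.eq, Perm.mul_apply]
  refine map_generalizedFitting_ne_bot hF ?_
  rw [← hKdef, eq_bot_iff]
  intro k hk
  rw [mem_bot]
  have hall : ∀ x, t x ≠ x → ∀ k ∈ K, k x = x := by
    intro x hx
    set orbV : α → Finset α := fun y => {y, t y, t₂ y, t (t₂ y)} with horbV
    have horbk : ∀ k ∈ K, ∀ y, (orbV y).image k = orbV (k y) := fun k hk y => by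
      simp only [horbV, Finset.image_insert, Finset.image_singleton, hKt k hk, hKt₂ k hk]
    have hclosed : ∀ {y z}, z ∈ orbV y → orbV z ⊆ orbV y := fun {y z} hz w hw => by
      simp only [horbV, Finset.mem_insert, Finset.mem_singleton] at hz hw ⊢
      rcases hz with rfl | rfl | rfl | rfl <;> rcases hw with rfl | rfl | rfl | rfl <;>
        simp [h.invol, h₂.invol, hct]
    have hcard : ∀ {y}, t y ≠ y → (orbV y).card = 4 := fun {y} hy => by
      have h2 := (hM₂' y).mpr hy
      have h3 : t y ≠ t₂ y := (hne y hy).symm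
      have h4 : y ≠ t (t₂ y) := fun e => h3 (by conv_lhs => rw [e, h.invol])
      rw [horbV]
      rw [Finset.card_insert_of_notMem (by simp [hy.symm, h2.symm, h4]),
        Finset.card_insert_of_notMem (by simp [h3, t.injective.ne h2.symm]),
        Finset.card_pair (show t₂ y ≠ t (t₂ y) from fun e => by
          have hm : t (t₂ y) ≠ t₂ y := by
            rw [← hM₂']
            rw [h₂.invol]; exact h2.symm
          exact hm e.symm)]
    have hsub : ∀ {y}, t y ≠ y → orbV y ⊆ M := fun {y} hy w hw => by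
      have h2 := (hM₂' y).mpr hy
      simp only [horbV, Finset.mem_insert, Finset.mem_singleton] at hw
      rw [hMdef, mem_movedSet]
      rcases hw with rfl | rfl | rfl | rfl
      · exact hy
      · rw [h.invol]; exact hy.symm
      · rw [← hM₂', h₂.invol]; exact h2.symm
      · rw [h.invol]
        refine (?_ : t (t₂ y) ≠ t₂ y).symm
        rw [← hM₂', h₂.invol]; exact h2.symm
    set O := orbV x with hO
    have hkx : ∀ k ∈ K, t (k x) ≠ k x := fun k hk => mem_movedSet.mp (by
      rw [← hMdef, ← hinvM (hKH hk)]; exact Finset.mem_image_of_mem _ (mem_movedSet.mpr hx))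
    have hsO : O ⊆ M := hsub hx
    have himgO : ∀ k ∈ K, O.image k = O ∨ O.image k = M \ O := by
      intro k hk
      rw [horbk k hk]
      by_cases hin : k x ∈ O
      · exact Or.inl (Finset.eq_of_subset_of_card_le (hclosed hin)
          (by rw [hcard (hkx k hk), hO, hcard hx]))
      · right
        refine Finset.eq_of_subset_of_card_le (fun w hw => Finset.mem_sdiff.mpr
          ⟨hsub (hkx k hk) hw, fun hwO => hin (hclosed hwO ?_)⟩) ?_
        · simp only [horbV, Finset.mem_insert, Finset.mem_singleton] at hw ⊢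
          rcases hw with rfl | rfl | rfl | rfl <;> simp [h.invol, h₂.invol, hct]
        · rw [Finset.card_sdiff_of_subset hsO, hM8, show O.card = 4 from hcard hx, hcard (hkx k hk)]
    have hfixO : ∀ k ∈ K, O.image k = O := by
      intro k hk
      have hcommO : ∀ a ∈ K, ∀ b ∈ K, (O.image b).image a = (O.image a).image b := by
        intro a ha b hb
        rcases himgO a ha with e1 | e1 <;> rcases himgO b hb with e2 | e2 <;>
          simp only [e1, e2, hcompl (hKH ha) hsO, hcompl (hKH hb) hsO]
      let St : Subgroup (Perm α) :=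
        { carrier := {σ | O.image σ = O}
          one_mem' := by simp
          mul_mem' := fun {σ τ} hσ hτ => by
            show O.image ⇑(σ * τ) = O
            rw [Perm.coe_mul, ← Finset.image_image, hτ, hσ]
          inv_mem' := fun {σ} hσ => by
            show O.image ⇑σ⁻¹ = O
            conv_lhs => rw [← hσ]
            rw [Finset.image_image, ← Perm.coe_mul, inv_mul_cancel]
            simp }
      have hle : ⁅K, K⁆ ≤ St := by
        rw [Subgroup.commutator_le]
        intro a ha b hb
        show O.image ⇑⁅a, b⁆ = O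
        rw [commutatorElement_def, Perm.coe_mul, Perm.coe_mul, Perm.coe_mul, ← Finset.image_image,
          ← Finset.image_image, ← Finset.image_image, hcommO _ (inv_mem ha) _ (inv_mem hb),
          Finset.image_image (s := O.image ⇑a⁻¹), ← Perm.coe_mul, mul_inv_cancel, Perm.coe_one,
          Finset.image_id, Finset.image_image, ← Perm.coe_mul, mul_inv_cancel, Perm.coe_one,
          Finset.image_id]
      rw [map_generalizedFitting_perfect hF] at hle
      exact hle hk
    refine fix_of_perfect (map_generalizedFitting_perfect hF) (x := x) fun a ha b hb => ?_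
    have h1 : a x ∈ O := hfixO a ha ▸ Finset.mem_image_of_mem _ (by simp [hO, horbV])
    have h2 : b x ∈ O := hfixO b hb ▸ Finset.mem_image_of_mem _ (by simp [hO, horbV])
    simp only [hO, horbV, Finset.mem_insert, Finset.mem_singleton] at h1 h2
    rcases h1 with h1 | h1 | h1 | h1 <;> rcases h2 with h2 | h2 | h2 | h2 <;>
      simp only [h1, h2, hKt a ha, hKt₂ a ha, hKt b hb, hKt₂ b hb, hct, h.invol, h₂.invol]
  refine Equiv.ext fun x => ?_
  rw [Perm.one_apply]
  by_cases hx : t x = x
  · by_contra hne'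
    have h1 : t (k x) ≠ k x := fun e => hne' (h.fix_unique _ _ e hx)
    exact hne' (k.injective (hall _ h1 k hk))
  · exact hall x hx k hk

omit hno in
/-- The generalized Fitting subgroup is the alternating group on all but at most three points. -/
theorem exists_altOn_of_sylow_two (hn : 8 ≤ Fintype.card α) (P : Sylow 2 ↥(alternatingGroup α))
    (hP : (P : Subgroup ↥(alternatingGroup α)).map (alternatingGroup α).subtype ≤ H) {t₀ : Perm α}
    (h₀ : ∀ x, t₀ (t₀ x) = x) (h₀' : ∀ x y, t₀ x = x → t₀ y = y → x = y) :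
    ∃ A : Finset α, 5 ≤ A.card ∧ Fintype.card α ≤ A.card + 3 ∧
      (Cfsg.generalizedFittingSubgroup ↥H).map H.subtype = altOn A := by
  classical
  haveI : Fact (Nat.Prime 2) := ⟨Nat.prime_two⟩
  have hconjP : ∀ (W : Subgroup (Perm α)), (P : Subgroup (alternatingGroup α)).map (alternatingGroup α).subtype ≤ W →
      ∀ E : Subgroup (Perm α), E ≤ W → E ≤ (alternatingGroup α) → IsPGroup 2 E →
        ∃ g ∈ W, ∀ e ∈ E, g * e * g⁻¹ ∈ H := by
    intro W hPW E hEW hEA hE
    have hPW' : (P : Subgroup (alternatingGroup α)) ≤ W.subgroupOf (alternatingGroup α) := fun p hp => hPW ⟨p, hp, rfl⟩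
    have hE' : IsPGroup 2 ↥((E.subgroupOf (alternatingGroup α)).subgroupOf (W.subgroupOf (alternatingGroup α))) := by
      refine (hE.comap_of_injective (alternatingGroup α).subtype Subtype.val_injective).comap_of_injective
        (W.subgroupOf (alternatingGroup α)).subtype Subtype.val_injective
    obtain ⟨Q, hQ⟩ := hE'.exists_le_sylow
    obtain ⟨g, hg⟩ := MulAction.exists_smul_eq ↥(W.subgroupOf (alternatingGroup α)) Q (P.subtype hPW')
    refine ⟨((g : (alternatingGroup α)) : Perm α), g.2, fun e he => hP ?_⟩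
    have hm : g * ⟨⟨e, hEA he⟩, hEW he⟩ * g⁻¹ ∈ (P.subtype hPW' : Subgroup (W.subgroupOf (alternatingGroup α))) := by
      rw [← hg, Sylow.coe_subgroup_smul]
      exact ⟨_, hQ he, rfl⟩
    exact ⟨_, hm, rfl⟩
  by_cases hno : ∀ a b c : α, a ≠ b → a ≠ c → b ≠ c → cyc3 a b c ∉ H
  · exfalso
    set gens : Set (Perm α) := {e | ∃ x y, t₀ x ≠ x ∧ t₀ y ≠ y ∧ x ≠ y ∧ t₀ x ≠ y ∧
      e = swap x (t₀ x) * swap y (t₀ y)} with hgens
    have hpair : ∀ x z, Commute (swap x (t₀ x)) (swap z (t₀ z)) := by
      intro x z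
      by_cases hsz : z = x ∨ z = t₀ x
      · rcases hsz with rfl | rfl
        · exact Commute.refl _
        · rw [h₀, swap_comm (t₀ x) x]
      · rw [not_or] at hsz
        refine Perm.Disjoint.commute fun w => ?_
        by_cases h1 : w = z
        · exact Or.inl (by subst h1; exact swap_apply_of_ne_of_ne hsz.1 hsz.2)
        by_cases h2 : w = t₀ z
        · exact Or.inl (by
            subst h2
            exact swap_apply_of_ne_of_ne (fun e => hsz.2 (by rw [← e, h₀])) (t₀.injective.ne hsz.1))
        exact Or.inr (swap_apply_of_ne_of_ne h1 h2)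
    have hgc : ∀ a ∈ gens, ∀ b ∈ gens, Commute a b := by
      rintro _ ⟨x, y, -, -, -, -, rfl⟩ _ ⟨u, v, -, -, -, -, rfl⟩
      exact ((hpair x u).mul_right (hpair x v)).mul_left ((hpair y u).mul_right (hpair y v))
    set E := Subgroup.closure gens with hE
    have hEc : ∀ a ∈ E, ∀ b ∈ E, Commute a b := by
      intro a ha b hb
      have hle : E ≤ centralizer (E : Set (Perm α)) := by
        rw [hE, Subgroup.closure_le]
        intro e he
        rw [SetLike.mem_coe, Subgroup.centralizer_closure, mem_centralizer_iff]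
        exact fun f hf => (hgc f hf e he).eq
      exact mem_centralizer_iff.mp (hle hb) a ha
    have hE2 : ∀ e ∈ E, e * e = 1 := by
      intro e he
      induction he using Subgroup.closure_induction with
      | mem e he =>
        obtain ⟨x, y, -, -, -, -, rfl⟩ := he
        rw [(hpair y x).mul_mul_mul_comm, swap_mul_self, swap_mul_self, one_mul]
      | one => simp
      | mul a b ha hb ia ib => rw [(hEc b hb a ha).mul_mul_mul_comm, ia, ib, one_mul]
      | inv a _ ia => rw [← mul_inv_rev, ia, inv_one]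
    have hEA : E ≤ (alternatingGroup α) := (Subgroup.closure_le _).mpr (by
      rintro _ ⟨x, y, hx, hy, -, -, rfl⟩
      exact Perm.mem_alternatingGroup.mpr (by simp [Perm.sign_swap (Ne.symm hx), Perm.sign_swap (Ne.symm hy)]))
    have hEp : IsPGroup 2 E := fun e => ⟨1, Subtype.ext (by simpa [sq] using hE2 e e.2)⟩
    obtain ⟨g, -, hg⟩ := hconjP ⊤ le_top E le_top hEA hEp
    have hpd : PairData H (g * t₀ * g⁻¹) := by
      refine ⟨fun x => by simp [h₀], fun x y hx hy => ?_, fun x y hx hy h1 h2 => ?_⟩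
      · simp only [Perm.mul_apply] at hx hy
        have := h₀' (g⁻¹ x) (g⁻¹ y) (g.injective (by simpa using hx)) (g.injective (by simpa using hy))
        exact (g⁻¹).injective this
      · simp only [Perm.mul_apply] at hx hy h2 ⊢
        have hm := hg _ (Subgroup.subset_closure (show swap (g⁻¹ x) (t₀ (g⁻¹ x)) *
          swap (g⁻¹ y) (t₀ (g⁻¹ y)) ∈ gens from ⟨g⁻¹ x, g⁻¹ y, fun e => hx (by rw [e]; simp),
            fun e => hy (by rw [e]; simp), (g⁻¹).injective.ne h1, fun e => h2 (by rw [e]; simp), rfl⟩))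
        rw [conj_pair_swap] at hm
        simpa using hm
    exact hpd.false_of_no_threeCycle hno hF hn
  push Not at hno
  obtain ⟨a, b, c, hab, hac, hbc, habc⟩ := hno
  obtain ⟨A, -, hA⟩ := exists_isMaxAlt (H := H) (A := {a, b, c})
    (by rw [Finset.card_insert_of_notMem (by simp [hab, hac]), Finset.card_pair hbc])
    (altOn_le_triple hab hbc habc)
  obtain ⟨h5, hAK⟩ := hA.eq_generalizedFitting hF
  refine ⟨A, h5, ?_, hA.map_eq hF⟩
  by_contra hcard
  push Not at hcard
  obtain ⟨x, hx, y, hy, z, hz, hxy, hxz, hyz⟩ :=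
    Finset.two_lt_card.mp (show 2 < Aᶜ.card by rw [Finset.card_compl]; omega)
  obtain ⟨w, hw, hw'⟩ := Finset.exists_mem_notMem_of_card_lt_card (s := ({x, y, z} : Finset α))
    (t := Aᶜ) (lt_of_le_of_lt Finset.card_le_three (by rw [Finset.card_compl]; omega))
  simp only [Finset.mem_insert, Finset.mem_singleton, not_or] at hw'
  rw [Finset.mem_compl] at hx hy hz hw
  let W : Subgroup (Perm α) :=
    { carrier := {σ | ∀ v, σ v ∈ A ↔ v ∈ A}
      one_mem' := fun v => Iff.rfl
      mul_mem' := fun {σ τ} hσ hτ v => by rw [Perm.mul_apply]; exact (hσ _).trans (hτ v)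
      inv_mem' := fun {σ} hσ v => by simpa using (hσ (σ⁻¹ v)).symm }
  have hPW : (P : Subgroup (alternatingGroup α)).map (alternatingGroup α).subtype ≤ W := by
    intro σ hσ v
    have himg : A.image σ = A := hA.image_eq hF (hP hσ)
    constructor
    · intro h
      rw [← himg, Finset.mem_image] at h
      obtain ⟨u, hu, e⟩ := h
      exact σ.injective e ▸ hu
    · exact fun h => himg ▸ Finset.mem_image_of_mem _ h
  set δ := swap x y * swap z w with hδ
  have hδfix : ∀ v ∈ A, δ v = v := fun v hv => pair_swap_fix (fun e => hx (e ▸ hv))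
    (fun e => hy (e ▸ hv)) (fun e => hz (e ▸ hv)) (fun e => hw (e ▸ hv))
  have hδW : δ ∈ W := fun v => by
    constructor
    · intro h
      have := δ.injective (hδfix _ h)
      rwa [this] at h
    · exact fun h => by rwa [hδfix v h]
  have hδ2 : δ * δ = 1 := by
    have hc : Commute (swap x y) (swap z w) := Perm.Disjoint.commute fun v => by
      by_cases h1 : v = x
      · exact Or.inr (by subst h1; exact swap_apply_of_ne_of_ne hxz (Ne.symm hw'.1))
      by_cases h2 : v = y
      · exact Or.inr (by subst h2; exact swap_apply_of_ne_of_ne hyz (Ne.symm hw'.2.1))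
      exact Or.inl (swap_apply_of_ne_of_ne h1 h2)
    rw [hδ, hc.symm.mul_mul_mul_comm, swap_mul_self, swap_mul_self, one_mul]
  have hδA : δ ∈ (alternatingGroup α) := Perm.mem_alternatingGroup.mpr (by
    simp [hδ, Perm.sign_swap hxy, Perm.sign_swap (Ne.symm hw'.2.2)])
  obtain ⟨g, hgW, hg⟩ := hconjP W hPW (zpowers δ) (zpowers_le.mpr hδW) (zpowers_le.mpr hδA) (by
    refine IsPGroup.of_card (n := 1) ?_
    rw [Nat.card_zpowers, pow_one, orderOf_eq_prime (by rw [sq, hδ2]) fun e => hxy ?_]
    have := congrArg (fun σ : Perm α => σ x) e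
    rw [hδ, Perm.one_apply, Perm.mul_apply, swap_apply_of_ne_of_ne hxz (Ne.symm hw'.1), swap_apply_left] at this
    exact this.symm)
  have hgδ := hg δ (mem_zpowers δ)
  have hfix : ∀ v ∈ A, (g * δ * g⁻¹) v = v := fun v hv => by
    have hv' : g⁻¹ v ∈ A := (hgW (g⁻¹ v)).mp (by simpa using hv)
    rw [Perm.mul_apply, Perm.mul_apply, hδfix _ hv']; simp
  have hsK : (⟨g * δ * g⁻¹, hgδ⟩ : H) ∈ Cfsg.generalizedFittingSubgroup ↥H := by
    refine centralizer_generalizedFitting_le (mem_centralizer_iff.mpr ?_)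
    rw [← hAK]
    intro k hk
    refine Subtype.ext (Perm.Disjoint.commute (f := (k : Perm α)) fun v => ?_).eq
    by_cases hv : v ∈ A
    · exact Or.inr (hfix v hv)
    · exact Or.inl ((show (k : Perm α) ∈ altOn A from hk).2 v hv)
  rw [← hAK] at hsK
  have hgx : g x ∉ A := fun e => hx ((hgW x).mp e)
  have := (show g * δ * g⁻¹ ∈ altOn A from hsK).2 (g x) hgx
  simp only [Perm.mul_apply, show g⁻¹ (g x) = x by simp, hδ] at this
  rw [swap_apply_of_ne_of_ne hxz (Ne.symm hw'.1), swap_apply_left] at this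
  exact hxy (g.injective this).symm

end Cfsg.Agent.LocalEven64
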