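import Mathlib
import Cfsg.Agent.Lib.Coprime.Generation
import Cfsg.Agent.S0119
import Cfsg.Agent.S0094
import Cfsg.Agent.S0095

/-!
# Non-cyclic coprime groups whose fixed points contain at most one involution
-/

set_option autoImplicit false
set_option linter.unusedSectionVars false
set_option linter.style.haveILetI false

namespace Cfsg.Agent.LocalEven64

open Subgroup
open scoped commutatorElement

variable {G : Type*} [Group G] [Finite G]

/-- The hypotheses, inside one group. -/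
structure UIData (A K : Subgroup G) (p : ℕ) : Prop where
  prime : p.Prime
  odd : p ≠ 2
  pA : IsPGroup p A
  two : IsPGroup 2 K
  comm : ∀ a ∈ A, ∀ b ∈ A, a * b = b * a
  noncyclic : ¬ IsCyclic A
  norm : A ≤ normalizer (K : Set G)
  faithful : A ⊓ centralizer (K : Set G) = ⊥
  fix : ∀ a ∈ A, a ≠ 1 → ∀ x ∈ K, ∀ y ∈ K, orderOf x = 2 → orderOf y = 2 →
    Commute a x → Commute a y → x = y

namespace UIData

variable {A K : Subgroup G} {p : ℕ} (h : UIData A K p)
include h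

theorem odd_of_mem {a : G} (ha : a ∈ A) : Odd (orderOf a) := by
  haveI := Fact.mk h.prime
  obtain ⟨k, hk⟩ := IsPGroup.iff_orderOf.mp h.pA ⟨a, ha⟩
  rw [← Subgroup.orderOf_coe] at hk
  rw [show orderOf a = p ^ k from hk]
  exact (h.prime.odd_of_ne_two h.odd).pow

theorem coprime {Y : Subgroup G} (hY : Y ≤ K) : (Nat.card A).Coprime (Nat.card Y) := by
  haveI := Fact.mk h.prime
  haveI : Fact (Nat.Prime 2) := ⟨Nat.prime_two⟩
  obtain ⟨i, hi⟩ := IsPGroup.iff_card.mp h.pA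
  obtain ⟨j, hj⟩ := IsPGroup.iff_card.mp (h.two.to_le hY)
  rw [hi, hj]
  exact Nat.Coprime.pow _ _ ((Nat.coprime_primes h.prime Nat.prime_two).mpr h.odd)

theorem conj_mem {Y : Subgroup G} (hY : A ≤ normalizer (Y : Set G)) {a y : G} (ha : a ∈ A)
    (hy : y ∈ Y) : a * y * a⁻¹ ∈ Y := (mem_normalizer_iff.mp (hY ha) y).mp hy

theorem gen {Y H : Subgroup G} (hY : Y ≤ K) (hn : A ≤ normalizer (Y : Set G))
    (hC : ∀ a ∈ A, a ≠ 1 → ∀ y ∈ Y, Commute a y → y ∈ H) : Y ≤ H := by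
  haveI : IsMulCommutative A := ⟨⟨fun a b => Subtype.ext (h.comm _ a.2 _ b.2)⟩⟩
  exact Cfsg.Agent.Coprime.le_of_centralizer_le A Y H h.noncyclic hn (h.coprime hY)
    fun a ha ha1 y hy => hC a ha ha1 y hy.1 (mem_centralizer_singleton_iff.mp hy.2).symm

theorem exists_ne_one : ∃ a ∈ A, a ≠ 1 :=
  (Subgroup.bot_or_exists_ne_one A).resolve_left fun e => h.noncyclic (e ▸ inferInstance)

/-- An element of odd order in `A` sending `y` to `y` or `y * u`, `u` a fixed involution, fixes `y`. -/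
theorem commute_of_flip {a y u : G} (ha : a ∈ A) (hu : u * u = 1) (hau : Commute a u)
    (hy : a * y * a⁻¹ = y * u) : Commute a y := by
  have hpow : ∀ n : ℕ, a ^ n * y * (a ^ n)⁻¹ = y * u ^ n := by
    intro n
    induction n with
    | zero => simp
    | succ n ih =>
      calc a ^ (n + 1) * y * (a ^ (n + 1))⁻¹ = a * (a ^ n * y * (a ^ n)⁻¹) * a⁻¹ := by
            rw [pow_succ']; group
        _ = (a * y * a⁻¹) * (a * u ^ n * a⁻¹) := by rw [ih]; group
        _ = y * u ^ (n + 1) := by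
            rw [hy, (hau.pow_right n).eq, mul_inv_cancel_right, mul_assoc, ← pow_succ']
  have h1 := hpow (orderOf a)
  rw [pow_orderOf_eq_one, one_mul, inv_one, mul_one] at h1
  obtain ⟨j, hj⟩ := h.odd_of_mem ha
  rw [hj, pow_succ, pow_mul, sq, hu, one_pow, one_mul] at h1
  have : u = 1 := mul_eq_left.mp h1.symm
  rw [this, mul_one] at hy
  exact mul_inv_eq_iff_eq_mul.mp hy

/-- Invariant elementary abelian subgroups are fixed and have order at most two. -/
theorem elementary {Y : Subgroup G} (hY : Y ≤ K) (hn : A ≤ normalizer (Y : Set G))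
    (hc : ∀ x ∈ Y, ∀ y ∈ Y, x * y = y * x) (h2 : ∀ y ∈ Y, y * y = 1) :
    (∀ y ∈ Y, ∀ a ∈ A, Commute a y) ∧
      ∀ x ∈ Y, ∀ y ∈ Y, x ≠ 1 → y ≠ 1 → x = y := by
  have hall : ∀ y ∈ Y, ∀ a ∈ A, Commute a y := by
    intro y hy b hb
    refine mem_centralizer_iff.mp (h.gen hY hn (H := centralizer (A : Set G)) ?_ hy) b hb
    intro a ha ha1 y hy hay
    refine mem_centralizer_iff.mpr fun c hc' => ?_
    by_cases hy1 : y = 1
    · subst hy1; simp
    have hm := h.conj_mem hn hc' hy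
    have hord : ∀ {w}, w ∈ Y → w ≠ 1 → orderOf w = 2 := fun hw hw1 =>
      orderOf_eq_prime (by rw [sq]; exact h2 _ hw) hw1
    have hne : c * y * c⁻¹ ≠ 1 := fun e => hy1 (by
      calc y = c⁻¹ * (c * y * c⁻¹) * c := by group
        _ = 1 := by rw [e]; group)
    have hcy : Commute a (c * y * c⁻¹) := by
      have : Commute a c := h.comm a ha c hc'
      exact (this.mul_right hay).mul_right this.inv_right
    have := h.fix a ha ha1 _ (hY hm) _ (hY hy) (hord hm hne) (hord hy hy1) hcy hay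
    exact mul_inv_eq_iff_eq_mul.mp this
  refine ⟨hall, fun x hx y hy hx1 hy1 => ?_⟩
  obtain ⟨a, ha, ha1⟩ := h.exists_ne_one
  exact h.fix a ha ha1 x (hY hx) y (hY hy) (orderOf_eq_prime (by rw [sq]; exact h2 _ hx) hx1)
    (orderOf_eq_prime (by rw [sq]; exact h2 _ hy) hy1) (hall x hx a ha) (hall y hy a ha)

/-- Invariant abelian subgroups are fixed. -/
theorem abelian {Y : Subgroup G} (hY : Y ≤ K) (hn : A ≤ normalizer (Y : Set G))
    (hc : ∀ x ∈ Y, ∀ y ∈ Y, x * y = y * x) : ∀ y ∈ Y, ∀ a ∈ A, Commute a y := by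
  let O : Subgroup G :=
    { carrier := {y | y ∈ Y ∧ y * y = 1}
      one_mem' := ⟨Y.one_mem, one_mul 1⟩
      mul_mem' := fun {x y} hx hy => ⟨Y.mul_mem hx.1 hy.1, by
        rw [(show Commute y x from hc y hy.1 x hx.1).mul_mul_mul_comm, hx.2, hy.2, one_mul]⟩
      inv_mem' := fun {x} hx => ⟨Y.inv_mem hx.1, by rw [← mul_inv_rev, hx.2, inv_one]⟩ }
  have hOn : A ≤ normalizer (O : Set G) := Cfsg.Agent.Coprime.le_normalizer_of_conj_mem
    fun a ha y hy => ⟨h.conj_mem hn ha hy.1, by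
      rw [show a * y * a⁻¹ * (a * y * a⁻¹) = a * (y * y) * a⁻¹ by group, hy.2, mul_one, mul_inv_cancel]⟩
  obtain ⟨hO, -⟩ := h.elementary (Y := O) (fun y hy => hY hy.1) hOn
    (fun x hx y hy => hc x hx.1 y hy.1) (fun y hy => hy.2)
  intro y hy
  obtain ⟨k, hk⟩ := h.two ⟨y, hY hy⟩
  have hk' : y ^ 2 ^ k = 1 := congrArg Subtype.val hk
  clear hk
  induction k generalizing y with
  | zero =>
    intro a ha
    have : y = 1 := by simpa using hk'
    subst this
    exact Commute.one_right a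
  | succ k ih =>
    intro a ha
    have h2 := ih (y * y) (Y.mul_mem hy hy) (by rw [← sq, ← pow_mul, ← pow_succ']; exact hk')
    set u := y⁻¹ * (a * y * a⁻¹) with hu
    have huY : u ∈ Y := Y.mul_mem (Y.inv_mem hy) (h.conj_mem hn ha hy)
    have hu2 : u * u = 1 := by
      have hc' : Commute (a * y * a⁻¹) y⁻¹ := (show Commute (a * y * a⁻¹) y from
        hc _ (h.conj_mem hn ha hy) y hy).inv_right
      rw [hu, hc'.mul_mul_mul_comm, ← mul_inv_rev,
        show a * y * a⁻¹ * (a * y * a⁻¹) = a * (y * y) * a⁻¹ by group, (h2 a ha).eq]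
      group
    exact h.commute_of_flip ha hu2 (hO u ⟨huY, hu2⟩ a ha) (by rw [hu]; group)

/-- The distinguished involution. -/
theorem exists_center : ∃ z ∈ K, orderOf z = 2 ∧ (∀ k ∈ K, Commute z k) ∧ (∀ a ∈ A, Commute a z) ∧
    ∀ a ∈ A, a ≠ 1 → ∀ x ∈ K, orderOf x = 2 → Commute a x → x = z := by
  haveI : Fact (Nat.Prime 2) := ⟨Nat.prime_two⟩
  obtain ⟨a, ha, ha1⟩ := h.exists_ne_one
  haveI : Nontrivial K := by
    rw [Subgroup.nontrivial_iff_ne_bot]
    intro e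
    refine ha1 (mem_bot.mp (h.faithful ▸ ⟨ha, mem_centralizer_iff.mpr fun k hk => ?_⟩))
    rw [SetLike.mem_coe, e, mem_bot] at hk
    subst hk; simp
  haveI := h.two.center_nontrivial
  obtain ⟨w, hw⟩ := exists_prime_orderOf_dvd_card' (G := center K) 2 (by
    obtain ⟨n, hn, e⟩ := ((h.two.to_subgroup (center K)).nontrivial_iff_card).mp inferInstance
    rw [e]; exact dvd_pow_self 2 (by omega))
  let O : Subgroup G := ((center K).map K.subtype)
  have hOK : O ≤ K := map_subtype_le _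
  have hOc : ∀ x ∈ O, ∀ k ∈ K, x * k = k * x := by
    rintro _ ⟨x, hx, rfl⟩ k hk
    exact (congrArg Subtype.val (mem_center_iff.mp hx ⟨k, hk⟩)).symm
  have hOn : A ≤ normalizer (O : Set G) := Cfsg.Agent.Coprime.le_normalizer_of_conj_mem
    fun b hb x hx => by
      refine ⟨⟨b * x * b⁻¹, h.conj_mem h.norm hb (hOK hx)⟩, mem_center_iff.mpr fun k => Subtype.ext ?_, rfl⟩
      have hk : b⁻¹ * (k : G) * b ∈ K := by
        simpa using h.conj_mem h.norm (A.inv_mem hb) k.2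
      show (k : G) * (b * x * b⁻¹) = b * x * b⁻¹ * k
      calc (k : G) * (b * x * b⁻¹) = b * ((b⁻¹ * k * b) * x) * b⁻¹ := by group
        _ = b * (x * (b⁻¹ * k * b)) * b⁻¹ := by rw [hOc x hx _ hk]
        _ = b * x * b⁻¹ * k := by group
  set z : G := ((w : K) : G) with hz
  have hz2 : orderOf z = 2 := by rw [hz, Subgroup.orderOf_coe, Subgroup.orderOf_coe]; exact hw
  have hzO : z ∈ O := ⟨w, w.2, rfl⟩
  have hzA : ∀ b ∈ A, Commute b z := h.abelian hOK hOn (fun x hx y hy => hOc x hx y (hOK hy)) z hzO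
  exact ⟨z, hOK hzO, hz2, fun k hk => hOc z hzO k hk, hzA, fun b hb hb1 x hx hx2 hbx =>
    h.fix b hb hb1 x hx z (hOK hzO) hx2 hz2 hbx (hzA b hb)⟩

/-- The conjugation action on an invariant subgroup as a group of automorphisms. -/
theorem special_commutator : Cfsg.IsSpecial 2 ↥⁅K, A⁆ ∧
    ∀ x : ↥⁅K, A⁆, x ∈ center ↥⁅K, A⁆ ↔ ∀ a ∈ A, Commute a (x : G) := by
  haveI : Fact (Nat.Prime 2) := ⟨Nat.prime_two⟩
  have hsol : Group.IsSolvable A ∨ Group.IsSolvable K :=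
    Or.inl (Group.isSolvable_of_comm fun a b => Subtype.ext (h.comm _ a.2 _ b.2))
  set P := ⁅K, A⁆ with hP
  have hPK : P ≤ K := Cfsg.Agent.Coprime.commutator_le_of_le_normalizer h.norm
  have hPn : A ≤ normalizer (P : Set G) := Cfsg.Agent.Coprime.le_normalizer_commutator_right A K
  have hPA : ⁅P, A⁆ = P :=
    Cfsg.Agent.Coprime.commutator_commutator_eq A K h.norm (h.coprime le_rfl) hsol
  let act : A →* MulAut P :=
    { toFun := fun a =>
        { toFun := fun x => ⟨(a : G) * x * (a : G)⁻¹, h.conj_mem hPn a.2 x.2⟩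
          invFun := fun x => ⟨(a : G)⁻¹ * x * (a : G), by simpa using h.conj_mem hPn (A.inv_mem a.2) x.2⟩
          left_inv := fun x => Subtype.ext (by simp [mul_assoc])
          right_inv := fun x => Subtype.ext (by simp [mul_assoc])
          map_mul' := fun x y => Subtype.ext (by simp [mul_assoc]) }
      map_one' := MulEquiv.ext fun x => Subtype.ext (by simp)
      map_mul' := fun a b => MulEquiv.ext fun x => Subtype.ext (by simp [mul_assoc]) }
  have hact : ∀ (a : A) (x : P), ((act a x : P) : G) = (a : G) * x * (a : G)⁻¹ := fun _ _ => rfl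
  have h119 := Cfsg.Agent.S0119.result (p := 2) (h.two.to_le hPK) act.range (by
      refine Nat.Coprime.coprime_dvd_left (Subgroup.card_range_dvd act) ?_
      haveI := Fact.mk h.prime
      obtain ⟨i, hi⟩ := IsPGroup.iff_card.mp h.pA
      rw [hi]
      exact Nat.Coprime.pow_left _ ((Nat.coprime_primes h.prime Nat.prime_two).mpr h.odd)) (by
      rw [eq_top_iff]
      intro x _
      have hle : P ≤ (Subgroup.closure {x : P | ∃ g : P, ∃ φ ∈ act.range, x = g⁻¹ * φ g}).map P.subtype := by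
        conv_lhs => rw [← hPA]
        rw [Subgroup.commutator_le]
        intro y hy a ha
        refine ⟨⟨y, hy⟩⁻¹⁻¹ * act ⟨a, ha⟩ ⟨y, hy⟩⁻¹, subset_closure ⟨_, _, ⟨_, rfl⟩, rfl⟩, ?_⟩
        simp [hact, commutatorElement_def, mul_assoc]
      obtain ⟨w, hw, hwe⟩ := hle x.2
      rwa [← show w = x from Subtype.ext hwe]) (by
      rintro H hH hHc φ ⟨a, rfl⟩ x hx
      refine Subtype.ext ?_
      rw [hact]
      have hn : A ≤ normalizer ((H.map P.subtype : Subgroup G) : Set G) :=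
        Cfsg.Agent.Coprime.le_normalizer_of_conj_mem fun b hb y hy => by
          obtain ⟨y, hy, rfl⟩ := hy
          exact ⟨act ⟨b, hb⟩ y, (Subgroup.characteristic_iff_le_comap.mp hH _) hy, rfl⟩
      have hc : ∀ u ∈ H.map P.subtype, ∀ v ∈ H.map P.subtype, u * v = v * u := by
        rintro _ ⟨u, hu, rfl⟩ _ ⟨v, hv, rfl⟩
        exact congrArg (fun w : H => ((w : P) : G)) (hHc.is_comm.comm ⟨u, hu⟩ ⟨v, hv⟩)
      rw [(h.abelian ((map_subtype_le _).trans hPK) hn hc x ⟨x, hx, rfl⟩ a a.2).eq, mul_inv_cancel_right])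
  refine ⟨h119.1, fun x => (h119.2 x).trans ⟨fun hx a ha => ?_, ?_⟩⟩
  · exact mul_inv_eq_iff_eq_mul.mp (congrArg Subtype.val (hx _ ⟨⟨a, ha⟩, rfl⟩))
  · rintro hx φ ⟨a, rfl⟩
    exact Subtype.ext (by rw [hact, (hx a a.2).eq, mul_inv_cancel_right])

/-- The structure of `⁅K, A⁆`. -/
theorem commutator_data : ∃ z : G, z ∈ ⁅K, A⁆ ∧ orderOf z = 2 ∧ (∀ k ∈ K, Commute z k) ∧
    (∀ a ∈ A, Commute a z) ∧ (∀ a ∈ A, a ≠ 1 → ∀ x ∈ K, orderOf x = 2 → Commute a x → x = z) ∧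
    Cfsg.IsExtraspecial 2 ↥⁅K, A⁆ ∧
    (∀ x ∈ ⁅K, A⁆, (∀ a ∈ A, Commute a x) → x ∈ zpowers z) ∧
    (∀ x ∈ ⁅K, A⁆, x * x ∈ zpowers z) ∧
    ∀ x ∈ ⁅K, A⁆, ∀ y ∈ ⁅K, A⁆, ⁅x, y⁆ ∈ zpowers z := by
  haveI : Fact (Nat.Prime 2) := ⟨Nat.prime_two⟩
  obtain ⟨z, hzK, hz2, hzc, hzA, hzu⟩ := h.exists_center
  obtain ⟨hsp, hcen⟩ := h.special_commutator
  have hPK : ⁅K, A⁆ ≤ K := Cfsg.Agent.Coprime.commutator_le_of_le_normalizer h.norm
  obtain ⟨a, ha, ha1⟩ := h.exists_ne_one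
  haveI : Nontrivial ↥⁅K, A⁆ := by
    rw [Subgroup.nontrivial_iff_ne_bot]
    intro e
    refine ha1 (mem_bot.mp (h.faithful ▸ ⟨ha, ?_⟩))
    exact (commutator_eq_bot_iff_le_centralizer.mp ((Subgroup.commutator_comm A K).trans e)) ha
  haveI := hsp.1.center_nontrivial
  have hinv : ∀ x : ↥⁅K, A⁆, x ∈ center ↥⁅K, A⁆ → (x : G) = 1 ∨ (x : G) = z := by
    intro x hx
    by_cases hx1 : (x : G) = 1
    · exact Or.inl hx1
    refine Or.inr (hzu a ha ha1 _ (hPK x.2) ?_ ((hcen x).mp hx a ha))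
    rw [Subgroup.orderOf_coe]
    exact orderOf_eq_prime (Cfsg.Agent.S0094.result hsp x hx) fun e => hx1 (congrArg Subtype.val e)
  obtain ⟨⟨w, hwc⟩, hw1⟩ := exists_ne (1 : center ↥⁅K, A⁆)
  have hwz : (w : G) = z := (hinv w hwc).resolve_left fun e => hw1 (Subtype.ext (Subtype.ext e))
  have hzP : z ∈ ⁅K, A⁆ := hwz ▸ w.2
  have hmem : ∀ x : ↥⁅K, A⁆, x ∈ center ↥⁅K, A⁆ → (x : G) ∈ zpowers z := fun x hx => by
    rcases hinv x hx with e | e <;> rw [e]
    exacts [one_mem _, mem_zpowers z]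
  have hx : Nat.card (center ↥⁅K, A⁆) = 2 := by
    rw [Nat.card_eq_two_iff]
    refine ⟨1, ⟨w, hwc⟩, Ne.symm hw1, Set.eq_univ_of_forall fun x => ?_⟩
    rcases hinv x x.2 with e | e
    · exact Or.inl (Subtype.ext (Subtype.ext e))
    · exact Or.inr (Subtype.ext (Subtype.ext (e.trans hwz.symm)))
  refine ⟨z, hzP, hz2, hzc, hzA, hzu, ⟨hsp, hx⟩, fun x hxP hfix => hmem ⟨x, hxP⟩ ((hcen _).mpr hfix),
    fun x hxP => ?_, fun x hxP y hyP => ?_⟩
  · have h1 := PGroup.pow_mem_frattini (p := 2) hsp.1 (⟨x, hxP⟩ : ↥⁅K, A⁆)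
    rw [hsp.2.1] at h1
    simpa [sq] using hmem _ h1
  · have h1 : ⁅(⟨x, hxP⟩ : ↥⁅K, A⁆), ⟨y, hyP⟩⁆ ∈ center ↥⁅K, A⁆ := hsp.2.2 ▸
      Subgroup.commutator_mem_commutator (mem_top _) (mem_top _)
    exact hmem _ h1

end UIData

end Cfsg.Agent.LocalEven64
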