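import Mathlib
import Cfsg.Agent.LocalEven64.UniqueInvolutionFixed
import Cfsg.Agent.Lib.Thompson.Replacement

/-!
# The blocks and the final statement
-/

set_option autoImplicit false
set_option linter.unusedSectionVars false
set_option linter.style.haveILetI false

namespace Cfsg.Agent.LocalEven64

open Subgroup
open scoped commutatorElement Pointwise

variable {G : Type*} [Group G] [Finite G]

omit [Finite G] in
theorem mem_zpowers_two {z x : G} (hz : z * z = 1) : x ∈ zpowers z ↔ x = 1 ∨ x = z := by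
  refine ⟨fun hx => ?_, ?_⟩
  · obtain ⟨i, rfl⟩ := hx
    rcases Int.even_or_odd' i with ⟨j, rfl | rfl⟩
    · exact Or.inl (by show z ^ (2 * j) = 1; rw [zpow_mul, zpow_two, hz, one_zpow])
    · exact Or.inr (by
        show z ^ (2 * j + 1) = z
        rw [zpow_add, zpow_mul, zpow_two, hz, one_zpow, one_mul, zpow_one])
  · rintro (rfl | rfl)
    exacts [one_mem _, mem_zpowers _]

namespace UIData

variable {A K : Subgroup G} {p : ℕ} (h : UIData A K p)

/-- The properties of the commutator subgroup that are used below. -/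
structure PData (A K : Subgroup G) (z : G) : Prop where
  mem : z ∈ ⁅K, A⁆
  ord : orderOf z = 2
  central : ∀ k ∈ K, Commute z k
  fixed : ∀ a ∈ A, Commute a z
  unique : ∀ a ∈ A, a ≠ 1 → ∀ x ∈ K, orderOf x = 2 → Commute a x → x = z
  le : ⁅K, A⁆ ≤ K
  norm : A ≤ normalizer ((⁅K, A⁆ : Subgroup G) : Set G)
  cen : ∀ x ∈ ⁅K, A⁆, (∀ a ∈ A, Commute a x) → x ∈ zpowers z
  sq : ∀ x ∈ ⁅K, A⁆, x * x ∈ zpowers z
  comm : ∀ x ∈ ⁅K, A⁆, ∀ y ∈ ⁅K, A⁆, ⁅x, y⁆ ∈ zpowers z
  xs : Cfsg.IsExtraspecial 2 ↥⁅K, A⁆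

include h in
theorem exists_pdata : ∃ z, PData A K z := by
  obtain ⟨z, h1, h2, h3, h4, h5, h6, h7, h8, h9⟩ := h.commutator_data
  exact ⟨z, ⟨h1, h2, h3, h4, h5, Cfsg.Agent.Coprime.commutator_le_of_le_normalizer h.norm,
    Cfsg.Agent.Coprime.le_normalizer_commutator_right A K, h7, h8, h9, h6⟩⟩

variable {z : G} (d : PData A K z)
include h d

theorem zz : z * z = 1 := by rw [← sq, ← d.ord, pow_orderOf_eq_one]

theorem comm_cases {x y : G} (hx : x ∈ ⁅K, A⁆) (hy : y ∈ ⁅K, A⁆) :
    Commute x y ∨ x * y = y * x * z := by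
  rcases (mem_zpowers_two (h.zz d)).mp (d.comm x hx y hy) with e | e
  · exact Or.inl (commutatorElement_eq_one_iff_mul_comm.mp e)
  · right
    calc x * y = ⁅x, y⁆ * (y * x) := by rw [commutatorElement_def]; group
      _ = z * (y * x) := by rw [e]
      _ = y * x * z := (d.central _ (K.mul_mem (d.le hy) (d.le hx))).eq

theorem not_commute_mul {w x y : G} (hw : w ∈ ⁅K, A⁆) (hx : x ∈ ⁅K, A⁆) (hy : y ∈ ⁅K, A⁆)
    (h1 : ¬ Commute w x) (h2 : ¬ Commute y x) : Commute (w * y) x := by
  have e1 := (h.comm_cases d hw hx).resolve_left h1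
  have e2 := (h.comm_cases d hy hx).resolve_left h2
  calc w * y * x = w * (x * y * z) := by rw [mul_assoc, e2]
    _ = (w * x) * (y * z) := by group
    _ = x * w * (z * y) * z := by rw [e1]; group
    _ = x * w * (y * z) * z := by rw [(d.central y (d.le hy)).eq]
    _ = x * (w * y) * (z * z) := by group
    _ = x * (w * y) := by rw [h.zz d, mul_one]

theorem sq_eq {a v : G} (ha : a ∈ A) (ha1 : a ≠ 1) (hv : v ∈ ⁅K, A⁆) (hav : Commute a v)
    (hvz : v ∉ zpowers z) : v * v = z := by
  rcases (mem_zpowers_two (h.zz d)).mp (d.sq v hv) with e | e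
  · exact absurd ((d.unique a ha ha1 v (d.le hv)
      (orderOf_eq_prime (by rw [_root_.sq, e]) fun e' => hvz (e' ▸ one_mem _)) hav) ▸ mem_zpowers z) hvz
  · exact e

theorem inv_eq {a v : G} (ha : a ∈ A) (ha1 : a ≠ 1) (hv : v ∈ ⁅K, A⁆) (hav : Commute a v)
    (hvz : v ∉ zpowers z) : v⁻¹ = v * z := by
  refine inv_eq_of_mul_eq_one_right ?_
  rw [← mul_assoc, h.sq_eq d ha ha1 hv hav hvz, h.zz d]

theorem of_commute_pair {a v w : G} (ha : a ∈ A) (ha1 : a ≠ 1) (hv : v ∈ ⁅K, A⁆) (hw : w ∈ ⁅K, A⁆)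
    (hav : Commute a v) (haw : Commute a w) (hvz : v ∉ zpowers z) (hc : Commute v w) :
    w ∈ zpowers z ∨ w = v ∨ w = v * z := by
  by_cases hwz : w ∈ zpowers z
  · exact Or.inl hwz
  right
  have h1 : v * w * (v * w) = 1 := by
    rw [hc.symm.mul_mul_mul_comm, h.sq_eq d ha ha1 hv hav hvz, h.sq_eq d ha ha1 hw haw hwz, h.zz d]
  have h2 : v * w ∈ zpowers z := by
    by_cases e : v * w = 1
    · rw [e]; exact one_mem _
    · rw [d.unique a ha ha1 _ (K.mul_mem (d.le hv) (d.le hw))
        (orderOf_eq_prime (by rw [_root_.sq, h1]) e) (hav.mul_right haw)]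
      exact mem_zpowers z
  rcases (mem_zpowers_two (h.zz d)).mp h2 with e | e
  · exact Or.inr (by rw [← h.inv_eq d ha ha1 hv hav hvz]; exact eq_inv_of_mul_eq_one_right e)
  · left
    have : w = v⁻¹ * z := by rw [← e, inv_mul_cancel_left]
    rw [this, h.inv_eq d ha ha1 hv hav hvz, mul_assoc, h.zz d, mul_one]

/-- Two non-commuting elements of a block determine it. -/
theorem mem_list {a x y w : G} (ha : a ∈ A) (ha1 : a ≠ 1) (hx : x ∈ ⁅K, A⁆) (hy : y ∈ ⁅K, A⁆)
    (hw : w ∈ ⁅K, A⁆) (hax : Commute a x) (hay : Commute a y) (haw : Commute a w)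
    (hxy : ¬ Commute x y) :
    ∃ e ∈ zpowers z, w = e ∨ w = e * x ∨ w = e * y ∨ w = e * (x * y) := by
  have hxz : x ∉ zpowers z := fun e => by
    rcases (mem_zpowers_two (h.zz d)).mp e with rfl | rfl
    exacts [hxy (Commute.one_left y), hxy (d.central y (d.le hy))]
  have hyz : y ∉ zpowers z := fun e => by
    rcases (mem_zpowers_two (h.zz d)).mp e with rfl | rfl
    exacts [hxy (Commute.one_right x), hxy (d.central x (d.le hx)).symm]
  have both : ∀ v ∈ ⁅K, A⁆, Commute a v → Commute v x → Commute v y → v ∈ zpowers z := by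
    intro v hv hav h1 h2
    rcases h.of_commute_pair d ha ha1 hx hv hax hav hxz h1.symm with e | e | e
    · exact e
    · exact absurd (e ▸ h2) hxy
    · subst e
      have h3 : Commute (x * z * z) y := h2.mul_left (d.central y (d.le hy))
      rw [mul_assoc, h.zz d, mul_one] at h3
      exact absurd h3 hxy
  have hz1 : z ∈ zpowers z := mem_zpowers z
  have hxi := h.inv_eq d ha ha1 hx hax hxz
  have hyi := h.inv_eq d ha ha1 hy hay hyz
  by_cases c1 : Commute w x <;> by_cases c2 : Commute w y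
  · exact ⟨w, both w hw haw c1 c2, Or.inl rfl⟩
  · -- `w x` commutes with both
    have := both (w * x) (mul_mem hw hx) (haw.mul_right hax) (c1.mul_left (Commute.refl x))
      (h.not_commute_mul d hw hy hx c2 hxy)
    refine ⟨w * x * z, mul_mem this hz1, Or.inr (Or.inl ?_)⟩
    calc w = w * x * x⁻¹ := by group
      _ = w * x * (x * z) := by rw [hxi]
      _ = w * x * (z * x) := by rw [(d.central x (d.le hx)).eq]
      _ = w * x * z * x := by group
  · have := both (w * y) (mul_mem hw hy) (haw.mul_right hay)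
      (h.not_commute_mul d hw hx hy c1 fun e => hxy e.symm) (c2.mul_left (Commute.refl y))
    refine ⟨w * y * z, mul_mem this hz1, Or.inr (Or.inr (Or.inl ?_))⟩
    calc w = w * y * y⁻¹ := by group
      _ = w * y * (y * z) := by rw [hyi]
      _ = w * y * (z * y) := by rw [(d.central y (d.le hy)).eq]
      _ = w * y * z * y := by group
  · have h1 : Commute (w * (x * y)) x := by
      have e1 := (h.comm_cases d hw hx).resolve_left c1
      have : ¬ Commute (x * y) x := fun e => hxy (by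
        have := ((Commute.refl x).inv_left).mul_left e
        rw [inv_mul_cancel_left] at this
        exact this.symm)
      exact h.not_commute_mul d hw hx (mul_mem hx hy) c1 this
    have h2 : Commute (w * (x * y)) y := by
      have : ¬ Commute (x * y) y := fun e => hxy (by
        have := e.mul_left ((Commute.refl y).inv_left)
        rwa [mul_inv_cancel_right] at this)
      exact h.not_commute_mul d hw hy (mul_mem hx hy) c2 this
    have := both _ (mul_mem hw (mul_mem hx hy)) (haw.mul_right (hax.mul_right hay)) h1 h2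
    have hxyz : x * y ∉ zpowers z := fun e => hxy (by
      rcases (mem_zpowers_two (h.zz d)).mp e with e | e
      · rw [eq_inv_of_mul_eq_one_right e]; exact (Commute.refl x).inv_right
      · have e' : y = x⁻¹ * z := by rw [← e, inv_mul_cancel_left]
        rw [e']; exact ((Commute.refl x).inv_right).mul_right (d.central x (d.le hx)).symm)
    refine ⟨w * (x * y) * z, mul_mem this hz1, Or.inr (Or.inr (Or.inr ?_))⟩
    calc w = w * (x * y) * (x * y)⁻¹ := by group
      _ = w * (x * y) * (x * y * z) := by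
          rw [h.inv_eq d ha ha1 (mul_mem hx hy) (hax.mul_right hay) hxyz]
      _ = w * (x * y) * (z * (x * y)) := by rw [(d.central (x * y) (d.le (mul_mem hx hy))).eq]
      _ = w * (x * y) * z * (x * y) := by group

/-- Equality modulo `⟨z⟩` after conjugating by a member of `A`. -/
theorem fix_of_coset {b v : G} (hb : b ∈ A) (e : b * v * b⁻¹ = v ∨ b * v * b⁻¹ = v * z) :
    Commute b v := by
  rcases e with e | e
  · exact mul_inv_eq_iff_eq_mul.mp e
  · exact h.commute_of_flip hb (h.zz d) (d.fixed b hb) e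

/-- Everything about the block of a point not fixed by all of `A`. -/
theorem block {a v : G} (ha : a ∈ A) (ha1 : a ≠ 1) (hv : v ∈ ⁅K, A⁆) (hav : Commute a v)
    (hvz : v ∉ zpowers z) :
    p = 3 ∧ Nat.card A ≤ 3 * Nat.card (A ⊓ centralizer ({v} : Set G) : Subgroup G) ∧
      Nat.card (⁅K, A⁆ ⊓ centralizer ({a} : Set G) : Subgroup G) = 8 ∧
      (∀ c ∈ A, Commute c v → ∀ w ∈ ⁅K, A⁆, Commute a w → Commute c w) ∧
      ∀ c ∈ K, (∀ b ∈ A, Commute b c) → (∀ w ∈ ⁅K, A⁆, c * w * c⁻¹ ∈ ⁅K, A⁆) → Commute c v := by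
  classical
  haveI := Fact.mk h.prime
  haveI : Fact (Nat.Prime 2) := ⟨Nat.prime_two⟩
  set P := ⁅K, A⁆ with hP
  have hconjA : ∀ {b u}, b ∈ A → Commute a u → Commute a (b * u * b⁻¹) := fun {b u} hb hau =>
    (((show Commute a b from h.comm a ha b hb).mul_right hau)).mul_right
      (show Commute a b from h.comm a ha b hb).inv_right
  obtain ⟨b, hb, hbv⟩ : ∃ b ∈ A, ¬ Commute b v := by
    by_contra hcon
    push Not at hcon
    exact hvz (d.cen v hv hcon)
  set y := b * v * b⁻¹ with hy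
  have hyP : y ∈ P := h.conj_mem d.norm hb hv
  have hay : Commute a y := hconjA hb hav
  have hvy : ¬ Commute v y := by
    intro hc
    rcases h.of_commute_pair d ha ha1 hv hyP hav hay hvz hc with e | e | e
    · refine hvz ?_
      have : v = b⁻¹ * y * b := by rw [hy]; group
      rcases (mem_zpowers_two (h.zz d)).mp e with e' | e' <;> rw [this, e']
      · simp
      · rw [mul_assoc, ← (d.fixed b hb).eq, inv_mul_cancel_left]; exact mem_zpowers z
    · exact hbv (h.fix_of_coset d hb (Or.inl e))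
    · exact hbv (h.fix_of_coset d hb (Or.inr e))
  -- the three cosets
  let cs : ℕ → G := fun i => b ^ i * v * (b ^ i)⁻¹
  have hbpow : ∀ i : ℕ, b ^ i ∈ A := fun i => A.pow_mem hb i
  have hlist : ∀ {u}, u ∈ P → Commute a u → u ∈ zpowers z ∨
      ∃ e ∈ zpowers z, u = e * v ∨ u = e * y ∨ u = e * (v * y) := by
    intro u hu hau
    obtain ⟨e, he, h1 | h1 | h1 | h1⟩ := h.mem_list d ha ha1 hv hyP hu hav hay hau hvy
    · exact Or.inl (h1 ▸ he)
    exacts [Or.inr ⟨e, he, Or.inl h1⟩, Or.inr ⟨e, he, Or.inr (Or.inl h1)⟩,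
      Or.inr ⟨e, he, Or.inr (Or.inr h1)⟩]
  have hswap : ∀ {e u}, e ∈ zpowers z → u ∈ P → e * u = u ∨ e * u = u * z := fun {e u} he hu => by
    rcases (mem_zpowers_two (h.zz d)).mp he with rfl | rfl
    · exact Or.inl (one_mul u)
    · exact Or.inr (d.central u (d.le hu)).eq
  have hfz : ∀ {c e}, c ∈ A → e ∈ zpowers z → c * e * c⁻¹ = e := fun {c e} hc he => by
    rcases (mem_zpowers_two (h.zz d)).mp he with rfl | rfl
    · simp
    · rw [(d.fixed c hc).eq, mul_inv_cancel_right]
  have hnotz : ∀ {c}, c ∈ A → c * v * c⁻¹ ∉ zpowers z := fun {c} hc e => hvz (by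
    have e1 := hfz (A.inv_mem hc) e
    rw [show c⁻¹ * (c * v * c⁻¹) * c⁻¹⁻¹ = v by group] at e1
    exact e1 ▸ e)
  -- `b²` moves `v` to the third coset
  obtain ⟨e₂, he₂, hc₂⟩ := (hlist (h.conj_mem d.norm (hbpow 2) hv) (hconjA (hbpow 2) hav)).resolve_left
    (hnotz (hbpow 2))
  have h2nv : ¬ (b ^ 2 * v * (b ^ 2)⁻¹ = v ∨ b ^ 2 * v * (b ^ 2)⁻¹ = v * z) := by
    intro e
    have h1 : Commute (b ^ 2) v := h.fix_of_coset d (hbpow 2) e
    obtain ⟨j, hj⟩ := h.odd_of_mem hb
    have h3 : b = (b ^ 2) ^ (j + 1) := by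
      rw [← pow_mul, show 2 * (j + 1) = orderOf b + 1 by omega, pow_succ, pow_orderOf_eq_one, one_mul]
    exact hbv (h3 ▸ h1.pow_left _)
  have hc2' : b ^ 2 * v * (b ^ 2)⁻¹ = e₂ * (v * y) := by
    rcases hc₂ with e | e | e
    · exact absurd (e ▸ hswap he₂ hv) h2nv
    · exfalso
      have h1 : b * y * b⁻¹ = e₂ * y := by rw [← e, hy, pow_two]; group
      have h2 : Commute b y := h.fix_of_coset d hb (h1.symm ▸ hswap he₂ hyP)
      refine hbv ?_
      have := h2.map (MulAut.conj b⁻¹)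
      simpa [hy, mul_assoc] using this
    · exact e
  have hcos : ∀ {u}, u ∈ P → Commute a u → u ∉ zpowers z →
      ∃ i : ℕ, i < 3 ∧ (u = b ^ i * v * (b ^ i)⁻¹ ∨ u = b ^ i * v * (b ^ i)⁻¹ * z) := by
    intro u hu hau huz
    obtain ⟨e, he, h1 | h1 | h1⟩ := (hlist hu hau).resolve_left huz
    · exact ⟨0, by norm_num, by simpa using h1 ▸ hswap he hv⟩
    · exact ⟨1, by norm_num, by simpa [← hy] using h1 ▸ hswap he hyP⟩
    · refine ⟨2, by norm_num, ?_⟩
      have h3 : u = e * e₂⁻¹ * (b ^ 2 * v * (b ^ 2)⁻¹) := by rw [h1, hc2']; group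
      rw [h3]
      exact hswap (mul_mem he (inv_mem he₂)) (h.conj_mem d.norm (hbpow 2) hv)
  -- `A` is generated by `b` modulo the stabilizer
  set B := A ⊓ centralizer ({v} : Set G) with hB
  have hmemB : ∀ {c}, c ∈ B ↔ c ∈ A ∧ Commute c v := fun {c} =>
    ⟨fun hc => ⟨hc.1, mem_centralizer_singleton_iff.mp hc.2⟩,
      fun hc => ⟨hc.1, mem_centralizer_singleton_iff.mpr hc.2.eq⟩⟩
  have hdec : ∀ c ∈ A, ∃ i : Fin 3, (b ^ (i : ℕ))⁻¹ * c ∈ B := by
    intro c hc
    obtain ⟨i, hi, e⟩ := hcos (h.conj_mem d.norm hc hv) (hconjA hc hav) (hnotz hc)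
    refine ⟨⟨i, hi⟩, hmemB.mpr ⟨A.mul_mem (A.inv_mem (hbpow i)) hc,
      h.fix_of_coset d (A.mul_mem (A.inv_mem (hbpow i)) hc) ?_⟩⟩
    rcases e with e | e
    · left
      calc (b ^ i)⁻¹ * c * v * ((b ^ i)⁻¹ * c)⁻¹ = (b ^ i)⁻¹ * (c * v * c⁻¹) * b ^ i := by group
        _ = v := by rw [e]; group
    · right
      calc (b ^ i)⁻¹ * c * v * ((b ^ i)⁻¹ * c)⁻¹ = (b ^ i)⁻¹ * (c * v * c⁻¹) * b ^ i := by group
        _ = v * ((b ^ i)⁻¹ * z * b ^ i) := by rw [e]; group
        _ = v * z := by rw [mul_assoc _ z, ← (d.fixed _ (hbpow i)).eq, inv_mul_cancel_left]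
  have hb3 : b ^ 3 ∈ B := by
    obtain ⟨i, hi⟩ := hdec _ (hbpow 3)
    obtain ⟨i, hi3⟩ := i
    rcases (show i = 0 ∨ i = 1 ∨ i = 2 by omega) with rfl | rfl | rfl
    · simpa using hi
    · exfalso
      refine h2nv (Or.inl ?_)
      have h2 : Commute ((b ^ 1)⁻¹ * b ^ 3) v := (hmemB.mp hi).2
      rw [show (b ^ 1)⁻¹ * b ^ 3 = b ^ 2 by group] at h2
      rw [h2.eq, mul_inv_cancel_right]
    · exfalso
      have h2 : Commute ((b ^ 2)⁻¹ * b ^ 3) v := (hmemB.mp hi).2
      rw [show (b ^ 2)⁻¹ * b ^ 3 = b by group] at h2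
      exact hbv h2
  have hp3 : p = 3 := by
    by_contra hne
    obtain ⟨k, hk⟩ := IsPGroup.iff_orderOf.mp h.pA ⟨b, hb⟩
    rw [← Subgroup.orderOf_coe] at hk
    have hk : orderOf b = p ^ k := hk
    have hcop : Nat.Coprime 3 (orderOf b) :=
      hk ▸ Nat.Coprime.pow_right k ((Nat.coprime_primes Nat.prime_three h.prime).mpr (Ne.symm hne))
    obtain ⟨m, hm⟩ := exists_pow_eq_self_of_coprime hcop
    exact hbv (hm ▸ ((hmemB.mp hb3).2.pow_left m))
  -- the stabilizer centralizes the block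
  have hBY : ∀ c ∈ A, Commute c v → ∀ w ∈ P, Commute a w → Commute c w := by
    intro c hc hcv w hw haw
    have hcy : Commute c y := by
      have hcb : Commute c b := h.comm c hc b hb
      exact (hcb.mul_right hcv).mul_right hcb.inv_right
    have hce : ∀ {e}, e ∈ zpowers z → Commute c e := fun {e} he => mul_inv_eq_iff_eq_mul.mp (hfz hc he)
    rcases hlist hw haw with e | ⟨e, he, e1 | e1 | e1⟩
    · exact hce e
    all_goals subst e1
    exacts [(hce he).mul_right hcv, (hce he).mul_right hcy, (hce he).mul_right (hcv.mul_right hcy)]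
  refine ⟨hp3, ?_, ?_, hBY, ?_⟩
  · have hsurj : Function.Surjective
        (fun q : Fin 3 × B => (⟨b ^ (q.1 : ℕ) * q.2, A.mul_mem (hbpow _) q.2.2.1⟩ : A)) := by
      rintro ⟨c, hc⟩
      obtain ⟨i, hi⟩ := hdec c hc
      exact ⟨(i, ⟨_, hi⟩), Subtype.ext (by simp)⟩
    have := Nat.card_le_card_of_surjective _ hsurj
    rwa [Nat.card_prod, Nat.card_fin] at this
  · set Y := P ⊓ centralizer ({a} : Set G) with hY
    have hYmem : ∀ {u}, u ∈ P → Commute a u → u ∈ Y := fun hu hau =>
      ⟨hu, mem_centralizer_singleton_iff.mpr hau.symm.eq⟩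
    have hz : z ∈ Y := hYmem d.mem (d.fixed a ha)
    have hvY : v ∈ Y := hYmem hv hav
    have hyY : y ∈ Y := hYmem hyP hay
    have hle : (Y : Set G) ⊆ ↑(({1, z} : Finset G).image (fun e => e) ∪
        ({1, z} : Finset G).image (fun e => e * v) ∪ ({1, z} : Finset G).image (fun e => e * y) ∪
        ({1, z} : Finset G).image (fun e => e * (v * y))) := by
      intro u hu
      have hau : Commute a u := (mem_centralizer_singleton_iff.mp hu.2).symm
      have hmem : ∀ {e}, e ∈ zpowers z → e ∈ ({1, z} : Finset G) := fun {e} he => by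
        rcases (mem_zpowers_two (h.zz d)).mp he with rfl | rfl <;> simp
      simp only [Finset.coe_union, Set.mem_union, Finset.mem_coe, Finset.mem_image]
      rcases hlist hu.1 hau with e | ⟨e, he, e1 | e1 | e1⟩
      exacts [Or.inl (Or.inl (Or.inl ⟨u, hmem e, rfl⟩)), Or.inl (Or.inl (Or.inr ⟨e, hmem he, e1.symm⟩)),
        Or.inl (Or.inr ⟨e, hmem he, e1.symm⟩), Or.inr ⟨e, hmem he, e1.symm⟩]
    have h8 : Nat.card Y ≤ 8 := by
      refine (Nat.card_mono (Finset.finite_toSet _) hle).trans ?_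
      rw [Nat.card_coe_set_eq, Set.ncard_coe_finset]
      have c2 : ({1, z} : Finset G).card ≤ 2 := Finset.card_le_two
      have hi : ∀ f : G → G, (({1, z} : Finset G).image f).card ≤ 2 :=
        fun f => Finset.card_image_le.trans c2
      refine (Finset.card_union_le _ _).trans ?_
      refine (Nat.add_le_add ((Finset.card_union_le _ _).trans
        (Nat.add_le_add ((Finset.card_union_le _ _).trans (Nat.add_le_add (hi _) (hi _))) (hi _)))
        (hi _))
    have hz1 : z ≠ 1 := fun e => by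
      have := d.ord; rw [e, orderOf_one] at this; omega
    have hvz' : v ≠ v * z := fun e => hz1 (left_eq_mul.mp e)
    have h5 : 5 ≤ Nat.card Y := by
      have hsub : (↑({1, z, v, v * z, y} : Finset G) : Set G) ⊆ (Y : Set G) := by
        intro u hu
        simp only [Finset.coe_insert, Finset.coe_singleton, Set.mem_insert_iff, Set.mem_singleton_iff] at hu
        rcases hu with rfl | rfl | rfl | rfl | rfl
        exacts [Y.one_mem, hz, hvY, Y.mul_mem hvY hz, hyY]
      refine le_trans ?_ (Nat.card_mono (Set.toFinite _) hsub)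
      rw [Nat.card_coe_set_eq, Set.ncard_coe_finset]
      have n1 : (1 : G) ≠ v := fun e => hvz (e ▸ one_mem _)
      have n2 : z ≠ v := fun e => hvz (e ▸ mem_zpowers z)
      have n3 : (1 : G) ≠ v * z := fun e => n2 (by
        rw [eq_inv_of_mul_eq_one_left e.symm, inv_eq_of_mul_eq_one_right (h.zz d)])
      have n4 : z ≠ v * z := fun e => n1 (right_eq_mul.mp e).symm
      have n5 : ∀ {u}, Commute v u → u ≠ y := fun hc e => hvy (e ▸ hc)
      rw [Finset.card_insert_of_notMem (by simp [Ne.symm hz1, n1, n3, n5 (Commute.one_right v)]),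
        Finset.card_insert_of_notMem (by
          simp [n2, n4, n5 (d.central v (d.le hv)).symm]),
        Finset.card_insert_of_notMem (by
          simp [hvz', n5 (Commute.refl v)]),
        Finset.card_pair (n5 ((Commute.refl v).mul_right (d.central v (d.le hv)).symm))]
    obtain ⟨k, hk⟩ := IsPGroup.iff_card.mp (h.two.to_le (inf_le_left.trans d.le : Y ≤ K))
    rw [hk] at h5 h8 ⊢
    have : k ≤ 3 := (Nat.pow_le_pow_iff_right (by norm_num : 1 < 2)).mp (h8.trans_eq (by norm_num))
    interval_cases k <;> simp_all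
  · intro c hcK hcA hcP
    have hca := hcA a ha
    have hcb := hcA b hb
    have hcv : Commute a (c * v * c⁻¹) := (hca.mul_right hav).mul_right hca.inv_right
    have hcz : ∀ {u}, u ∉ zpowers z → c * u * c⁻¹ ∉ zpowers z := fun {u} hu e => hu (by
      have h1 : u = c⁻¹ * (c * u * c⁻¹) * c := by group
      rcases (mem_zpowers_two (h.zz d)).mp e with e' | e' <;> rw [h1, e']
      · simp
      · rw [mul_assoc, (d.central c hcK).eq, inv_mul_cancel_left]; exact mem_zpowers z)
    obtain ⟨i, hi, hiv⟩ := hcos (hcP v hv) hcv (hcz hvz)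
    -- a `2`-element cannot induce a three-cycle on the cosets
    have hzc : c * z * c⁻¹ = z := by rw [← (d.central c hcK).eq, mul_inv_cancel_right]
    have hiter : ∀ n : ℕ, ∃ e ∈ zpowers z,
        c ^ n * v * (c ^ n)⁻¹ = b ^ (i * n) * v * (b ^ (i * n))⁻¹ * e := by
      intro n
      induction n with
      | zero => exact ⟨1, one_mem _, by simp⟩
      | succ n ih =>
        obtain ⟨e, he, hn⟩ := ih
        obtain ⟨f, hf, hfv⟩ : ∃ f ∈ zpowers z, c * v * c⁻¹ = b ^ i * v * (b ^ i)⁻¹ * f := by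
          rcases hiv with e' | e'
          exacts [⟨1, one_mem _, by rw [mul_one]; exact e'⟩, ⟨z, mem_zpowers z, e'⟩]
        refine ⟨f * e, mul_mem hf he, ?_⟩
        have hce : c * e * c⁻¹ = e := by
          rcases (mem_zpowers_two (h.zz d)).mp he with rfl | rfl
          · simp
          · exact hzc
        have hcb' : Commute (b ^ (i * n)) c := hcb.pow_left _
        calc c ^ (n + 1) * v * (c ^ (n + 1))⁻¹ = c * (c ^ n * v * (c ^ n)⁻¹) * c⁻¹ := by
              rw [pow_succ']; group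
          _ = (c * b ^ (i * n)) * v * (b ^ (i * n))⁻¹ * c⁻¹ * (c * e * c⁻¹) := by rw [hn]; group
          _ = b ^ (i * n) * (c * v * c⁻¹) * (b ^ (i * n))⁻¹ * e := by
              rw [hce, ← hcb'.eq, mul_assoc _ (b ^ (i * n))⁻¹ c⁻¹, hcb'.inv_inv.eq]
              group
          _ = b ^ (i * (n + 1)) * v * (b ^ (i * (n + 1)))⁻¹ * (f * e) := by
              rw [hfv]
              conv_rhs => rw [← hfz (hbpow (i * n)) hf]
              rw [show i * (n + 1) = i * n + i by ring, pow_add]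
              group
    obtain ⟨m, hm⟩ := h.two ⟨c, hcK⟩
    obtain ⟨e, he, hn⟩ := hiter (2 ^ m)
    have hm' : c ^ 2 ^ m = 1 := congrArg Subtype.val hm
    rw [hm', one_mul, inv_one, mul_one] at hn
    have hib : Commute (b ^ (i * 2 ^ m)) v := by
      refine h.fix_of_coset d (hbpow _) ?_
      have e' : b ^ (i * 2 ^ m) * v * (b ^ (i * 2 ^ m))⁻¹ = v * e⁻¹ := by
        conv_rhs => rw [hn]
        group
      rw [e']
      rcases (mem_zpowers_two (h.zz d)).mp he with rfl | rfl
      · left; simp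
      · right; rw [inv_eq_of_mul_eq_one_right (h.zz d)]
    have hi0 : i = 0 := by
      by_contra hi0
      obtain ⟨k, hk⟩ := IsPGroup.iff_orderOf.mp h.pA ⟨b, hb⟩
      rw [← Subgroup.orderOf_coe] at hk
      have hk : orderOf b = 3 ^ k := hp3 ▸ hk
      have hcop : Nat.Coprime (i * 2 ^ m) (orderOf b) := by
        rw [hk]
        refine Nat.Coprime.pow_right k (Nat.Coprime.mul_left ?_ (Nat.Coprime.pow_left m (by norm_num)))
        rcases (show i = 1 ∨ i = 2 by omega) with rfl | rfl <;> norm_num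
      obtain ⟨l, hl⟩ := exists_pow_eq_self_of_coprime hcop
      exact hbv (hl ▸ hib.pow_left l)
    subst hi0
    simp only [pow_zero, one_mul, inv_one, mul_one] at hiv
    rcases hiv with e' | e'
    · exact mul_inv_eq_iff_eq_mul.mp e'
    exfalso
    -- then `c` would negate all three cosets
    have h0 : ∀ k : ℕ, c * (b ^ k * v * (b ^ k)⁻¹) * c⁻¹ = b ^ k * v * (b ^ k)⁻¹ * z := by
      intro k
      have hk : Commute (b ^ k) c := hcb.pow_left k
      calc c * (b ^ k * v * (b ^ k)⁻¹) * c⁻¹ = b ^ k * (c * v * c⁻¹) * (b ^ k)⁻¹ := by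
            rw [← mul_assoc, ← mul_assoc, ← hk.eq, mul_assoc _ (b ^ k)⁻¹ c⁻¹, ← mul_inv_rev, ← hk.eq,
              mul_inv_rev]
            group
        _ = b ^ k * v * (b ^ k)⁻¹ * (b ^ k * z * (b ^ k)⁻¹) := by rw [e']; group
        _ = b ^ k * v * (b ^ k)⁻¹ * z := by rw [hfz (hbpow k) (mem_zpowers z)]
    have h1 : c * y * c⁻¹ = y * z := by
      have := h0 1
      simpa [← hy] using this
    have hxy : c * (v * y) * c⁻¹ = v * y := by
      calc c * (v * y) * c⁻¹ = (c * v * c⁻¹) * (c * y * c⁻¹) := by group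
        _ = v * (z * y) * z := by rw [e', h1]; group
        _ = v * (y * z) * z := by rw [(d.central y (d.le hyP)).eq]
        _ = v * y * (z * z) := by group
        _ = v * y := by rw [h.zz d, mul_one]
    have h2 := h0 2
    rw [hc2'] at h2
    have hce : c * e₂ * c⁻¹ = e₂ := by
      rcases (mem_zpowers_two (h.zz d)).mp he₂ with rfl | rfl
      · simp
      · exact hzc
    rw [show c * (e₂ * (v * y)) * c⁻¹ = (c * e₂ * c⁻¹) * (c * (v * y) * c⁻¹) by group, hce, hxy] at h2
    have hz1 : z = 1 := left_eq_mul.mp h2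
    have := d.ord
    rw [hz1, orderOf_one] at this
    omega

theorem main : Nat.card A = 9 ∧ Cfsg.IsExtraspecial 2 ↥K ∧
    (Nat.card K = 2 ^ 5 ∨ Nat.card K = 2 ^ 7 ∨ Nat.card K = 2 ^ 9) ∧
    ∀ x : K, (∀ a ∈ A, Commute a (x : G)) ↔ x ∈ center ↥K := by
  classical
  haveI := Fact.mk h.prime
  haveI : Fact (Nat.Prime 2) := ⟨Nat.prime_two⟩
  set P := ⁅K, A⁆ with hP
  have hz1 : z ≠ 1 := fun e => by have := d.ord; rw [e, orderOf_one] at this; omega
  have hexv : ∀ {H : Subgroup G}, zpowers z ≤ H → ¬ P ≤ H →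
      ∃ a ∈ A, a ≠ 1 ∧ ∃ v ∈ P, Commute a v ∧ v ∉ zpowers z ∧ v ∉ H := by
    intro H hz hnot
    by_contra hcon
    push Not at hcon
    refine hnot (h.gen d.le d.norm fun a ha ha1 y hy hay => ?_)
    by_cases hyz : y ∈ zpowers z
    · exact hz hyz
    · exact hcon a ha ha1 y hy hay hyz
  have hPz : ¬ P ≤ zpowers z := fun e => by
    have h1 := Subgroup.card_le_of_le e
    rw [Nat.card_zpowers, d.ord] at h1
    obtain ⟨n, hn, hc⟩ := Cfsg.Agent.S0095.result d.xs
    rw [hc] at h1
    have : 2 ^ (2 * 1 + 1) ≤ 2 ^ (2 * n + 1) := Nat.pow_le_pow_right (by norm_num) (by omega)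
    omega
  obtain ⟨a, ha, ha1, v, hv, hav, hvz, -⟩ := hexv le_rfl hPz
  obtain ⟨hp3, hcA, hY8, hBY, -⟩ := h.block d ha ha1 hv hav hvz
  subst hp3
  set B := A ⊓ centralizer ({v} : Set G) with hB
  have hA9' : 9 ≤ Nat.card A := by
    obtain ⟨k, hk⟩ := IsPGroup.iff_card.mp h.pA
    rw [hk]
    rcases (show k = 0 ∨ k = 1 ∨ 2 ≤ k by omega) with rfl | rfl | hk2
    · exact absurd (isCyclic_of_card_dvd_prime (p := 3) (by rw [hk]; norm_num)) h.noncyclic
    · exact absurd (isCyclic_of_prime_card (p := 3) (by rw [hk]; norm_num)) h.noncyclic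
    · exact le_trans (by norm_num) (Nat.pow_le_pow_right (by norm_num) hk2)
  have hsup : P ⊔ (K ⊓ centralizer (A : Set G)) = K :=
    Cfsg.Agent.Coprime.commutator_sup_centralizer A K h.norm (h.coprime le_rfl)
      (Or.inl (Group.isSolvable_of_comm fun a b => Subtype.ext (h.comm _ a.2 _ b.2)))
  have hnotB : ¬ P ≤ centralizer (B : Set G) := by
    intro e
    have hK : K ≤ centralizer (B : Set G) := by
      rw [← hsup]
      exact sup_le e (inf_le_right.trans (Subgroup.centralizer_le inf_le_left))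
    have hbot : B = ⊥ := le_bot_iff.mp (h.faithful ▸ le_inf inf_le_left (Subgroup.le_centralizer_iff.mp hK))
    rw [hbot, Subgroup.card_bot] at hcA
    omega
  obtain ⟨a', ha', ha1', v', hv', hav', hvz', hvB⟩ := hexv (fun u hu => by
    rw [mem_centralizer_iff]
    rcases (mem_zpowers_two (h.zz d)).mp hu with rfl | rfl
    · intro b _; simp
    · exact fun b hb => (d.fixed b hb.1).eq) hnotB
  obtain ⟨-, hcA', hY8', hBY', -⟩ := h.block d ha' ha1' hv' hav' hvz'
  set B' := A ⊓ centralizer ({v'} : Set G) with hB'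
  have hBC : ∀ {c}, c ∈ B → Commute c v := fun hc => mem_centralizer_singleton_iff.mp hc.2
  have hBC' : ∀ {c}, c ∈ B' → Commute c v' := fun hc => mem_centralizer_singleton_iff.mp hc.2
  have hBB : B ⊓ B' = ⊥ := by
    rw [eq_bot_iff]
    rintro c ⟨hc, hc'⟩
    by_contra hc1
    rw [mem_bot] at hc1
    obtain ⟨-, -, -, hBYc, -⟩ := h.block d hc.1 hc1 hv (hBC hc) hvz
    refine hvB (mem_centralizer_iff.mpr fun b hb => ?_)
    exact (hBYc b hb.1 (hBC hb) v' hv' (hBC' hc')).eq
  have hA9 : Nat.card A = 9 := by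
    have hle : B ⊔ B' ≤ A := sup_le inf_le_left inf_le_left
    have hn : B' ≤ normalizer (B : Set G) := fun c hc => Subgroup.centralizer_le_normalizer _
      (mem_centralizer_iff.mpr fun b hb => h.comm b hb.1 c hc.1)
    have h1 := Cfsg.Agent.Thompson.card_sup_mul_card_inf (H := B) (K := B') hn
    rw [hBB, Subgroup.card_bot, mul_one] at h1
    have h2 := Subgroup.card_le_of_le hle
    rw [h1] at h2
    have hBpos := Nat.card_pos (α := B')
    have h3 : Nat.card B ≤ 3 := Nat.le_of_mul_le_mul_right (h2.trans hcA') hBpos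
    omega
  have hexp : ∀ c ∈ A, c ^ 3 = 1 := by
    intro c hc
    have hd : orderOf c ∣ 3 ^ 2 := by
      rw [show (3:ℕ) ^ 2 = 9 by norm_num, ← hA9, ← Subgroup.orderOf_mk c hc]
      exact orderOf_dvd_natCard _
    obtain ⟨j, hj, hjc⟩ := (Nat.dvd_prime_pow Nat.prime_three).mp hd
    rcases (show j ≤ 1 ∨ j = 2 by omega) with hj1 | rfl
    · exact orderOf_dvd_iff_pow_eq_one.mp (hjc ▸ pow_dvd_pow 3 hj1 |>.trans (by norm_num))
    · exfalso
      refine h.noncyclic (isCyclic_of_orderOf_eq_card (⟨c, hc⟩ : A) ?_)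
      rw [Subgroup.orderOf_mk, hjc, hA9]; norm_num
  -- four representatives
  obtain ⟨u, hu, hu1⟩ := h.exists_ne_one
  have hord3 : ∀ {c}, c ∈ A → c ≠ 1 → orderOf c = 3 := fun hc hc1 => orderOf_eq_prime (hexp _ hc) hc1
  obtain ⟨w, hw, hwu⟩ : ∃ w ∈ A, w ∉ zpowers u := by
    by_contra hcon
    push Not at hcon
    have := Subgroup.card_le_of_le (show A ≤ zpowers u from hcon)
    rw [hA9, Nat.card_zpowers, hord3 hu hu1] at this
    omega
  have hw1 : w ≠ 1 := fun e => hwu (e ▸ one_mem _)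
  have huw : Commute u w := h.comm u hu w hw
  have hgen : A = zpowers u ⊔ zpowers w := by
    refine (Subgroup.eq_of_le_of_card_ge (sup_le (zpowers_le.mpr hu) (zpowers_le.mpr hw)) ?_).symm
    have hn : zpowers w ≤ normalizer (zpowers u : Set G) := zpowers_le.mpr
      (Subgroup.centralizer_le_normalizer _ (mem_centralizer_iff.mpr fun b hb => by
        obtain ⟨i, rfl⟩ := hb
        exact (huw.zpow_left i).eq))
    have hinf : zpowers u ⊓ zpowers w = ⊥ := by
      rw [eq_bot_iff]
      intro c hc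
      rw [mem_bot]
      by_contra hc1
      have hcA2 : c ∈ A := zpowers_le.mpr hu hc.1
      have : zpowers c = zpowers w := Subgroup.eq_of_le_of_card_ge (zpowers_le.mpr hc.2) (by
        rw [Nat.card_zpowers, Nat.card_zpowers, hord3 hcA2 hc1, hord3 hw hw1])
      exact hwu (zpowers_le.mpr hc.1 (this.ge (mem_zpowers w)))
    have := Cfsg.Agent.Thompson.card_sup_mul_card_inf (H := zpowers u) (K := zpowers w) hn
    rw [hinf, Subgroup.card_bot, mul_one, Nat.card_zpowers, Nat.card_zpowers, hord3 hu hu1,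
      hord3 hw hw1] at this
    rw [hA9, this]
  let Yof : G → Subgroup G := fun c => P ⊓ centralizer ({c} : Set G)
  have hYz : ∀ c ∈ A, z ∈ Yof c := fun c hc =>
    ⟨d.mem, mem_centralizer_singleton_iff.mpr (d.fixed c hc).symm.eq⟩
  have hYcard : ∀ c ∈ A, c ≠ 1 → Nat.card (Yof c) ≤ 8 := by
    intro c hc hc1
    by_cases hv0 : ∃ v₀ ∈ P, Commute c v₀ ∧ v₀ ∉ zpowers z
    · obtain ⟨v₀, hv₀, hcv, hz0⟩ := hv0
      exact (h.block d hc hc1 hv₀ hcv hz0).2.2.1.le
    · push Not at hv0
      have hle : Yof c ≤ zpowers z := fun y hy => hv0 y hy.1 (mem_centralizer_singleton_iff.mp hy.2).symm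
      refine (Subgroup.card_le_of_le hle).trans ?_
      rw [Nat.card_zpowers, d.ord]; norm_num
  have hPsup : P ≤ Yof u ⊔ Yof w ⊔ Yof (u * w) ⊔ Yof (u ^ 2 * w) := by
    refine h.gen d.le d.norm fun c hc hc1 y hy hcy => ?_
    rw [hgen] at hc
    have hc' : ∃ i j : ℕ, i < 3 ∧ j < 3 ∧ c = u ^ i * w ^ j := by
      have hn : zpowers w ≤ normalizer (zpowers u : Set G) := zpowers_le.mpr
        (Subgroup.centralizer_le_normalizer _ (mem_centralizer_iff.mpr fun b hb => by
          obtain ⟨i, rfl⟩ := hb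
          exact (huw.zpow_left i).eq))
      have hm : c ∈ ((zpowers u : Subgroup G) : Set G) * ((zpowers w : Subgroup G) : Set G) := by
        rw [← Subgroup.coe_mul_of_right_le_normalizer_left _ _ hn]; exact hc
      obtain ⟨s, hs, r, hr, rfl⟩ := hm
      obtain ⟨i, hi⟩ := mem_powers_iff_mem_zpowers.mpr hs
      obtain ⟨j, hj⟩ := mem_powers_iff_mem_zpowers.mpr hr
      refine ⟨i % 3, j % 3, Nat.mod_lt _ (by norm_num), Nat.mod_lt _ (by norm_num), ?_⟩
      simp only at hi hj
      rw [← hi, ← hj]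
      congr 1
      · exact (pow_eq_pow_mod i (hexp u hu))
      · exact (pow_eq_pow_mod j (hexp w hw))
    obtain ⟨i, j, hi, hj, rfl⟩ := hc'
    have hcy2 : Commute ((u ^ i * w ^ j) ^ 2) y := hcy.pow_left 2
    have hY : ∀ {g}, Commute g y → y ∈ Yof g := fun hg =>
      ⟨hy, mem_centralizer_singleton_iff.mpr hg.symm.eq⟩
    have hu4 : u ^ 4 = u := by rw [pow_succ, hexp u hu, one_mul]
    have hw4 : w ^ 4 = w := by rw [pow_succ, hexp w hw, one_mul]
    interval_cases i <;> interval_cases j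
    · simp at hc1
    · exact mem_sup_left (mem_sup_left (mem_sup_right (hY (by simpa using hcy))))
    · refine mem_sup_left (mem_sup_left (mem_sup_right (hY ?_)))
      rwa [pow_zero, one_mul, ← pow_mul, hw4] at hcy2
    · exact mem_sup_left (mem_sup_left (mem_sup_left (hY (by simpa using hcy))))
    · exact mem_sup_left (mem_sup_right (hY (by simpa using hcy)))
    · refine mem_sup_right (hY ?_)
      rwa [pow_one, (huw.pow_right 2).mul_pow, ← pow_mul, hw4] at hcy2
    · refine mem_sup_left (mem_sup_left (mem_sup_left (hY ?_)))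
      rwa [pow_zero, mul_one, ← pow_mul, hu4] at hcy2
    · exact mem_sup_right (hY (by simpa using hcy))
    · refine mem_sup_left (mem_sup_right (hY ?_))
      rwa [(huw.pow_pow 2 2).mul_pow, ← pow_mul, ← pow_mul, hu4, hw4] at hcy2
  have hnorm : ∀ {X : Subgroup G}, X ≤ P → z ∈ X → P ≤ normalizer (X : Set G) := by
    intro X hX hz
    refine Cfsg.Agent.Coprime.le_normalizer_of_conj_mem fun g hg x hx => ?_
    have e : g * x * g⁻¹ = ⁅g, x⁆ * x := by rw [commutatorElement_def]; group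
    rw [e]
    exact X.mul_mem (zpowers_le.mpr hz (d.comm g hg x (hX hx))) hx
  have hsupcard : ∀ {X Y : Subgroup G}, X ≤ P → z ∈ X → Y ≤ P → z ∈ Y →
      2 * Nat.card (X ⊔ Y : Subgroup G) ≤ Nat.card X * Nat.card Y := by
    intro X Y hX hzX hY hzY
    have h1 := Cfsg.Agent.Thompson.card_sup_mul_card_inf (H := X) (K := Y) (hY.trans (hnorm hX hzX))
    rw [← h1, mul_comm 2]
    refine Nat.mul_le_mul_left _ ?_
    have := Subgroup.card_le_of_le (show zpowers z ≤ X ⊓ Y from zpowers_le.mpr ⟨hzX, hzY⟩)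
    rwa [Nat.card_zpowers, d.ord] at this
  have hup : Nat.card P ≤ 2 ^ 9 := by
    have hu2 : u * w ≠ 1 ∧ u ^ 2 * w ≠ 1 := by
      constructor <;> intro e
      · exact hwu (eq_inv_of_mul_eq_one_right e ▸ inv_mem (mem_zpowers u))
      · exact hwu (eq_inv_of_mul_eq_one_right e ▸ inv_mem (pow_mem (mem_zpowers u) 2))
    have a1 := hYcard u hu hu1
    have a2 := hYcard w hw hw1
    have a3 := hYcard _ (A.mul_mem hu hw) hu2.1
    have a4 := hYcard _ (A.mul_mem (A.pow_mem hu 2) hw) hu2.2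
    have s1 := hsupcard (X := Yof u) (Y := Yof w) inf_le_left (hYz u hu) inf_le_left (hYz w hw)
    have s2 := hsupcard (X := Yof u ⊔ Yof w) (Y := Yof (u * w)) (sup_le inf_le_left inf_le_left)
      (mem_sup_left (hYz u hu)) inf_le_left (hYz _ (A.mul_mem hu hw))
    have s3 := hsupcard (X := Yof u ⊔ Yof w ⊔ Yof (u * w)) (Y := Yof (u ^ 2 * w))
      (sup_le (sup_le inf_le_left inf_le_left) inf_le_left) (mem_sup_left (mem_sup_left (hYz u hu)))
      inf_le_left (hYz _ (A.mul_mem (A.pow_mem hu 2) hw))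
    have b1 : Nat.card (Yof u ⊔ Yof w : Subgroup G) ≤ 32 := by nlinarith
    have b2 : Nat.card (Yof u ⊔ Yof w ⊔ Yof (u * w) : Subgroup G) ≤ 128 := by nlinarith
    have b3 : Nat.card (Yof u ⊔ Yof w ⊔ Yof (u * w) ⊔ Yof (u ^ 2 * w) : Subgroup G) ≤ 512 := by nlinarith
    exact (Subgroup.card_le_of_le hPsup).trans b3
  have hlow : 8 < Nat.card P := by
    by_contra hcon
    push Not at hcon
    have e1 : P ⊓ centralizer ({a} : Set G) = P :=
      Subgroup.eq_of_le_of_card_ge inf_le_left (hY8.symm ▸ hcon)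
    have hav'' : Commute a v' :=
      (mem_centralizer_singleton_iff.mp ((e1.ge hv').2)).symm
    exact hvB (mem_centralizer_iff.mpr fun b hb => (hBY b hb.1 (hBC hb) v' hv' hav'').eq)
  have hC : K ⊓ centralizer (A : Set G) ≤ zpowers z := by
    rintro c ⟨hcK, hcA⟩
    have hcA : ∀ b ∈ A, Commute b c := fun b hb => mem_centralizer_iff.mp hcA b hb
    have hcP : ∀ x ∈ P, c * x * c⁻¹ ∈ P := fun x hx =>
      (mem_normalizer_iff.mp (Cfsg.Agent.Coprime.le_normalizer_commutator_left A K hcK) x).mp hx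
    have hall : ∀ x ∈ P, Commute c x := by
      intro x hx
      refine (mem_centralizer_singleton_iff.mp (h.gen d.le d.norm (H := centralizer ({c} : Set G)) ?_ hx)).symm
      intro b hb hb1 y hy hby
      refine mem_centralizer_singleton_iff.mpr ?_
      by_cases hyz : y ∈ zpowers z
      · rcases (mem_zpowers_two (h.zz d)).mp hyz with rfl | rfl
        · simp
        · exact (d.central c hcK).eq
      · exact ((h.block d hb hb1 hy hby hyz).2.2.2.2 c hcK hcA hcP).symm.eq
    by_contra hcz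
    obtain ⟨m, hm⟩ := IsPGroup.iff_orderOf.mp h.two ⟨c, hcK⟩
    rw [← Subgroup.orderOf_coe] at hm
    have hm : orderOf c = 2 ^ m := hm
    have h0 : m ≠ 0 := fun e => hcz (by
      have : c = 1 := orderOf_eq_one_iff.mp (by rw [hm, e, pow_zero])
      rw [this]; exact one_mem _)
    have hlast : c ^ 2 ^ (m - 1) = z := by
      refine d.unique a ha ha1 _ (K.pow_mem hcK _) (orderOf_eq_prime ?_ fun e => ?_) ((hcA a ha).pow_right _)
      · rw [← pow_mul, ← pow_succ, show m - 1 + 1 = m by omega, ← hm, pow_orderOf_eq_one]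
      · have := orderOf_dvd_of_pow_eq_one e
        rw [hm] at this
        have := (Nat.pow_dvd_pow_iff_le_right (by norm_num : 1 < 2)).mp this
        omega
    by_cases hm1 : m = 1
    · rw [hm1] at hlast
      simp only [Nat.sub_self, pow_zero, pow_one] at hlast
      exact hcz (hlast ▸ mem_zpowers z)
    set r := c ^ 2 ^ (m - 2) with hr
    have hr2 : r * r = z := by
      rw [← sq, hr, ← pow_mul, ← pow_succ, show m - 2 + 1 = m - 1 by omega, hlast]
    have hrv : Commute r v := (hall v hv).pow_left _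
    have h1 : r * v * (r * v) = 1 := by
      rw [hrv.symm.mul_mul_mul_comm, hr2, h.sq_eq d ha ha1 hv hav hvz, h.zz d]
    have hra : ∀ b ∈ A, Commute b r := fun b hb => (hcA b hb).pow_right _
    have h2 : r * v ∈ zpowers z := by
      by_cases e : r * v = 1
      · rw [e]; exact one_mem _
      · rw [d.unique a ha ha1 _ (K.mul_mem (K.pow_mem hcK _) (d.le hv))
          (orderOf_eq_prime (by rw [_root_.sq, h1]) e) ((hra a ha).mul_right hav)]
        exact mem_zpowers z
    refine hvz (d.cen v hv fun b hb => ?_)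
    have hbz : Commute b (r * v) := by
      rcases (mem_zpowers_two (h.zz d)).mp h2 with e | e <;> rw [e]
      exacts [Commute.one_right b, d.fixed b hb]
    have := (hra b hb).inv_right.mul_right hbz
    rwa [inv_mul_cancel_left] at this
  have hPK : P = K := by
    refine le_antisymm d.le ?_
    rw [← hsup]
    exact sup_le le_rfl (hC.trans (zpowers_le.mpr d.mem))
  refine ⟨hA9, ?_, ?_, fun x => ?_⟩
  · rw [← hPK]; exact d.xs
  · obtain ⟨n, hn, hc⟩ := Cfsg.Agent.S0095.result d.xs
    rw [← hPK]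
    rw [hc] at hup hlow ⊢
    have h1 : 2 * n + 1 ≤ 9 := (Nat.pow_le_pow_iff_right (by norm_num)).mp hup
    have h2 : 3 < 2 * n + 1 := (Nat.pow_lt_pow_iff_right (by norm_num : 1 < 2)).mp (by simpa using hlow)
    rcases (show n = 2 ∨ n = 3 ∨ n = 4 by omega) with rfl | rfl | rfl
    exacts [Or.inl rfl, Or.inr (Or.inl rfl), Or.inr (Or.inr rfl)]
  · constructor
    · intro hx
      rcases (mem_zpowers_two (h.zz d)).mp (hC ⟨x.2, mem_centralizer_iff.mpr fun b hb => (hx b hb).eq⟩)
        with e | e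
      · rw [show x = 1 from Subtype.ext e]; exact one_mem _
      · exact mem_center_iff.mpr fun k => Subtype.ext (by
          show (k : G) * (x : G) = (x : G) * k
          rw [e]; exact (d.central k k.2).symm.eq)
    · intro hx b hb
      have hxP : (x : G) ∈ P := by rw [hPK]; exact x.2
      obtain ⟨-, hcen⟩ := h.special_commutator
      refine (hcen ⟨x, hxP⟩).mp (mem_center_iff.mpr fun k => Subtype.ext ?_) b hb
      exact congrArg (fun u : K => (u : G)) (mem_center_iff.mp hx ⟨k, d.le k.2⟩)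

end UIData

end Cfsg.Agent.LocalEven64
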